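import Mathlib
import Cfsg.Agent.Lib.Helper01.Coprime
import Cfsg.Agent.Lib.Helper01.SZConjA
import Cfsg.Agent.Lib.Helper01.PGroupMax

set_option autoImplicit false

namespace Cfsg.Agent.Lib.Helper32

open scoped Pointwise commutatorElement
open Cfsg.Agent.Lib.Helper01

variable {G : Type*} [Group G]

/-- Coprime action: `R = C_R(B) [R, B]`. -/
theorem le_centralizer_sup_commutator [Finite G] {R B : Subgroup G}
    (hBR : B ≤ Subgroup.normalizer (R : Set G)) (hcop : (Nat.card R).Coprime (Nat.card B))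
    (hsolv : Group.IsSolvable R ∨ Group.IsSolvable B) :
    R ≤ (R ⊓ Subgroup.centralizer (B : Set G)) ⊔ ⁅R, B⁆ := by
  intro r hr
  have hKR : ⁅R, B⁆ ≤ R := Subgroup.le_normalizer_iff_commutator_le_left.1 hBR
  have hBK : B ≤ Subgroup.normalizer ((⁅R, B⁆ : Subgroup G) : Set G) :=
    Subgroup.normalizer_commutator_ge_right R B
  have hcopK : (Nat.card (⁅R, B⁆ : Subgroup G)).Coprime (Nat.card B) :=
    Nat.Coprime.coprime_dvd_left (Subgroup.card_dvd_of_le hKR) hcop
  have hsolvK : Group.IsSolvable (⁅R, B⁆ : Subgroup G) ∨ Group.IsSolvable B := by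
    rcases hsolv with h | h
    · exact Or.inl (isSolvable_of_le hKR h)
    · exact Or.inr h
  have hk : ∀ b ∈ B, r⁻¹ * b * r * b⁻¹ ∈ (⁅R, B⁆ : Subgroup G) := by
    intro b hb
    have := Subgroup.commutator_mem_commutator (R.inv_mem hr) hb
    rwa [commutatorElement_def, inv_inv] at this
  obtain ⟨n, hn, hnB⟩ := exists_mul_inv_normalizes hBK hcopK hsolvK r hk
  have hcR : n * r⁻¹ ∈ R := R.mul_mem (hKR hn) (R.inv_mem hr)
  have hdisj : R ⊓ B = ⊥ := (Subgroup.disjoint_of_coprime_natCard hcop).eq_bot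
  have hcC := mem_centralizer_of_conj_smul_eq hBR hdisj hcR hnB
  have hr' : r = (n * r⁻¹)⁻¹ * n := by group
  rw [hr']
  exact Subgroup.mul_mem_sup (Subgroup.inv_mem _ (Subgroup.mem_inf.mpr ⟨hcR, hcC⟩)) hn

/-- In a finite `p`-group `R`, a subgroup `C` with `R ≤ C ⊔ R'` is all of `R`. -/
theorem eq_of_le_sup_commutator_self [Finite G] {p : ℕ} [hp : Fact p.Prime] {R C : Subgroup G}
    (hR : IsPGroup p R) (hCR : C ≤ R) (h : R ≤ C ⊔ ⁅R, R⁆) : C = R := by
  by_contra hne
  have hC' : C.subgroupOf R ≠ ⊤ := by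
    intro htop
    exact hne (le_antisymm hCR (Subgroup.subgroupOf_eq_top.mp htop))
  obtain ⟨M, hM, hCM⟩ := (eq_top_or_exists_le_coatom (C.subgroupOf R)).resolve_left hC'
  have hMn : M.Normal := IsPGroup_coatom_normal hR hM
  have hMi : M.index = p := IsPGroup_coatom_index hR hM
  have hcardQ : Nat.card (R ⧸ M) = p := by rw [← Subgroup.index_eq_card, hMi]
  have hcyc : IsCyclic (R ⧸ M) := isCyclic_of_prime_card hcardQ
  let _inst : CommGroup (R ⧸ M) := IsCyclic.commGroup
  have hcomm : commutator R ≤ M := by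
    have := Abelianization.commutator_subset_ker (QuotientGroup.mk' M)
    rwa [QuotientGroup.ker_mk'] at this
  have hcomm' : ⁅R, R⁆ ≤ M.map R.subtype := by
    rw [← Subgroup.map_subtype_commutator]
    exact Subgroup.map_mono hcomm
  have hC'' : C ≤ M.map R.subtype := by
    rw [← Subgroup.map_subgroupOf_eq_of_le hCR]
    exact Subgroup.map_mono hCM
  have hRM : R ≤ M.map R.subtype := h.trans (sup_le hC'' hcomm')
  have hMtop : M = ⊤ := by
    rw [eq_top_iff]
    intro x _
    obtain ⟨y, hy, hyx⟩ := hRM x.2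
    have : y = x := Subtype.ext hyx
    rwa [this] at hy
  exact hM.1 hMtop

/-- Coprime action on a `p`-group: if `[R, B] ≤ R'` then `[R, B] = 1`. -/
theorem commutator_eq_bot_of_le_commutator_self [Finite G] {p : ℕ} [hp : Fact p.Prime]
    {R B : Subgroup G} (hR : IsPGroup p R) (hB : ¬ p ∣ Nat.card B)
    (hBR : B ≤ Subgroup.normalizer (R : Set G)) (h : ⁅R, B⁆ ≤ ⁅R, R⁆) : ⁅R, B⁆ = ⊥ := by
  have hcop : (Nat.card R).Coprime (Nat.card B) := by
    obtain ⟨k, hk⟩ := IsPGroup.iff_card.1 hR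
    rw [hk]
    exact Nat.Coprime.pow_left _ ((Nat.Prime.coprime_iff_not_dvd hp.out).mpr hB)
  have hnil : Group.IsNilpotent R := hR.isNilpotent
  have hsolv : Group.IsSolvable R := inferInstance
  have h1 := le_centralizer_sup_commutator hBR hcop (Or.inl hsolv)
  have h2 : R ≤ (R ⊓ Subgroup.centralizer (B : Set G)) ⊔ ⁅R, R⁆ :=
    h1.trans (sup_le_sup_left h _)
  have h3 := eq_of_le_sup_commutator_self hR inf_le_left h2
  rw [Subgroup.commutator_eq_bot_iff_le_centralizer]
  rw [← h3]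
  exact inf_le_right

end Cfsg.Agent.Lib.Helper32
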