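import Mathlib
import Cfsg.Prelude.Def_SolvableStructure
import Cfsg.Agent.Lib.Helper01.Basic
import Cfsg.Agent.Lib.Helper01.Glauberman

set_option autoImplicit false

namespace Cfsg.Agent.Lib.Helper32

open scoped Pointwise
open Cfsg.Agent.Lib.Helper01

variable {G : Type*} [Group G]

/-- Relative normalizer condition: in a nilpotent subgroup `C`, a proper subgroup `M` is properly
contained in its normalizer in `C`. -/
theorem exists_mem_normalizer_not_mem {C M : Subgroup G} (hC : Group.IsNilpotent C) (hMC : M ≤ C)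
    (hne : M ≠ C) : ∃ x ∈ C, x ∈ Subgroup.normalizer (M : Set G) ∧ x ∉ M := by
  have hnc : NormalizerCondition C := Group.normalizerCondition_of_isNilpotent
  have hlt : M.subgroupOf C < ⊤ := by
    rw [lt_top_iff_ne_top]
    intro h
    exact hne (le_antisymm hMC (Subgroup.subgroupOf_eq_top.mp h))
  have h1 := hnc (M.subgroupOf C) hlt
  rw [← Subgroup.subgroupOf_normalizer_eq hMC] at h1
  obtain ⟨x, hxN, hxM⟩ := SetLike.exists_of_lt h1
  exact ⟨x, x.2, hxN, hxM⟩

/-- In a nilpotent subgroup `C`, a subgroup `M ≤ C` with `N_C(M) ≤ M` equals `C`. -/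
theorem eq_of_normalizer_inf_le {C M : Subgroup G} (hC : Group.IsNilpotent C) (hMC : M ≤ C)
    (h : Subgroup.normalizer (M : Set G) ⊓ C ≤ M) : M = C := by
  by_contra hne
  obtain ⟨x, hxC, hxN, hxM⟩ := exists_mem_normalizer_not_mem hC hMC hne
  exact hxM (h ⟨hxN, hxC⟩)

/-- A subgroup `A ≤ K` of order prime to `|K : Q|`, where `K` normalizes `Q ≤ K`, lies in `Q`. -/
theorem le_of_coprime_relIndex [Finite G] {A Q K : Subgroup G} (hAK : A ≤ K)
    (hKQ : K ≤ Subgroup.normalizer (Q : Set G))
    (hcop : (Nat.card A).Coprime (Q.relIndex K)) : A ≤ Q := by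
  intro a ha
  have hQK : (Q.subgroupOf K).Normal := by
    constructor
    intro n hn g
    rw [Subgroup.mem_subgroupOf] at hn ⊢
    have := (Subgroup.mem_normalizer_iff.mp (hKQ g.2) n).mp hn
    simpa using this
  have h1 : (⟨a, hAK ha⟩ : K) ^ (Q.subgroupOf K).index ∈ Q.subgroupOf K :=
    Subgroup.pow_index_mem (Q.subgroupOf K) ⟨a, hAK ha⟩
  have h2 : a ^ Q.relIndex K ∈ Q := h1
  have h3 : orderOf a ∣ Nat.card A := by
    have := orderOf_dvd_natCard (⟨a, ha⟩ : A)
    rwa [Subgroup.orderOf_mk] at this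
  have h4 : (Q.relIndex K).Coprime (orderOf a) :=
    (Nat.Coprime.coprime_dvd_left h3 hcop).symm
  obtain ⟨m, hm⟩ := exists_pow_eq_self_of_coprime h4
  rw [← hm]
  exact Q.pow_mem h2 m

/-- A Hall subgroup of a nilpotent subgroup is normal in it. -/
theorem le_normalizer_of_hall_of_nilpotent [Finite G] {C Q : Subgroup G}
    (hC : Group.IsNilpotent C) (hQC : Q ≤ C) (hcop : (Nat.card Q).Coprime (Q.relIndex C)) :
    C ≤ Subgroup.normalizer (Q : Set G) := by
  set M : Subgroup G := Subgroup.normalizer (Q : Set G) ⊓ C with hM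
  have hQM : Q ≤ M := le_inf Subgroup.le_normalizer hQC
  have hMC : M ≤ C := inf_le_right
  have hrel : Q.relIndex M ∣ Q.relIndex C :=
    Dvd.intro _ (Subgroup.relIndex_mul_relIndex Q M C hQM hMC)
  have hMeq : M = C := by
    apply eq_of_normalizer_inf_le hC hMC
    rintro x ⟨hxN, hxC⟩
    refine ⟨?_, hxC⟩
    have hxM : MulAut.conj x • M = M := mem_normalizer_iff_conj_smul.mp hxN
    have h1 : MulAut.conj x • Q ≤ M := by
      rw [← hxM]
      exact Subgroup.pointwise_smul_le_pointwise_smul_iff.mpr hQM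
    have h2 : MulAut.conj x • Q ≤ Q := by
      apply le_of_coprime_relIndex h1 inf_le_left
      rw [card_conj_smul]
      exact Nat.Coprime.coprime_dvd_right hrel hcop
    exact mem_normalizer_iff_conj_smul.mpr
      (Subgroup.eq_of_le_of_card_ge h2 (by rw [card_conj_smul]))
  rw [← hMeq]
  exact inf_le_left

end Cfsg.Agent.Lib.Helper32
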