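import Mathlib

set_option autoImplicit false

namespace Cfsg.Agent.Lib.Helper32

open scoped commutatorElement

/-- If `z = ⁅h, x⁆` commutes with `x` and the orders of `x` and `z` are coprime, then `h` and `x` commute. -/
theorem commute_of_commutator {G : Type*} [Group G] (h x : G)
    (hzx : Commute ⁅h, x⁆ x) (hcop : (orderOf x).Coprime (orderOf ⁅h, x⁆)) : Commute h x := by
  have hconj : h * x * h⁻¹ = ⁅h, x⁆ * x := by simp [commutatorElement_def]
  have h1 : ⁅h, x⁆ ^ orderOf x = 1 := by
    have : (h * x * h⁻¹) ^ orderOf x = ⁅h, x⁆ ^ orderOf x * x ^ orderOf x := by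
      rw [hconj, hzx.mul_pow]
    rw [pow_orderOf_eq_one, mul_one, conj_pow, pow_orderOf_eq_one] at this
    simpa using this.symm
  have h3 : orderOf ⁅h, x⁆ ∣ orderOf x := orderOf_dvd_of_pow_eq_one h1
  have h4 : orderOf ⁅h, x⁆ = 1 := Nat.eq_one_of_dvd_coprimes hcop h3 (dvd_refl _)
  rw [orderOf_eq_one_iff, commutatorElement_eq_one_iff_mul_comm] at h4
  exact h4

theorem orderOf_dvd_card_of_mem {G : Type*} [Group G] {H : Subgroup G} {x : G} (hx : x ∈ H) :
    orderOf x ∣ Nat.card H := by
  have : orderOf (⟨x, hx⟩ : H) ∣ Nat.card H := orderOf_dvd_natCard _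
  rwa [← Subgroup.orderOf_coe] at this

/-- Two-step stability: if `[N, A] ≤ C ≤ N`, `A` centralizes `C`, and the orders of `A` and `N` are
coprime, then `A` centralizes `N`. -/
theorem le_centralizer_of_stable {G : Type*} [Group G] (N C A : Subgroup G)
    (h1 : ⁅N, A⁆ ≤ C) (h2 : C ≤ Subgroup.centralizer (A : Set G)) (hCN : C ≤ N)
    (hcop : (Nat.card A).Coprime (Nat.card N)) : N ≤ Subgroup.centralizer (A : Set G) := by
  intro h hh
  rw [Subgroup.mem_centralizer_iff]
  intro x hx
  have hz : ⁅h, x⁆ ∈ C := h1 (Subgroup.commutator_mem_commutator hh hx)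
  have hzx : Commute ⁅h, x⁆ x := by
    have := h2 hz
    rw [Subgroup.mem_centralizer_iff] at this
    exact (this x hx).symm
  have hc : (orderOf x).Coprime (orderOf ⁅h, x⁆) :=
    Nat.Coprime.coprime_dvd_left (orderOf_dvd_card_of_mem hx)
      (Nat.Coprime.coprime_dvd_right (orderOf_dvd_card_of_mem (hCN hz)) hcop)
  exact (commute_of_commutator h x hzx hc).symm

end Cfsg.Agent.Lib.Helper32
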