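import Mathlib

set_option autoImplicit false

namespace Cfsg.Agent.Lib.Helper32

open scoped commutatorElement

/-- If `z = ⁅v, u⁆` commutes with `v` then `v ^ n * u = z ^ n * u * v ^ n`. -/
theorem pow_mul_comm_of_central {G : Type*} [Group G] (u v : G)
    (hzv : Commute ⁅v, u⁆ v) (n : ℕ) :
    v ^ n * u = ⁅v, u⁆ ^ n * u * v ^ n := by
  induction n with
  | zero => simp
  | succ n ih =>
    have h1 : v * u = ⁅v, u⁆ * u * v := by simp [commutatorElement_def]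
    calc v ^ (n + 1) * u = v ^ n * (v * u) := by rw [pow_succ, mul_assoc]
      _ = v ^ n * (⁅v, u⁆ * u * v) := by rw [h1]
      _ = ⁅v, u⁆ * (v ^ n * u) * v := by
        rw [mul_assoc ⁅v, u⁆ u v, ← mul_assoc (v ^ n), ← (hzv.pow_right n).eq]
        group
      _ = ⁅v, u⁆ * (⁅v, u⁆ ^ n * u * v ^ n) * v := by rw [ih]
      _ = ⁅v, u⁆ ^ (n + 1) * u * v ^ (n + 1) := by
        rw [pow_succ' ⁅v, u⁆, pow_succ v]
        group

theorem commutator_pow_left_of_central {G : Type*} [Group G] (u v : G)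
    (hzv : Commute ⁅v, u⁆ v) (n : ℕ) : ⁅v ^ n, u⁆ = ⁅v, u⁆ ^ n := by
  have h := pow_mul_comm_of_central u v hzv n
  rw [commutatorElement_def, h]
  group

theorem mul_pow_aux_rearrange {G : Type*} [Group G] (u v z : G) (n k : ℕ) (hzu : Commute z u)
    (hzv : Commute z v) :
    u ^ n * (z ^ n * u * v ^ n) * v * z ^ k = u ^ (n + 1) * v ^ (n + 1) * z ^ (k + n) := by
  have e3 : u ^ n * z ^ n = z ^ n * u ^ n := ((hzu.pow_left n).pow_right n).eq.symm
  have e5 : Commute (z ^ n) (u ^ (n + 1) * v ^ (n + 1)) :=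
    ((hzu.pow_left n).pow_right _).mul_right ((hzv.pow_left n).pow_right _)
  calc u ^ n * (z ^ n * u * v ^ n) * v * z ^ k
      = (u ^ n * z ^ n) * u * v ^ n * v * z ^ k := by group
    _ = z ^ n * u ^ n * u * v ^ n * v * z ^ k := by rw [e3]
    _ = z ^ n * (u ^ (n + 1) * v ^ (n + 1)) * z ^ k := by rw [pow_succ u, pow_succ v]; group
    _ = u ^ (n + 1) * v ^ (n + 1) * z ^ n * z ^ k := by rw [e5.eq]
    _ = u ^ (n + 1) * v ^ (n + 1) * z ^ (k + n) := by rw [mul_assoc, ← pow_add, add_comm n k]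

/-- In class 2: `(u v)^n = u^n v^n ⁅v,u⁆^(n(n-1)/2)`. -/
theorem mul_pow_of_central {G : Type*} [Group G] (u v : G)
    (hzu : Commute ⁅v, u⁆ u) (hzv : Commute ⁅v, u⁆ v) (n : ℕ) :
    (u * v) ^ n = u ^ n * v ^ n * ⁅v, u⁆ ^ (n * (n - 1) / 2) := by
  induction n with
  | zero => simp
  | succ n ih =>
    have h1 := pow_mul_comm_of_central u v hzv n
    have hz1 : ∀ k : ℕ, Commute (⁅v, u⁆ ^ k) u := fun k => hzu.pow_left k
    have hz2 : ∀ k : ℕ, Commute (⁅v, u⁆ ^ k) v := fun k => hzv.pow_left k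
    have htri : (n + 1) * (n + 1 - 1) / 2 = n * (n - 1) / 2 + n := Nat.triangle_succ n
    rw [htri, pow_succ, ih]
    calc u ^ n * v ^ n * ⁅v, u⁆ ^ (n * (n - 1) / 2) * (u * v)
        = u ^ n * (v ^ n * u) * v * ⁅v, u⁆ ^ (n * (n - 1) / 2) := by
          have e1 := (hz1 (n * (n - 1) / 2)).eq
          have e2 := (hz2 (n * (n - 1) / 2)).eq
          rw [mul_assoc (u ^ n * v ^ n), ← mul_assoc (⁅v, u⁆ ^ (n * (n - 1) / 2)) u v, e1,
            mul_assoc u, e2]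
          group
      _ = u ^ n * (⁅v, u⁆ ^ n * u * v ^ n) * v * ⁅v, u⁆ ^ (n * (n - 1) / 2) := by rw [h1]
      _ = u ^ (n + 1) * v ^ (n + 1) * ⁅v, u⁆ ^ (n * (n - 1) / 2 + n) :=
          mul_pow_aux_rearrange u v ⁅v, u⁆ n _ hzu hzv

/-- For `p` odd, in class 2 with `⁅v,u⁆^p = 1`: `(u v)^p = u^p v^p`. -/
theorem mul_pow_prime_of_central {G : Type*} [Group G] (u v : G) (p : ℕ) (hodd : Odd p)
    (hzu : Commute ⁅v, u⁆ u) (hzv : Commute ⁅v, u⁆ v) (hz : ⁅v, u⁆ ^ p = 1) :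
    (u * v) ^ p = u ^ p * v ^ p := by
  rw [mul_pow_of_central u v hzu hzv p]
  obtain ⟨k, hk⟩ := hodd
  have : p * (p - 1) / 2 = p * k := by
    have : p - 1 = 2 * k := by omega
    rw [this, ← mul_assoc, mul_comm p 2, mul_assoc, Nat.mul_div_cancel_left _ (by norm_num)]
  rw [this, pow_mul, hz, one_pow, mul_one]

end Cfsg.Agent.Lib.Helper32
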