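import Mathlib
import Cfsg.Agent.Lib.Helper32.Coprime
import Cfsg.Agent.Lib.Helper32.Class2

set_option autoImplicit false

namespace Cfsg.Agent.Lib.Helper32

open scoped commutatorElement

theorem card_lt_card_of_lt {G : Type*} [Group G] [Finite G] {H K : Subgroup G} (h : H < K) :
    Nat.card H < Nat.card K :=
  Set.Finite.card_lt_card (Set.toFinite _) (SetLike.coe_ssubset_coe.2 h)

theorem normalizer_le_normalizer_commutator_self {G : Type*} [Group G] (D : Subgroup G) :
    Subgroup.normalizer (D : Set G) ≤ Subgroup.normalizer ((⁅D, D⁆ : Subgroup G) : Set G) := by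
  intro a ha
  rw [Subgroup.mem_normalizer_iff_map_conj_eq] at ha ⊢
  rw [Subgroup.map_commutator, ha]

theorem commutator_self_ne_of_isPGroup {G : Type*} [Group G] [Finite G] (p : ℕ) [Fact p.Prime]
    (D : Subgroup G) (hD : IsPGroup p D) (hne : D ≠ ⊥) : ⁅D, D⁆ ≠ D := by
  intro h
  haveI : Group.IsNilpotent D := hD.isNilpotent
  haveI : Nontrivial D := (Subgroup.nontrivial_iff_ne_bot D).2 hne
  have h1 : commutator D < ⊤ := Group.IsSolvable.commutator_lt_top_of_nontrivial D
  have h2 : (commutator D).map D.subtype = (⊤ : Subgroup D).map D.subtype := by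
    rw [Subgroup.map_subtype_commutator, h, ← MonoidHom.range_eq_map, Subgroup.range_subtype]
  exact h1.ne (Subgroup.map_injective D.subtype_injective h2)

/-- A nontrivial finite `p`-group has a proper subgroup containing all `p`-th powers. -/
theorem exists_proper_pow_mem {G : Type*} [Group G] [Finite G] (p : ℕ) [hp : Fact p.Prime]
    (D : Subgroup G) (hD : IsPGroup p D) (hne : D ≠ ⊥) :
    ∃ N : Subgroup G, N ≤ D ∧ N ≠ D ∧ ∀ x ∈ D, x ^ p ∈ N := by
  obtain ⟨k, hk⟩ := IsPGroup.iff_card.1 hD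
  have hk0 : k ≠ 0 := by
    rintro rfl
    rw [pow_zero] at hk
    exact hne ((Subgroup.card_eq_one).1 hk)
  obtain ⟨j, rfl⟩ := Nat.exists_eq_succ_of_ne_zero hk0
  obtain ⟨N, hN⟩ := Sylow.exists_subgroup_card_pow_prime (G := D) p
    (show p ^ j ∣ Nat.card D from hk ▸ pow_dvd_pow p (Nat.le_succ j))
  have hidx : N.index = p := by
    have h1 := N.card_mul_index
    rw [hN, hk, pow_succ] at h1
    exact Nat.eq_of_mul_eq_mul_left (pow_pos hp.out.pos j) h1
  haveI : N.Normal := by
    apply Subgroup.normal_of_index_eq_minFac_card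
    rw [hidx, hk, Nat.Prime.pow_minFac hp.out (Nat.succ_ne_zero j)]
  refine ⟨N.map D.subtype, Subgroup.map_subtype_le N, ?_, ?_⟩
  · intro h
    have h2 : N.map D.subtype = (⊤ : Subgroup D).map D.subtype := by
      rw [h, ← MonoidHom.range_eq_map, Subgroup.range_subtype]
    have h3 : N = ⊤ := Subgroup.map_injective D.subtype_injective h2
    rw [h3, Subgroup.index_top] at hidx
    exact hp.out.one_lt.ne hidx
  · intro x hx
    have := N.pow_index_mem (⟨x, hx⟩ : D)
    rw [hidx] at this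
    exact ⟨_, this, by simp⟩


/-- `p` odd, `D` a `p`-subgroup normalized by `A` of order coprime to `p`. If `A` centralizes every
`x ∈ D` with `x ^ p = 1`, then `A` centralizes `D`. -/
theorem centralizes_of_fixes_order_p {G : Type*} [Group G] [Finite G] (p : ℕ) [hp : Fact p.Prime]
    (hp2 : p ≠ 2) (A : Subgroup G) (hcop : (Nat.card A).Coprime p) :
    ∀ (n : ℕ) (D : Subgroup G), Nat.card D = n → IsPGroup p D →
      A ≤ Subgroup.normalizer (D : Set G) →
      (∀ x ∈ D, x ^ p = 1 → x ∈ Subgroup.centralizer (A : Set G)) →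
      D ≤ Subgroup.centralizer (A : Set G) := by
  intro n
  induction n using Nat.strong_induction_on with
  | _ n ih =>
  intro D hn hD hA hfix
  have F1 : ∀ D₁ : Subgroup G, D₁ ≤ D → D₁ ≠ D → A ≤ Subgroup.normalizer (D₁ : Set G) →
      D₁ ≤ Subgroup.centralizer (A : Set G) := by
    intro D₁ h1 h2 h3
    have hlt : Nat.card D₁ < n := by
      rw [← hn]; exact card_lt_card_of_lt (lt_of_le_of_ne h1 h2)
    exact ih _ hlt D₁ rfl (hD.to_le h1) h3 (fun x hx hxp => hfix x (h1 hx) hxp)
  have hcopD : (Nat.card A).Coprime (Nat.card D) := by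
    obtain ⟨k, hk⟩ := IsPGroup.iff_card.1 hD
    rw [hk]; exact Nat.Coprime.pow_right _ hcop
  have hKD : ⁅D, A⁆ ≤ D := Subgroup.le_normalizer_iff_commutator_le_left.1 hA
  by_cases hK : ⁅D, A⁆ = D
  swap
  · have hKA : A ≤ Subgroup.normalizer ((⁅D, A⁆ : Subgroup G) : Set G) :=
      Subgroup.normalizer_commutator_ge_right D A
    have := F1 _ hKD hK hKA
    exact le_centralizer_of_stable D ⁅D, A⁆ A le_rfl this hKD hcopD
  have F3 : ∀ M : Subgroup G, M ≤ D → M ≠ D → D ≤ Subgroup.normalizer (M : Set G) →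
      A ≤ Subgroup.normalizer (M : Set G) → M ≤ Subgroup.centralizer (D : Set G) := by
    intro M h1 h2 h3 h4
    have hMA := F1 M h1 h2 h4
    have hAM : ⁅A, M⁆ = ⊥ := by
      rw [Subgroup.commutator_comm, Subgroup.commutator_eq_bot_iff_le_centralizer]; exact hMA
    have hMD : ⁅M, D⁆ ≤ M := Subgroup.le_normalizer_iff_commutator_le_left.1 h3
    have h5 : ⁅⁅D, A⁆, M⁆ = ⊥ := by
      apply Subgroup.commutator_commutator_eq_bot_of_rotate
      · rw [hAM, Subgroup.commutator_bot_left]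
      · rw [eq_bot_iff]
        calc ⁅⁅M, D⁆, A⁆ ≤ ⁅M, A⁆ := Subgroup.commutator_mono hMD le_rfl
          _ = ⊥ := by rw [Subgroup.commutator_comm, hAM]
    rw [hK, Subgroup.commutator_comm] at h5
    exact Subgroup.commutator_eq_bot_iff_le_centralizer.1 h5
  by_cases hbot : D = ⊥
  · rw [hbot]; exact bot_le
  -- the derived subgroup is central
  have hD'c : ⁅D, D⁆ ≤ Subgroup.centralizer (D : Set G) :=
    F3 _ (Subgroup.commutator_le_self D) (commutator_self_ne_of_isPGroup p D hD hbot)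
      (Subgroup.normalizer_commutator_ge_left D D)
      (hA.trans (normalizer_le_normalizer_commutator_self D))
  -- the p-th powers
  obtain ⟨N, hND, hNne, hNpow⟩ := exists_proper_pow_mem p D hD hbot
  set M : Subgroup G := Subgroup.closure {y | ∃ x ∈ D, y = x ^ p} with hMdef
  have hMN : M ≤ N := by
    rw [hMdef, Subgroup.closure_le]
    rintro y ⟨x, hx, rfl⟩
    exact hNpow x hx
  have hMD : M ≤ D := hMN.trans hND
  have hMne : M ≠ D := fun h => hNne (le_antisymm hND (h ▸ hMN))
  have hnorm : ∀ B : Subgroup G, B ≤ Subgroup.normalizer (D : Set G) →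
      B ≤ Subgroup.normalizer (M : Set G) := by
    intro B hB
    rw [hMdef, Subgroup.le_normalizer_closure_iff]
    rintro b hb y ⟨x, hx, rfl⟩
    apply Subgroup.subset_closure
    refine ⟨b * x * b⁻¹, ((hB hb) x).1 hx, ?_⟩
    rw [conj_pow]
  have hMc : M ≤ Subgroup.centralizer (D : Set G) :=
    F3 M hMD hMne (hnorm D Subgroup.le_normalizer) (hnorm A hA)
  have hMA : M ≤ Subgroup.centralizer (A : Set G) := F1 M hMD hMne (hnorm A hA)
  -- every commutator ⁅x, a⁆ has p-th power 1
  have hodd : Odd p := hp.out.odd_of_ne_two hp2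
  have hcp : ∀ x ∈ D, ∀ a ∈ A, ⁅x, a⁆ ^ p = 1 := by
    intro x hx a ha
    set y := a * x * a⁻¹ with hy
    have hyD : y ∈ D := ((hA ha) x).1 hx
    have hxy : ⁅x, a⁆ = x * y⁻¹ := by rw [hy, commutatorElement_def]; group
    have hyp : y ^ p = x ^ p := by
      rw [hy, conj_pow]
      have h1 : x ^ p ∈ M := Subgroup.subset_closure ⟨x, hx, rfl⟩
      have h2 := hMA h1
      rw [Subgroup.mem_centralizer_iff] at h2
      rw [h2 a ha]; group
    -- z = ⁅y⁻¹, x⁆ is central in D
    have hzD : ⁅y⁻¹, x⁆ ∈ ⁅D, D⁆ := Subgroup.commutator_mem_commutator (inv_mem hyD) hx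
    have hzc := hD'c hzD
    rw [Subgroup.mem_centralizer_iff] at hzc
    have hzu : Commute ⁅y⁻¹, x⁆ x := (hzc x hx).symm
    have hzv : Commute ⁅y⁻¹, x⁆ y⁻¹ := (hzc _ (inv_mem hyD)).symm
    have hzp : ⁅y⁻¹, x⁆ ^ p = 1 := by
      rw [← commutator_pow_left_of_central x y⁻¹ hzv p, commutatorElement_eq_one_iff_mul_comm]
      have h1 : (y⁻¹) ^ p ∈ M := Subgroup.subset_closure ⟨y⁻¹, inv_mem hyD, rfl⟩
      have h2 := hMc h1
      rw [Subgroup.mem_centralizer_iff] at h2
      exact (h2 x hx).symm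
    rw [hxy, mul_pow_prime_of_central x y⁻¹ p hodd hzu hzv hzp, inv_pow, hyp, mul_inv_cancel]
  have hKA : ⁅D, A⁆ ≤ Subgroup.centralizer (A : Set G) := by
    rw [Subgroup.commutator_le]
    intro x hx a ha
    exact hfix _ (hKD (Subgroup.commutator_mem_commutator hx ha)) (hcp x hx a ha)
  exact le_centralizer_of_stable D ⁅D, A⁆ A le_rfl hKA hKD hcopD

end Cfsg.Agent.Lib.Helper32
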