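import Mathlib
import Cfsg.Prelude.Def_Local

set_option autoImplicit false

namespace Cfsg.Agent.Lib.Helper32

open Cfsg

theorem sSup_mem_of_sup_closed' {G : Type*} [Group G] [Finite G] (S : Set (Subgroup G)) (hbot : ⊥ ∈ S)
    (hsup : ∀ A ∈ S, ∀ B ∈ S, A ⊔ B ∈ S) : sSup S ∈ S := by
  classical
  have hfin : S.Finite := Set.toFinite S
  have : sSup S = hfin.toFinset.sup id := by
    rw [Finset.sup_id_eq_sSup]; simp
  rw [this]
  apply Finset.sup_induction (p := fun A => A ∈ S) hbot
  · intro a ha b hb; exact hsup a ha b hb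
  · intro b hb; simpa using hb

theorem card_sup_dvd_of_normal' {G : Type*} [Group G] (A B : Subgroup G) [hB : B.Normal] :
    Nat.card (A ⊔ B : Subgroup G) ∣ Nat.card B * Nat.card A := by
  have h : Nat.card (A ⊔ B : Subgroup G) = Nat.card B * B.relIndex A := by
    rw [← Subgroup.relIndex_bot_left, ← Subgroup.relIndex_bot_left,
      ← Subgroup.relIndex_mul_relIndex ⊥ B (A ⊔ B) bot_le le_sup_right, Subgroup.relIndex_sup_right]
  rw [h]
  exact Nat.mul_dvd_mul_left _ (Subgroup.relIndex_dvd_card B A)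

theorem card_pPrimeCore_coprime' {G : Type*} [Group G] [Finite G] (p : ℕ) :
    (Nat.card (pPrimeCore p G)).Coprime p := by
  have := sSup_mem_of_sup_closed' {N : Subgroup G | N.Normal ∧ (Nat.card N).Coprime p}
    ⟨inferInstance, by simp⟩ (by
      rintro A ⟨hA, hAc⟩ B ⟨hB, hBc⟩
      refine ⟨inferInstance, ?_⟩
      exact Nat.Coprime.coprime_dvd_left (card_sup_dvd_of_normal' A B) (Nat.Coprime.mul_left hBc hAc))
  exact this.2

theorem isPGroup_pCore' {G : Type*} [Group G] [Finite G] (p : ℕ) [Fact p.Prime] :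
    IsPGroup p (pCore p G) := by
  have := sSup_mem_of_sup_closed' {N : Subgroup G | N.Normal ∧ IsPGroup p N}
    ⟨inferInstance, IsPGroup.of_bot⟩ (by
      rintro A ⟨hA, hAc⟩ B ⟨hB, hBc⟩
      refine ⟨inferInstance, ?_⟩
      exact IsPGroup.to_sup_of_normal_right hAc hBc)
  exact this.2

theorem upperPSeries_succ_even {G : Type*} [Group G] (p n : ℕ) (hn : Even n) :
    (upperPSeries p G (n + 1)).1 =
      (pPrimeCore p (G ⧸ (upperPSeries p G n).1)).comap (QuotientGroup.mk' _) := by
  rw [upperPSeries]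
  simp [hn]

theorem upperPSeries_succ_odd {G : Type*} [Group G] (p n : ℕ) (hn : ¬ Even n) :
    (upperPSeries p G (n + 1)).1 =
      (pCore p (G ⧸ (upperPSeries p G n).1)).comap (QuotientGroup.mk' _) := by
  rw [upperPSeries]
  simp [hn]

theorem relIndex_comap_mk' {G : Type*} [Group G] (U : Subgroup G) [U.Normal] (X : Subgroup (G ⧸ U)) :
    U.relIndex (X.comap (QuotientGroup.mk' U)) = Nat.card X := by
  have h1 : (⊥ : Subgroup (G ⧸ U)).comap (QuotientGroup.mk' U) = U := by
    rw [MonoidHom.comap_bot, QuotientGroup.ker_mk']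
  have h2 := Subgroup.relIndex_comap (⊥ : Subgroup (G ⧸ U)) (QuotientGroup.mk' U)
    (X.comap (QuotientGroup.mk' U))
  rw [h1, Subgroup.map_comap_eq_self_of_surjective (QuotientGroup.mk'_surjective U),
    Subgroup.relIndex_bot_left] at h2
  exact h2

/-- Structure of a finite group of `p`-length at most one. -/
theorem exists_of_pLengthLE_one {G : Type*} [Group G] [Finite G] (p : ℕ) [hp : Fact p.Prime]
    (hpl : PLengthLE p 1 G) :
    ∃ K L : Subgroup G, K.Normal ∧ L.Normal ∧ K ≤ L ∧ (Nat.card K).Coprime p ∧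
      (∃ k : ℕ, K.relIndex L = p ^ k) ∧ ¬ p ∣ L.index := by
  have e1 := upperPSeries_succ_even (G := G) p 0 (by simp)
  have e2 := upperPSeries_succ_odd (G := G) p 1 (by simp)
  have e3 := upperPSeries_succ_even (G := G) p 2 (by simp)
  have e0 : (upperPSeries p G 0).1 = ⊥ := by rw [upperPSeries]
  refine ⟨(upperPSeries p G 1).1, (upperPSeries p G 2).1, inferInstance, inferInstance, ?_, ?_, ?_, ?_⟩
  · rw [e2]
    exact QuotientGroup.le_comap_mk' _ _
  · have h := relIndex_comap_mk' (upperPSeries p G 0).1 (pPrimeCore p (G ⧸ (upperPSeries p G 0).1))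
    rw [← e1] at h
    have h2 : (upperPSeries p G 0).1.relIndex (upperPSeries p G 1).1 = Nat.card (upperPSeries p G 1).1 := by
      rw [e0, Subgroup.relIndex_bot_left]
    rw [← h2, h]
    exact card_pPrimeCore_coprime' p
  · have h := relIndex_comap_mk' (upperPSeries p G 1).1 (pCore p (G ⧸ (upperPSeries p G 1).1))
    rw [← e2] at h
    rw [h]
    exact IsPGroup.iff_card.1 (isPGroup_pCore' p)
  · have h3 : (upperPSeries p G 3).1 = ⊤ := hpl
    rw [e3] at h3
    have h4 : pPrimeCore p (G ⧸ (upperPSeries p G 2).1) = ⊤ := by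
      apply Subgroup.comap_injective (QuotientGroup.mk'_surjective (upperPSeries p G 2).1)
      rw [h3, Subgroup.comap_top]
    have h5 := card_pPrimeCore_coprime' (G := G ⧸ (upperPSeries p G 2).1) p
    rw [h4, Subgroup.card_top] at h5
    have h6 : (upperPSeries p G 2).1.index = Nat.card (G ⧸ (upperPSeries p G 2).1) := rfl
    rw [h6]
    intro hdvd
    have := Nat.Coprime.eq_one_of_dvd h5.symm hdvd
    exact hp.out.one_lt.ne' this

end Cfsg.Agent.Lib.Helper32
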