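import Mathlib
import Cfsg.Prelude.Def_Local
import Cfsg.Agent.Lib.Helper32.PLength

set_option autoImplicit false

namespace Cfsg.Agent.Lib.Helper32

open Cfsg

/-- If `H` is a normal subgroup of index prime to `p`, every Sylow `p`-subgroup lies in `H`. -/
theorem sylow_le_of_normal_of_not_dvd_index' {G : Type*} [Group G] [Finite G] {p : ℕ} [Fact p.Prime]
    (H : Subgroup G) [H.Normal] (hp : ¬ p ∣ H.index) (P : Sylow p G) : (P : Subgroup G) ≤ H := by
  intro z hz
  rw [← QuotientGroup.eq_one_iff (N := H), ← orderOf_eq_one_iff]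
  have h1 : orderOf (QuotientGroup.mk z : G ⧸ H) ∣ orderOf z :=
    orderOf_dvd_of_pow_eq_one (by rw [← QuotientGroup.mk_pow, pow_orderOf_eq_one]; rfl)
  obtain ⟨k, hk⟩ := P.isPGroup' ⟨z, hz⟩
  have hk' : z ^ p ^ k = 1 := by
    have := congrArg Subtype.val hk
    simpa using this
  have h2 : orderOf (QuotientGroup.mk z : G ⧸ H) ∣ p ^ k :=
    h1.trans (orderOf_dvd_of_pow_eq_one hk')
  have h3 : orderOf (QuotientGroup.mk z : G ⧸ H) ∣ H.index := by
    have : H.index = Nat.card (G ⧸ H) := rfl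
    rw [this]
    exact orderOf_dvd_natCard _
  have hcop : Nat.Coprime (p ^ k) H.index :=
    Nat.Coprime.pow_left k ((Nat.Prime.coprime_iff_not_dvd Fact.out).mpr hp)
  exact Nat.eq_one_of_dvd_coprimes hcop h2 h3

/-- In a finite group of `p`-length at most one, with `S` a Sylow `p`-subgroup, there is a normal
`p'`-subgroup `K` with `G = N_G(S) K`. -/
theorem exists_normalizer_mul_of_pLengthLE_one {G : Type*} [Group G] [Finite G] (p : ℕ)
    [hp : Fact p.Prime] (hpl : PLengthLE p 1 G) (S : Sylow p G) :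
    ∃ K : Subgroup G, K.Normal ∧ (Nat.card K).Coprime p ∧
      ∀ g : G, ∃ n ∈ Subgroup.normalizer ((S : Subgroup G) : Set G), ∃ k ∈ K, g = n * k := by
  obtain ⟨K, L, hK, hL, hKL, hKc, ⟨k, hk⟩, hLi⟩ := exists_of_pLengthLE_one p hpl
  refine ⟨K, hK, hKc, ?_⟩
  have hSL : (S : Subgroup G) ≤ L := sylow_le_of_normal_of_not_dvd_index' L hLi S
  have hfrat : Subgroup.normalizer ((S : Subgroup G) : Set G) ⊔ L = ⊤ :=
    S.normalizer_sup_eq_top' hSL
  -- L ≤ K ⊔ S by counting
  have hKS : K ⊔ (S : Subgroup G) ≤ L := sup_le hKL hSL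
  have hdisj : K ⊓ (S : Subgroup G) = ⊥ := by
    apply disjoint_iff.1
    apply Subgroup.disjoint_of_coprime_natCard
    obtain ⟨j, hj⟩ := IsPGroup.iff_card.1 S.2
    rw [hj]
    exact Nat.Coprime.pow_right _ hKc
  have h1 : K.relIndex (K ⊔ (S : Subgroup G)) = Nat.card S := by
    rw [Subgroup.relIndex_sup_left, ← Subgroup.inf_relIndex_right, hdisj,
      Subgroup.relIndex_bot_left]
  have h2 : K.relIndex (K ⊔ (S : Subgroup G)) * (K ⊔ (S : Subgroup G)).relIndex L = K.relIndex L :=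
    Subgroup.relIndex_mul_relIndex K (K ⊔ S) L le_sup_left hKS
  have h3 : p ^ k ∣ Nat.card S := by
    apply S.pow_dvd_card_of_pow_dvd_card
    rw [← hk]
    exact (Subgroup.relIndex_dvd_card K L).trans (Subgroup.card_subgroup_dvd_card L)
  have h4 : (K ⊔ (S : Subgroup G)).relIndex L = 1 := by
    rw [h1, hk] at h2
    have h5 : Nat.card S ∣ p ^ k := Dvd.intro _ h2
    have h6 : Nat.card S = p ^ k := Nat.dvd_antisymm h5 h3
    rw [h6] at h2
    exact Nat.eq_of_mul_eq_mul_left (pow_pos hp.out.pos k) (by rw [h2, mul_one])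
  have hLle : L ≤ K ⊔ (S : Subgroup G) := Subgroup.relIndex_eq_one.1 h4
  have htop : Subgroup.normalizer ((S : Subgroup G) : Set G) ⊔ K = ⊤ := by
    rw [eq_top_iff, ← hfrat]
    apply sup_le le_sup_left
    apply hLle.trans
    apply sup_le le_sup_right
    exact (Subgroup.le_normalizer).trans le_sup_left
  intro g
  have hg : g ∈ Subgroup.normalizer ((S : Subgroup G) : Set G) ⊔ K := by rw [htop]; trivial
  rw [← SetLike.mem_coe, Subgroup.mul_normal] at hg
  obtain ⟨n, hn, k', hk', rfl⟩ := Set.mem_mul.1 hg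
  exact ⟨n, hn, k', hk', rfl⟩

end Cfsg.Agent.Lib.Helper32
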