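import Mathlib
import Cfsg.Prelude.Def_OddOrderLocal

set_option autoImplicit false

namespace Cfsg.Agent.Lib.Helper32

/-- Every positive integer splits as a `π`-number times a `π'`-number. -/
theorem exists_pi_decomp (π : Set ℕ) (n : ℕ) (hn : 0 < n) :
    ∃ m k : ℕ, n = m * k ∧ m.Coprime k ∧ (∀ p : ℕ, p.Prime → p ∣ m → p ∈ π) ∧
      (∀ p : ℕ, p.Prime → p ∣ k → p ∉ π) := by
  classical
  induction n using Nat.recOnPosPrimePosCoprime with
  | prime_pow p a hp ha =>
    by_cases hpπ : p ∈ π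
    · refine ⟨p ^ a, 1, by simp, Nat.coprime_one_right _, ?_, ?_⟩
      · intro q hq hqd
        have := (Nat.prime_dvd_prime_iff_eq hq hp).mp (hq.dvd_of_dvd_pow hqd)
        rwa [this]
      · intro q hq hqd
        exact absurd (Nat.dvd_one.mp hqd) hq.ne_one
    · refine ⟨1, p ^ a, by simp, Nat.coprime_one_left _, ?_, ?_⟩
      · intro q hq hqd
        exact absurd (Nat.dvd_one.mp hqd) hq.ne_one
      · intro q hq hqd
        have := (Nat.prime_dvd_prime_iff_eq hq hp).mp (hq.dvd_of_dvd_pow hqd)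
        rwa [this]
  | zero => exact absurd hn (lt_irrefl 0)
  | one =>
    refine ⟨1, 1, by simp, Nat.coprime_one_right _, ?_, ?_⟩ <;>
    · intro q hq hqd
      exact absurd (Nat.dvd_one.mp hqd) hq.ne_one
  | coprime a b ha hb hab iha ihb =>
    obtain ⟨m₁, k₁, h1, hc1, hm1, hk1⟩ := iha (by omega)
    obtain ⟨m₂, k₂, h2, hc2, hm2, hk2⟩ := ihb (by omega)
    have hπ : ∀ m k : ℕ, (∀ p : ℕ, p.Prime → p ∣ m → p ∈ π) → (∀ p : ℕ, p.Prime → p ∣ k → p ∉ π) →
        m.Coprime k := by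
      intro m k hm hk
      apply Nat.coprime_of_dvd
      intro q hq hqm hqk
      exact hk q hq hqk (hm q hq hqm)
    refine ⟨m₁ * m₂, k₁ * k₂, by rw [h1, h2]; ring, ?_, ?_, ?_⟩
    · apply Nat.Coprime.mul_left <;> apply Nat.Coprime.mul_right
      · exact hc1
      · exact hπ _ _ hm1 hk2
      · exact hπ _ _ hm2 hk1
      · exact hc2
    · intro q hq hqd
      rcases (Nat.Prime.dvd_mul hq).mp hqd with h | h
      · exact hm1 q hq h
      · exact hm2 q hq h
    · intro q hq hqd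
      rcases (Nat.Prime.dvd_mul hq).mp hqd with h | h
      · exact hk1 q hq h
      · exact hk2 q hq h

/-- A `π`-number and a `π'`-number are coprime. -/
theorem coprime_of_pi_of_pi' {π : Set ℕ} {m k : ℕ} (hm : ∀ p : ℕ, p.Prime → p ∣ m → p ∈ π)
    (hk : ∀ p : ℕ, p.Prime → p ∣ k → p ∉ π) : m.Coprime k := by
  apply Nat.coprime_of_dvd
  intro q hq hqm hqk
  exact hk q hq hqk (hm q hq hqm)

/-- Uniqueness of the `π`/`π'` decomposition. -/
theorem pi_decomp_unique {π : Set ℕ} {m k m' k' : ℕ} (h : m * k = m' * k')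
    (hm : ∀ p : ℕ, p.Prime → p ∣ m → p ∈ π) (hk : ∀ p : ℕ, p.Prime → p ∣ k → p ∉ π)
    (hm' : ∀ p : ℕ, p.Prime → p ∣ m' → p ∈ π) (hk' : ∀ p : ℕ, p.Prime → p ∣ k' → p ∉ π)
    (hpos : 0 < m * k) : m = m' ∧ k = k' := by
  have hmk' : m.Coprime k' := coprime_of_pi_of_pi' hm hk'
  have hm'k : m'.Coprime k := coprime_of_pi_of_pi' hm' hk
  have h1 : m ∣ m' := hmk'.dvd_of_dvd_mul_right (h ▸ Dvd.intro _ rfl)
  have h2 : m' ∣ m := hm'k.dvd_of_dvd_mul_right (h.symm ▸ Dvd.intro _ rfl)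
  have hmm : m = m' := Nat.dvd_antisymm h1 h2
  refine ⟨hmm, ?_⟩
  subst hmm
  have hmpos : 0 < m := Nat.pos_of_mul_pos_right hpos
  exact Nat.eq_of_mul_eq_mul_left hmpos h

theorem card_mul_relIndex_of_le {X : Type*} [Group X] {H G : Subgroup X} (h : H ≤ G) :
    Nat.card H * H.relIndex G = Nat.card G := by
  have := Subgroup.relIndex_mul_relIndex ⊥ H G bot_le h
  rwa [Subgroup.relIndex_bot_left, Subgroup.relIndex_bot_left] at this

theorem isPiHallOf_iff_card {X : Type*} [Group X] [Finite X] {π : Set ℕ} {H G : Subgroup X}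
    {m k : ℕ} (hG : Nat.card G = m * k) (hm : ∀ p : ℕ, p.Prime → p ∣ m → p ∈ π)
    (hk : ∀ p : ℕ, p.Prime → p ∣ k → p ∉ π) :
    Cfsg.IsPiHallOf π H G ↔ H ≤ G ∧ Nat.card H = m := by
  constructor
  · rintro ⟨hle, h1, h2⟩
    refine ⟨hle, ?_⟩
    have hmul : Nat.card H * H.relIndex G = m * k := by
      rw [← hG]; exact card_mul_relIndex_of_le hle
    have hpos : 0 < Nat.card H * H.relIndex G := by
      rw [hmul, ← hG]; exact Nat.card_pos
    exact (pi_decomp_unique hmul h1 (fun p hp hpd hpπ => h2 p hp hpπ hpd) hm hk hpos).1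
  · rintro ⟨hle, hcard⟩
    have hmul : Nat.card H * H.relIndex G = m * k := by
      rw [← hG]; exact card_mul_relIndex_of_le hle
    have hmpos : 0 < m := by rw [← hcard]; exact Nat.card_pos
    have hrel : H.relIndex G = k := by
      rw [hcard] at hmul
      exact Nat.eq_of_mul_eq_mul_left hmpos hmul
    refine ⟨hle, ?_, ?_⟩
    · rw [hcard]; exact hm
    · intro p hp hpπ hpd
      rw [hrel] at hpd
      exact hk p hp hpd hpπ

end Cfsg.Agent.Lib.Helper32
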