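import Mathlib
import Cfsg.Agent.Lib.Helper01.Hall
import Cfsg.Agent.Lib.Helper01.Glauberman
import Cfsg.Agent.Lib.Helper32.PiNumber

set_option autoImplicit false

namespace Cfsg.Agent.Lib.Helper32

open scoped Pointwise
open Cfsg.Agent.Lib.Helper01

universe u

variable {X : Type*} [Group X]

/-- If `g` normalizes `G` and `H ≤ G`, then `g H g⁻¹ ≤ G`. -/
theorem conj_smul_le_of_mem_normalizer {G H : Subgroup X} {g : X}
    (hg : g ∈ Subgroup.normalizer (G : Set X)) (hH : H ≤ G) : MulAut.conj g • H ≤ G := by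
  have h1 : MulAut.conj g • H ≤ MulAut.conj g • G :=
    Subgroup.pointwise_smul_le_pointwise_smul_iff.mpr hH
  rwa [mem_normalizer_iff_conj_smul.mp hg] at h1

/-- Hall existence inside a solvable subgroup. -/
theorem hall_exists_in [Finite X] (G : Subgroup X) (hs : Group.IsSolvable G) (m k : ℕ)
    (hG : Nat.card G = m * k) (hmk : m.Coprime k) :
    ∃ H : Subgroup X, H ≤ G ∧ Nat.card H = m := by
  have := hs
  obtain ⟨⟨H', hH'⟩, -, -⟩ := hallProp (G := G) m k hG hmk
  exact ⟨H'.map G.subtype, Subgroup.map_subtype_le _,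
    by rw [Subgroup.card_map_of_injective G.subtype_injective, hH']⟩

/-- Hall conjugacy inside a solvable subgroup. -/
theorem hall_conj_in [Finite X] (G : Subgroup X) (hs : Group.IsSolvable G) (m k : ℕ)
    (hG : Nat.card G = m * k) (hmk : m.Coprime k) {H K : Subgroup X} (hH : H ≤ G) (hK : K ≤ G)
    (hHc : Nat.card H = m) (hKc : Nat.card K = m) : ∃ g ∈ G, MulAut.conj g • H = K := by
  have := hs
  obtain ⟨-, hconj, -⟩ := hallProp (G := G) m k hG hmk
  obtain ⟨g, hg⟩ := hconj (H.subgroupOf G) (K.subgroupOf G)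
    (by rw [card_subgroupOf_of_le hH, hHc]) (by rw [card_subgroupOf_of_le hK, hKc])
  obtain ⟨g', hg'L, h⟩ := conj_of_conj_subgroupOf hH hK ⟨g, hg⟩
  exact ⟨g', hg'L, h⟩

/-- Coprime action: existence of an `A`-invariant Hall subgroup. -/
theorem exists_invariant_hall [Finite X] {A G : Subgroup X}
    (hAG : A ≤ Subgroup.normalizer (G : Set X)) (hcop : (Nat.card A).Coprime (Nat.card G))
    (hs : Group.IsSolvable G) (m k : ℕ) (hG : Nat.card G = m * k) (hmk : m.Coprime k) :
    ∃ H : Subgroup X, H ≤ G ∧ Nat.card H = m ∧ A ≤ Subgroup.normalizer (H : Set X) := by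
  obtain ⟨H₀, hH₀G, hH₀c⟩ := hall_exists_in G hs m k hG hmk
  have horbit : ∀ a ∈ A, ∃ g ∈ G, MulAut.conj g • H₀ = MulAut.conj a • H₀ := by
    intro a ha
    exact hall_conj_in G hs m k hG hmk hH₀G (conj_smul_le_of_mem_normalizer (hAG ha) hH₀G) hH₀c
      (by rw [card_conj_smul, hH₀c])
  obtain ⟨g, hg, hgA⟩ := exists_conj_normalized hAG hcop (Or.inr hs) horbit
  exact ⟨MulAut.conj g • H₀, conj_smul_le_of_mem_normalizer (Subgroup.le_normalizer hg) hH₀G,
    by rw [card_conj_smul, hH₀c], hgA⟩

/-- Coprime action: `A`-invariant Hall subgroups are conjugate under `C_G(A)`. -/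
theorem invariant_hall_conj [Finite X] {A G : Subgroup X}
    (hAG : A ≤ Subgroup.normalizer (G : Set X)) (hcop : (Nat.card A).Coprime (Nat.card G))
    (hs : Group.IsSolvable G) (m k : ℕ) (hG : Nat.card G = m * k) (hmk : m.Coprime k)
    {H K : Subgroup X} (hH : H ≤ G) (hK : K ≤ G) (hHc : Nat.card H = m) (hKc : Nat.card K = m)
    (hAH : A ≤ Subgroup.normalizer (H : Set X)) (hAK : A ≤ Subgroup.normalizer (K : Set X)) :
    ∃ c ∈ G ⊓ Subgroup.centralizer (A : Set X), MulAut.conj c • H = K :=
  exists_centralizer_conj hAG hcop (Or.inr hs) hAH hAK (hall_conj_in G hs m k hG hmk hH hK hHc hKc)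


/-- `A` normalizes `U ⊔ N` when it normalizes both. -/
theorem le_normalizer_sup {A U N : Subgroup X} (hU : A ≤ Subgroup.normalizer (U : Set X))
    (hN : A ≤ Subgroup.normalizer (N : Set X)) :
    A ≤ Subgroup.normalizer ((U ⊔ N : Subgroup X) : Set X) := by
  rw [le_normalizer_iff_conj_smul] at hU hN ⊢
  intro a ha
  rw [Subgroup.smul_sup, hU a ha, hN a ha]

/-- If `c` centralizes `A` and `A` normalizes `H`, then `A` normalizes `c H c⁻¹`. -/
theorem le_normalizer_conj_smul_of_mem_centralizer {A H : Subgroup X} {c : X}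
    (hc : c ∈ Subgroup.centralizer (A : Set X)) (hAH : A ≤ Subgroup.normalizer (H : Set X)) :
    A ≤ Subgroup.normalizer ((MulAut.conj c • H : Subgroup X) : Set X) := by
  rw [normalizer_conj_smul]
  have h1 : MulAut.conj c • A = A :=
    mem_normalizer_iff_conj_smul.mp (Subgroup.centralizer_le_normalizer _ hc)
  rw [← h1]
  exact Subgroup.pointwise_smul_le_pointwise_smul_iff.mpr hAH

/-- Key step: inside `H₀ = N ⋊ H` with `N` a normal Hall subgroup and `H` an `A`-invariant
complement, every `A`-invariant subgroup `U` of order prime to `|N|` lies in a conjugate of `H`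
under `C_{H₀}(A)`. -/
theorem exists_conj_ge_of_normal_hall [Finite X] {A H₀ N H U : Subgroup X}
    (hcop : (Nat.card A).Coprime (Nat.card H₀))
    (hs : Group.IsSolvable H₀) (hNH₀ : N ≤ H₀) (hN : H₀ ≤ Subgroup.normalizer (N : Set X))
    (hAN : A ≤ Subgroup.normalizer (N : Set X)) (hH : H ≤ H₀)
    (hcard : Nat.card H₀ = Nat.card N * Nat.card H) (hcopNH : (Nat.card N).Coprime (Nat.card H))
    (hAH : A ≤ Subgroup.normalizer (H : Set X)) (hU : U ≤ H₀)
    (hAU : A ≤ Subgroup.normalizer (U : Set X)) (hUc : (Nat.card N).Coprime (Nat.card U)) :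
    ∃ c ∈ H₀ ⊓ Subgroup.centralizer (A : Set X), U ≤ MulAut.conj c • H := by
  set L : Subgroup X := U ⊔ N with hL
  set V : Subgroup X := L ⊓ H with hV
  have hLH₀ : L ≤ H₀ := sup_le hU hNH₀
  have hNL : N ≤ L := le_sup_right
  have hUL : U ≤ L := le_sup_left
  have hVL : V ≤ L := inf_le_left
  have hLN : L ≤ Subgroup.normalizer (N : Set X) := hLH₀.trans hN
  have hLcard : Nat.card L = Nat.card N * Nat.card U :=
    card_sup_of_coprime_of_le_normalizer N U (hU.trans hN) hUc
  -- `H₀ = H ⊔ N`
  have hHN : H ⊔ N = H₀ := by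
    apply Subgroup.eq_of_le_of_card_ge (sup_le hH hNH₀)
    rw [card_sup_of_coprime_of_le_normalizer N H (hH.trans hN) hcopNH, hcard]
  -- `L = V ⊔ N`
  have hVN : V ⊔ N = L := by
    apply le_antisymm (sup_le hVL hNL)
    intro l hl
    have hl' : l ∈ H ⊔ N := by rw [hHN]; exact hLH₀ hl
    obtain ⟨h, hh, n, hn, rfl⟩ := exists_mul_of_mem_sup (hH.trans hN) hl'
    have hhL : h ∈ L := by
      have : h = (h * n) * n⁻¹ := by group
      rw [this]
      exact L.mul_mem hl (L.inv_mem (hNL hn))
    exact Subgroup.mul_mem_sup (Subgroup.mem_inf.mpr ⟨hhL, hh⟩) hn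
  have hVcop : (Nat.card N).Coprime (Nat.card V) :=
    Nat.Coprime.coprime_dvd_right (Subgroup.card_dvd_of_le inf_le_right) hcopNH
  have hVcard : Nat.card V = Nat.card U := by
    have h1 := card_sup_of_coprime_of_le_normalizer N V (hVL.trans hLN) hVcop
    rw [hVN, hLcard] at h1
    exact (Nat.eq_of_mul_eq_mul_left Nat.card_pos h1).symm
  have hNsolv : Group.IsSolvable N := isSolvable_of_le hNH₀ hs
  obtain ⟨g, hgL, hg⟩ := sz_conj_in L N U V hNL hUL hVL hLN hLcard hUc hVcard (Or.inl hNsolv)
  have hAL : A ≤ Subgroup.normalizer (L : Set X) := le_normalizer_sup hAU hAN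
  have hAV : A ≤ Subgroup.normalizer (V : Set X) :=
    (le_inf hAL hAH).trans Subgroup.inf_normalizer_le_normalizer_inf
  have hcopL : (Nat.card A).Coprime (Nat.card L) :=
    Nat.Coprime.coprime_dvd_right (Subgroup.card_dvd_of_le hLH₀) hcop
  obtain ⟨c, hc, hcUV⟩ := exists_centralizer_conj hAL hcopL (Or.inr (isSolvable_of_le hLH₀ hs))
    hAU hAV ⟨g, hgL, hg⟩
  obtain ⟨hcL, hcA⟩ := Subgroup.mem_inf.mp hc
  refine ⟨c⁻¹, Subgroup.mem_inf.mpr ⟨H₀.inv_mem (hLH₀ hcL), Subgroup.inv_mem _ hcA⟩, ?_⟩
  have h1 : MulAut.conj c • U ≤ H := by rw [hcUV]; exact inf_le_right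
  have h2 : MulAut.conj c⁻¹ • (MulAut.conj c • U) ≤ MulAut.conj c⁻¹ • H :=
    Subgroup.pointwise_smul_le_pointwise_smul_iff.mpr h1
  rwa [conj_smul_conj_smul, inv_mul_cancel, map_one, one_smul] at h2


/-- A nontrivial solvable normal subgroup `G` of a finite group `X` contains a nontrivial
`p`-subgroup that is normal in `X`. -/
theorem exists_normal_pSubgroup_le [Finite X] (G : Subgroup X) [hGn : G.Normal]
    (hs : Group.IsSolvable G) (hne : G ≠ ⊥) :
    ∃ p : ℕ, p.Prime ∧ ∃ N : Subgroup X, N.Normal ∧ N ≤ G ∧ IsPGroup p N ∧ N ≠ ⊥ := by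
  have hnt : Nontrivial G := (Subgroup.nontrivial_iff_ne_bot G).mpr hne
  obtain ⟨A₀, hA₀char, hA₀comm, hA₀ne⟩ := exists_char_abelian_of_solvable hs
  set D : Subgroup X := A₀.map G.subtype with hD
  have hDn : D.Normal := ConjAct.normal_of_characteristic_of_normal
  have hDG : D ≤ G := Subgroup.map_subtype_le _
  have hDcomm : IsMulCommutative D := Subgroup.map_isMulCommutative A₀ G.subtype
  have hDne : D ≠ ⊥ := by
    intro h
    rw [hD, Subgroup.map_eq_bot_iff_of_injective _ G.subtype_injective] at h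
    exact hA₀ne h
  have hcard : Nat.card D ≠ 1 := fun h => hDne (Subgroup.card_eq_one.mp h)
  obtain ⟨p, hp, hpdvd⟩ := Nat.exists_prime_and_dvd hcard
  have : Fact p.Prime := ⟨hp⟩
  let S : Sylow p D := default
  have hSnormal : (S : Subgroup D).Normal := inferInstance
  have hSchar : (S : Subgroup D).Characteristic := Sylow.characteristic_of_normal S hSnormal
  refine ⟨p, hp, (S : Subgroup D).map D.subtype, ConjAct.normal_of_characteristic_of_normal,
    (Subgroup.map_subtype_le _).trans hDG, S.isPGroup'.map _, ?_⟩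
  intro hbot
  rw [Subgroup.map_eq_bot_iff_of_injective _ D.subtype_injective] at hbot
  exact Sylow.ne_bot_of_dvd_card S hpdvd hbot


/-- Coprime action: dominance, for `G` normal in the ambient group (induction on `|G|`). -/
theorem exists_invariant_hall_ge_aux (n : ℕ) : ∀ (X : Type u) [Group X] [Finite X]
    (A G U : Subgroup X), G.Normal → Nat.card G = n → (Nat.card A).Coprime (Nat.card G) →
    Group.IsSolvable G → U ≤ G → A ≤ Subgroup.normalizer (U : Set X) → ∀ m k : ℕ,
    Nat.card G = m * k → m.Coprime k → (Nat.card U).Coprime k →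
    ∃ H : Subgroup X, H ≤ G ∧ Nat.card H = m ∧ A ≤ Subgroup.normalizer (H : Set X) ∧ U ≤ H := by
  induction n using Nat.strong_induction_on with
  | _ n IH =>
  intro X _ _ A G U hGn hGcard hcop hs hUG hAU m k hmk hcopmk hUk
  by_cases hG1 : G = ⊥
  · refine ⟨⊥, bot_le, ?_, ?_, ?_⟩
    · have h1 : Nat.card G = 1 := by rw [hG1]; exact Subgroup.card_bot
      rw [h1] at hmk
      rw [Subgroup.card_bot]
      exact (Nat.eq_one_of_mul_eq_one_right hmk.symm).symm
    · intro a _
      rw [mem_normalizer_iff_conj_smul]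
      exact Subgroup.smul_bot _
    · rw [← hG1]; exact hUG
  · obtain ⟨p, hp, N, hNn, hNG, hNp, hNne⟩ := exists_normal_pSubgroup_le G hs hG1
    have hpf : Fact p.Prime := ⟨hp⟩
    set f := QuotientGroup.mk' N with hf
    have hfs : Function.Surjective f := QuotientGroup.mk'_surjective N
    have hker : f.ker = N := QuotientGroup.ker_mk' N
    have hNcard1 : 1 < Nat.card N := by
      rcases Nat.lt_or_ge 1 (Nat.card N) with h | h
      · exact h
      · exfalso
        apply hNne
        apply Subgroup.card_eq_one.mp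
        have := Nat.card_pos (α := N)
        omega
    have hG'card : Nat.card (G.map f) * Nat.card N = Nat.card G := by
      have := card_map_mul_card_ker_of_le f G (by rw [hker]; exact hNG)
      rwa [hker] at this
    have hlt : Nat.card (G.map f) < n := by
      rw [← hGcard, ← hG'card]
      have : 0 < Nat.card (G.map f) := Nat.card_pos
      nlinarith
    have hG'n : (G.map f).Normal := hGn.map f hfs
    have hcop' : (Nat.card (A.map f)).Coprime (Nat.card (G.map f)) := by
      apply Nat.Coprime.coprime_dvd_left _ (Nat.Coprime.coprime_dvd_right _ hcop)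
      · exact Dvd.intro _ (card_map_mul_card_inf_ker f A)
      · exact Dvd.intro _ hG'card
    have hs' : Group.IsSolvable (G.map f) := by
      have := hs
      exact Group.isSolvable_of_surjective (f := f.subgroupMap G) (f.subgroupMap_surjective G)
    have hUG' : U.map f ≤ G.map f := Subgroup.map_mono hUG
    have hAU' : A.map f ≤ Subgroup.normalizer ((U.map f : Subgroup _) : Set _) :=
      (Subgroup.map_mono hAU).trans (Subgroup.le_normalizer_map f)
    have hU'dvd : Nat.card (U.map f) ∣ Nat.card U := Dvd.intro _ (card_map_mul_card_inf_ker f U)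
    obtain ⟨a, ha⟩ := hNp.exists_card_eq
    have hpp : IsPrimePow (Nat.card N) := by
      rw [ha]
      refine ⟨p, a, hp.prime, ?_, rfl⟩
      rcases Nat.eq_zero_or_pos a with h | h
      · rw [h, pow_zero] at ha; omega
      · exact h
    have hNdvd : Nat.card N ∣ m * k := by rw [← hmk]; exact Subgroup.card_dvd_of_le hNG
    have hcomapG : ∀ H' : Subgroup (X ⧸ N), H' ≤ G.map f → H'.comap f ≤ G := by
      intro H' hH'
      calc H'.comap f ≤ (G.map f).comap f := Subgroup.comap_mono hH'
        _ = G ⊔ f.ker := Subgroup.comap_map_eq f G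
        _ = G := by rw [hker]; exact sup_eq_left.mpr hNG
    have hcomapA : ∀ H' : Subgroup (X ⧸ N), A.map f ≤ Subgroup.normalizer (H' : Set (X ⧸ N)) →
        A ≤ Subgroup.normalizer ((H'.comap f : Subgroup X) : Set X) := by
      intro H' hH'
      calc A ≤ (A.map f).comap f := Subgroup.le_comap_map f A
        _ ≤ (Subgroup.normalizer (H' : Set (X ⧸ N))).comap f := Subgroup.comap_mono hH'
        _ ≤ _ := Subgroup.le_normalizer_comap f
    rcases (Nat.Coprime.isPrimePow_dvd_mul hcopmk hpp).mp hNdvd with hNm | hNk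
    · obtain ⟨m', hm'⟩ := hNm
      have hG'mk : Nat.card (G.map f) = m' * k := by
        have : Nat.card (G.map f) * Nat.card N = (m' * k) * Nat.card N := by
          rw [hG'card, hmk, hm']; ring
        exact Nat.eq_of_mul_eq_mul_right (by omega) this
      have hcop'' : m'.Coprime k :=
        Nat.Coprime.coprime_dvd_left (Dvd.intro_left _ hm'.symm) hcopmk
      obtain ⟨H', hH'G, hH'c, hAH', hUH'⟩ := IH _ hlt (X ⧸ N) (A.map f) (G.map f) (U.map f) hG'n
        rfl hcop' hs' hUG' hAU' m' k hG'mk hcop'' (Nat.Coprime.coprime_dvd_left hU'dvd hUk)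
      refine ⟨H'.comap f, hcomapG H' hH'G, ?_, hcomapA H' hAH', Subgroup.map_le_iff_le_comap.mp hUH'⟩
      rw [card_comap_of_surjective f hfs, hH'c, hker, hm']; ring
    · obtain ⟨k', hk'⟩ := hNk
      have hG'mk : Nat.card (G.map f) = m * k' := by
        have : Nat.card (G.map f) * Nat.card N = (m * k') * Nat.card N := by
          rw [hG'card, hmk, hk']; ring
        exact Nat.eq_of_mul_eq_mul_right (by omega) this
      have hcop'' : m.Coprime k' :=
        Nat.Coprime.coprime_dvd_right (Dvd.intro_left _ hk'.symm) hcopmk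
      obtain ⟨H', hH'G, hH'c, hAH', hUH'⟩ := IH _ hlt (X ⧸ N) (A.map f) (G.map f) (U.map f) hG'n
        rfl hcop' hs' hUG' hAU' m k' hG'mk hcop''
        (Nat.Coprime.coprime_dvd_left hU'dvd
          (Nat.Coprime.coprime_dvd_right (Dvd.intro_left _ hk'.symm) hUk))
      set H₀ : Subgroup X := H'.comap f with hH₀
      have hH₀G : H₀ ≤ G := hcomapG H' hH'G
      have hH₀card : Nat.card H₀ = m * Nat.card N := by
        rw [hH₀, card_comap_of_surjective f hfs, hH'c, hker]
      have hAH₀ : A ≤ Subgroup.normalizer (H₀ : Set X) := hcomapA H' hAH'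
      have hUH₀ : U ≤ H₀ := Subgroup.map_le_iff_le_comap.mp hUH'
      have hNH₀ : N ≤ H₀ := by
        have := f.ker_le_comap H'
        rwa [hker] at this
      have hNk : Nat.card N ∣ k := Dvd.intro _ hk'.symm
      have hcopNm : (Nat.card N).Coprime m := (Nat.Coprime.coprime_dvd_right hNk hcopmk).symm
      have hsH₀ : Group.IsSolvable H₀ := isSolvable_of_le hH₀G hs
      have hcopAH₀ : (Nat.card A).Coprime (Nat.card H₀) :=
        Nat.Coprime.coprime_dvd_right (Subgroup.card_dvd_of_le hH₀G) hcop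
      obtain ⟨H, hHH₀, hHc, hAH⟩ := exists_invariant_hall hAH₀ hcopAH₀ hsH₀ m (Nat.card N)
        hH₀card hcopNm.symm
      have hNtop : Subgroup.normalizer (N : Set X) = ⊤ := Subgroup.normalizer_eq_top N
      obtain ⟨c, hc, hUc⟩ := exists_conj_ge_of_normal_hall hcopAH₀ hsH₀ hNH₀
        (by rw [hNtop]; exact le_top) (by rw [hNtop]; exact le_top) hHH₀
        (by rw [hH₀card, hHc, mul_comm]) (by rw [hHc]; exact hcopNm) hAH hUH₀ hAU
        (Nat.Coprime.coprime_dvd_left hNk hUk.symm)
      obtain ⟨hcH₀, hcA⟩ := Subgroup.mem_inf.mp hc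
      exact ⟨MulAut.conj c • H,
        (conj_smul_le_of_mem_normalizer (Subgroup.le_normalizer hcH₀) hHH₀).trans hH₀G,
        by rw [card_conj_smul, hHc], le_normalizer_conj_smul_of_mem_centralizer hcA hAH, hUc⟩


/-- Coprime action: every `A`-invariant subgroup of `G` of order prime to `k` lies in an
`A`-invariant Hall subgroup of order `m`, where `|G| = m k` with `m`, `k` coprime. -/
theorem exists_invariant_hall_ge [Finite X] {A G U : Subgroup X}
    (hAG : A ≤ Subgroup.normalizer (G : Set X)) (hcop : (Nat.card A).Coprime (Nat.card G))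
    (hs : Group.IsSolvable G) (hUG : U ≤ G) (hAU : A ≤ Subgroup.normalizer (U : Set X))
    (m k : ℕ) (hmk : Nat.card G = m * k) (hcopmk : m.Coprime k) (hUk : (Nat.card U).Coprime k) :
    ∃ H : Subgroup X, H ≤ G ∧ Nat.card H = m ∧ A ≤ Subgroup.normalizer (H : Set X) ∧ U ≤ H := by
  set Y : Subgroup X := Subgroup.normalizer (G : Set X) with hY
  have hGY : G ≤ Y := Subgroup.le_normalizer
  have hUY : U ≤ Y := hUG.trans hGY
  have hGn : (G.subgroupOf Y).Normal := Subgroup.normal_in_normalizer
  have hAU' : A.subgroupOf Y ≤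
      Subgroup.normalizer ((U.subgroupOf Y : Subgroup Y) : Set Y) := by
    rw [← Subgroup.subgroupOf_normalizer_eq hUY]
    exact Subgroup.comap_mono hAU
  obtain ⟨H', hH'G, hH'c, hAH', hUH'⟩ := exists_invariant_hall_ge_aux _ Y (A.subgroupOf Y)
    (G.subgroupOf Y) (U.subgroupOf Y) hGn rfl
    (by rw [card_subgroupOf_of_le hAG, card_subgroupOf_of_le hGY]; exact hcop)
    (isSolvable_subgroupOf_of_le hGY hs) (Subgroup.comap_mono hUG) hAU' m k
    (by rw [card_subgroupOf_of_le hGY]; exact hmk) hcopmk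
    (by rw [card_subgroupOf_of_le hUY]; exact hUk)
  refine ⟨H'.map Y.subtype, ?_, ?_, ?_, ?_⟩
  · rw [Subgroup.map_le_iff_le_comap]
    exact hH'G
  · rw [Subgroup.card_map_of_injective Y.subtype_injective, hH'c]
  · calc A = (A.subgroupOf Y).map Y.subtype := (Subgroup.map_subgroupOf_eq_of_le hAG).symm
      _ ≤ (Subgroup.normalizer (H' : Set Y)).map Y.subtype := Subgroup.map_mono hAH'
      _ ≤ _ := Subgroup.le_normalizer_map Y.subtype
  · calc U = (U.subgroupOf Y).map Y.subtype := (Subgroup.map_subgroupOf_eq_of_le hUY).symm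
      _ ≤ H'.map Y.subtype := Subgroup.map_mono hUH'

end Cfsg.Agent.Lib.Helper32
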