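import Mathlib

set_option autoImplicit false

namespace Cfsg.Agent.Lib.Helper32

open scoped commutatorElement

/-- A nilpotent group with cyclic abelianization is abelian. -/
theorem commutator_eq_bot_of_nilpotent_of_cyclic (T : Type*) [Group T] [hT : Group.IsNilpotent T]
    [hc : IsCyclic (Abelianization T)] : commutator T = ⊥ := by
  have hγC : ⁅commutator T, (⊤ : Subgroup T)⁆ ≤ commutator T := Subgroup.commutator_le_left _ _
  let f : T ⧸ ⁅commutator T, (⊤ : Subgroup T)⁆ →* Abelianization T :=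
    QuotientGroup.map ⁅commutator T, (⊤ : Subgroup T)⁆ (commutator T) (MonoidHom.id T)
      (by intro x hx; exact hγC hx)
  have hker : f.ker ≤ Subgroup.center (T ⧸ ⁅commutator T, (⊤ : Subgroup T)⁆) := by
    intro x hx
    obtain ⟨c, rfl⟩ := QuotientGroup.mk'_surjective _ x
    have hc' : c ∈ commutator T := by
      have h1 : f (QuotientGroup.mk' _ c) = 1 := hx
      have h2 : f (QuotientGroup.mk' _ c) = Abelianization.of c := rfl
      rw [h2, ← MonoidHom.mem_ker, Abelianization.ker_of] at h1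
      exact h1
    rw [Subgroup.mem_center_iff]
    intro y
    obtain ⟨t, rfl⟩ := QuotientGroup.mk'_surjective _ y
    have h3 : ⁅c, t⁆ ∈ ⁅commutator T, (⊤ : Subgroup T)⁆ :=
      Subgroup.commutator_mem_commutator hc' (Subgroup.mem_top t)
    have h4 : (QuotientGroup.mk' ⁅commutator T, (⊤ : Subgroup T)⁆) ⁅c, t⁆ = 1 := by
      rw [QuotientGroup.mk'_apply]; exact (QuotientGroup.eq_one_iff _).2 h3
    rw [map_commutatorElement, commutatorElement_eq_one_iff_mul_comm] at h4
    exact h4.symm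
  have hcomm : IsMulCommutative (T ⧸ ⁅commutator T, (⊤ : Subgroup T)⁆) :=
    f.isMulCommutative_of_isCyclic_of_ker_le_center hker
  have hCγ : commutator T ≤ ⁅commutator T, (⊤ : Subgroup T)⁆ :=
    Subgroup.Normal.quotient_commutative_iff_commutator_le.1 hcomm
  have heq : ⁅commutator T, (⊤ : Subgroup T)⁆ = commutator T := le_antisymm hγC hCγ
  have hlcs : ∀ n : ℕ, (⊤ : Subgroup T).lowerCentralSeries (n + 1) = commutator T := by
    intro n
    induction n with
    | zero => exact Subgroup.top_lowerCentralSeries_one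
    | succ n ih => rw [Subgroup.lowerCentralSeries_succ, ih, heq]
  obtain ⟨n, hn⟩ := Subgroup.nilpotent_iff_lowerCentralSeries.1 hT
  cases n with
  | zero =>
    rw [Subgroup.lowerCentralSeries_zero] at hn
    rw [eq_bot_iff, ← hn]; exact le_top
  | succ n => rw [← hlcs n, hn]


theorem eq_one_of_pow_eq_one_of_coprime {A : Type*} [Monoid A] (a : A) (m n : ℕ)
    (hm : a ^ m = 1) (hn : a ^ n = 1) (hcop : m.Coprime n) : a = 1 := by
  have h1 : orderOf a ∣ m := orderOf_dvd_of_pow_eq_one hm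
  have h2 : orderOf a ∣ n := orderOf_dvd_of_pow_eq_one hn
  exact orderOf_eq_one_iff.1 (Nat.eq_one_of_dvd_coprimes hcop h1 h2)

open scoped IsMulCommutative in
/-- A Hall subgroup contained in `G'` lies in its own focal subgroup. -/
theorem le_focalSubgroup_of_le_commutator {G : Type*} [Group G] [Finite G] (H : Subgroup G)
    (hcop : (Nat.card H).Coprime H.index) (hH : H ≤ commutator G) : H ≤ H.focalSubgroup := by
  intro x hx
  have h1 : H.transferFocal x = 1 := by
    rw [← MonoidHom.mem_ker]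
    exact Abelianization.commutator_subset_ker H.transferFocal (hH hx)
  have h2 := H.transferFocal_eq_pow ⟨x, hx⟩
  rw [h1] at h2
  have h3 : ((⟨x, hx⟩ : H) : H ⧸ H.focalSubgroupOf) ^ Nat.card H = 1 := by
    rw [← QuotientGroup.mk_pow, pow_card_eq_one']
    rfl
  have h4 := eq_one_of_pow_eq_one_of_coprime _ _ _ h3 h2.symm hcop
  rw [QuotientGroup.eq_one_iff, Subgroup.focalSubgroupOf_def, Subgroup.mem_subgroupOf] at h4
  exact h4

theorem focalSubgroup_le_commutator_top {G : Type*} [Group G] (H : Subgroup G) :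
    H.focalSubgroup ≤ ⁅H, (⊤ : Subgroup G)⁆ := by
  rw [Subgroup.focalSubgroup_def, Subgroup.closure_le]
  rintro g ⟨_, x, hx, u, rfl⟩
  exact Subgroup.commutator_mem_commutator hx (Subgroup.mem_top u)

/-- If `G = K H` with `H` normal then `[H, G] ≤ [H, K] [H, H]`. -/
theorem commutator_top_le_of_decomp {G : Type*} [Group G] (H K : Subgroup G) [H.Normal]
    (hdec : ∀ g : G, ∃ k ∈ K, ∃ h ∈ H, g = k * h) :
    ⁅H, (⊤ : Subgroup G)⁆ ≤ ⁅H, K⁆ ⊔ ⁅H, H⁆ := by
  rw [Subgroup.commutator_le]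
  intro h hh g _
  obtain ⟨k, hk, h', hh', rfl⟩ := hdec g
  rw [commutatorElement_mul_right_eq_mul_conj, mul_assoc, mul_assoc]
  apply mul_mem (Subgroup.mem_sup_left (Subgroup.commutator_mem_commutator hh hk))
  apply Subgroup.mem_sup_right
  rw [← mul_assoc]
  exact Subgroup.Normal.conj_mem inferInstance _ (Subgroup.commutator_mem_commutator hh hh') k

/-- If `N ≤ H`, `N` normal in the solvable group `G` and `H ≤ N H'`, then `H = N`. -/
theorem le_of_le_sup_commutator {G : Type*} [Group G] [Group.IsSolvable G] (H N : Subgroup G)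
    [N.Normal] (h : H ≤ N ⊔ ⁅H, H⁆) : H ≤ N := by
  have h1 : H.map (QuotientGroup.mk' N) ≤ ⁅H.map (QuotientGroup.mk' N), H.map (QuotientGroup.mk' N)⁆ := by
    have h2 := Subgroup.map_mono (f := QuotientGroup.mk' N) h
    rw [Subgroup.map_sup, Subgroup.map_commutator] at h2
    have h3 : N.map (QuotientGroup.mk' N) = ⊥ := by
      rw [Subgroup.map_eq_bot_iff, QuotientGroup.ker_mk']
    rwa [h3, bot_sup_eq] at h2
  by_contra hne
  have h4 : H.map (QuotientGroup.mk' N) ≠ ⊥ := by
    intro h5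
    rw [Subgroup.map_eq_bot_iff, QuotientGroup.ker_mk'] at h5
    exact hne h5
  exact (Group.IsSolvable.commutator_lt_of_ne_bot h4).not_ge h1


theorem transfer_abelianization_eq_pow {G : Type*} [Group G] (H : Subgroup G) [H.FiniteIndex]
    (c : G) (hc : c ∈ H)
    (hconj : ∀ (g₀ : G) (m : ℕ) (hm : g₀⁻¹ * c ^ m * g₀ ∈ H),
      Abelianization.of (⟨g₀⁻¹ * c ^ m * g₀, hm⟩ : H) = Abelianization.of (⟨c, hc⟩ : H) ^ m) :
    MonoidHom.transfer (Abelianization.of (G := H)) c
      = (Abelianization.of (⟨c, hc⟩ : H)) ^ H.index := by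
  have : Fintype (Quotient (MulAction.orbitRel (Subgroup.zpowers c) (G ⧸ H))) :=
    Fintype.ofFinite _
  rw [Subgroup.index_eq_sum_minimalPeriod H c, ← Finset.prod_pow_eq_pow_sum,
    MonoidHom.transfer_eq_prod_quotient_orbitRel_zpowers_quot]
  apply Finset.prod_congr rfl
  intro q _
  apply hconj

/-- If `H` is a normal Hall subgroup of `G = K H` contained in `G'`, then `C_H(K) ≤ H'`. -/
theorem inf_centralizer_le_commutator {G : Type*} [Group G] [Finite G] (H K : Subgroup G)
    [H.Normal] (hcop : (Nat.card H).Coprime H.index)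
    (hdec : ∀ g : G, ∃ k ∈ K, ∃ h ∈ H, g = k * h) (hH : H ≤ commutator G) :
    H ⊓ Subgroup.centralizer (K : Set G) ≤ ⁅H, H⁆ := by
  intro c hc
  have hcH : c ∈ H := hc.1
  have hcK : ∀ k ∈ K, k * c = c * k := by
    have := hc.2
    rw [Subgroup.coe_toSubmonoid, SetLike.mem_coe, Subgroup.mem_centralizer_iff] at this
    exact this
  have hconj : ∀ (g₀ : G) (m : ℕ) (hm : g₀⁻¹ * c ^ m * g₀ ∈ H),
      Abelianization.of (⟨g₀⁻¹ * c ^ m * g₀, hm⟩ : H) = Abelianization.of (⟨c, hcH⟩ : H) ^ m := by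
    intro g₀ m hm
    obtain ⟨k, hk, h, hh, rfl⟩ := hdec g₀
    have hkc : k⁻¹ * c ^ m * k = c ^ m := by
      have h1 : Commute k c := hcK k hk
      have h2 : Commute k (c ^ m) := h1.pow_right m
      rw [mul_assoc, ← h2.eq, inv_mul_cancel_left]
    have h3 : (⟨(k * h)⁻¹ * c ^ m * (k * h), hm⟩ : H) = ⟨h, hh⟩⁻¹ * ⟨c, hcH⟩ ^ m * ⟨h, hh⟩ := by
      apply Subtype.ext
      simp only [Subgroup.coe_mul, Subgroup.coe_inv, Subgroup.coe_pow]
      calc (k * h)⁻¹ * c ^ m * (k * h) = h⁻¹ * (k⁻¹ * c ^ m * k) * h := by group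
        _ = h⁻¹ * c ^ m * h := by rw [hkc]
    rw [h3, map_mul, map_mul, map_inv, map_pow, mul_comm, ← mul_assoc, mul_inv_cancel, one_mul]
  have h1 := transfer_abelianization_eq_pow H c hcH hconj
  have h2 : MonoidHom.transfer (Abelianization.of (G := H)) c = 1 := by
    rw [← MonoidHom.mem_ker]
    exact Abelianization.commutator_subset_ker _ (hH hcH)
  rw [h2] at h1
  have h3 : Abelianization.of (⟨c, hcH⟩ : H) ^ Nat.card H = 1 := by
    rw [← map_pow, pow_card_eq_one', map_one]
  have h4 := eq_one_of_pow_eq_one_of_coprime _ _ _ h3 h1.symm hcop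
  rw [← MonoidHom.mem_ker, Abelianization.ker_of] at h4
  rw [← Subgroup.map_subtype_commutator]
  exact ⟨_, h4, rfl⟩

end Cfsg.Agent.Lib.Helper32
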