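import Mathlib
import Cfsg.Agent.Lib.Helper32.HallComm

set_option autoImplicit false

namespace Cfsg.Agent.Lib.Helper32

open scoped commutatorElement

/-- The largest normal subgroup of order coprime to `q`. -/
def qPrimeCore (q : ℕ) (N : Type*) [Group N] : Subgroup N :=
  sSup {M : Subgroup N | M.Normal ∧ (Nat.card M).Coprime q}

theorem qPrimeCore_normal (q : ℕ) (N : Type*) [Group N] : (qPrimeCore q N).Normal :=
  Subgroup.sSup_normal _ (fun _ h => h.1)

theorem le_qPrimeCore {q : ℕ} {N : Type*} [Group N] {M : Subgroup N} (hM : M.Normal)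
    (hc : (Nat.card M).Coprime q) : M ≤ qPrimeCore q N :=
  le_sSup ⟨hM, hc⟩

theorem sSup_mem_of_sup_closed'' {G : Type*} [Group G] [Finite G] (S : Set (Subgroup G))
    (hbot : ⊥ ∈ S) (hsup : ∀ A ∈ S, ∀ B ∈ S, A ⊔ B ∈ S) : sSup S ∈ S := by
  classical
  have hfin : S.Finite := Set.toFinite S
  have : sSup S = hfin.toFinset.sup id := by
    rw [Finset.sup_id_eq_sSup]; simp
  rw [this]
  apply Finset.sup_induction (p := fun A => A ∈ S) hbot
  · intro a ha b hb; exact hsup a ha b hb
  · intro b hb; simpa using hb

theorem card_qPrimeCore_coprime {N : Type*} [Group N] [Finite N] (q : ℕ) :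
    (Nat.card (qPrimeCore q N)).Coprime q := by
  have := sSup_mem_of_sup_closed'' {M : Subgroup N | M.Normal ∧ (Nat.card M).Coprime q}
    ⟨inferInstance, by simp⟩ (by
      rintro A ⟨hA, hAc⟩ B ⟨hB, hBc⟩
      refine ⟨inferInstance, ?_⟩
      have h : Nat.card (A ⊔ B : Subgroup N) = Nat.card B * B.relIndex A := by
        rw [← Subgroup.relIndex_bot_left, ← Subgroup.relIndex_bot_left,
          ← Subgroup.relIndex_mul_relIndex ⊥ B (A ⊔ B) bot_le le_sup_right,
          Subgroup.relIndex_sup_right]
      rw [h]
      exact Nat.Coprime.mul_left hBc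
        (Nat.Coprime.coprime_dvd_left (Subgroup.relIndex_dvd_card B A) hAc))
  exact this.2

theorem qPrimeCore_characteristic (q : ℕ) (N : Type*) [Group N] [Finite N] :
    (qPrimeCore q N).Characteristic := by
  rw [Subgroup.characteristic_iff_map_le]
  intro φ
  apply le_qPrimeCore
  · exact Subgroup.Normal.map (qPrimeCore_normal q N) _ φ.surjective
  · rw [Subgroup.card_map_of_injective φ.injective]
    exact card_qPrimeCore_coprime q

/-- In a finite nilpotent group the index of `O_{q'}` is a power of `q`. -/
theorem index_qPrimeCore_of_nilpotent {N : Type*} [Group N] [Finite N] [hN : Group.IsNilpotent N]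
    (q : ℕ) (hq : q.Prime) : ∃ a : ℕ, (qPrimeCore q N).index = q ^ a := by
  refine ⟨_, Nat.eq_prime_pow_of_unique_prime_dvd (Subgroup.index_ne_zero_of_finite) ?_⟩
  intro d hd hdvd
  by_contra hne
  have : Fact d.Prime := ⟨hd⟩
  obtain P : Sylow d N := default
  have hPn : (P : Subgroup N).Normal :=
    Sylow.normal_of_normalizerCondition Group.normalizerCondition_of_isNilpotent P
  have hPc : (Nat.card (P : Subgroup N)).Coprime q := by
    obtain ⟨k, hk⟩ := IsPGroup.iff_card.1 P.2
    rw [hk]
    exact Nat.Coprime.pow_left _ ((Nat.coprime_primes hd hq).2 hne)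
  have hle : (P : Subgroup N) ≤ qPrimeCore q N := le_qPrimeCore hPn hPc
  exact P.not_dvd_index (hdvd.trans (Subgroup.index_dvd_of_le hle))

/-- If `G'` is nilpotent of prime index `q` then `q` does not divide `|G'|`. -/
theorem card_commutator_coprime_index {G : Type*} [Group G] [Finite G]
    (hnil : Group.IsNilpotent ↥(commutator G)) (hq : (commutator G).index.Prime) :
    (Nat.card ↥(commutator G)).Coprime (commutator G).index := by
  set q := (commutator G).index with hqdef
  have : Fact q.Prime := ⟨hq⟩
  have := qPrimeCore_characteristic q ↥(commutator G)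
  set R : Subgroup G := (qPrimeCore q ↥(commutator G)).map (commutator G).subtype with hR
  have hRchar : R.Characteristic := inferInstance
  have hRn : R.Normal := inferInstance
  have hRN : R ≤ commutator G := Subgroup.map_subtype_le _
  obtain ⟨a, ha⟩ := index_qPrimeCore_of_nilpotent (N := ↥(commutator G)) q hq
  have hRidx : R.index = q ^ (a + 1) := by
    rw [hR, Subgroup.index_map_subtype, ha, pow_succ]
  have hpg : IsPGroup q (G ⧸ R) := IsPGroup.of_card (n := a + 1) (by rw [← hRidx]; rfl)
  have : Group.IsNilpotent (G ⧸ R) := hpg.isNilpotent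
  have hsurj : Function.Surjective (QuotientGroup.mk' R) := QuotientGroup.mk'_surjective R
  have hcomm : commutator (G ⧸ R) = (commutator G).map (QuotientGroup.mk' R) := by
    rw [map_commutator_eq, MonoidHom.range_eq_top.2 hsurj, commutator_def]
  have hidx : (commutator (G ⧸ R)).index = q := by
    rw [hcomm, Subgroup.index_map_eq (commutator G) hsurj (by rw [QuotientGroup.ker_mk']; exact hRN)]
  have : IsCyclic (Abelianization (G ⧸ R)) := by
    have : Fact (Nat.card (Abelianization (G ⧸ R))).Prime := ⟨by
      have : Nat.card (Abelianization (G ⧸ R)) = (commutator (G ⧸ R)).index := rfl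
      rw [this, hidx]; exact hq⟩
    exact isCyclic_of_prime_card rfl
  have hbot := commutator_eq_bot_of_nilpotent_of_cyclic (G ⧸ R)
  rw [hcomm, Subgroup.map_eq_bot_iff, QuotientGroup.ker_mk'] at hbot
  have hcard : Nat.card ↥(commutator G) = Nat.card ↥(qPrimeCore q ↥(commutator G)) := by
    have h1 : commutator G = R := le_antisymm hbot hRN
    have h2 : Nat.card ↥R = Nat.card ↥(qPrimeCore q ↥(commutator G)) :=
      Subgroup.card_map_of_injective (Subgroup.subtype_injective _)
    rw [← h2, ← h1]
  rw [hcard]
  exact card_qPrimeCore_coprime q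

end Cfsg.Agent.Lib.Helper32
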