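import Mathlib

set_option autoImplicit false

namespace Cfsg.Agent.Lib.Helper32

open scoped commutatorElement

/-- If `G = N K` with `K` normal then every element is `n * k`. -/
theorem exists_mul_of_sup_eq_top {G : Type*} [Group G] (N K : Subgroup G) [K.Normal]
    (h : N ⊔ K = ⊤) : ∀ g : G, ∃ n ∈ N, ∃ k ∈ K, g = n * k := by
  intro g
  have hg : g ∈ N ⊔ K := by rw [h]; trivial
  rw [← SetLike.mem_coe, Subgroup.mul_normal] at hg
  obtain ⟨n, hn, k', hk', rfl⟩ := Set.mem_mul.1 hg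
  exact ⟨n, hn, k', hk', rfl⟩

/-- If `G = N K` with `K` normal then `G' ≤ K N'`. -/
theorem commutator_le_sup_of_decomp {G : Type*} [Group G] (N K : Subgroup G) [K.Normal]
    (hdec : ∀ g : G, ∃ n ∈ N, ∃ k ∈ K, g = n * k) : commutator G ≤ K ⊔ ⁅N, N⁆ := by
  rw [commutator_eq_closure, Subgroup.closure_le]
  rintro _ ⟨g₁, g₂, rfl⟩
  obtain ⟨n₁, hn₁, k₁, hk₁, rfl⟩ := hdec g₁
  obtain ⟨n₂, hn₂, k₂, hk₂, rfl⟩ := hdec g₂
  have hπ : ∀ n k : G, k ∈ K → (QuotientGroup.mk' K) (n * k) = (QuotientGroup.mk' K) n := by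
    intro n k hk
    have : (QuotientGroup.mk' K) k = 1 := by
      rw [QuotientGroup.mk'_apply]; exact (QuotientGroup.eq_one_iff k).2 hk
    rw [map_mul, this, mul_one]
  have h1 : (QuotientGroup.mk' K) ⁅n₁ * k₁, n₂ * k₂⁆ = (QuotientGroup.mk' K) ⁅n₁, n₂⁆ := by
    rw [map_commutatorElement, map_commutatorElement, hπ n₁ k₁ hk₁, hπ n₂ k₂ hk₂]
  have h2 : ⁅n₁, n₂⁆⁻¹ * ⁅n₁ * k₁, n₂ * k₂⁆ ∈ K := by
    rw [← QuotientGroup.eq]
    exact h1.symm
  have h3 : ⁅n₁ * k₁, n₂ * k₂⁆ = ⁅n₁, n₂⁆ * (⁅n₁, n₂⁆⁻¹ * ⁅n₁ * k₁, n₂ * k₂⁆) := by group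
  rw [SetLike.mem_coe, h3]
  exact mul_mem (Subgroup.mem_sup_right (Subgroup.commutator_mem_commutator hn₁ hn₂))
    (Subgroup.mem_sup_left h2)

/-- If `x ∈ N` is congruent mod `N'` to an element `k ∈ N` of order coprime to that of `x`,
then `x ∈ N'`. -/
theorem mem_commutator_of_coprime_order {G : Type*} [Group G] (N : Subgroup G) (x k m : G)
    (hxN : x ∈ N) (hm : m ∈ ⁅N, N⁆) (hxkm : x = k * m)
    (hcop : (orderOf x).Coprime (orderOf k)) : x ∈ ⁅N, N⁆ := by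
  subst hxkm
  have hmN : m ∈ N := Subgroup.commutator_le_self N hm
  have hkN : k ∈ N := by
    have := mul_mem hxN (inv_mem hmN)
    rwa [mul_inv_cancel_right] at this
  have hm' : (⟨m, hmN⟩ : N) ∈ commutator N := by
    rw [← Subgroup.map_subtype_commutator] at hm
    obtain ⟨m', hm', hmm⟩ := hm
    have : m' = ⟨m, hmN⟩ := Subtype.ext hmm
    rwa [this] at hm'
  have hφ : Abelianization.of (⟨k * m, hxN⟩ : N) = Abelianization.of (⟨k, hkN⟩ : N) := by
    have h1 : (⟨k * m, hxN⟩ : N) = ⟨k, hkN⟩ * ⟨m, hmN⟩ := rfl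
    have h2 : Abelianization.of (⟨m, hmN⟩ : N) = 1 := by
      rw [← MonoidHom.mem_ker, Abelianization.ker_of]; exact hm'
    rw [h1, map_mul, h2, mul_one]
  have ho1 : orderOf (Abelianization.of (⟨k * m, hxN⟩ : N)) ∣ orderOf (k * m) := by
    have := orderOf_map_dvd (Abelianization.of (G := N)) (⟨k * m, hxN⟩ : N)
    rwa [← Subgroup.orderOf_coe] at this
  have ho2 : orderOf (Abelianization.of (⟨k, hkN⟩ : N)) ∣ orderOf k := by
    have := orderOf_map_dvd (Abelianization.of (G := N)) (⟨k, hkN⟩ : N)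
    rwa [← Subgroup.orderOf_coe] at this
  have ho5 : orderOf (Abelianization.of (⟨k * m, hxN⟩ : N)) = 1 :=
    Nat.eq_one_of_dvd_coprimes hcop ho1 (hφ ▸ ho2)
  rw [orderOf_eq_one_iff, ← MonoidHom.mem_ker, Abelianization.ker_of] at ho5
  rw [← Subgroup.map_subtype_commutator]
  exact ⟨_, ho5, rfl⟩

end Cfsg.Agent.Lib.Helper32

namespace Cfsg.Agent.Lib.Helper32

open scoped Pointwise

/-- Product formula when `H` normalizes `P` and `P ∩ H = 1`. -/
theorem card_sup_of_le_normalizer {G : Type*} [Group G] (H P : Subgroup G)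
    (hn : H ≤ Subgroup.normalizer (P : Set G)) (hdisj : P ⊓ H = ⊥) :
    Nat.card (H ⊔ P : Subgroup G) = Nat.card P * Nat.card H := by
  have h1 : ((H ⊔ P : Subgroup G) : Set G) = (H : Set G) * (P : Set G) :=
    Subgroup.coe_mul_of_left_le_normalizer_right H P hn
  have h2 : Nat.card (H ⊔ P : Subgroup G) = Nat.card ((H : Set G) * (P : Set G) : Set G) := by
    rw [← h1]; rfl
  rw [h2, Subgroup.card_mul_eq_card_subgroup_mul_card_quotient]
  congr 1
  apply Nat.card_image_of_injOn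
  intro a ha b hb hab
  have ha' : a ∈ H := ha
  have hb' : b ∈ H := hb
  have h4 : a⁻¹ * b ∈ P := QuotientGroup.eq.1 hab
  have h5 : a⁻¹ * b ∈ H := H.mul_mem (H.inv_mem ha') hb'
  have h3 : a⁻¹ * b ∈ P ⊓ H := Subgroup.mem_inf.2 ⟨h4, h5⟩
  rw [hdisj, Subgroup.mem_bot] at h3
  exact inv_mul_eq_one.1 h3

end Cfsg.Agent.Lib.Helper32
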