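import Mathlib

/-!
# K-S1417-L3: an element of order dividing `p` acting nontrivially on a group of prime order `r`
forces `p ∣ r - 1`
-/

set_option autoImplicit false
set_option linter.style.haveILetI false

namespace Cfsg.Agent.Lib.Helper32.BG117

variable {G : Type*} [Group G] [Finite G]

/-- L3 (number theory).  Conjugation by `a` is an automorphism of the cyclic group `V` of prime order
`r` of order exactly `p`, so `p ∣ r - 1`. -/
theorem dvd_pred_of_acts {p r : ℕ} [Fact p.Prime] [Fact r.Prime] {V : Subgroup G}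
    (hV : Nat.card V = r) {a : G} (haV : a ∈ Subgroup.normalizer (V : Set G)) (hap : a ^ p = 1)
    (hna : a ∉ Subgroup.centralizer (V : Set G)) : p ∣ r - 1 := by
  classical
  have hp : p.Prime := Fact.out
  have hr : r.Prime := Fact.out
  -- a generator of `V`
  haveI : Fact (Nat.card V).Prime := ⟨hV ▸ hr⟩
  haveI hcyc : IsCyclic V := isCyclic_of_prime_card (p := Nat.card V) rfl
  obtain ⟨⟨v, hvV⟩, hgen⟩ := hcyc.exists_generator
  have hVle : ∀ w ∈ V, w ∈ Subgroup.zpowers v := by
    intro w hw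
    obtain ⟨n, hn⟩ := Subgroup.mem_zpowers_iff.mp (hgen ⟨w, hw⟩)
    refine Subgroup.mem_zpowers_iff.mpr ⟨n, ?_⟩
    have := congrArg Subtype.val hn
    simpa using this
  have hord : orderOf v = r := by
    have h1 : orderOf (⟨v, hvV⟩ : V) = Nat.card V := orderOf_eq_card_of_forall_mem_zpowers hgen
    rw [← hV, ← h1]
    exact (Subgroup.orderOf_mk v hvV).symm
  -- the conjugate of `v` is a power of `v`
  have hconj : a * v * a⁻¹ ∈ V := (Subgroup.mem_normalizer_iff.mp haV v).mp hvV
  obtain ⟨k, hk⟩ : ∃ k : ℕ, a * v * a⁻¹ = v ^ k := by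
    have h1 := hVle _ hconj
    have hfin : IsOfFinOrder v := isOfFinOrder_of_finite v
    rw [hfin.mem_zpowers_iff_mem_range_orderOf] at h1
    obtain ⟨k, -, hk⟩ := Finset.mem_image.mp h1
    exact ⟨k, hk.symm⟩
  -- iterate
  have hiter : ∀ j : ℕ, a ^ j * v * (a ^ j)⁻¹ = v ^ (k ^ j) := by
    intro j
    induction j with
    | zero => simp
    | succ j ih =>
      have h1 : a ^ (j + 1) * v * (a ^ (j + 1))⁻¹ = a * (a ^ j * v * (a ^ j)⁻¹) * a⁻¹ := by
        rw [pow_succ']; group
      rw [h1, ih]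
      have h2 : a * v ^ (k ^ j) * a⁻¹ = (a * v * a⁻¹) ^ (k ^ j) := by
        rw [conj_pow]
      rw [h2, hk, ← pow_mul, pow_succ']
  -- `k ^ p ≡ 1 mod r`
  have h1 : v ^ (k ^ p) = v ^ 1 := by
    rw [← hiter p, hap]; simp
  have h2 : k ^ p ≡ 1 [MOD r] := by
    rw [← hord]; exact pow_eq_pow_iff_modEq.mp h1
  -- `k ≢ 1 mod r`
  have h3 : ¬ k ≡ 1 [MOD r] := by
    intro hk1
    apply hna
    rw [Subgroup.mem_centralizer_iff]
    intro w hw
    have hav : a * v * a⁻¹ = v := by
      rw [hk]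
      have : v ^ k = v ^ 1 := pow_eq_pow_iff_modEq.mpr (hord.symm ▸ hk1)
      rw [this, pow_one]
    have hcomm : a * v = v * a := by
      calc a * v = (a * v * a⁻¹) * a := by group
        _ = v * a := by rw [hav]
    obtain ⟨n, rfl⟩ := Subgroup.mem_zpowers_iff.mp (hVle w hw)
    have hc : Commute a v := hcomm
    exact ((hc.zpow_right n).eq).symm
  -- pass to `ZMod r`
  have hu1 : ((k : ZMod r)) ^ p = 1 := by
    have := (ZMod.natCast_eq_natCast_iff (k ^ p) 1 r).mpr h2
    simpa using this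
  have hu2 : (k : ZMod r) ≠ 1 := by
    intro h
    apply h3
    have : ((k : ℕ) : ZMod r) = ((1 : ℕ) : ZMod r) := by simpa using h
    exact (ZMod.natCast_eq_natCast_iff k 1 r).mp this
  have hu0 : (k : ZMod r) ≠ 0 := by
    intro h
    rw [h, zero_pow hp.ne_zero] at hu1
    exact zero_ne_one hu1
  have hord2 : orderOf (k : ZMod r) = p := orderOf_eq_prime hu1 hu2
  rw [← hord2]
  exact ZMod.orderOf_dvd_card_sub_one hu0

end Cfsg.Agent.Lib.Helper32.BG117
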