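import Cfsg.Agent.Lib.Helper32.BG134D2a
import Cfsg.Agent.Lib.Helper18.BG134Fr

/-!
# Bender–Glauberman 13.4, step (D2): `p ∉ τ₂(H)`  (keystone 142852, exact signature)
-/

set_option autoImplicit false

namespace Cfsg.Agent.Lib.Helper32.BG134

open Cfsg Cfsg.Agent.Lib.Helper55 Cfsg.Agent.Lib.Helper16.BG134

variable {G : Type*} [Group G] [Finite G]

variable {M E P R H : Subgroup G} {p : ℕ}

/-- KEYSTONE 142852 (D2): `p ∉ τ₂(H)` in the 13.4 context. -/
theorem p_not_mem_tau2 (c : Ctx M E P R H p) (hnc : ∀ g : G, cj g M ≠ H)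
    (hrσ : Nat.card R ∉ sigma H) : p ∉ tau2 H :=
  p_not_mem_tau2_of_fr
    (fun {_} hL {_} _ hqβ {_} hY => Cfsg.Agent.Lib.Helper18.BG134.frattini_beta c.hG hL hqβ hY)
    c hnc hrσ

end Cfsg.Agent.Lib.Helper32.BG134
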