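import Mathlib
import Cfsg.Agent.S1409
import Cfsg.Agent.Lib.Helper71.BG1310Defs
import Cfsg.Agent.Lib.Helper31.BG134Glue
import Cfsg.Agent.Lib.Helper31.BG12a
import Cfsg.Agent.Lib.Helper58.BG134CJ

/-!
# BG 13.10 pack, keystone 131001 (K-BG1310-A): `local_facts`

`X ≤ M` of prime order `s ∈ τ₁(M) ∪ τ₃(M)`, `H` maximal over `N_G(X)`:
(F0) `s ∈ σ(H) ∪ τ₂(H)` (S1409), (F1) `H` is not conjugate to `M`, (F2) `M_σ ∩ H = C_{M_σ}(X)` (BG 13.1(a)).
-/

set_option autoImplicit false
set_option linter.unusedSectionVars false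
set_option linter.unusedVariables false
set_option linter.style.haveILetI false

namespace Cfsg.Agent.Lib.Helper32.BG1310

open Cfsg Cfsg.Agent.Lib.Helper55 Cfsg.Agent.Lib.Helper31.BG134 Cfsg.Agent.Lib.Helper71.BG1310

variable {G : Type*} [Group G] [Finite G]

/-- **KEYSTONE 131001  K-BG1310-A**. -/
theorem local_facts (hG : IsMinSimpleOddOrder G) {M H X : Subgroup G} (hM : IsCoatom M)
    (hH : IsCoatom H) {s : ℕ} (hs : s ∈ tau1 M ∨ s ∈ tau3 M) (hXM : X ≤ M) (hXc : Nat.card X = s)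
    (hNH : Subgroup.normalizer (X : Set G) ≤ H) :
    (s ∈ sigma H ∨ s ∈ tau2 H) ∧ (∀ g : G, cj g M ≠ H) ∧ sigmaCore M ⊓ H = CP M X := by
  -- the three facts about `s` shared by `τ₁(M)` and `τ₃(M)`
  have hsp : s.Prime := by
    rcases hs with h | h
    · exact h.1
    · exact h.1
  have hsM : s ∉ sigma M := by
    rcases hs with h | h
    · exact h.2.1
    · exact h.2.1
  have hrk : PRankLE s 1 M := by
    rcases hs with h | h
    · exact h.2.2.2.2
    · exact h.2.2.2
  haveI : Fact s.Prime := ⟨hsp⟩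
  have hXH : X ≤ H := Subgroup.le_normalizer.trans hNH
  -- (F0)
  have hcase : s ∈ sigma H ∨ s ∈ tau2 H := by
    by_cases hsσ : s ∈ sigma H
    · left; exact hsσ
    · right
      obtain ⟨⟨h2, h1⟩, -, -⟩ := Cfsg.Agent.S1409.result hG H hH s hsσ X hXc hNH
      exact ⟨hsp, hsσ, h2, h1⟩
  -- (F1)
  have hnc : ∀ g : G, cj g M ≠ H := by
    intro g hg
    subst hg
    rcases hcase with h | h
    · apply hsM
      have := Cfsg.Agent.Lib.Helper31.BG12.mem_sigma_cj h g⁻¹
      rwa [cj_inv_cj] at this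
    · exact h.2.2.2 (Cfsg.Agent.Lib.Helper01.BGNarrow.pRankLE_of_mulEquiv
        (Cfsg.Agent.Lib.Helper58.BG134.cjEquiv g M) hrk)
  -- (F2)
  have hC : sigmaCore M ⊓ H = CP M X := by
    apply le_antisymm
    · have hs1H : s ∉ tau1 H := by
        intro h
        rcases hcase with hsσ | hs2
        · exact h.2.1 hsσ
        · exact hs2.2.2.2 h.2.2.2.2
      have hXp : IsPGroup s X := IsPGroup.of_card (n := 1) (by rw [hXc, pow_one])
      have h1 := lemmaT hG hM hH hnc hsM hs1H hXp hXM hXH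
      intro z hz
      refine ⟨hz.1, ?_⟩
      show z ∈ Subgroup.centralizer (X : Set G)
      rw [Subgroup.mem_centralizer_iff]
      intro y hy
      exact (Subgroup.mem_centralizer_iff.mp (h1 hy) z hz).symm
    · exact le_inf inf_le_left
        (inf_le_right.trans ((Subgroup.centralizer_le_normalizer _).trans hNH))
  exact ⟨hcase, hnc, hC⟩

end Cfsg.Agent.Lib.Helper32.BG1310
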