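import Mathlib

/-!
# A fixed-point lemma for affine maps on a finite torsor (helper32)

`A` a finite commutative group acting on a set `X`, `σ` an automorphism of `A` without nontrivial
fixed points, `τ : X → X` a `σ`-semilinear map (`τ (a • x) = σ a • τ x`).  If `τ` maps the `A`-orbit
of `x₀` into itself, then `τ` has exactly one fixed point on this orbit.
Used for Isaacs 12.4 (S4460).
-/

set_option autoImplicit false
set_option linter.unusedSectionVars false

namespace Cfsg.Agent.Lib.Helper32.Torsor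

variable {A X : Type*} [CommGroup A] [Finite A] [MulAction A X]

/-- `a ↦ σ a * a⁻¹` as a monoid hom. -/
def delta (σ : A →* A) : A →* A where
  toFun a := σ a * a⁻¹
  map_one' := by simp
  map_mul' a b := by
    rw [map_mul, mul_inv]
    exact mul_mul_mul_comm _ _ _ _

theorem delta_apply (σ : A →* A) (a : A) : delta σ a = σ a * a⁻¹ := rfl

theorem delta_injective (σ : A →* A) (hfpf : ∀ a, σ a = a → a = 1) :
    Function.Injective (delta σ) := by
  rw [injective_iff_map_eq_one]
  intro a ha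
  apply hfpf
  rw [delta_apply, mul_inv_eq_one] at ha
  exact ha

theorem delta_surjective (σ : A →* A) (hfpf : ∀ a, σ a = a → a = 1) :
    Function.Surjective (delta σ) :=
  Finite.injective_iff_surjective.mp (delta_injective σ hfpf)

/-- The stabilizer of `x₀` is `σ`-stable when `τ x₀` lies in the orbit of `x₀`. -/
theorem sigma_mem_stabilizer (σ : A →* A) (τ : X → X)
    (hcompat : ∀ (a : A) (x : X), τ (a • x) = σ a • τ x)
    (x₀ : X) (hx₀ : τ x₀ ∈ MulAction.orbit A x₀) {l : A} (hl : l ∈ MulAction.stabilizer A x₀) :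
    σ l ∈ MulAction.stabilizer A x₀ := by
  obtain ⟨b, hb⟩ := hx₀
  rw [MulAction.mem_stabilizer_iff] at hl ⊢
  have h1 : σ l • τ x₀ = τ x₀ := by rw [← hcompat, hl]
  have hb' : b • x₀ = τ x₀ := hb
  rw [← hb', smul_smul, mul_comm, ← smul_smul] at h1
  exact smul_left_cancel b h1

theorem delta_mem_stabilizer (σ : A →* A) (τ : X → X)
    (hcompat : ∀ (a : A) (x : X), τ (a • x) = σ a • τ x)
    (x₀ : X) (hx₀ : τ x₀ ∈ MulAction.orbit A x₀) {l : A} (hl : l ∈ MulAction.stabilizer A x₀) :
    delta σ l ∈ MulAction.stabilizer A x₀ := by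
  rw [delta_apply]
  exact mul_mem (sigma_mem_stabilizer σ τ hcompat x₀ hx₀ hl) (inv_mem hl)

/-- `delta σ c ∈ Λ → c ∈ Λ` for the stabilizer `Λ` of `x₀`. -/
theorem mem_stabilizer_of_delta_mem (σ : A →* A) (τ : X → X)
    (hcompat : ∀ (a : A) (x : X), τ (a • x) = σ a • τ x)
    (hfpf : ∀ a, σ a = a → a = 1)
    (x₀ : X) (hx₀ : τ x₀ ∈ MulAction.orbit A x₀) {c : A}
    (hc : delta σ c ∈ MulAction.stabilizer A x₀) : c ∈ MulAction.stabilizer A x₀ := by
  classical
  let L := MulAction.stabilizer A x₀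
  let f : L → L := fun l => ⟨delta σ l.1, delta_mem_stabilizer σ τ hcompat x₀ hx₀ l.2⟩
  have hf : Function.Injective f := by
    intro a b hab
    apply Subtype.ext
    apply delta_injective σ hfpf
    exact congrArg Subtype.val hab
  have hs : Function.Surjective f := Finite.injective_iff_surjective.mp hf
  obtain ⟨l, hl⟩ := hs ⟨delta σ c, hc⟩
  have : delta σ l.1 = delta σ c := congrArg Subtype.val hl
  have := delta_injective σ hfpf this
  rw [← this]
  exact l.2

/-- **Torsor fixed point lemma.** -/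
theorem existsUnique_fixed (σ : A →* A) (τ : X → X)
    (hcompat : ∀ (a : A) (x : X), τ (a • x) = σ a • τ x)
    (hfpf : ∀ a, σ a = a → a = 1)
    (x₀ : X) (hx₀ : τ x₀ ∈ MulAction.orbit A x₀) :
    ∃! ξ, ξ ∈ MulAction.orbit A x₀ ∧ τ ξ = ξ := by
  obtain ⟨b, hb⟩ := id hx₀
  have hb' : b • x₀ = τ x₀ := hb
  obtain ⟨a, ha⟩ := delta_surjective σ hfpf b⁻¹
  refine ⟨a • x₀, ⟨⟨a, rfl⟩, ?_⟩, ?_⟩
  · rw [hcompat, ← hb', smul_smul]
    have : σ a = b⁻¹ * a := by
      rw [delta_apply] at ha
      rw [← ha]; group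
    rw [this]; congr 1; rw [mul_comm b⁻¹ a, mul_assoc, inv_mul_cancel, mul_one]
  · rintro ξ ⟨⟨a', rfl⟩, hfix⟩
    -- both fixed: δ(a) b, δ(a') b ∈ Λ
    have key : ∀ c : A, τ (c • x₀) = c • x₀ → delta σ c * b ∈ MulAction.stabilizer A x₀ := by
      intro c hc
      rw [MulAction.mem_stabilizer_iff, delta_apply]
      rw [hcompat, ← hb', smul_smul] at hc
      have : (σ c * c⁻¹ * b) • x₀ = c⁻¹ • ((σ c * b) • x₀) := by
        rw [smul_smul]; congr 1
        rw [mul_comm c⁻¹, mul_assoc, mul_assoc, mul_comm c⁻¹ b]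
      rw [this, hc, smul_smul, inv_mul_cancel, one_smul]
    have h1 := key a' hfix
    have h2 : delta σ a * b ∈ MulAction.stabilizer A x₀ := by
      rw [ha, inv_mul_cancel]; exact one_mem _
    have h3 : delta σ (a' * a⁻¹) ∈ MulAction.stabilizer A x₀ := by
      have : delta σ (a' * a⁻¹) = (delta σ a' * b) * (delta σ a * b)⁻¹ := by
        rw [map_mul, map_inv, mul_inv_rev]
        rw [mul_assoc, ← mul_assoc b, mul_inv_cancel, one_mul]
      rw [this]
      exact mul_mem h1 (inv_mem h2)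
    have h4 := mem_stabilizer_of_delta_mem σ τ hcompat hfpf x₀ hx₀ h3
    rw [MulAction.mem_stabilizer_iff] at h4
    calc a' • x₀ = (a' * a⁻¹ * a) • x₀ := by rw [inv_mul_cancel_right]
      _ = a • ((a' * a⁻¹) • x₀) := by rw [smul_smul, mul_comm]
      _ = a • x₀ := by rw [h4]

end Cfsg.Agent.Lib.Helper32.Torsor
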