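import Mathlib
import Cfsg.Prelude.Def_Characters
import Cfsg.Prelude.Def_Blocks
import Cfsg.Agent.Lib.Helper32.Torsor
import Cfsg.Agent.Lib.Helper32.CD3Vanish
import Cfsg.Agent.Lib.Helper84.LinearTwist
import Cfsg.Agent.Lib.Helper84.Clifford
import Cfsg.Agent.Lib.Helper83.Constituent
import Cfsg.Agent.Lib.Helper83.Linear

/-!
# Isaacs 12.4 by the torsor argument (helper32, for S4460)

`K ≤ N` normal in `G`, `G/N` and `N/K` abelian, every `g ∉ N` acts on `N/K` without nontrivial fixed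
points.  Then for `ψ ∈ Irr(N)`: either `|G:N| ψ(1)` is an irreducible character degree of `G`, or
`|N:K|` divides `ψ(1)²`.
-/

set_option autoImplicit false
set_option linter.unusedSectionVars false
set_option linter.style.haveILetI false
set_option linter.unusedVariables false

namespace Cfsg.Agent.Lib.Helper32.CD3

open Cfsg
open scoped ComplexConjugate

universe u

/-- Separation: if `H/L` is abelian and `n ∉ L`, some hom `H → ℂˣ` trivial on `L` is nontrivial at `n`. -/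
theorem exists_sep_hom {H : Type*} [Group H] [Finite H] (L : Subgroup H) [L.Normal]
    (hab : ∀ x y : H, x * y * x⁻¹ * y⁻¹ ∈ L) {n : H} (hn : n ∉ L) :
    ∃ φ : H →* ℂˣ, (∀ k ∈ L, φ k = 1) ∧ φ n ≠ 1 := by
  classical
  have hcomm : ∀ x y : H ⧸ L, x * y = y * x := by
    intro x y
    induction x using QuotientGroup.induction_on with
    | H a =>
      induction y using QuotientGroup.induction_on with
      | H b =>
        rw [← QuotientGroup.mk_mul, ← QuotientGroup.mk_mul, QuotientGroup.eq]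
        have := hab b⁻¹ a⁻¹
        simpa [mul_assoc] using this
  letI : CommGroup (H ⧸ L) := { (inferInstance : Group (H ⧸ L)) with mul_comm := hcomm }
  haveI : NeZero (Monoid.exponent (H ⧸ L)) := ⟨Monoid.exponent_ne_zero_of_finite⟩
  have hne : (QuotientGroup.mk n : H ⧸ L) ≠ 1 := by
    intro h
    exact hn ((QuotientGroup.eq_one_iff n).mp h)
  obtain ⟨φ, hφ⟩ := CommGroup.exists_apply_ne_one_of_hasEnoughRootsOfUnity (H ⧸ L) ℂ hne
  refine ⟨φ.comp (QuotientGroup.mk' L), ?_, ?_⟩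
  · intro k hk
    show φ (QuotientGroup.mk k) = 1
    rw [(QuotientGroup.eq_one_iff k).mpr hk, map_one]
  · exact hφ

/-- Surjectivity of the commutator map mod `L` for a fixed-point-free endomorphism. -/
theorem exists_comm_mod {H : Type*} [Group H] [Finite H] (L : Subgroup H) [L.Normal]
    (hab : ∀ x y : H, x * y * x⁻¹ * y⁻¹ ∈ L) (f : H →* H) (hfL : ∀ k ∈ L, f k ∈ L)
    (hfix : ∀ n : H, f n * n⁻¹ ∈ L → n ∈ L) (n : H) :
    ∃ m : H, (f m * m⁻¹)⁻¹ * n ∈ L := by
  classical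
  have hcomm : ∀ x y : H ⧸ L, x * y = y * x := by
    intro x y
    induction x using QuotientGroup.induction_on with
    | H a =>
      induction y using QuotientGroup.induction_on with
      | H b =>
        rw [← QuotientGroup.mk_mul, ← QuotientGroup.mk_mul, QuotientGroup.eq]
        have := hab b⁻¹ a⁻¹
        simpa [mul_assoc] using this
  have hf : L ≤ L.comap f := fun k hk => hfL k hk
  set γ : H ⧸ L →* H ⧸ L := QuotientGroup.map L L f hf with hγ
  have hγmk : ∀ a : H, γ (QuotientGroup.mk a) = QuotientGroup.mk (f a) := fun a => rfl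
  have hγfix : ∀ r : H ⧸ L, γ r = r → r = 1 := by
    intro r
    induction r using QuotientGroup.induction_on with
    | H a =>
      intro h
      rw [hγmk, QuotientGroup.eq] at h
      rw [QuotientGroup.eq_one_iff]
      -- (f a)⁻¹ * a ∈ L ; want f a * a⁻¹ ∈ L
      apply hfix
      have h2 : a * ((f a)⁻¹ * a)⁻¹ * a⁻¹ ∈ L := by
        have := L.inv_mem h
        exact (inferInstance : L.Normal).conj_mem _ this a
      have h3 : a * ((f a)⁻¹ * a)⁻¹ * a⁻¹ = a * a⁻¹ * f a * a⁻¹ := by group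
      rw [h3, mul_inv_cancel, one_mul] at h2
      exact h2
  let c : H ⧸ L → H ⧸ L := fun q => γ q * q⁻¹
  have hinj : Function.Injective c := by
    intro q q' hc
    have hc' : γ q * q⁻¹ = γ q' * q'⁻¹ := hc
    have h1 : γ q = γ q' * q'⁻¹ * q := by rw [← hc', inv_mul_cancel_right]
    have h2 : γ (q * q'⁻¹) = q * q'⁻¹ := by
      rw [map_mul, map_inv, h1, mul_assoc (γ q'), hcomm (γ q') (q'⁻¹ * q), mul_inv_cancel_right,
        hcomm]
    have h3 := hγfix _ h2
    exact mul_inv_eq_one.mp h3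
  have hsurj : Function.Surjective c := Finite.injective_iff_surjective.mp hinj
  obtain ⟨q, hq⟩ := hsurj (QuotientGroup.mk n)
  induction q using QuotientGroup.induction_on with
  | H m =>
    refine ⟨m, ?_⟩
    have hq' : (QuotientGroup.mk (f m * m⁻¹) : H ⧸ L) = QuotientGroup.mk n := hq
    exact QuotientGroup.eq.mp hq'

section Setup

variable {G : Type u} [Group G] [Fintype G] (N K : Subgroup G) [hN : N.Normal] [hK : K.Normal]
  [Fintype N]

/-- Homs `N → ℂˣ` trivial on `K`. -/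
def linK : Subgroup (↥N →* ℂˣ) where
  carrier := {φ | ∀ n : N, (n : G) ∈ K → φ n = 1}
  mul_mem' := by
    intro a b ha hb n hn
    rw [MonoidHom.mul_apply, ha n hn, hb n hn, one_mul]
  one_mem' := by
    intro n _
    rfl
  inv_mem' := by
    intro a ha n hn
    rw [MonoidHom.inv_apply, ha n hn, inv_one]

theorem mem_linK {φ : ↥N →* ℂˣ} : φ ∈ linK N K ↔ ∀ n : N, (n : G) ∈ K → φ n = 1 := Iff.rfl

/-- The linear character attached to a hom. -/
def linFun (a : ↥N →* ℂˣ) : ↥N → ℂ := fun n => ((a n : ℂˣ) : ℂ)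

theorem linFun_apply (a : ↥N →* ℂˣ) (n : N) : linFun N a n = ((a n : ℂˣ) : ℂ) := rfl

noncomputable instance linKAction : MulAction (linK N K) (IrrCharacter N) where
  smul a ξ := ⟨ξ.1 * linFun N a.1,
    Cfsg.Agent.Lib.Helper84.isIrrCharacter_mul_linear
      (Cfsg.Agent.Lib.Helper83.isCharacter_of_hom a.1) (by simp [linFun]) ξ.2⟩
  one_smul ξ := by
    apply Subtype.ext
    funext n
    show ξ.1 n * linFun N (1 : linK N K).1 n = ξ.1 n
    simp [linFun]
  mul_smul a b ξ := by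
    apply Subtype.ext
    funext n
    show ξ.1 n * linFun N (a * b : linK N K).1 n = ξ.1 n * linFun N b.1 n * linFun N a.1 n
    simp [linFun]
    ring

theorem smul_coe (a : linK N K) (ξ : IrrCharacter N) (n : N) :
    ((a • ξ : IrrCharacter N) : N → ℂ) n = (ξ : N → ℂ) n * ((a.1 n : ℂˣ) : ℂ) := rfl

/-- The action of `g` on `linK`. -/
def sigma (g : G) : linK N K →* linK N K where
  toFun a := ⟨a.1.comp (MulAut.conjNormal g : MulAut N).toMonoidHom, by
    intro n hn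
    show a.1 ((MulAut.conjNormal g : MulAut N) n) = 1
    apply a.2
    rw [MulAut.conjNormal_apply]
    exact hK.conj_mem _ hn g⟩
  map_one' := by
    apply Subtype.ext
    exact MonoidHom.ext fun _ => rfl
  map_mul' a b := by
    apply Subtype.ext
    exact MonoidHom.ext fun _ => rfl

theorem sigma_coe (g : G) (a : linK N K) (n : N) :
    (sigma N K g a).1 n = a.1 ((MulAut.conjNormal g : MulAut N) n) := rfl

/-- The action of `g` on `Irr(N)`. -/
noncomputable def tau (g : G) (ξ : IrrCharacter N) : IrrCharacter N :=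
  ⟨Cfsg.Agent.Lib.Helper84.conjFun N g ξ.1, Cfsg.Agent.Lib.Helper84.isIrrCharacter_conjFun N g ξ.2⟩

theorem tau_coe (g : G) (ξ : IrrCharacter N) (n : N) :
    (tau N g ξ : N → ℂ) n = (ξ : N → ℂ) ((MulAut.conjNormal g : MulAut N) n) := by
  show Cfsg.Agent.Lib.Helper84.conjFun N g ξ.1 n = _
  rw [Cfsg.Agent.Lib.Helper84.conjFun_eq_comp]

theorem tau_smul (g : G) (a : linK N K) (ξ : IrrCharacter N) :
    tau N g (a • ξ) = sigma N K g a • tau N g ξ := by
  apply Subtype.ext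
  funext n
  rw [tau_coe, smul_coe, smul_coe, tau_coe, sigma_coe]

theorem sigma_fpf (hNK : ∀ x ∈ N, ∀ y ∈ N, x * y * x⁻¹ * y⁻¹ ∈ K)
    (hfrob : ∀ g : G, g ∉ N → ∀ n ∈ N, g * n * g⁻¹ * n⁻¹ ∈ K → n ∈ K)
    {g : G} (hg : g ∉ N) (a : linK N K) (h : sigma N K g a = a) : a = 1 := by
  apply Subtype.ext
  apply MonoidHom.ext
  intro n
  show a.1 n = 1
  have hab : ∀ x y : N, x * y * x⁻¹ * y⁻¹ ∈ K.subgroupOf N := by
    intro x y
    rw [Subgroup.mem_subgroupOf]
    simpa using hNK x x.2 y y.2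
  obtain ⟨m, hm⟩ := exists_comm_mod (K.subgroupOf N) hab
    (MulAut.conjNormal g : MulAut N).toMonoidHom
    (by
      intro k hk
      rw [Subgroup.mem_subgroupOf] at hk ⊢
      show (((MulAut.conjNormal g : MulAut N) k : N) : G) ∈ K
      rw [MulAut.conjNormal_apply]
      exact hK.conj_mem _ hk g)
    (by
      intro n hn
      rw [Subgroup.mem_subgroupOf] at hn ⊢
      apply hfrob g hg n n.2
      have : (((MulAut.conjNormal g : MulAut N) n * n⁻¹ : N) : G) = g * n * g⁻¹ * (n : G)⁻¹ := by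
        rw [Subgroup.coe_mul, MulAut.conjNormal_apply, Subgroup.coe_inv]
      rw [← this]
      exact hn)
    n
  have h1 : a.1 (((MulAut.conjNormal g : MulAut N).toMonoidHom m * m⁻¹)⁻¹ * n) = 1 := by
    apply a.2
    exact hm
  have h2 : a.1 ((MulAut.conjNormal g : MulAut N).toMonoidHom m) = a.1 m := by
    have := congrArg (fun b : linK N K => b.1 m) h
    exact this
  rw [map_mul, map_inv, map_mul, map_inv, h2, mul_inv_cancel, inv_one, one_mul] at h1
  exact h1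


/-- `n ∈ N` acts trivially on `Irr(N)`. -/
theorem tau_of_mem {g : G} (hg : g ∈ N) (ξ : IrrCharacter N) : tau N g ξ = ξ := by
  apply Subtype.ext
  funext n
  rw [tau_coe]
  have hcl := Cfsg.Agent.Lib.Helper83.char_isClassFunction
    (Cfsg.Agent.Lib.Helper83.isCharacter_of_irr ξ.2)
  have h1 := hcl n ⟨g, hg⟩
  have h2 : (MulAut.conjNormal g : MulAut N) n = (⟨g, hg⟩ : N) * n * (⟨g, hg⟩ : N)⁻¹ := by
    apply Subtype.ext
    rw [MulAut.conjNormal_apply]
    simp
  rw [h2]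
  exact h1

theorem tau_tau (g h : G) (ξ : IrrCharacter N) : tau N g (tau N h ξ) = tau N (h * g) ξ := by
  apply Subtype.ext
  show Cfsg.Agent.Lib.Helper84.conjFun N g (Cfsg.Agent.Lib.Helper84.conjFun N h ξ.1) =
    Cfsg.Agent.Lib.Helper84.conjFun N (h * g) ξ.1
  rw [Cfsg.Agent.Lib.Helper84.conjFun_mul]

/-- commuting of the actions modulo `N`. -/
theorem tau_comm (hGN : ∀ g h : G, g * h * g⁻¹ * h⁻¹ ∈ N) (g h : G) (ξ : IrrCharacter N) :
    tau N g (tau N h ξ) = tau N h (tau N g ξ) := by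
  rw [tau_tau, tau_tau]
  -- h * g = (g * h) * n₀ with n₀ = (g*h)⁻¹ * (h * g) ∈ N
  have hn₀ : (g * h)⁻¹ * (h * g) ∈ N := by
    have := hGN h⁻¹ g⁻¹
    have e : (g * h)⁻¹ * (h * g) = h⁻¹ * g⁻¹ * h⁻¹⁻¹ * g⁻¹⁻¹ := by group
    rw [e]; exact this
  have e2 : h * g = (g * h) * ((g * h)⁻¹ * (h * g)) := by group
  rw [e2, ← tau_tau, tau_of_mem N hn₀]

theorem tau_mem_orbit {ψ' : IrrCharacter N} {h : G}
    (hh : tau N h ψ' ∈ MulAction.orbit (linK N K) ψ') {ξ : IrrCharacter N}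
    (hξ : ξ ∈ MulAction.orbit (linK N K) ψ') :
    tau N h ξ ∈ MulAction.orbit (linK N K) ψ' := by
  obtain ⟨a, rfl⟩ := hξ
  show tau N h (a • ψ') ∈ _
  rw [tau_smul]
  obtain ⟨b, hb⟩ := hh
  have hb' : b • ψ' = tau N h ψ' := hb
  rw [← hb', smul_smul]
  exact ⟨_, rfl⟩

theorem orbit_of_fixed {ψ' : IrrCharacter N} {h : G} {ξ : IrrCharacter N}
    (hξ : ξ ∈ MulAction.orbit (linK N K) ψ') (hfix : tau N h ξ = ξ) :
    tau N h ψ' ∈ MulAction.orbit (linK N K) ψ' := by
  obtain ⟨a, rfl⟩ := hξ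
  have h1 : tau N h (a • ψ') = a • ψ' := hfix
  rw [tau_smul] at h1
  refine ⟨(sigma N K h a)⁻¹ * a, ?_⟩
  show ((sigma N K h a)⁻¹ * a) • ψ' = tau N h ψ'
  rw [← smul_smul, ← h1, smul_smul, inv_mul_cancel, one_smul]

/-- Core of Isaacs 12.4: a nontrivial twist orbit contains a character with inertia group in `N`. -/
theorem exists_inertia_in_orbit (hNK : ∀ x ∈ N, ∀ y ∈ N, x * y * x⁻¹ * y⁻¹ ∈ K)
    (hGN : ∀ g h : G, g * h * g⁻¹ * h⁻¹ ∈ N)
    (hfrob : ∀ g : G, g ∉ N → ∀ n ∈ N, g * n * g⁻¹ * n⁻¹ ∈ K → n ∈ K)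
    (ψ' : IrrCharacter N) {ξ₁ : IrrCharacter N} (hξ₁ : ξ₁ ∈ MulAction.orbit (linK N K) ψ')
    (hne : ξ₁ ≠ ψ') :
    ∃ ξ ∈ MulAction.orbit (linK N K) ψ', ∀ g : G, tau N g ξ = ξ → g ∈ N := by
  classical
  haveI : Finite (linK N K) := by
    have hinj : Function.Injective (fun a : linK N K =>
        (⟨linFun N a.1, Cfsg.Agent.Lib.Helper83.isIrrCharacter_of_hom a.1⟩ : IrrCharacter N)) := by
      intro a b hab
      apply Subtype.ext
      apply MonoidHom.ext
      intro n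
      apply Units.ext
      have := congrFun (congrArg Subtype.val hab) n
      exact this
    exact Finite.of_injective _ hinj
  -- uniqueness of fixed points
  have huniq : ∀ g : G, g ∉ N → tau N g ψ' ∈ MulAction.orbit (linK N K) ψ' →
      ∃! ξ, ξ ∈ MulAction.orbit (linK N K) ψ' ∧ tau N g ξ = ξ := by
    intro g hg hmem
    exact Cfsg.Agent.Lib.Helper32.Torsor.existsUnique_fixed (sigma N K g) (tau N g)
      (fun a x => tau_smul N K g a x) (fun a ha => sigma_fpf N K hNK hfrob hg a ha) ψ' hmem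
  have hψmem : ψ' ∈ MulAction.orbit (linK N K) ψ' := MulAction.mem_orbit_self ψ'
  by_cases hg₀ : ∃ g₀ : G, g₀ ∉ N ∧ tau N g₀ ψ' ∈ MulAction.orbit (linK N K) ψ'
  · obtain ⟨g₀, hg₀N, hg₀mem⟩ := hg₀
    obtain ⟨ξs, ⟨hξs, hfixs⟩, hus⟩ := huniq g₀ hg₀N hg₀mem
    -- choose ξ ≠ ξs in the orbit
    obtain ⟨ξ, hξ, hξne⟩ : ∃ ξ ∈ MulAction.orbit (linK N K) ψ', ξ ≠ ξs := by
      by_cases h : ξs = ψ'
      · exact ⟨ξ₁, hξ₁, by rw [h]; exact hne⟩
      · exact ⟨ψ', hψmem, fun h' => h h'.symm⟩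
    refine ⟨ξ, hξ, ?_⟩
    intro h hfix
    by_contra hhN
    have hhmem : tau N h ψ' ∈ MulAction.orbit (linK N K) ψ' := orbit_of_fixed N K hξ hfix
    obtain ⟨ξh, _, huh⟩ := huniq h hhN hhmem
    -- ξs is fixed by h
    have h1 : tau N h ξs = ξs := by
      apply hus
      refine ⟨tau_mem_orbit N K hhmem hξs, ?_⟩
      rw [tau_comm N hGN g₀ h ξs, hfixs]
    have e1 : ξ = ξh := huh ξ ⟨hξ, hfix⟩
    have e2 : ξs = ξh := huh ξs ⟨hξs, h1⟩
    exact hξne (e1.trans e2.symm)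
  · push Not at hg₀
    refine ⟨ψ', hψmem, ?_⟩
    intro h hfix
    by_contra hhN
    apply hg₀ h hhN
    rw [hfix]
    exact hψmem

end Setup

section Final

variable {G : Type u} [Group G] [Finite G] (K N : Subgroup G) [hK : K.Normal] [hN : N.Normal]

/-- 446027 K-CD3-TORSOR. -/
theorem exists_twist_inertia (hKN : K ≤ N)
    (hNK : ∀ x ∈ N, ∀ y ∈ N, x * y * x⁻¹ * y⁻¹ ∈ K) (hGN : ∀ g h : G, g * h * g⁻¹ * h⁻¹ ∈ N)
    (hfpf : ∀ g : G, g ∉ N → ∀ x ∈ N, g * x * g⁻¹ * x⁻¹ ∈ K → x ∈ K)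
    {ψ : N → ℂ} (hψ : IsIrrCharacter N ψ)
    (hmove : ∃ μ : N → ℂ, IsIrrCharacter N μ ∧ μ 1 = 1 ∧ (∀ k : N, (k : G) ∈ K → μ k = 1) ∧ ψ * μ ≠ ψ) :
    ∃ ξ : N → ℂ, IsIrrCharacter N ξ ∧ charDegree ξ = charDegree ψ ∧
      ∀ g : G, (∀ x : N, ξ ⟨g * x * g⁻¹, hN.conj_mem x x.2 g⟩ = ξ x) → g ∈ N := by
  classical
  letI : Fintype G := Fintype.ofFinite G
  letI : Fintype N := Fintype.ofFinite N
  obtain ⟨μ, hμ, hμ1, hμK, hμψ⟩ := hmove
  have hμc := Cfsg.Agent.Lib.Helper83.isCharacter_of_irr hμ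
  -- the hom attached to μ
  let a₀h : ↥N →* ℂˣ :=
    { toFun := fun n => Units.mk0 (μ n) (Cfsg.Agent.Lib.Helper83.char_deg_one_ne_zero hμc hμ1 n)
      map_one' := Units.ext hμ1
      map_mul' := fun x y => Units.ext (Cfsg.Agent.Lib.Helper83.char_deg_one_mul hμc hμ1 x y) }
  have ha₀mem : a₀h ∈ linK N K := by
    intro n hn
    apply Units.ext
    exact hμK n hn
  let a₀ : linK N K := ⟨a₀h, ha₀mem⟩
  let ψ' : IrrCharacter N := ⟨ψ, hψ⟩
  have hne : a₀ • ψ' ≠ ψ' := by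
    intro h
    apply hμψ
    funext n
    have := congrFun (congrArg Subtype.val h) n
    exact this
  obtain ⟨ξ, ⟨a, ha⟩, hin⟩ := exists_inertia_in_orbit N K hNK hGN hfpf ψ' ⟨a₀, rfl⟩ hne
  refine ⟨ξ.1, ξ.2, ?_, ?_⟩
  · have h1 : ξ.1 1 = ψ 1 := by
      have ha' : a • ψ' = ξ := ha
      rw [← ha', smul_coe]
      simp [ψ']
    unfold charDegree
    rw [h1]
  · intro g hg
    apply hin g
    apply Subtype.ext
    funext x
    exact hg x

end Final

end Cfsg.Agent.Lib.Helper32.CD3
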