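import Mathlib
import Cfsg.Prelude.Def_OddOrderLocal

/-!
# K-151-B (keystone 135502): a normal nilpotent Hall subgroup of `M` lies in `M_F`
-/

set_option autoImplicit false
set_option linter.unusedVariables false
set_option linter.style.haveILetI false

namespace Cfsg.Agent.Lib.Helper32.BG151

open Cfsg

/-- K-151-B -/
theorem le_fittingHallOf {G : Type*} [Group G] [Finite G] {M N : Subgroup G} (hNM : N ≤ M)
    (hnorm : M ≤ Subgroup.normalizer (N : Set G)) (hnil : Group.IsNilpotent N)
    (hcop : (Nat.card N).Coprime (N.relIndex M)) : N ≤ fittingHallOf M := by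
  have hmap : (N.subgroupOf M).map M.subtype = N := Subgroup.map_subgroupOf_eq_of_le hNM
  have hnormal : (N.subgroupOf M).Normal := by
    constructor
    intro n hn g
    rw [Subgroup.mem_subgroupOf] at hn ⊢
    have := (Subgroup.mem_normalizer_iff.mp (hnorm g.2) (n : G)).mp hn
    simpa using this
  have hnil' : Group.IsNilpotent ↥(N.subgroupOf M) := by
    haveI := hnil
    exact Group.nilpotent_of_mulEquiv (Subgroup.subgroupOfEquivOfLe hNM).symm
  have hcard : Nat.card ↥(N.subgroupOf M) = Nat.card N :=
    Nat.card_congr (Subgroup.subgroupOfEquivOfLe hNM).toEquiv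
  have hmem : N.subgroupOf M ∈ {N' : Subgroup ↥M | N'.Normal ∧ Group.IsNilpotent N' ∧
      (Nat.card N').Coprime N'.index} := by
    refine ⟨hnormal, hnil', ?_⟩
    rw [hcard]
    exact hcop
  have hle : N.subgroupOf M ≤ fittingHall ↥M := le_sSup hmem
  calc N = (N.subgroupOf M).map M.subtype := hmap.symm
    _ ≤ (fittingHall ↥M).map M.subtype := Subgroup.map_mono hle
    _ = fittingHallOf M := rfl

end Cfsg.Agent.Lib.Helper32.BG151
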