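import Mathlib
import Cfsg.Agent.S1429
import Cfsg.Agent.Lib.Helper58.BG147P

/-!
# K-147P BG-2 (keystone 147205): `U ≠ 1 ⟹ M_σ` is nilpotent and not centralized by `U`

Built on `Helper58.BG147.not_sigmaCore_le_centralizer` (on main) and `S1429.result`.
-/

set_option autoImplicit false
set_option linter.unusedVariables false
set_option linter.style.haveILetI false

namespace Cfsg.Agent.Lib.Helper32.BG147P

open Cfsg
open scoped commutatorElement

variable {G : Type*} [Group G] [Finite G]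

/-- a prime divisor of `|U|` lies outside `κ(M) ∪ σ(M)` and divides `|M|`. -/
theorem prime_dvd_card_U_aux (hG : IsMinSimpleOddOrder G) {M K U : Subgroup G}
    (hM : IsCoatom M) (hKU : IsSigmaDecomposition M K U) {q : ℕ} (hq : q.Prime)
    (hqU : q ∣ Nat.card U) : q ∣ Nat.card M ∧ q ∉ kappa M ∧ q ∉ sigma M := by
  have hHallσ := (Cfsg.Agent.S1350.result hG M hM).1
  have hidx : (K ⊔ sigmaCore M).relIndex M = Nat.card U :=
    Cfsg.Agent.Lib.Helper13.BG12.relIndex_eq_card_of_complIn hKU.compl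
  have hKσM : K ⊔ sigmaCore M ≤ M := hKU.compl.2.1
  refine ⟨hqU.trans (Subgroup.card_dvd_of_le hKU.compl.1), ?_, ?_⟩
  · intro hqκ
    apply hKU.hall.2.2 q hq hqκ
    rw [← Subgroup.relIndex_mul_relIndex K (K ⊔ sigmaCore M) M le_sup_left hKσM, hidx]
    exact Dvd.dvd.mul_left hqU _
  · intro hqσ
    apply hHallσ.2.2 q hq hqσ
    rw [← Subgroup.relIndex_mul_relIndex (sigmaCore M) (K ⊔ sigmaCore M) M le_sup_right hKσM, hidx]
    exact Dvd.dvd.mul_left hqU _

/-- `U` is a Hall subgroup of `M` for the primes outside `κ(M) ∪ σ(M)`. -/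
theorem isPiHallOf_U_aux (hG : IsMinSimpleOddOrder G) {M K U : Subgroup G}
    (hM : IsCoatom M) (hKU : IsSigmaDecomposition M K U) :
    IsPiHallOf {q | q.Prime ∧ q ∉ kappa M ∧ q ∉ sigma M} U M := by
  have hHallσ := (Cfsg.Agent.S1350.result hG M hM).1
  have hUM : U ≤ M := hKU.compl.1
  have hKσM : K ⊔ sigmaCore M ≤ M := hKU.compl.2.1
  refine ⟨hUM, ?_, ?_⟩
  · intro p hp hpU
    exact ⟨hp, (prime_dvd_card_U_aux hG hM hKU hp hpU).2⟩
  · rintro p hp ⟨-, hpκ, hpσ⟩ hdiv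
    have h1 : Nat.card U * Nat.card ↥(K ⊔ sigmaCore M) = Nat.card M :=
      Cfsg.Agent.Lib.Helper31.IsComplIn.card_mul hKU.compl
    have h2 : Nat.card U * U.relIndex M = Nat.card M := by
      have h2 := Subgroup.card_mul_index (U.subgroupOf M)
      rwa [Nat.card_congr (Subgroup.subgroupOfEquivOfLe hUM).toEquiv] at h2
    have hUpos : 0 < Nat.card U := Nat.card_pos
    have h3 : U.relIndex M = Nat.card ↥(K ⊔ sigmaCore M) :=
      Nat.eq_of_mul_eq_mul_left hUpos (h2.trans h1.symm)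
    rw [h3] at hdiv
    have hKn : K ≤ Subgroup.normalizer (sigmaCore M : Set G) :=
      hKU.hall.1.trans (Cfsg.Agent.Lib.Helper71.BG11.le_normalizer_sigmaCore M)
    have h4 : Nat.card ↥(sigmaCore M ⊔ K) ∣ Nat.card (sigmaCore M) * Nat.card K :=
      Cfsg.Agent.Lib.Helper29.card_sup_dvd_of_le_normalizer (sigmaCore M) K hKn
    rw [sup_comm] at hdiv
    rcases (hp.dvd_mul).mp (hdiv.trans h4) with h | h
    · exact hpσ (hHallσ.2.1 p hp h)
    · exact hpκ (hKU.hall.2.1 p hp h)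

/-- 147205 BG-2: `U ≠ 1 ⟹ M_σ` is nilpotent and is NOT centralized by `U`. -/
theorem nilpotent_and_not_centralized (hG : IsMinSimpleOddOrder G) {M K U : Subgroup G}
    (hM : IsCoatom M) (hKU : IsSigmaDecomposition M K U) (hU1 : U ≠ ⊥) :
    Group.IsNilpotent (sigmaCore M) ∧ ¬ sigmaCore M ≤ Subgroup.centralizer (U : Set G) := by
  obtain ⟨q, hq, hqU⟩ := Cfsg.Agent.Lib.Helper58.BG139.exists_prime_dvd_card_of_ne_bot hU1
  obtain ⟨hqM, hqκ, hqσ⟩ := prime_dvd_card_U_aux hG hM hKU hq hqU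
  refine ⟨?_, Cfsg.Agent.Lib.Helper58.BG147.not_sigmaCore_le_centralizer hG hM
    (isPiHallOf_U_aux hG hM hKU) hU1⟩
  haveI : Fact q.Prime := ⟨hq⟩
  have S : Sylow q M := default
  have hP1 : ¬ (∀ r : ℕ, r.Prime → r ∣ Nat.card M → r ∉ sigma M → r ∈ kappa M) :=
    fun h => hqκ (h q hq hqM hqσ)
  have hq' : q ∉ sigma M ∪ kappa M := by
    intro h
    rcases h with h | h
    · exact hqσ h
    · exact hqκ h
  exact (Cfsg.Agent.S1429.result hG M hM hP1 q hqM hq' S).2.2

end Cfsg.Agent.Lib.Helper32.BG147P
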