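import Mathlib
import Cfsg.Prelude.Def_HallClasses
import Cfsg.Agent.Lib.Helper06.HallSym.Defs

/-!
# K-S2536-G4 (keystone 253607, architect helper6): the primitive case of the Hall/Thompson theorem on
Hall subgroups of symmetric groups.
-/

set_option autoImplicit false
set_option linter.style.haveILetI false
open Cfsg
open scoped Pointwise

namespace Cfsg.Agent.Lib.Helper32.HallSym
open Cfsg.Agent.Lib.Helper06.HallSym

/-- an element interchanging two distinct points has even order. -/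
lemma two_dvd_orderOf_of_swaps {α : Type} (h : Equiv.Perm α) (a b : α) (hab : a ≠ b)
    (h1 : h a = b) (h2 : h b = a) : 2 ∣ orderOf h := by
  by_contra hodd
  have hodd' : Odd (orderOf h) := Nat.odd_iff.mpr (by omega)
  obtain ⟨k, hk⟩ := hodd'
  have hfix : ∀ m : ℕ, ((h ^ 2) ^ m) a = a := by
    intro m
    induction m with
    | zero => simp
    | succ m ih =>
      rw [pow_succ, Equiv.Perm.mul_apply]
      have : (h ^ 2) a = a := by
        rw [pow_two, Equiv.Perm.mul_apply, h1, h2]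
      rw [this, ih]
  have hh : (h ^ 2) ^ (k + 1) = h := by
    rw [← pow_mul]
    have : 2 * (k + 1) = orderOf h + 1 := by omega
    rw [this, pow_succ, pow_orderOf_eq_one, one_mul]
  have := hfix (k + 1)
  rw [hh, h1] at this
  exact hab this.symm

theorem triv_aux
    (hcyc : ∀ (π : Set ℕ) {α : Type} [Finite α] (H : Subgroup (Equiv.Perm α)), IsPiHall π H →
      ∀ p : ℕ, p.Prime → p ∈ π → p ≤ Nat.card α → ∃ g ∈ H, g.IsCycle ∧ {x | g x ≠ x}.ncard = p)
    (π : Set ℕ) {α : Type} [Finite α] (H : Subgroup (Equiv.Perm α))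
    (hH : IsPiHall π H) (hprim : MulAction.IsPreprimitive ↥H α)
    (p : ℕ) (hp : p.Prime) (hpπ : p ∈ π) (hpn : p < Nat.card α) :
    ∀ r : ℕ, r.Prime → r ≤ Nat.card α → r ∈ π := by
  classical
  haveI := Fintype.ofFinite α
  obtain ⟨g, hgH, hgc, hgp⟩ := hcyc π H hH p hp hpπ hpn.le
  have hsupp : (g.support : Set α) = {x | g x ≠ x} := by
    ext x; simp [Equiv.Perm.mem_support]
  have hcard : g.support.card = p := by rw [← Set.ncard_coe_finset, hsupp, hgp]
  have hs : ((g.support : Set α)ᶜ).ncard = (Nat.card α - p - 1) + 1 := by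
    have := Set.ncard_add_ncard_compl (g.support : Set α)
    rw [Set.ncard_coe_finset, hcard] at this
    omega
  have h2 : MulAction.IsMultiplyPretransitive H α 2 :=
    hprim.is_two_pretransitive hs (by have := hp.two_le; omega)
      (Equiv.Perm.isPretransitive_of_isCycle_mem hgc hgH)
  -- two distinct points
  have hn2 : 2 ≤ Nat.card α := by have := hp.two_le; omega
  obtain ⟨a, b, hab⟩ : ∃ a b : α, a ≠ b := by
    rw [Nat.card_eq_fintype_card] at hn2
    exact Fintype.exists_pair_of_one_lt_card (by omega)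
  rw [MulAction.is_two_pretransitive_iff] at h2
  obtain ⟨h, h1, h2'⟩ := h2 hab (Ne.symm hab)
  have hdvd : 2 ∣ Nat.card H := by
    have h3 : 2 ∣ orderOf (h : Equiv.Perm α) :=
      two_dvd_orderOf_of_swaps (h : Equiv.Perm α) a b hab h1 h2'
    have h4 : orderOf (h : Equiv.Perm α) = orderOf h := Subgroup.orderOf_coe h
    rw [h4] at h3
    exact h3.trans (orderOf_dvd_natCard h)
  have h2π : 2 ∈ π := hH.1 2 Nat.prime_two hdvd
  obtain ⟨t, htH, htc, htp⟩ := hcyc π H hH 2 Nat.prime_two h2π hn2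
  have hsuppt : (t.support : Set α) = {x | t x ≠ x} := by
    ext x; simp [Equiv.Perm.mem_support]
  have hcardt : t.support.card = 2 := by rw [← Set.ncard_coe_finset, hsuppt, htp]
  have hswap : t.IsSwap := Equiv.Perm.card_support_eq_two.mp hcardt
  have htop : H = ⊤ :=
    Equiv.Perm.subgroup_eq_top_of_isPreprimitive_of_isSwap_mem hprim t hswap htH
  intro r hr hrn
  apply hH.1 r hr
  rw [htop, Subgroup.card_top, Nat.card_perm]
  exact Nat.dvd_factorial hr.pos hrn

/-- K-G4. -/
theorem triv_of_primitive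
    (hcyc : ∀ (π : Set ℕ) {α : Type} [Finite α] (H : Subgroup (Equiv.Perm α)), IsPiHall π H →
      ∀ p : ℕ, p.Prime → p ∈ π → p ≤ Nat.card α → ∃ g ∈ H, g.IsCycle ∧ {x | g x ≠ x}.ncard = p)
    (π : Set ℕ) {α : Type} [Finite α] (H : Subgroup (Equiv.Perm α))
    (hH : IsPiHall π H) (hprim : MulAction.IsPreprimitive ↥H α)
    (p q : ℕ) (hp : p.Prime) (hq : q.Prime) (hpq : p ≠ q) (hpπ : p ∈ π) (hqπ : q ∈ π)
    (hpn : p ≤ Nat.card α) (hqn : q ≤ Nat.card α) :
    ∀ r : ℕ, r.Prime → r ≤ Nat.card α → r ∈ π := by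
  rcases lt_or_gt_of_ne hpq with h | h
  · exact triv_aux hcyc π H hH hprim p hp hpπ (lt_of_lt_of_le h hqn)
  · exact triv_aux hcyc π H hH hprim q hq hqπ (lt_of_lt_of_le h hpn)

end Cfsg.Agent.Lib.Helper32.HallSym
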