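import Mathlib
import Cfsg.Prelude.Def_GeometricClasses
import Cfsg.Agent.Lib.Helper59.AschUStdTensor

/-!
# K-B6e-0 (keystone 26906, architect helper4): orthonormalising both factors of a tensor form structure

Exact-signature wrapper (implicit `a b`) around helper59's `Cfsg.Agent.Lib.Helper59.AschU.exists_std_tensorForm`.
-/

set_option autoImplicit false

namespace Cfsg.Agent.Lib.Helper32.AschU

open Cfsg Cfsg.Geo
open scoped Matrix Kronecker MatrixGroups

variable {F : Type*} [Field F] [Fintype F] {a b n q : ℕ}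

/-- K-B6e-0. -/
theorem exists_std_tensorForm (hF : Fintype.card F = q ^ 2) (K : Subgroup (GL (Fin n) F))
    (e : Fin n ≃ Fin a × Fin b) (P : GL (Fin n) F) (hK : K ≤ tensorProductSubgroup a b e P)
    (f₁ : (Fin a → F) → (Fin a → F) → F) (f₂ : (Fin b → F) → (Fin b → F) → F)
    (h₁ : IsUnitaryFormPow q f₁) (h₂ : IsUnitaryFormPow q f₂)
    (hT : IsTensorFormStructure (fun x : F => x ^ q) (hermForm n F q) f₁ f₂ e P) :
    ∃ P'' : GL (Fin n) F,
      IsTensorFormStructure (fun x : F => x ^ q) (hermForm n F q) (hermForm a F q) (hermForm b F q) e P'' ∧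
      K ≤ tensorProductSubgroup a b e P'' :=
  Cfsg.Agent.Lib.Helper59.AschU.exists_std_tensorForm hF K a b e P hK f₁ f₂ h₁ h₂ hT

end Cfsg.Agent.Lib.Helper32.AschU
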