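import Mathlib
import Cfsg.Prelude.Def_Transfer
import Cfsg.Agent.Lib.Helper03.PGroupFrattini

set_option autoImplicit false

/-!
# Extraspecial-like subgroups: basic calculus

`IsXS p E z`: the subgroup `E` of the ambient group `X` is "extraspecial or cyclic of order `p`"
with centre generated by `z`.
-/

namespace Cfsg.Agent.Lib.Helper32

open Subgroup
open scoped commutatorElement

variable {X : Type*} [Group X]

/-- general commutator expansion on the left. -/
theorem comm_mul_left_gen (a b c : X) (h1 : ⁅b, c⁆ * a = a * ⁅b, c⁆) :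
    ⁅a * b, c⁆ = ⁅b, c⁆ * ⁅a, c⁆ := by
  have e1 : ⁅a * b, c⁆ = (a * ⁅b, c⁆) * (c * a⁻¹ * c⁻¹) := by
    simp only [commutatorElement_def]; group
  rw [e1, ← h1]
  simp only [commutatorElement_def]; group

/-- `g * h = ⁅g, h⁆ * h * g`. -/
theorem mul_eq_comm_mul (g k : X) : g * k = ⁅g, k⁆ * k * g := by
  simp only [commutatorElement_def]; group

/-- `E` is extraspecial-like with centre `⟨z⟩` of order `p` (the cyclic group `⟨z⟩` itself is allowed). -/
structure IsXS (p : ℕ) (E : Subgroup X) (z : X) : Prop where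
  z_mem : z ∈ E
  z_ne : z ≠ 1
  z_pow : z ^ p = 1
  z_comm : ∀ a ∈ E, a * z = z * a
  comm_mem : ∀ a ∈ E, ∀ b ∈ E, ⁅a, b⁆ ∈ zpowers z
  pow_mem : ∀ a ∈ E, a ^ p ∈ zpowers z
  center : ∀ a ∈ E, (∀ b ∈ E, a * b = b * a) → a ∈ zpowers z

namespace IsXS

variable {p : ℕ} {E : Subgroup X} {z : X}

theorem zpowers_le (h : IsXS p E z) : zpowers z ≤ E := (Subgroup.zpowers_le).mpr h.z_mem

theorem comm_memE (h : IsXS p E z) {a b : X} (ha : a ∈ E) (hb : b ∈ E) : ⁅a, b⁆ ∈ E :=
  h.zpowers_le (h.comm_mem a ha b hb)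

theorem central (h : IsXS p E z) {c : X} (hc : c ∈ zpowers z) {a : X} (ha : a ∈ E) :
    a * c = c * a := by
  obtain ⟨k, rfl⟩ := Subgroup.mem_zpowers_iff.mp hc
  have : Commute a z := h.z_comm a ha
  exact (this.zpow_right k).eq

theorem comm_mul_left (h : IsXS p E z) {a b c : X} (ha : a ∈ E) (hb : b ∈ E) (hc : c ∈ E) :
    ⁅a * b, c⁆ = ⁅a, c⁆ * ⁅b, c⁆ := by
  rw [comm_mul_left_gen a b c (h.central (h.comm_mem b hb c hc) ha).symm]
  exact (h.central (h.comm_mem b hb c hc) (h.comm_memE ha hc)).symm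

theorem comm_mul_right (h : IsXS p E z) {a b c : X} (ha : a ∈ E) (hb : b ∈ E) (hc : c ∈ E) :
    ⁅a, b * c⁆ = ⁅a, b⁆ * ⁅a, c⁆ := by
  rw [← commutatorElement_inv (b * c) a, h.comm_mul_left hb hc ha, mul_inv_rev,
    commutatorElement_inv, commutatorElement_inv]
  exact (h.central (h.comm_mem a ha b hb) (h.comm_memE ha hc))

theorem comm_inv_left (h : IsXS p E z) {a c : X} (ha : a ∈ E) (hc : c ∈ E) :
    ⁅a⁻¹, c⁆ = ⁅a, c⁆⁻¹ := by
  have := h.comm_mul_left (E.inv_mem ha) ha hc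
  rw [inv_mul_cancel, commutatorElement_one_left] at this
  exact eq_inv_of_mul_eq_one_left this.symm

theorem comm_pow_left (h : IsXS p E z) {a c : X} (ha : a ∈ E) (hc : c ∈ E) (n : ℕ) :
    ⁅a ^ n, c⁆ = ⁅a, c⁆ ^ n := by
  induction n with
  | zero => simp
  | succ n ih => rw [pow_succ, h.comm_mul_left (E.pow_mem ha n) ha hc, ih, pow_succ]

theorem comm_pow_right (h : IsXS p E z) {a c : X} (ha : a ∈ E) (hc : c ∈ E) (n : ℕ) :
    ⁅a, c ^ n⁆ = ⁅a, c⁆ ^ n := by
  rw [← commutatorElement_inv (c ^ n) a, h.comm_pow_left hc ha, ← inv_pow, commutatorElement_inv]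

theorem comm_central_left (h : IsXS p E z) {c a : X} (hc : c ∈ zpowers z) (ha : a ∈ E) :
    ⁅c, a⁆ = 1 := by
  rw [commutatorElement_eq_one_iff_mul_comm]
  exact (h.central hc ha).symm

theorem comm_central_right (h : IsXS p E z) {c a : X} (hc : c ∈ zpowers z) (ha : a ∈ E) :
    ⁅a, c⁆ = 1 := by
  rw [commutatorElement_eq_one_iff_mul_comm]
  exact h.central hc ha

theorem orderOf_z (h : IsXS p E z) [Fact p.Prime] : orderOf z = p :=
  orderOf_eq_prime h.z_pow h.z_ne

theorem card_zpowers (h : IsXS p E z) [Fact p.Prime] : Nat.card (zpowers z) = p := by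
  rw [Nat.card_zpowers, h.orderOf_z]

/-- elements of the centre are `z ^ k` with `k < p`. -/
theorem exists_pow_lt (h : IsXS p E z) [Fact p.Prime] {c : X} (hc : c ∈ zpowers z) :
    ∃ k : ℕ, k < p ∧ z ^ k = c := by
  classical
  have hfin : IsOfFinOrder z := by
    rw [isOfFinOrder_iff_pow_eq_one]
    exact ⟨p, (Fact.out : p.Prime).pos, h.z_pow⟩
  rw [hfin.mem_zpowers_iff_mem_range_orderOf, h.orderOf_z] at hc
  obtain ⟨k, hk, rfl⟩ := Finset.mem_image.mp hc
  exact ⟨k, Finset.mem_range.mp hk, rfl⟩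

theorem pow_inj (h : IsXS p E z) [Fact p.Prime] {a b : ℕ} (ha : a < p) (hb : b < p)
    (hab : z ^ a = z ^ b) : a = b := by
  have ha' : a < orderOf z := by rw [h.orderOf_z]; exact ha
  have hb' : b < orderOf z := by rw [h.orderOf_z]; exact hb
  exact pow_injOn_Iio_orderOf (Set.mem_Iio.mpr ha') (Set.mem_Iio.mpr hb') hab

/-- a nontrivial central element generates the centre. -/
theorem mem_zpowers_of_ne_one (h : IsXS p E z) [Fact p.Prime] {c : X} (hc : c ∈ zpowers z)
    (hc1 : c ≠ 1) : z ∈ zpowers c := by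
  have hcp : c ^ p = 1 := by
    obtain ⟨k, rfl⟩ := Subgroup.mem_zpowers_iff.mp hc
    rw [← zpow_natCast, ← zpow_mul, mul_comm, zpow_mul, zpow_natCast, h.z_pow, one_zpow]
  have hord : orderOf c = p := orderOf_eq_prime hcp hc1
  have hle : zpowers c ≤ zpowers z := (Subgroup.zpowers_le).mpr hc
  have hfin : Finite (zpowers z) := Nat.finite_of_card_ne_zero (by
    rw [h.card_zpowers]; exact (Fact.out : p.Prime).ne_zero)
  have : zpowers c = zpowers z := by
    apply Subgroup.eq_of_le_of_card_ge hle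
    rw [Nat.card_zpowers, Nat.card_zpowers, hord, h.orderOf_z]
  rw [this]
  exact Subgroup.mem_zpowers z

/-- abelian case. -/
theorem eq_zpowers_of_comm (h : IsXS p E z) (hab : ∀ a ∈ E, ∀ b ∈ E, a * b = b * a) :
    E = zpowers z :=
  le_antisymm (fun a ha => h.center a ha (hab a ha)) h.zpowers_le

/-- nonabelian case: a pair with commutator `z`. -/
theorem exists_pair (h : IsXS p E z) [Fact p.Prime] (hab : ¬ ∀ a ∈ E, ∀ b ∈ E, a * b = b * a) :
    ∃ x ∈ E, ∃ y ∈ E, ⁅y, x⁆ = z := by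
  push Not at hab
  obtain ⟨a, ha, b, hb, hne⟩ := hab
  have hc1 : ⁅b, a⁆ ≠ 1 := by
    rw [Ne, commutatorElement_eq_one_iff_mul_comm]
    exact fun e => hne e.symm
  obtain ⟨m, hm⟩ := Subgroup.mem_zpowers_iff.mp (h.mem_zpowers_of_ne_one (h.comm_mem b hb a ha) hc1)
  refine ⟨a, ha, b ^ m, E.zpow_mem hb m, ?_⟩
  rw [← hm]
  cases m with
  | ofNat n =>
    simp only [Int.ofNat_eq_natCast, zpow_natCast]
    exact h.comm_pow_left hb ha n
  | negSucc n =>
    simp only [zpow_negSucc]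
    rw [h.comm_inv_left (E.pow_mem hb _) ha, h.comm_pow_left hb ha]

end IsXS

/-- bridge from the type-level predicate. -/
theorem exists_isXS_top {p : ℕ} [Fact p.Prime] {P : Type*} [Group P] [Finite P]
    (hP : Cfsg.IsExtraspecial p P) : ∃ z : P, IsXS p (⊤ : Subgroup P) z := by
  obtain ⟨⟨hpg, hfr, hco⟩, hcard⟩ := hP
  have hcyc : IsCyclic (center P) := isCyclic_of_prime_card hcard
  obtain ⟨⟨z, hz⟩, hgen⟩ := hcyc.exists_generator
  have hzp : zpowers z = center P := by
    ext a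
    constructor
    · intro ha
      exact (Subgroup.zpowers_le.mpr hz) ha
    · intro ha
      obtain ⟨k, hk⟩ := Subgroup.mem_zpowers_iff.mp (hgen ⟨a, ha⟩)
      rw [Subgroup.mem_zpowers_iff]
      refine ⟨k, ?_⟩
      have := congrArg Subtype.val hk
      simpa using this
  have hz1 : z ≠ 1 := by
    rintro rfl
    rw [Subgroup.zpowers_one_eq_bot] at hzp
    rw [← hzp, Subgroup.card_bot] at hcard
    exact (Fact.out : p.Prime).one_lt.ne hcard
  refine ⟨z, ⟨Subgroup.mem_top _, hz1, ?_, ?_, ?_, ?_, ?_⟩⟩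
  · have : (⟨z, hz⟩ : center P) ^ p = 1 := by
      rw [← hcard]; exact pow_card_eq_one'
    have := congrArg Subtype.val this
    simpa using this
  · intro a _
    exact (Subgroup.mem_center_iff.mp hz a)
  · intro a _ b _
    rw [hzp, ← hco]
    exact Subgroup.commutator_mem_commutator (Subgroup.mem_top a) (Subgroup.mem_top b)
  · intro a _
    rw [hzp, ← hfr]
    exact Cfsg.Agent.Lib.Helper03.pow_mem_frattini_of_isPGroup hpg a
  · intro a _ ha
    rw [hzp, Subgroup.mem_center_iff]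
    intro b
    exact (ha b (Subgroup.mem_top b)).symm

end Cfsg.Agent.Lib.Helper32
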