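import Mathlib
import Cfsg.Agent.Lib.Helper32.XSBasic

set_option autoImplicit false

/-!
# Extraspecial-like subgroups: splitting off a hyperbolic pair
-/

namespace Cfsg.Agent.Lib.Helper32

open Subgroup
open scoped commutatorElement

variable {X : Type*} [Group X]

/-- the centralizer of the pair `x, y` within `E`. -/
def cent2 (E : Subgroup X) (x y : X) : Subgroup X := E ⊓ centralizer {x, y}

theorem mem_cent2 {E : Subgroup X} {x y e : X} :
    e ∈ cent2 E x y ↔ e ∈ E ∧ x * e = e * x ∧ y * e = e * y := by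
  unfold cent2
  rw [Subgroup.mem_inf, Subgroup.mem_centralizer_iff]
  simp only [Set.mem_insert_iff, Set.mem_singleton_iff, forall_eq_or_imp, forall_eq]

theorem cent2_le (E : Subgroup X) (x y : X) : cent2 E x y ≤ E := inf_le_left

namespace IsXS

variable {p : ℕ} {E : Subgroup X} {z : X} {x y : X}

theorem comm_xy (_h : IsXS p E z) (hyx : ⁅y, x⁆ = z) : ⁅x, y⁆ = z⁻¹ := by
  rw [← hyx, commutatorElement_inv]

theorem comm_t_x (h : IsXS p E z) (hx : x ∈ E) (hy : y ∈ E) (hyx : ⁅y, x⁆ = z) (a b : ℕ) :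
    ⁅x ^ a * y ^ b, x⁆ = z ^ b := by
  rw [h.comm_mul_left (E.pow_mem hx a) (E.pow_mem hy b) hx, h.comm_pow_left hx hx,
    h.comm_pow_left hy hx, commutatorElement_self, one_pow, one_mul, hyx]

theorem comm_t_y (h : IsXS p E z) (hx : x ∈ E) (hy : y ∈ E) (hyx : ⁅y, x⁆ = z) (a b : ℕ) :
    ⁅x ^ a * y ^ b, y⁆ = (z ^ a)⁻¹ := by
  rw [h.comm_mul_left (E.pow_mem hx a) (E.pow_mem hy b) hy, h.comm_pow_left hx hy,
    h.comm_pow_left hy hy, commutatorElement_self, one_pow, mul_one, h.comm_xy hyx, inv_pow]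

theorem comm_cent2_x {e : X} (he : e ∈ cent2 E x y) : ⁅e, x⁆ = 1 := by
  rw [commutatorElement_eq_one_iff_mul_comm]
  exact (mem_cent2.mp he).2.1.symm

theorem comm_cent2_y {e : X} (he : e ∈ cent2 E x y) : ⁅e, y⁆ = 1 := by
  rw [commutatorElement_eq_one_iff_mul_comm]
  exact (mem_cent2.mp he).2.2.symm

/-- every element of `E` is `x ^ a * y ^ b * e₂` with `e₂` centralizing the pair. -/
theorem exists_decomp (h : IsXS p E z) [Fact p.Prime] (hx : x ∈ E) (hy : y ∈ E)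
    (hyx : ⁅y, x⁆ = z) {e : X} (he : e ∈ E) :
    ∃ a b : ℕ, a < p ∧ b < p ∧ (x ^ a * y ^ b)⁻¹ * e ∈ cent2 E x y := by
  obtain ⟨b, hb, hbe⟩ := h.exists_pow_lt (h.comm_mem e he x hx)
  obtain ⟨a, ha, hae⟩ := h.exists_pow_lt (inv_mem (h.comm_mem e he y hy))
  have ht : x ^ a * y ^ b ∈ E := E.mul_mem (E.pow_mem hx a) (E.pow_mem hy b)
  refine ⟨a, b, ha, hb, mem_cent2.mpr ⟨E.mul_mem (E.inv_mem ht) he, ?_, ?_⟩⟩
  · symm
    rw [← commutatorElement_eq_one_iff_mul_comm, h.comm_mul_left (E.inv_mem ht) he hx,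
      h.comm_inv_left ht hx, h.comm_t_x hx hy hyx, ← hbe, inv_mul_cancel]
  · symm
    rw [← commutatorElement_eq_one_iff_mul_comm, h.comm_mul_left (E.inv_mem ht) he hy,
      h.comm_inv_left ht hy, h.comm_t_y hx hy hyx, inv_inv, hae, inv_mul_cancel]

/-- elements of `cent2` commute with the words `x ^ a * y ^ b`. -/
theorem cent2_comm_t {e : X} (he : e ∈ cent2 E x y) (a b : ℕ) :
    e * (x ^ a * y ^ b) = (x ^ a * y ^ b) * e := by
  have h1 : Commute e x := (mem_cent2.mp he).2.1.symm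
  have h2 : Commute e y := (mem_cent2.mp he).2.2.symm
  exact ((h1.pow_right a).mul_right (h2.pow_right b)).eq

theorem isXS_cent2 (h : IsXS p E z) [Fact p.Prime] (hx : x ∈ E) (hy : y ∈ E)
    (hyx : ⁅y, x⁆ = z) : IsXS p (cent2 E x y) z := by
  refine ⟨mem_cent2.mpr ⟨h.z_mem, h.z_comm x hx, h.z_comm y hy⟩, h.z_ne, h.z_pow, ?_, ?_, ?_, ?_⟩
  · intro a ha; exact h.z_comm a (cent2_le E x y ha)
  · intro a ha b hb; exact h.comm_mem a (cent2_le E x y ha) b (cent2_le E x y hb)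
  · intro a ha; exact h.pow_mem a (cent2_le E x y ha)
  · intro a ha hcomm
    apply h.center a (cent2_le E x y ha)
    intro e he
    obtain ⟨i, j, -, -, he2⟩ := h.exists_decomp hx hy hyx he
    have e1 : e = (x ^ i * y ^ j) * ((x ^ i * y ^ j)⁻¹ * e) := by group
    have c1 : Commute a (x ^ i * y ^ j) := cent2_comm_t ha i j
    have c2 : Commute a ((x ^ i * y ^ j)⁻¹ * e) := hcomm _ he2
    rw [e1]
    exact (c1.mul_right c2).eq

theorem closure_le (_h : IsXS p E z) (hx : x ∈ E) (hy : y ∈ E) : closure {x, y} ≤ E := by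
  rw [Subgroup.closure_le]
  intro u hu
  rcases hu with rfl | rfl
  · exact hx
  · exact hy

/-- `⟨x, y⟩` and `cent2` commute elementwise. -/
theorem closure_comm_cent2 {u e : X} (hu : u ∈ closure {x, y}) (he : e ∈ cent2 E x y) :
    u * e = e * u := by
  have h1 := Subgroup.closure_le_centralizer_centralizer ({x, y} : Set X) hu
  rw [Subgroup.mem_centralizer_iff] at h1
  exact (h1 e he.2).symm

theorem t_mem_closure (a b : ℕ) : x ^ a * y ^ b ∈ closure {x, y} :=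
  Subgroup.mul_mem _ (Subgroup.pow_mem _ (Subgroup.subset_closure (by simp)) a)
    (Subgroup.pow_mem _ (Subgroup.subset_closure (by simp)) b)

theorem closure_sup_cent2 (h : IsXS p E z) [Fact p.Prime] (hx : x ∈ E) (hy : y ∈ E)
    (hyx : ⁅y, x⁆ = z) : closure {x, y} ⊔ cent2 E x y = E := by
  apply le_antisymm (sup_le (h.closure_le hx hy) (cent2_le E x y))
  intro e he
  obtain ⟨i, j, -, -, he2⟩ := h.exists_decomp hx hy hyx he
  have e1 : e = (x ^ i * y ^ j) * ((x ^ i * y ^ j)⁻¹ * e) := by group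
  rw [e1]
  exact Subgroup.mul_mem_sup (t_mem_closure i j) he2

theorem z_mem_closure (hyx : ⁅y, x⁆ = z) : z ∈ closure {x, y} := by
  rw [← hyx, commutatorElement_def]
  have hx' : x ∈ closure {x, y} := Subgroup.subset_closure (by simp)
  have hy' : y ∈ closure {x, y} := Subgroup.subset_closure (by simp)
  exact Subgroup.mul_mem _ (Subgroup.mul_mem _ (Subgroup.mul_mem _ hy' hx') (Subgroup.inv_mem _ hy'))
    (Subgroup.inv_mem _ hx')

theorem closure_inf_cent2 (h : IsXS p E z) [Fact p.Prime] (hx : x ∈ E) (hy : y ∈ E)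
    (hyx : ⁅y, x⁆ = z) : closure {x, y} ⊓ cent2 E x y = zpowers z := by
  apply le_antisymm
  · intro u hu
    apply h.center u (cent2_le E x y hu.2)
    intro e he
    obtain ⟨i, j, -, -, he2⟩ := h.exists_decomp hx hy hyx he
    have e1 : e = (x ^ i * y ^ j) * ((x ^ i * y ^ j)⁻¹ * e) := by group
    have c1 : Commute u (x ^ i * y ^ j) := cent2_comm_t hu.2 i j
    have c2 : Commute u ((x ^ i * y ^ j)⁻¹ * e) := closure_comm_cent2 hu.1 he2
    rw [e1]
    exact (c1.mul_right c2).eq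
  · rw [Subgroup.zpowers_le]
    exact ⟨z_mem_closure hyx, (h.isXS_cent2 hx hy hyx).z_mem⟩

/-- the coordinate map `(a, b, e₂) ↦ x ^ a * y ^ b * e₂`. -/
def coordFun (_h : IsXS p E z) (hx : x ∈ E) (hy : y ∈ E) :
    (Fin p × Fin p) × ↥(cent2 E x y) → ↥E :=
  fun t => ⟨x ^ (t.1.1 : ℕ) * y ^ (t.1.2 : ℕ) * (t.2 : X),
    E.mul_mem (E.mul_mem (E.pow_mem hx _) (E.pow_mem hy _)) (cent2_le E x y t.2.2)⟩

theorem coordFun_bijective (h : IsXS p E z) [Fact p.Prime] (hx : x ∈ E) (hy : y ∈ E)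
    (hyx : ⁅y, x⁆ = z) : Function.Bijective (h.coordFun hx hy) := by
  constructor
  · rintro ⟨⟨a, b⟩, e⟩ ⟨⟨a', b'⟩, e'⟩ heq
    have heq' : x ^ (a : ℕ) * y ^ (b : ℕ) * (e : X) = x ^ (a' : ℕ) * y ^ (b' : ℕ) * (e' : X) :=
      congrArg Subtype.val heq
    have hcx : ∀ (i j : ℕ) (f : X), f ∈ cent2 E x y → ⁅x ^ i * y ^ j * f, x⁆ = z ^ j := by
      intro i j f hf
      rw [h.comm_mul_left (E.mul_mem (E.pow_mem hx i) (E.pow_mem hy j)) (cent2_le E x y hf) hx,
        h.comm_t_x hx hy hyx, comm_cent2_x hf, mul_one]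
    have hcy : ∀ (i j : ℕ) (f : X), f ∈ cent2 E x y → ⁅x ^ i * y ^ j * f, y⁆ = (z ^ i)⁻¹ := by
      intro i j f hf
      rw [h.comm_mul_left (E.mul_mem (E.pow_mem hx i) (E.pow_mem hy j)) (cent2_le E x y hf) hy,
        h.comm_t_y hx hy hyx, comm_cent2_y hf, mul_one]
    have hb : (b : ℕ) = b' := by
      apply h.pow_inj b.2 b'.2
      rw [← hcx a b e e.2, ← hcx a' b' e' e'.2, heq']
    have ha : (a : ℕ) = a' := by
      apply h.pow_inj a.2 a'.2
      apply inv_injective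
      rw [← hcy a b e e.2, ← hcy a' b' e' e'.2, heq']
    have ha' : a = a' := Fin.ext ha
    have hb' : b = b' := Fin.ext hb
    subst ha' hb'
    have : (e : X) = e' := mul_left_cancel heq'
    rw [Subtype.ext this]
  · rintro ⟨e, he⟩
    obtain ⟨a, b, ha, hb, he2⟩ := h.exists_decomp hx hy hyx he
    refine ⟨⟨⟨⟨a, ha⟩, ⟨b, hb⟩⟩, ⟨_, he2⟩⟩, ?_⟩
    apply Subtype.ext
    show x ^ a * y ^ b * ((x ^ a * y ^ b)⁻¹ * e) = e
    group

/-- the coordinate bijection. -/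
noncomputable def coordEquiv (h : IsXS p E z) [Fact p.Prime] (hx : x ∈ E) (hy : y ∈ E)
    (hyx : ⁅y, x⁆ = z) : (Fin p × Fin p) × ↥(cent2 E x y) ≃ ↥E :=
  Equiv.ofBijective _ (h.coordFun_bijective hx hy hyx)

theorem coordEquiv_apply (h : IsXS p E z) [Fact p.Prime] (hx : x ∈ E) (hy : y ∈ E)
    (hyx : ⁅y, x⁆ = z) (t : (Fin p × Fin p) × ↥(cent2 E x y)) :
    ((h.coordEquiv hx hy hyx t : ↥E) : X) = x ^ (t.1.1 : ℕ) * y ^ (t.1.2 : ℕ) * (t.2 : X) := rfl

theorem card_eq (h : IsXS p E z) [Fact p.Prime] (hx : x ∈ E) (hy : y ∈ E)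
    (hyx : ⁅y, x⁆ = z) : Nat.card E = p * p * Nat.card (cent2 E x y) := by
  rw [← Nat.card_congr (h.coordEquiv hx hy hyx), Nat.card_prod, Nat.card_prod, Nat.card_fin]

end IsXS

end Cfsg.Agent.Lib.Helper32
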