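import Cfsg.Agent.Lib.Helper06.Hall4.Defs

/-!
# K-H4-V (422107): existence of the commuting involutions `x = (a)(b)(c d)…`, `y = (a b)(c)(d)…`
-/

set_option autoImplicit false
set_option linter.unusedSectionVars false
set_option linter.unnecessarySimpa false
open Equiv Cfsg.Agent.Lib.Helper06.Hall4

namespace Cfsg.Agent.Lib.Helper32.Hall4

variable {α : Type*} [Fintype α] [DecidableEq α]

theorem odd_pow_invol_aux (G : Subgroup (Perm α)) (hodd : Odd4 G)
    {a b c d : α} (hab : a ≠ b) (hac : a ≠ c) (had : a ≠ d) (hbc : b ≠ c) (hbd : b ≠ d)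
    (hcd : c ≠ d) {g : Perm α} (hg : g ∈ G) (ha : g (g a) = a) (hb : g (g b) = b)
    (hc : g (g c) = c) (hd : g (g d) = d) : ∃ k : ℕ, Odd k ∧ g ^ k * g ^ k = 1 := by
  have hmem : g * g ∈ FS G {a, b, c, d} := by
    refine ⟨G.mul_mem hg hg, ?_⟩
    intro s hs
    simp only [Set.mem_insert_iff, Set.mem_singleton_iff] at hs
    rcases hs with rfl | rfl | rfl | rfl <;> simp [Perm.mul_apply, *]
  have hcard : Odd (Nat.card (FS G {a, b, c, d})) := hodd a b c d hab hac had hbc hbd hcd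
  set w : FS G {a, b, c, d} := ⟨g * g, hmem⟩ with hw
  refine ⟨orderOf w, ?_, ?_⟩
  · exact Odd.of_dvd_nat hcard (orderOf_dvd_natCard w)
  · have h1 : w ^ orderOf w = 1 := pow_orderOf_eq_one w
    have h2 : (g * g) ^ orderOf w = 1 := by
      have := congrArg (fun u : FS G {a, b, c, d} => (u : Perm α)) h1
      simpa [hw] using this
    rw [← h2, ← pow_two, ← pow_two, ← pow_mul, ← pow_mul, mul_comm]

theorem pow_odd_apply_aux (g : Perm α) (p : α) (h : g (g p) = p) {k : ℕ} (hk : Odd k) :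
    (g ^ k) p = g p := by
  obtain ⟨m, rfl⟩ := hk
  have h2 : ∀ m : ℕ, (g ^ (2 * m)) (g p) = g p := by
    intro m
    induction m with
    | zero => simp
    | succ n ih =>
      rw [show 2 * (n + 1) = 2 * n + 2 by ring, pow_add, Perm.mul_apply, pow_two, Perm.mul_apply,
        h, ih]
  rw [pow_succ, Perm.mul_apply, h2]

theorem exists_vdata (G : Subgroup (Perm α)) (hG : Trans4 G) (hodd : Odd4 G)
    {a b c d : α} (hab : a ≠ b) (hac : a ≠ c) (had : a ≠ d) (hbc : b ≠ c) (hbd : b ≠ d)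
    (hcd : c ≠ d) : ∃ x y : Perm α, VData G a b c d x y := by
  -- x
  obtain ⟨g₁, hg₁, g₁a, g₁b, g₁c, g₁d⟩ := hG a b c d a b d c hab hac had hbc hbd hcd
    hab had hac hbd hbc hcd.symm
  obtain ⟨k₁, hk₁, hx2⟩ := odd_pow_invol_aux G hodd hab hac had hbc hbd hcd hg₁
    (by rw [g₁a, g₁a]) (by rw [g₁b, g₁b]) (by rw [g₁c, g₁d]) (by rw [g₁d, g₁c])
  set x := g₁ ^ k₁ with hx
  have hxG : x ∈ G := G.pow_mem hg₁ _
  have xa : x a = a := by
    rw [hx, pow_odd_apply_aux g₁ a (by rw [g₁a, g₁a]) hk₁, g₁a]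
  have xb : x b = b := by
    rw [hx, pow_odd_apply_aux g₁ b (by rw [g₁b, g₁b]) hk₁, g₁b]
  have xc : x c = d := by
    rw [hx, pow_odd_apply_aux g₁ c (by rw [g₁c, g₁d]) hk₁, g₁c]
  have xd : x d = c := by
    rw [hx, pow_odd_apply_aux g₁ d (by rw [g₁d, g₁c]) hk₁, g₁d]
  -- y₀
  obtain ⟨g₂, hg₂, g₂a, g₂b, g₂c, g₂d⟩ := hG a b c d b a c d hab hac had hbc hbd hcd
    hab.symm hbc hbd hac had hcd
  obtain ⟨k₂, hk₂, hy2⟩ := odd_pow_invol_aux G hodd hab hac had hbc hbd hcd hg₂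
    (by rw [g₂a, g₂b]) (by rw [g₂b, g₂a]) (by rw [g₂c, g₂c]) (by rw [g₂d, g₂d])
  set y₀ := g₂ ^ k₂ with hy₀
  have hy₀G : y₀ ∈ G := G.pow_mem hg₂ _
  have ya : y₀ a = b := by
    rw [hy₀, pow_odd_apply_aux g₂ a (by rw [g₂a, g₂b]) hk₂, g₂a]
  have yb : y₀ b = a := by
    rw [hy₀, pow_odd_apply_aux g₂ b (by rw [g₂b, g₂a]) hk₂, g₂b]
  have yc : y₀ c = c := by
    rw [hy₀, pow_odd_apply_aux g₂ c (by rw [g₂c, g₂c]) hk₂, g₂c]
  have yd : y₀ d = d := by
    rw [hy₀, pow_odd_apply_aux g₂ d (by rw [g₂d, g₂d]) hk₂, g₂d]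
  -- g = x * y₀
  set g := x * y₀ with hg
  have hgG : g ∈ G := G.mul_mem hxG hy₀G
  have ga : g a = b := by rw [hg, Perm.mul_apply, ya, xb]
  have gb : g b = a := by rw [hg, Perm.mul_apply, yb, xa]
  have gc : g c = d := by rw [hg, Perm.mul_apply, yc, xc]
  have gd : g d = c := by rw [hg, Perm.mul_apply, yd, xd]
  obtain ⟨k, hk, hz2⟩ := odd_pow_invol_aux G hodd hab hac had hbc hbd hcd hgG
    (by rw [ga, gb]) (by rw [gb, ga]) (by rw [gc, gd]) (by rw [gd, gc])
  set z := g ^ k with hz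
  have hzG : z ∈ G := G.pow_mem hgG _
  have za : z a = b := by
    rw [hz, pow_odd_apply_aux g a (by rw [ga, gb]) hk, ga]
  have zb : z b = a := by
    rw [hz, pow_odd_apply_aux g b (by rw [gb, ga]) hk, gb]
  have zc : z c = d := by
    rw [hz, pow_odd_apply_aux g c (by rw [gc, gd]) hk, gc]
  have zd : z d = c := by
    rw [hz, pow_odd_apply_aux g d (by rw [gd, gc]) hk, gd]
  -- inverses
  have xinv : x⁻¹ = x := inv_eq_of_mul_eq_one_right hx2
  have yinv : y₀⁻¹ = y₀ := inv_eq_of_mul_eq_one_right hy2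
  have zinv : z⁻¹ = z := inv_eq_of_mul_eq_one_right hz2
  have hconj : x * g * x⁻¹ = g⁻¹ := by
    rw [hg, mul_inv_rev, xinv, yinv, ← mul_assoc, hx2, one_mul]
  have hxz : x * z * x⁻¹ = z := by
    rw [hz, ← conj_pow, hconj, inv_pow, ← hz, zinv]
  have hcomm : x * z = z * x := by
    have := congrArg (· * x) hxz
    simpa [mul_assoc] using this
  refine ⟨x, x * z, ?_⟩
  refine
    { hab := hab, hac := hac, had := had, hbc := hbc, hbd := hbd, hcd := hcd
      hx := hxG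
      hy := G.mul_mem hxG hzG
      x2 := hx2
      y2 := ?_
      comm := ?_
      xa := xa, xb := xb, xc := xc, xd := xd
      ya := by rw [Perm.mul_apply, za, xb]
      yb := by rw [Perm.mul_apply, zb, xa]
      yc := by rw [Perm.mul_apply, zc, xd]
      yd := by rw [Perm.mul_apply, zd, xc] }
  · calc x * z * (x * z) = x * (z * x) * z := by simp only [mul_assoc]
      _ = x * (x * z) * z := by rw [hcomm]
      _ = (x * x) * (z * z) := by simp only [mul_assoc]
      _ = 1 := by rw [hx2, hz2, one_mul]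
  · calc x * (x * z) = x * (z * x) := by rw [hcomm]
      _ = x * z * x := by rw [mul_assoc]

end Cfsg.Agent.Lib.Helper32.Hall4
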