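import Mathlib
import Cfsg.Agent.Lib.Helper06.NFDefs
import Cfsg.Agent.Lib.Helper23.NF4a

/-!
# K-S3360-TRC: orbit-stabilizer divisibility and cyclicity of `A` inside the field `adj H A`
-/

set_option autoImplicit false
set_option linter.style.haveILetI false

namespace Cfsg.Agent.Lib.Helper32.NF2

open Cfsg.Agent.Lib.Helper06.NF

variable {p : ℕ} [Fact p.Prime] {V : Type*} [AddCommGroup V] [Module (ZMod p) V]

theorem card_sub_one_dvd [Finite V] [Nontrivial V] (H : Subgroup (V ≃ₗ[ZMod p] V))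
    (htrans : ∀ v w : V, v ≠ 0 → w ≠ 0 → ∃ h : H, (h : V ≃ₗ[ZMod p] V) v = w) :
    Nat.card V - 1 ∣ Nat.card H := by
  classical
  haveI : Finite H := finite_subgroup_linearEquiv H
  obtain ⟨v₀, hv₀⟩ := exists_ne (0 : V)
  have horb : MulAction.orbit H v₀ = ({0}ᶜ : Set V) := by
    ext w
    constructor
    · rintro ⟨h, rfl⟩
      show (h • v₀) ∈ ({0}ᶜ : Set V)
      simp only [Set.mem_compl_iff, Set.mem_singleton_iff]
      intro h0
      apply hv₀
      have h1 : ((h : V ≃ₗ[ZMod p] V)) v₀ = 0 := h0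
      exact (LinearEquiv.map_eq_zero_iff _).mp h1
    · intro hw
      simp only [Set.mem_compl_iff, Set.mem_singleton_iff] at hw
      obtain ⟨h, hh⟩ := htrans v₀ w hv₀ hw
      exact ⟨h, hh⟩
  have hcard : Nat.card (MulAction.orbit H v₀) = Nat.card V - 1 := by
    rw [horb, Nat.card_coe_set_eq, Set.ncard_compl, Set.ncard_singleton]
  have h2 := Nat.card_congr (MulAction.orbitProdStabilizerEquivGroup H v₀)
  rw [Nat.card_prod, hcard] at h2
  exact ⟨_, h2.symm⟩

theorem isCyclic_of_adj [Finite V] [Nontrivial V] (H : Subgroup (V ≃ₗ[ZMod p] V)) (A : Subgroup H)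
    (hAc : ∀ a ∈ A, ∀ b ∈ A, a * b = b * a)
    (hK : ∀ k ∈ adj H A, ∀ v : V, v ≠ 0 → k v = 0 → k = 0) : IsCyclic A := by
  classical
  haveI : Finite H := finite_subgroup_linearEquiv H
  have hgen : ∀ f ∈ {f : Module.End (ZMod p) V | ∃ a ∈ A,
      f = (((a : H) : V ≃ₗ[ZMod p] V) : V →ₗ[ZMod p] V)},
      ∀ g ∈ {f : Module.End (ZMod p) V | ∃ a ∈ A,
      f = (((a : H) : V ≃ₗ[ZMod p] V) : V →ₗ[ZMod p] V)}, f * g = g * f := by
    rintro f ⟨a, ha, rfl⟩ g ⟨b, hb, rfl⟩
    ext v
    have := congrArg (fun h : H => ((h : V ≃ₗ[ZMod p] V) v)) (hAc a ha b hb)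
    simpa using this
  have hc : ∀ x ∈ adj H A, ∀ y ∈ adj H A, x * y = y * x := by
    have hI : IsMulCommutative ↥(adj H A) := Algebra.isMulCommutative_adjoin (ZMod p) hgen
    intro x hx y hy
    exact setLike_mul_comm hx hy
  obtain ⟨v₁, hv₁⟩ := exists_ne (0 : V)
  letI : CommRing (adj H A) :=
    { (inferInstance : Ring (adj H A)) with
      mul_comm := fun x y => Subtype.ext (hc x.1 x.2 y.1 y.2) }
  haveI : Nontrivial (adj H A) := by
    refine ⟨⟨0, 1, fun h => hv₁ ?_⟩⟩
    have h2 : ((0 : adj H A) : Module.End (ZMod p) V) v₁ =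
        ((1 : adj H A) : Module.End (ZMod p) V) v₁ := by
      rw [h]
    simpa using h2.symm
  haveI : NoZeroDivisors (adj H A) := by
    refine ⟨fun {a b} hab => ?_⟩
    by_cases hb : b = 0
    · exact Or.inr hb
    · left
      have hb' : (b : Module.End (ZMod p) V) ≠ 0 := fun h => hb (Subtype.ext h)
      obtain ⟨v, hv⟩ : ∃ v, (b : Module.End (ZMod p) V) v ≠ 0 := by
        by_contra hcon
        push Not at hcon
        exact hb' (LinearMap.ext hcon)
      have h1 : (a : Module.End (ZMod p) V) ((b : Module.End (ZMod p) V) v) = 0 := by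
        have := congrArg (fun k : adj H A => (k : Module.End (ZMod p) V) v) hab
        simpa using this
      exact Subtype.ext (hK a.1 a.2 _ hv h1)
  haveI : IsDomain (adj H A) := NoZeroDivisors.to_isDomain _
  exact isCyclic_of_injective_ringHom (Cfsg.Agent.Lib.Helper23.NF.toK H A)
    (Cfsg.Agent.Lib.Helper23.NF.toK_injective H A)

end Cfsg.Agent.Lib.Helper32.NF2
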