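import Mathlib
import Cfsg.Prelude.Def_Local
import Cfsg.Agent.Lib.Helper06.SylAlt.Defs
import Cfsg.Agent.Lib.Helper12.SylAltP5b
import Cfsg.Agent.Lib.Helper54.SylAltG1

/-!
# K-SylTwo-E5 (keystone 292813, row S2928, architect helper6): a quasisimple normal subgroup of a group
containing `altOn Δ` and fixing `Δᶜ` pointwise is `altOn Δ`.
-/

set_option autoImplicit false
set_option linter.unusedVariables false
set_option linter.style.haveILetI false

namespace Cfsg.Agent.Lib.Helper32.SylTwo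

open Equiv Equiv.Perm
open Cfsg.Agent.Lib.Helper06.SylAlt

variable {α : Type*} [Fintype α] [DecidableEq α]

/-- a permutation fixing `Δᶜ` pointwise and commuting with `altOn Δ` (`|Δ| ≥ 5`) is trivial -/
theorem eq_one_of_commute_altOn (Δ : Set α) (h5 : 5 ≤ Δ.ncard) (k : Perm α)
    (hfix : ∀ x, x ∉ Δ → k x = x) (hcomm : ∀ a ∈ altOn Δ, a * k = k * a) : k = 1 := by
  classical
  ext x
  rw [Perm.one_apply]
  by_contra hne
  set y := k x with hy
  have hxΔ : x ∈ Δ := by
    by_contra hx
    exact hne (hfix x hx)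
  have hyΔ : y ∈ Δ := by
    by_contra hyn
    have h1 : k y = y := hfix y hyn
    have h2 : y = x := k.injective h1
    exact hne h2
  -- two further points of `Δ`
  have hfin : Δ.ncard = Δ.toFinset.card := Set.ncard_eq_toFinset_card' Δ
  have hc1 : 3 ≤ ((Δ.toFinset.erase x).erase y).card := by
    have h1 : (Δ.toFinset.erase x).card = Δ.toFinset.card - 1 :=
      Finset.card_erase_of_mem (Set.mem_toFinset.mpr hxΔ)
    have h2 : ((Δ.toFinset.erase x).erase y).card = (Δ.toFinset.erase x).card - 1 :=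
      Finset.card_erase_of_mem (Finset.mem_erase.mpr ⟨hne, Set.mem_toFinset.mpr hyΔ⟩)
    omega
  obtain ⟨z, hz⟩ : ((Δ.toFinset.erase x).erase y).Nonempty := Finset.card_pos.mp (by omega)
  have hc2 : 2 ≤ (((Δ.toFinset.erase x).erase y).erase z).card := by
    rw [Finset.card_erase_of_mem hz]
    omega
  obtain ⟨w, hw⟩ : (((Δ.toFinset.erase x).erase y).erase z).Nonempty :=
    Finset.card_pos.mp (by omega)
  simp only [Finset.mem_erase, Set.mem_toFinset] at hz hw
  obtain ⟨hzy, hzx, hzΔ⟩ := hz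
  obtain ⟨hwz, hwy, hwx, hwΔ⟩ := hw
  -- the 3-cycle `y → z → w → y`
  set a : Perm α := swap y z * swap z w with ha
  have haA : a ∈ altOn Δ := by
    rw [mem_altOn]
    constructor
    · rw [mem_alternatingGroup, ha, Perm.sign_mul, Perm.sign_swap (Ne.symm hzy),
        Perm.sign_swap (Ne.symm hwz)]
      simp
    · intro t ht
      have hty : t ≠ y := fun h => ht (h ▸ hyΔ)
      have htz : t ≠ z := fun h => ht (h ▸ hzΔ)
      have htw : t ≠ w := fun h => ht (h ▸ hwΔ)
      rw [ha, Perm.mul_apply, swap_apply_of_ne_of_ne htz htw, swap_apply_of_ne_of_ne hty htz]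
  have hax : a x = x := by
    rw [ha, Perm.mul_apply, swap_apply_of_ne_of_ne (Ne.symm hzx) (Ne.symm hwx),
      swap_apply_of_ne_of_ne (fun h => hne h.symm) (Ne.symm hzx)]
  have hay : a y = z := by
    rw [ha, Perm.mul_apply, swap_apply_of_ne_of_ne (Ne.symm hzy) (Ne.symm hwy), swap_apply_left]
  have h1 := congrArg (fun f : Perm α => f x) (hcomm a haA)
  simp only [Perm.mul_apply] at h1
  rw [hax, ← hy, hay] at h1
  exact hzy h1

/-- **K-SylTwo-E5.** -/
theorem eq_altOn (G K : Subgroup (Perm α)) (Δ : Set α) (hfix : ∀ g ∈ G, ∀ x, x ∉ Δ → g x = x) (hKG : K ≤ G)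
    (hGK : G ≤ Subgroup.normalizer (K : Set (Perm α))) (hq : Cfsg.IsQuasisimple ↥K) (h5 : 5 ≤ Δ.ncard)
    (hle : altOn Δ ≤ G) : K = altOn Δ := by
  classical
  -- `G` normalizes `altOn Δ`
  have hconj : ∀ g ∈ G, ∀ σ ∈ altOn Δ, g * σ * g⁻¹ ∈ altOn Δ := by
    intro g hg σ hσ
    rw [mem_altOn] at hσ ⊢
    constructor
    · rw [mem_alternatingGroup] at hσ ⊢
      rw [Perm.sign_mul, Perm.sign_mul, Perm.sign_inv, hσ.1, mul_one]
      exact Int.units_mul_self _
    · intro x hx
      have h1 : g⁻¹ x = x := by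
        rw [Perm.inv_eq_iff_eq]
        exact (hfix g hg x hx).symm
      rw [Perm.mul_apply, Perm.mul_apply, h1, hσ.2 x hx, hfix g hg x hx]
  have hGA : G ≤ Subgroup.normalizer ((altOn Δ : Subgroup (Perm α)) : Set (Perm α)) := by
    intro g hg
    rw [Subgroup.mem_normalizer_iff]
    intro σ
    constructor
    · exact hconj g hg σ
    · intro h
      have h1 := hconj g⁻¹ (G.inv_mem hg) _ h
      have h2 : g⁻¹ * (g * σ * g⁻¹) * g⁻¹⁻¹ = σ := by group
      rwa [h2] at h1
  -- `altOn Δ` is quasisimple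
  have hqA : Cfsg.IsQuasisimple ↥(altOn Δ) := by
    have h1 := Cfsg.Agent.Lib.Helper12.SylAlt.isQuasisimple_altOn (α := α) Δ.toFinset (by
      rw [← Set.ncard_eq_toFinset_card' Δ]
      exact h5)
    rwa [Set.coe_toFinset] at h1
  -- the commuting alternative is impossible
  have hKne : K ≠ ⊥ := by
    intro hK
    obtain ⟨-, hsimple⟩ := hq
    haveI : Subsingleton ↥K := by
      rw [hK]
      infer_instance
    haveI := hsimple.toNontrivial
    exact not_subsingleton (↥K ⧸ Subgroup.center ↥K) inferInstance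
  have hnocomm : ¬ ∀ a ∈ altOn Δ, ∀ k ∈ K, a * k = k * a := by
    intro hc
    apply hKne
    rw [Subgroup.eq_bot_iff_forall]
    intro k hk
    exact eq_one_of_commute_altOn Δ h5 k (hfix k (hKG hk)) (fun a ha => hc a ha k hk)
  rcases Cfsg.Agent.Lib.Helper54.SylAlt.le_or_commute_of_quasisimple G K (altOn Δ) hKG hGK hq hle hGA with
    h1 | h1
  · rcases Cfsg.Agent.Lib.Helper54.SylAlt.le_or_commute_of_quasisimple G (altOn Δ) K hle hGA hqA hKG hGK with
      h2 | h2
    · exact le_antisymm h1 h2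
    · exact absurd (fun a ha k hk => (h2 k hk a ha).symm) hnocomm
  · exact absurd h1 hnocomm

end Cfsg.Agent.Lib.Helper32.SylTwo
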