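import Mathlib
import Cfsg.Agent.Lib.Helper20.SympEmbed

/-!
# K-S2721-B1 (keystone 272104, rows S2721 / S2720, architect helper7): the determinant of a similarity
commuting with a fixed-point-free isometry of odd order.
-/

set_option autoImplicit false
set_option linter.unusedVariables false
set_option linter.unusedSectionVars false
set_option linter.style.haveILetI false

namespace Cfsg.Agent.Lib.Helper32.S2721K

open Module Matrix

universe u
variable {F : Type u} [Field F] {ι : Type} [Fintype ι] [DecidableEq ι]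

/-- a similarity with multiplier `ν` of a nondegenerate alternating form in dimension `2n` has
determinant `ν ^ n` -/
theorem det_of_alt_sim (n : ℕ) (hcard : Fintype.card ι = 2 * n) (N c : Matrix ι ι F) (ν : F)
    (hNalt : ∀ x : ι → F, x ⬝ᵥ N *ᵥ x = 0) (hN : N.det ≠ 0) (hc : cᵀ * N * c = ν • N) :
    c.det = ν ^ n := by
  classical
  by_cases hν : ν = 0
  · subst hν
    rw [zero_smul] at hc
    have h1 := congrArg Matrix.det hc
    rw [Matrix.det_mul, Matrix.det_mul, Matrix.det_transpose] at h1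
    rcases Nat.eq_zero_or_pos n with hn | hn
    · subst hn
      haveI : IsEmpty ι := Fintype.card_eq_zero_iff.mp (by omega)
      rw [Matrix.det_isEmpty, pow_zero]
    · rw [zero_pow (by omega)]
      have hz : (0 : Matrix ι ι F).det = 0 := by
        haveI : Nonempty ι := Fintype.card_pos_iff.mp (by omega)
        exact Matrix.det_zero
      rw [hz] at h1
      rcases mul_eq_zero.mp h1 with h2 | h2
      · rcases mul_eq_zero.mp h2 with h3 | h3
        · exact h3
        · exact absurd h3 hN
      · exact h2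
  · set ω : LinearMap.BilinForm F (ι → F) := Matrix.toBilin' N with hω
    have hA : ω.IsAlt := by
      intro x
      rw [hω, Matrix.toBilin'_apply']
      exact hNalt x
    have hNd : ω.Nondegenerate := LinearMap.BilinForm.nondegenerate_toBilin'_of_det_ne_zero' N hN
    have hfin : finrank F (ι → F) = 2 * n := by
      rw [Module.finrank_fintype_fun_eq_card, hcard]
    obtain ⟨b, hb⟩ := Cfsg.Agent.Lib.Helper20.exists_symplectic_basis ω hA hNd n hfin
    set c' : Matrix (Fin n ⊕ Fin n) (Fin n ⊕ Fin n) F :=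
      LinearMap.toMatrix b b (Matrix.toLin' c) with hc'
    have hcomp : ω.comp (Matrix.toLin' c) (Matrix.toLin' c) = ν • ω := by
      rw [hω, Matrix.toBilin'_comp, hc, map_smul]
    have h1 := LinearMap.BilinForm.toMatrix_comp (b := b) (c := b) ω (Matrix.toLin' c)
      (Matrix.toLin' c)
    rw [hcomp, hb, map_smul, hb, ← hc'] at h1
    -- `h1 : ν • J = c'ᵀ * J * c'`
    have hdet : c'.det = c.det := by
      rw [hc', LinearMap.det_toMatrix, LinearMap.det_toLin']
    set D : Matrix (Fin n ⊕ Fin n) (Fin n ⊕ Fin n) F :=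
      Matrix.fromBlocks (ν⁻¹ • (1 : Matrix (Fin n) (Fin n) F)) 0 0 1 with hD
    have hDT : Dᵀ = D := by
      rw [hD, Matrix.fromBlocks_transpose]
      simp
    have hDJD : D * Matrix.J (Fin n) F * D = ν⁻¹ • Matrix.J (Fin n) F := by
      rw [hD, Matrix.J, Matrix.fromBlocks_multiply, Matrix.fromBlocks_multiply, Matrix.fromBlocks_smul]
      congr 1 <;> simp
    have hmem : c' * D ∈ Matrix.symplecticGroup (Fin n) F := by
      rw [SymplecticGroup.mem_iff', Matrix.transpose_mul, hDT]
      calc D * c'ᵀ * Matrix.J (Fin n) F * (c' * D)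
          = D * (c'ᵀ * Matrix.J (Fin n) F * c') * D := by
            simp only [Matrix.mul_assoc]
        _ = Matrix.J (Fin n) F := by
            rw [← h1, Matrix.mul_smul, Matrix.smul_mul, hDJD, smul_smul, mul_inv_cancel₀ hν,
              one_smul]
    have h2 := SymplecticGroup.det_eq_one hmem
    rw [Matrix.det_mul, hdet, hD, Matrix.det_fromBlocks_zero₂₁, Matrix.det_one, mul_one,
      Matrix.det_smul, Matrix.det_one, mul_one, Fintype.card_fin] at h2
    have h3 : c.det = c.det * (ν⁻¹ ^ n * ν ^ n) := by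
      rw [← mul_pow, inv_mul_cancel₀ hν, one_pow, mul_one]
    rw [h3, ← mul_assoc, h2, one_mul]

/-- K-S2721-B1: determinant of a similarity commuting with a fixed-point-free isometry of odd order. -/
theorem det_of_comm_sim (h2 : (2 : F) ≠ 0) (n : ℕ) (hcard : Fintype.card ι = 2 * n)
    (G S c : Matrix ι ι F) (ν : F) (hGs : Gᵀ = G) (hG : IsUnit G.det)
    (hS : Sᵀ * G * S = G) (hc : cᵀ * G * c = ν • G) (hcS : c * S = S * c)
    {r : ℕ} (hro : Odd r) (hSr : S ^ r = 1) (hfix : ∀ v : ι → F, S *ᵥ v = v → v = 0) :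
    c.det = ν ^ n := by
  classical
  obtain ⟨k, hk⟩ := hro
  set T : Matrix ι ι F := S ^ (2 * k) with hT
  have hST : S * T = 1 := by
    rw [hT, ← pow_succ', ← hk, hSr]
  have hTS : T * S = 1 := by
    rw [hT, ← pow_succ, ← hk, hSr]
  have hcT : c * T = T * c := by
    rw [hT]
    exact (Commute.pow_right hcS (2 * k)).eq
  -- adjoint relations
  have hSG : Sᵀ * G = G * T := by
    calc Sᵀ * G = Sᵀ * G * (S * T) := by rw [hST, Matrix.mul_one]
      _ = (Sᵀ * G * S) * T := by simp only [Matrix.mul_assoc]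
      _ = G * T := by rw [hS]
  have hTG : Tᵀ * G = G * S := by
    have h1 : Tᵀ * Sᵀ = 1 := by rw [← Matrix.transpose_mul, hST, Matrix.transpose_one]
    calc Tᵀ * G = Tᵀ * (Sᵀ * G * S) := by rw [hS]
      _ = (Tᵀ * Sᵀ) * G * S := by simp only [Matrix.mul_assoc]
      _ = G * S := by rw [h1, Matrix.one_mul]
  set N : Matrix ι ι F := G * (S - T) with hN
  have hNT : Nᵀ = -N := by
    rw [hN, Matrix.transpose_mul, Matrix.transpose_sub, hGs, Matrix.sub_mul, hSG, hTG,
      Matrix.mul_sub, neg_sub]
  have hNalt : ∀ x : ι → F, x ⬝ᵥ N *ᵥ x = 0 := by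
    intro x
    have h1 : x ⬝ᵥ N *ᵥ x = x ⬝ᵥ Nᵀ *ᵥ x := by
      rw [Matrix.dotProduct_mulVec, ← Matrix.mulVec_transpose, dotProduct_comm]
    rw [hNT, Matrix.neg_mulVec, dotProduct_neg] at h1
    have h3 : (2 : F) * (x ⬝ᵥ N *ᵥ x) = 0 := by linear_combination h1
    rcases mul_eq_zero.mp h3 with h4 | h4
    · exact absurd h4 h2
    · exact h4
  -- `S - T` is injective
  have hker : ∀ v : ι → F, (S - T) *ᵥ v = 0 → v = 0 := by
    intro v hv
    rw [Matrix.sub_mulVec, sub_eq_zero] at hv
    -- `S² v = v`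
    have h1 : (S * S) *ᵥ v = v := by
      rw [← Matrix.mulVec_mulVec, hv, Matrix.mulVec_mulVec, hST, Matrix.one_mulVec]
    have h3 : ∀ j : ℕ, (S ^ (2 * j)) *ᵥ v = v := by
      intro j
      induction j with
      | zero => simp
      | succ j ih =>
        have : S ^ (2 * (j + 1)) = S ^ (2 * j) * (S * S) := by
          rw [← pow_two, ← pow_add, mul_add, mul_one]
        rw [this, ← Matrix.mulVec_mulVec, h1, ih]
    apply hfix
    have h4 : S ^ r *ᵥ v = S *ᵥ v := by
      rw [hk, pow_succ', ← Matrix.mulVec_mulVec, h3 k]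
    rw [← h4, hSr, Matrix.one_mulVec]
  have hdetST : (S - T).det ≠ 0 := by
    intro h0
    obtain ⟨v, hv0, hv⟩ := Matrix.exists_mulVec_eq_zero_iff.mpr h0
    exact hv0 (hker v hv)
  have hNdet : N.det ≠ 0 := by
    rw [hN, Matrix.det_mul]
    exact mul_ne_zero hG.ne_zero hdetST
  have hcN : cᵀ * N * c = ν • N := by
    have h1 : (S - T) * c = c * (S - T) := by
      rw [Matrix.sub_mul, Matrix.mul_sub, hcS, hcT]
    calc cᵀ * N * c = cᵀ * G * ((S - T) * c) := by rw [hN]; simp only [Matrix.mul_assoc]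
      _ = (cᵀ * G * c) * (S - T) := by rw [h1]; simp only [Matrix.mul_assoc]
      _ = ν • N := by rw [hc, hN, Matrix.smul_mul]
  exact det_of_alt_sim n hcard N c ν hNalt hNdet hcN

end Cfsg.Agent.Lib.Helper32.S2721K
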