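import Mathlib
import Cfsg.Prelude.Def_GeometricClasses
import Cfsg.Agent.Lib.Helper46.AschODefs
import Cfsg.Agent.Lib.Helper43.OmegaSimpleModels
import Cfsg.Agent.Lib.Helper50.IsometryClass

/-!
# K-S5673-T3 (keystone 567303, architect helper46): the standard odd-dimensional quadratic form read on `Fin (2m+1)`

Non-degenerate, Gram determinant `2 (-1)^m` (in the prime field), and the isometry group is transported by `glReindex`.
-/

set_option autoImplicit false
set_option linter.unusedSectionVars false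
set_option linter.style.haveILetI false

namespace Cfsg.Agent.Lib.Helper32.AschO

open Cfsg Cfsg.Geo Cfsg.Agent.Lib.Helper46.AschO
open scoped Matrix Kronecker MatrixGroups

variable {F : Type*} [Field F] [Fintype F]

/-- The Gram matrix of the polar form of `quadFormOdd`. -/
def oddGram (m : ℕ) (F : Type*) [Field F] : Matrix (Unit ⊕ (Fin m ⊕ Fin m)) (Unit ⊕ (Fin m ⊕ Fin m)) F :=
  Matrix.fromBlocks ((2 : F) • (1 : Matrix Unit Unit F)) 0 0
    (Matrix.fromBlocks (0 : Matrix (Fin m) (Fin m) F) 1 1 0)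

theorem det_oddGram (m : ℕ) : (oddGram m F).det = 2 * (-1) ^ m := by
  have h := Cfsg.Agent.Lib.Helper50.det_odd_gram (F := F) m 1
  rw [mul_one] at h
  exact h

theorem polar_odd (m : ℕ) (u v : Unit ⊕ (Fin m ⊕ Fin m) → F) :
    QuadraticMap.polar (quadFormOdd m F) u v = Matrix.toBilin' (oddGram m F) u v :=
  Cfsg.Agent.Lib.Helper43.polar_quadFormOdd43 m u v

theorem polar_transport {ι κ : Type} [Fintype ι] [DecidableEq ι] [Fintype κ] [DecidableEq κ] (e : κ ≃ ι)
    (Q : (κ → F) → F) (u v : ι → F) :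
    QuadraticMap.polar (fun w : ι → F => Q (w ∘ e)) u v = QuadraticMap.polar Q (u ∘ e) (v ∘ e) := rfl

theorem single_comp_equiv {ι κ : Type} [DecidableEq ι] [DecidableEq κ] (e : κ ≃ ι) (a : ι) :
    (Pi.single a (1 : F) : ι → F) ∘ e = Pi.single (e.symm a) 1 := by
  funext k
  simp only [Function.comp_apply, Pi.single_apply, Equiv.eq_symm_apply]

/-- K-S5673-T3. -/
theorem quadFormOdd_transport (hq : Odd (Fintype.card F)) (m : ℕ)
    (e : (Unit ⊕ (Fin m ⊕ Fin m)) ≃ Fin (2 * m + 1)) :
    IsNondegenerateQuadraticForm (fun v : Fin (2 * m + 1) → F => quadFormOdd m F (v ∘ e)) ∧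
    DiscInPrimeField (fun v : Fin (2 * m + 1) → F => quadFormOdd m F (v ∘ e)) ∧
    ∀ H : Subgroup (GL (Unit ⊕ (Fin m ⊕ Fin m)) F), H ≤ isometryGroup F (quadFormOdd m F) →
      H.map (glReindex (F := F) e).toMonoidHom ≤
        isometryGroup F (fun v : Fin (2 * m + 1) → F => quadFormOdd m F (v ∘ e)) := by
  -- `2 ≠ 0`
  have h2 : (2 : F) ≠ 0 := by
    intro h
    obtain ⟨p, hp⟩ := CharP.exists F
    haveI := hp
    have hp2 : p = 2 := by
      have hdvd : p ∣ 2 := by
        have := (CharP.cast_eq_zero_iff F p 2).mp (by exact_mod_cast h)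
        exact this
      have hpp : p.Prime := by
        rcases CharP.char_is_prime_or_zero F p with h' | h'
        · exact h'
        · exact absurd h' (CharP.char_ne_zero_of_finite F p)
      exact (Nat.prime_dvd_prime_iff_eq hpp Nat.prime_two).mp hdvd
    subst hp2
    have : 2 ∣ Fintype.card F := by
      obtain ⟨n, hn, hc⟩ := FiniteField.card F 2
      rw [hc]
      exact dvd_pow_self 2 n.ne_zero
    rcases hq with ⟨k, hk⟩
    omega
  have hdet : (oddGram m F).det ≠ 0 := by
    rw [det_oddGram]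
    exact mul_ne_zero h2 (pow_ne_zero _ (neg_ne_zero.mpr one_ne_zero))
  have hpol : ∀ u v : Fin (2 * m + 1) → F,
      QuadraticMap.polar (fun w : Fin (2 * m + 1) → F => quadFormOdd m F (w ∘ e)) u v =
        Matrix.toBilin' (oddGram m F) (u ∘ e) (v ∘ e) := by
    intro u v
    rw [polar_transport, polar_odd]
  refine ⟨⟨?_, ⟨?_, ?_, ?_, ?_⟩, ?_⟩, ?_, ?_⟩
  · -- smul
    intro c v
    have h := (Cfsg.Agent.Lib.Helper43.qdataOdd43 (F := F) m h2).hsm c (v ∘ e)
    show quadFormOdd m F ((c • v) ∘ e) = c ^ 2 * quadFormOdd m F (v ∘ e)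
    have : (c • v) ∘ e = c • (v ∘ e) := rfl
    rw [this, h, pow_two]
  · intro x y v
    rw [hpol, hpol, hpol]
    have : (x + y) ∘ e = x ∘ e + y ∘ e := rfl
    rw [this, LinearMap.map_add₂]
  · intro c x v
    rw [hpol, hpol]
    have : (c • x) ∘ e = c • (x ∘ e) := rfl
    rw [this, LinearMap.map_smul₂, smul_eq_mul]
  · intro v x y
    rw [hpol, hpol, hpol]
    have : (x + y) ∘ e = x ∘ e + y ∘ e := rfl
    rw [this, map_add]
  · intro c v x
    rw [hpol, hpol]
    have : (c • x) ∘ e = c • (x ∘ e) := rfl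
    rw [this, map_smul, smul_eq_mul]
  · -- nondegenerate
    intro v hv
    have hw : v ∘ e ≠ 0 := by
      intro h
      apply hv
      funext j
      have := congrFun h (e.symm j)
      simpa using this
    have hex : ∃ x₀ : Unit ⊕ (Fin m ⊕ Fin m) → F, Matrix.toBilin' (oddGram m F) x₀ (v ∘ e) ≠ 0 := by
      by_contra hcon
      push Not at hcon
      apply hw
      apply Matrix.eq_zero_of_mulVec_eq_zero hdet
      funext k
      have := hcon (Pi.single k 1)
      rw [Matrix.toBilin'_apply'] at this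
      simpa using this
    obtain ⟨x₀, hx₀⟩ := hex
    have hx : Matrix.toBilin' (oddGram m F) ((x₀ ∘ e.symm) ∘ e) (v ∘ e) ≠ 0 := by
      have : (x₀ ∘ e.symm) ∘ e = x₀ := by
        funext k
        simp
      rw [this]
      exact hx₀
    refine ⟨⟨x₀ ∘ e.symm, ?_⟩, ⟨x₀ ∘ e.symm, ?_⟩⟩
    · rw [hpol]
      exact hx
    · rw [QuadraticMap.polar_comm, hpol]
      exact hx
  · -- discriminant
    refine ⟨2 * (-1) ^ m, 1, one_ne_zero, ?_⟩
    have hgram : gramMatrix (QuadraticMap.polar
        (fun w : Fin (2 * m + 1) → F => quadFormOdd m F (w ∘ e))) =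
        (oddGram m F).submatrix e.symm e.symm := by
      funext a b
      show QuadraticMap.polar (fun w : Fin (2 * m + 1) → F => quadFormOdd m F (w ∘ e))
        (Pi.single a 1) (Pi.single b 1) = _
      rw [hpol, single_comp_equiv, single_comp_equiv, Matrix.toBilin'_single]
      rfl
    rw [hgram, Matrix.det_submatrix_equiv_self, det_oddGram]
    push_cast
    ring
  · -- isometry groups
    intro H hH g hg
    obtain ⟨g₀, hg₀, rfl⟩ := Subgroup.mem_map.mp hg
    have hiso := hH hg₀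
    intro u v
    show quadFormOdd m F (((((glReindex (F := F) e).toMonoidHom g₀ : GL (Fin (2 * m + 1)) F) :
      Matrix (Fin (2 * m + 1)) (Fin (2 * m + 1)) F) *ᵥ u) ∘ e) = quadFormOdd m F (u ∘ e)
    have hval : (((glReindex (F := F) e).toMonoidHom g₀ : GL (Fin (2 * m + 1)) F) :
        Matrix (Fin (2 * m + 1)) (Fin (2 * m + 1)) F) =
        (g₀ : Matrix _ _ F).submatrix e.symm e.symm := rfl
    rw [hval, Matrix.submatrix_mulVec_equiv]
    have hcomp : ((g₀ : Matrix _ _ F) *ᵥ (u ∘ ⇑e.symm.symm)) ∘ ⇑e.symm ∘ ⇑e =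
        (g₀ : Matrix _ _ F) *ᵥ (u ∘ e) := by
      funext k
      simp
    have h1 := hiso (u ∘ e) (u ∘ e)
    rw [show (((g₀ : Matrix _ _ F) *ᵥ (u ∘ ⇑e.symm.symm)) ∘ ⇑e.symm) ∘ ⇑e =
      (g₀ : Matrix _ _ F) *ᵥ (u ∘ e) from hcomp]
    exact h1

end Cfsg.Agent.Lib.Helper32.AschO
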