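import Mathlib
import Cfsg.Agent.Lib.Helper74.FCDefs
import Cfsg.Agent.Lib.Helper01.FrobPackage

/-!
# K-S3359-2: a Frobenius complement acts fixed-point-freely on the Frobenius kernel
-/

set_option autoImplicit false

universe u

namespace Cfsg.Agent.Lib.Helper32.FC

open Cfsg.Agent.Lib.Helper74.FC

theorem exists_fpf_action {G : Type u} [Group G] [Finite G] (h : IsFC G) : FpfAct G := by
  obtain ⟨L, instL, finL, H, hH, ⟨e⟩⟩ := h
  obtain ⟨N, hN, hNn, -⟩ := Cfsg.Agent.S0035.result H hH
  have pkg := Cfsg.Agent.Lib.Helper01.frobPkg_of H N hH hN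
  have : N.Normal := hNn
  refine ⟨↥N, inferInstance, inferInstance,
    (MulAut.conjNormal (H := N)).comp (H.subtype.comp e.toMonoidHom), ?_, ?_⟩
  · exact (Subgroup.nontrivial_iff_ne_bot N).mpr pkg.N_ne
  · intro g hg k hk
    have hc1 : ((e g : H) : L) ≠ 1 := by
      intro h1
      apply hg
      have h2 : e g = 1 := Subtype.ext h1
      exact e.injective (h2.trans (map_one e).symm)
    have hfp := pkg.fpf ((e g : H) : L) (e g).2 hc1
    have hk' : ((e g : H) : L) * (k : L) * ((e g : H) : L)⁻¹ = (k : L) := by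
      have := congrArg (fun x : ↥N => (x : L)) hk
      simpa [MulAut.conjNormal_apply] using this
    have hmem : (k : L) ∈ N ⊓ Subgroup.centralizer ({((e g : H) : L)} : Set L) := by
      refine Subgroup.mem_inf.mpr ⟨k.2, ?_⟩
      rw [Subgroup.mem_centralizer_iff]
      intro c hc
      rw [Set.mem_singleton_iff] at hc
      subst hc
      calc ((e g : H) : L) * (k : L)
          = (((e g : H) : L) * (k : L) * ((e g : H) : L)⁻¹) * ((e g : H) : L) := by group
        _ = (k : L) * ((e g : H) : L) := by rw [hk']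
    rw [hfp, Subgroup.mem_bot] at hmem
    exact Subtype.ext hmem

end Cfsg.Agent.Lib.Helper32.FC
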