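import Mathlib
import Cfsg.Agent.Lib.Helper04.ThompsonNorm

set_option autoImplicit false

/-!
# A Frobenius-type fixed point lemma (sub-task K15-D2 of S4305)
-/

namespace Cfsg.Agent.Lib.Helper32.S3Frob

open Subgroup

/-- (D2) Frobenius-type fixed point lemma: if `Z` of prime order `q` acts fixed-point-freely and
coprimely on the abelian group `W`, and `b` of prime order normalizes but does not centralize `Z`,
then `b` has a nontrivial fixed point on `W`. -/
theorem frob_fix {W : Type*} [CommGroup W] [Finite W] [Nontrivial W] {q m : ℕ}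
    (hq : q.Prime) (hm : m.Prime) (hqW : (Nat.card W).Coprime q)
    (Z : Subgroup (MulAut W)) (hZ : Nat.card Z = q)
    (hZfpf : ∀ w : W, (∀ z ∈ Z, z w = w) → w = 1)
    (b : MulAut W) (hb : b ^ m = 1) (hbZ : ∀ z ∈ Z, b * z * b⁻¹ ∈ Z)
    (hnc : ∃ z ∈ Z, b * z ≠ z * b) :
    ∃ w : W, w ≠ 1 ∧ b w = w := by
  classical
  by_contra hno
  push Not at hno
  have hfix : ∀ w : W, b w = w → w = 1 := by
    intro w hw
    by_contra h1
    exact hno w h1 hw
  have : Fact m.Prime := ⟨hm⟩
  have : Fact q.Prime := ⟨hq⟩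
  have hb1 : b ≠ 1 := by
    rintro rfl
    obtain ⟨z, -, hz⟩ := hnc
    exact hz (by rw [one_mul, mul_one])
  have hob : orderOf b = m := orderOf_eq_prime hb hb1
  have hZfin : Finite Z := Nat.finite_of_card_ne_zero (by rw [hZ]; exact hq.ne_zero)
  have hHcard : Nat.card (zpowers b) = m := by rw [Nat.card_zpowers, hob]
  have hHfin : Finite (zpowers b) := Nat.finite_of_card_ne_zero (by rw [hHcard]; exact hm.ne_zero)
  have : Fintype Z := Fintype.ofFinite _
  have : Fintype (zpowers b) := Fintype.ofFinite _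
  -- `H` normalizes `Z`
  have hpowN : ∀ j : ℕ, ∀ k ∈ Z, b ^ j * k * (b ^ j)⁻¹ ∈ Z := by
    intro j
    induction j with
    | zero => intro k hk; simpa using hk
    | succ j ih =>
      intro k hk
      have := hbZ _ (ih k hk)
      have e : b ^ (j + 1) * k * (b ^ (j + 1))⁻¹ = b * (b ^ j * k * (b ^ j)⁻¹) * b⁻¹ := by
        rw [pow_succ']; group
      rw [e]; exact this
  have hfo : IsOfFinOrder b := isOfFinOrder_iff_pow_eq_one.mpr ⟨m, hm.pos, hb⟩
  have hHN : ∀ h ∈ zpowers b, ∀ k ∈ Z, h * k * h⁻¹ ∈ Z := by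
    intro h hh k hk
    rw [← hfo.mem_powers_iff_mem_zpowers, Submonoid.mem_powers_iff] at hh
    obtain ⟨j, rfl⟩ := hh
    exact hpowN j k hk
  -- the centralizer of `b` in `Z` is trivial
  have hCZ : Z ⊓ centralizer ({b} : Set (MulAut W)) = ⊥ := by
    have hdvd : Nat.card (Z ⊓ centralizer ({b} : Set (MulAut W)) : Subgroup (MulAut W)) ∣ q := by
      rw [← hZ]; exact card_dvd_of_le inf_le_left
    rcases (Nat.dvd_prime hq).mp hdvd with h | h
    · exact (Subgroup.card_eq_one).mp h
    · exfalso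
      have hEq : Z ⊓ centralizer ({b} : Set (MulAut W)) = Z :=
        eq_of_le_of_card_ge inf_le_left (by rw [h, hZ])
      obtain ⟨z, hz, hzb⟩ := hnc
      have hz' : z ∈ Z ⊓ centralizer ({b} : Set (MulAut W)) := by rw [hEq]; exact hz
      have := (mem_inf.mp hz').2
      rw [mem_centralizer_iff] at this
      exact hzb (this b rfl)
  have hfpf : ∀ k ∈ Z, ∀ h ∈ zpowers b, h ≠ 1 → k * h = h * k → k = 1 := by
    intro k hk h hh h1 hkh
    -- `b` is a power of `h`
    have hgen : zpowers (⟨h, hh⟩ : zpowers b) = ⊤ :=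
      zpowers_eq_top_of_prime_card hHcard (fun e => h1 (congrArg Subtype.val e))
    have hbmem : (⟨b, mem_zpowers b⟩ : zpowers b) ∈ zpowers (⟨h, hh⟩ : zpowers b) := by
      rw [hgen]; exact mem_top _
    obtain ⟨j, hj⟩ := mem_zpowers_iff.mp hbmem
    have hj' : h ^ j = b := by
      have := congrArg Subtype.val hj
      simpa using this
    have hkb : b * k = k * b := by
      rw [← hj']
      exact ((Commute.zpow_right (show Commute k h from hkh) j).eq).symm
    have hkC : k ∈ Z ⊓ centralizer ({b} : Set (MulAut W)) := by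
      refine mem_inf.mpr ⟨hk, ?_⟩
      rw [mem_centralizer_iff]
      intro c hc
      rw [Set.mem_singleton_iff] at hc
      subst hc
      exact hkb
    rw [hCZ] at hkC
    exact mem_bot.mp hkC
  -- the norm of `H` kills `W`
  have hnorm : ∀ v : W, ∏ h : zpowers b, (MonoidHom.id (MulAut W)) h v = 1 := by
    intro v
    apply hfix
    rw [map_prod]
    apply Fintype.prod_equiv (Equiv.mulLeft (⟨b, mem_zpowers b⟩ : zpowers b))
    intro h
    simp [MulAut.mul_apply]
  -- the norm of `Z` is the `q`-th power map, and is `Z`-fixed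
  have hall : ∀ v : W, v = 1 := by
    intro v
    have h1 := Cfsg.Agent.Lib.Helper04.prod_eq_pow_card (MonoidHom.id (MulAut W)) Z (zpowers b)
      hHN hfpf hnorm v
    have h2 : ∏ k : Z, (MonoidHom.id (MulAut W)) k v = 1 := by
      apply hZfpf
      intro z hz
      rw [map_prod]
      apply Fintype.prod_equiv (Equiv.mulLeft (⟨z, hz⟩ : Z))
      intro k
      simp [MulAut.mul_apply]
    rw [h2, ← Nat.card_eq_fintype_card, hZ] at h1
    have ho : orderOf v ∣ q := orderOf_dvd_of_pow_eq_one h1.symm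
    have ho2 : orderOf v ∣ Nat.card W := orderOf_dvd_natCard v
    have : orderOf v ∣ 1 := by
      rw [← Nat.Coprime.gcd_eq_one hqW]
      exact Nat.dvd_gcd ho2 ho
    exact orderOf_eq_one_iff.mp (Nat.dvd_one.mp this)
  obtain ⟨w, hw⟩ := exists_ne (1 : W)
  exact hw (hall w)

end Cfsg.Agent.Lib.Helper32.S3Frob
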