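import Mathlib
import Cfsg.Agent.S3765

set_option autoImplicit false

/-!
# Holomorph form of S3765 (sub-task K15-D1 of S4305)
-/

namespace Cfsg.Agent.Lib.Helper32.S3Hol

open Subgroup SemidirectProduct

/-- (D1) holomorph form of S3765. -/
theorem s3765_hol {W : Type*} [CommGroup W] [Finite W] [Nontrivial W] {p q r : ℕ}
    (hp : p.Prime) (hq : q.Prime) (hr : r.Prime) (hpq : p ≠ q) (hpr : p ≠ r) (hqr : q ≠ r)
    (hq2 : q ≠ 2) (hW : ∀ w : W, w ^ p = 1)
    (Q : Subgroup (MulAut W)) (hQ : IsPGroup q Q) (x : MulAut W) (hx : x ^ r = 1)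
    (hxQ : ∀ g ∈ Q, x * g * x⁻¹ ∈ Q) (hnc : ∃ g ∈ Q, x * g ≠ g * x) :
    ∃ w : W, w ≠ 1 ∧ x w = w := by
  classical
  have : Fact r.Prime := ⟨hr⟩
  have hfinA : Finite (MulAut W) := Finite.of_injective (fun f : MulAut W => (f : W → W))
    (fun f g h => MulEquiv.ext (congrFun h))
  have hfinG : Finite (W ⋊[MonoidHom.id (MulAut W)] MulAut W) :=
    Finite.of_equiv _ (equivProd (φ := MonoidHom.id (MulAut W))).symm
  have hx1 : x ≠ 1 := by
    rintro rfl
    obtain ⟨g, -, hg⟩ := hnc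
    exact hg (by rw [one_mul, mul_one])
  have hox : orderOf x = r := orderOf_eq_prime hx hx1
  -- iterated conjugation
  have hpowQ : ∀ j : ℕ, ∀ g ∈ Q, x ^ j * g * (x ^ j)⁻¹ ∈ Q := by
    intro j
    induction j with
    | zero => intro g hg; simpa using hg
    | succ j ih =>
      intro g hg
      have := hxQ _ (ih g hg)
      have e : x ^ (j + 1) * g * (x ^ (j + 1))⁻¹ = x * (x ^ j * g * (x ^ j)⁻¹) * x⁻¹ := by
        rw [pow_succ']; group
      rw [e]; exact this
  have hxinvQ : ∀ g ∈ Q, x⁻¹ * g * x ∈ Q := by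
    intro g hg
    have hxinv : x⁻¹ = x ^ (r - 1) := by
      apply inv_eq_of_mul_eq_one_right
      rw [← pow_succ', Nat.sub_add_cancel hr.one_lt.le, hx]
    have := hpowQ (r - 1) g hg
    rw [← hxinv, inv_inv] at this
    exact this
  let Γ := W ⋊[MonoidHom.id (MulAut W)] MulAut W
  let iW : W →* Γ := inl
  let iA : MulAut W →* Γ := inr
  have hconj : ∀ (a : MulAut W) (w : W), iA a * iW w * (iA a)⁻¹ = iW (a w) := by
    intro a w
    have := inl_aut (φ := MonoidHom.id (MulAut W)) a w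
    simp only [MonoidHom.id_apply] at this
    rw [this, map_inv]
  have hVn : (iW.range).Normal := by
    have : iW.range = (rightHom (φ := MonoidHom.id (MulAut W))).ker := range_inl_eq_ker_rightHom
    rw [this]; infer_instance
  -- the data
  have hXcard : Nat.card (zpowers (iA x)) = r := by
    rw [Nat.card_zpowers, orderOf_injective iA inr_injective, hox]
  have hQ' : IsPGroup q (Q.map iA) := hQ.map iA
  have hxN : iA x ∈ normalizer ((Q.map iA : Subgroup Γ) : Set Γ) := by
    rw [mem_normalizer_iff]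
    intro h
    constructor
    · intro hh
      obtain ⟨g, hg, rfl⟩ := mem_map.mp hh
      refine mem_map.mpr ⟨x * g * x⁻¹, hxQ g hg, ?_⟩
      simp
    · intro hh
      obtain ⟨g, hg, hge⟩ := mem_map.mp hh
      refine mem_map.mpr ⟨x⁻¹ * g * x, hxinvQ g hg, ?_⟩
      rw [map_mul, map_mul, hge, map_inv]
      group
  have hXQ : zpowers (iA x) ≤ normalizer ((Q.map iA : Subgroup Γ) : Set Γ) :=
    (zpowers_le).mpr hxN
  have hXfaith : zpowers (iA x) ⊓ centralizer ((Q.map iA : Subgroup Γ) : Set Γ) = ⊥ := by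
    have hdvd : Nat.card (zpowers (iA x) ⊓ centralizer ((Q.map iA : Subgroup Γ) : Set Γ) :
        Subgroup Γ) ∣ r := by
      rw [← hXcard]; exact card_dvd_of_le inf_le_left
    rcases (Nat.dvd_prime hr).mp hdvd with h | h
    · exact (Subgroup.card_eq_one).mp h
    · exfalso
      have hEq : zpowers (iA x) ⊓ centralizer ((Q.map iA : Subgroup Γ) : Set Γ) = zpowers (iA x) :=
        eq_of_le_of_card_ge inf_le_left (by rw [h, hXcard])
      have hxc : iA x ∈ centralizer ((Q.map iA : Subgroup Γ) : Set Γ) := by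
        have : iA x ∈ zpowers (iA x) ⊓ centralizer ((Q.map iA : Subgroup Γ) : Set Γ) := by
          rw [hEq]; exact mem_zpowers _
        exact (mem_inf.mp this).2
      obtain ⟨g, hg, hgx⟩ := hnc
      rw [mem_centralizer_iff] at hxc
      have := hxc (iA g) (mem_map.mpr ⟨g, hg, rfl⟩)
      rw [← map_mul, ← map_mul] at this
      exact hgx (inr_injective this).symm
  have hV : Cfsg.IsElementaryAbelian p (iW.range) := by
    refine ⟨⟨⟨?_⟩⟩, ?_⟩
    · rintro ⟨a, ha⟩ ⟨b, hb⟩
      obtain ⟨u, rfl⟩ := MonoidHom.mem_range.mp ha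
      obtain ⟨v, rfl⟩ := MonoidHom.mem_range.mp hb
      apply Subtype.ext
      show iW u * iW v = iW v * iW u
      rw [← map_mul, ← map_mul, mul_comm]
    · intro a ha
      obtain ⟨u, rfl⟩ := MonoidHom.mem_range.mp ha
      rw [← map_pow, hW, map_one]
  have hV1 : iW.range ≠ ⊥ := by
    obtain ⟨w, hw⟩ := exists_ne (1 : W)
    intro h
    have : iW w ∈ iW.range := MonoidHom.mem_range.mpr ⟨w, rfl⟩
    rw [h, mem_bot] at this
    exact hw (inl_injective (by rw [this, map_one]))
  have hXV : zpowers (iA x) ≤ normalizer ((iW.range : Subgroup Γ) : Set Γ) := by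
    rw [normalizer_eq_top]; exact le_top
  have hQV : Q.map iA ≤ normalizer ((iW.range : Subgroup Γ) : Set Γ) := by
    rw [normalizer_eq_top]; exact le_top
  have hfaith : (zpowers (iA x) ⊔ Q.map iA) ⊓ centralizer ((iW.range : Subgroup Γ) : Set Γ) = ⊥ := by
    rw [eq_bot_iff]
    intro g hg
    obtain ⟨h1, h2⟩ := mem_inf.mp hg
    have hle : zpowers (iA x) ⊔ Q.map iA ≤ iA.range := by
      refine sup_le ?_ ?_
      · exact (zpowers_le).mpr (MonoidHom.mem_range.mpr ⟨x, rfl⟩)
      · intro y hy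
        obtain ⟨g, -, rfl⟩ := mem_map.mp hy
        exact MonoidHom.mem_range.mpr ⟨g, rfl⟩
    obtain ⟨a, rfl⟩ := MonoidHom.mem_range.mp (hle h1)
    rw [mem_centralizer_iff] at h2
    have ha : a = 1 := by
      apply MulEquiv.ext
      intro w
      have h3 := h2 (iW w) (MonoidHom.mem_range.mpr ⟨w, rfl⟩)
      have h4 : iA a * iW w * (iA a)⁻¹ = iW w := by rw [← h3, mul_inv_cancel_right]
      rw [hconj] at h4
      exact inl_injective h4
    rw [ha, map_one]
    exact mem_bot.mpr rfl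
  have hexc : q = 2 → (∃ n : ℕ, r = 2 ^ n + 1) → IsMulCommutative (Q.map iA) :=
    fun h => absurd h hq2
  have hmain := Cfsg.Agent.S3765.result (G := Γ) hp hq hr hpq hpr hqr (zpowers (iA x)) (Q.map iA)
    iW.range hXcard hQ' hXQ hXfaith hV hV1 hXV hQV hfaith hexc
  obtain ⟨⟨v, hv⟩, hv1⟩ := (Subgroup.ne_bot_iff_exists_ne_one).mp hmain
  obtain ⟨hvV, hvC⟩ := mem_inf.mp hv
  obtain ⟨w, hw⟩ := MonoidHom.mem_range.mp hvV
  refine ⟨w, ?_, ?_⟩
  · rintro rfl
    apply hv1
    apply Subtype.ext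
    show v = 1
    rw [← hw, map_one]
  · rw [mem_centralizer_iff] at hvC
    have h3 := hvC (iA x) (mem_zpowers _)
    rw [← hw] at h3
    have h4 : iA x * iW w * (iA x)⁻¹ = iW w := by rw [h3, mul_inv_cancel_right]
    rw [hconj] at h4
    exact inl_injective h4

end Cfsg.Agent.Lib.Helper32.S3Hol
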