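import Mathlib
import Cfsg.Agent.Lib.Helper01.Hall

set_option autoImplicit false

namespace Cfsg.Agent.Lib.Helper32

open Cfsg.Agent.Lib.Helper01

universe u

/-- Converse of Lagrange for finite abelian groups. -/
theorem exists_subgroup_card_of_dvd_comm_aux (n : ℕ) : ∀ (A : Type u) [CommGroup A] [Finite A],
    Nat.card A = n → ∀ d : ℕ, d ∣ n → ∃ B : Subgroup A, Nat.card B = d := by
  induction n using Nat.strong_induction_on with
  | _ n ih =>
  intro A _ _ hn d hd
  by_cases hd1 : d = 1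
  · exact ⟨⊥, by rw [hd1]; exact Subgroup.card_bot⟩
  · obtain ⟨p, hp, hpd⟩ := Nat.exists_prime_and_dvd hd1
    have hpf : Fact p.Prime := ⟨hp⟩
    have hpA : p ∣ Nat.card A := by rw [hn]; exact hpd.trans hd
    obtain ⟨x, hx⟩ := exists_prime_orderOf_dvd_card' p hpA
    set Z : Subgroup A := Subgroup.zpowers x with hZ
    have hZc : Nat.card Z = p := by rw [hZ, Nat.card_zpowers, hx]
    have hcard : Nat.card A = Nat.card (A ⧸ Z) * Nat.card Z :=
      Subgroup.card_eq_card_quotient_mul_card_subgroup Z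
    rw [hZc, hn] at hcard
    obtain ⟨d', hd'⟩ := hpd
    have hpos : 0 < Nat.card (A ⧸ Z) := Nat.card_pos
    have hlt : Nat.card (A ⧸ Z) < n := by
      rw [hcard]
      have := hp.one_lt
      nlinarith
    have hd'dvd : d' ∣ Nat.card (A ⧸ Z) := by
      have h1 : p * d' ∣ p * Nat.card (A ⧸ Z) := by
        rw [← hd', mul_comm p (Nat.card (A ⧸ Z)), ← hcard]; exact hd
      exact (Nat.mul_dvd_mul_iff_left hp.pos).mp h1
    obtain ⟨B', hB'⟩ := ih _ hlt (A ⧸ Z) rfl d' hd'dvd
    refine ⟨B'.comap (QuotientGroup.mk' Z), ?_⟩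
    rw [card_comap_of_surjective _ (QuotientGroup.mk'_surjective Z), hB', QuotientGroup.ker_mk',
      hZc, hd', mul_comm]

theorem exists_subgroup_card_of_dvd_comm {A : Type u} [CommGroup A] [Finite A] {d : ℕ}
    (hd : d ∣ Nat.card A) : ∃ B : Subgroup A, Nat.card B = d :=
  exists_subgroup_card_of_dvd_comm_aux _ A rfl d hd

end Cfsg.Agent.Lib.Helper32
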