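import Cfsg.Agent.Lib.Helper45.AltFreeDefs

/-!
# K-S2276-BRIDGE: from `Perm (Fin n)` to the subtype statement of S2276
-/

set_option autoImplicit false

namespace Cfsg.Agent.Lib.Helper32.AltFree

open Equiv Equiv.Perm Cfsg.Agent.Lib.Helper45.AltFree

theorem bridge (n : ℕ) (p : ℕ) (u w : alternatingGroup (Fin n))
    (h : ∃ g ∈ alternatingGroup (Fin n), Good p (u : Perm (Fin n)) (g * (w : Perm (Fin n)) * g⁻¹)) :
    ∃ g : alternatingGroup (Fin n), (¬ ∃ k : ℕ, orderOf (u * (g * w * g⁻¹)) = p ^ k) ∧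
      ¬ Group.IsSolvable ↥(Subgroup.closure ({u, g * w * g⁻¹} : Set (alternatingGroup (Fin n)))) := by
  obtain ⟨g, hg, h1, h2⟩ := h
  refine ⟨⟨g, hg⟩, ?_, ?_⟩
  · rintro ⟨k, hk⟩
    apply h1
    refine ⟨k, ?_⟩
    rw [← hk, ← Subgroup.orderOf_coe]
    rfl
  · intro hsol
    apply h2
    have hmap : Subgroup.closure
        ({(u : Perm (Fin n)), g * (w : Perm (Fin n)) * g⁻¹} : Set (Perm (Fin n))) =
        (Subgroup.closure ({u, (⟨g, hg⟩ : alternatingGroup (Fin n)) * w *
          (⟨g, hg⟩ : alternatingGroup (Fin n))⁻¹} : Set (alternatingGroup (Fin n)))).map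
          (alternatingGroup (Fin n)).subtype := by
      rw [MonoidHom.map_closure, Set.image_pair]
      rfl
    rw [hmap]
    exact Group.isSolvable_of_surjective (MonoidHom.subgroupMap_surjective _ _)

end Cfsg.Agent.Lib.Helper32.AltFree
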