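import Mathlib

set_option autoImplicit false

/-!
# Gluing isomorphisms along a central product, and isomorphisms of cyclic subgroups
-/

namespace Cfsg.Agent.Lib.Helper32

open Subgroup

variable {X Y : Type*} [Group X] [Group Y]

/-- product map `E₁ × E₂ → E₁ ⊔ E₂` for elementwise commuting subgroups. -/
noncomputable def prodToSup (E₁ E₂ : Subgroup X) (hE : ∀ a ∈ E₁, ∀ b ∈ E₂, a * b = b * a) :
    ↥E₁ × ↥E₂ →* ↥(E₁ ⊔ E₂) :=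
  (MonoidHom.noncommCoprod E₁.subtype E₂.subtype
    (fun a b => (show Commute (E₁.subtype a) (E₂.subtype b) from hE a a.2 b b.2))).codRestrict
    (E₁ ⊔ E₂) (fun ab => Subgroup.mul_mem_sup ab.1.2 ab.2.2)

theorem prodToSup_apply (E₁ E₂ : Subgroup X) (hE : ∀ a ∈ E₁, ∀ b ∈ E₂, a * b = b * a)
    (ab : ↥E₁ × ↥E₂) : ((prodToSup E₁ E₂ hE ab : ↥(E₁ ⊔ E₂)) : X) = (ab.1 : X) * (ab.2 : X) := rfl

theorem prodToSup_surjective (E₁ E₂ : Subgroup X) (hE : ∀ a ∈ E₁, ∀ b ∈ E₂, a * b = b * a) :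
    Function.Surjective (prodToSup E₁ E₂ hE) := by
  rintro ⟨e, he⟩
  have hr : e ∈ (MonoidHom.noncommCoprod E₁.subtype E₂.subtype
      (fun a b => (show Commute (E₁.subtype a) (E₂.subtype b) from hE a a.2 b b.2))).range := by
    rw [MonoidHom.noncommCoprod_range, Subgroup.range_subtype, Subgroup.range_subtype]
    exact he
  obtain ⟨ab, hab⟩ := hr
  exact ⟨ab, Subtype.ext hab⟩

/-- Gluing isomorphisms of two elementwise commuting subgroups that agree on the intersection. -/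
theorem exists_glue {E₁ E₂ : Subgroup X} {F₁ F₂ : Subgroup Y}
    (hE : ∀ a ∈ E₁, ∀ b ∈ E₂, a * b = b * a) (hF : ∀ a ∈ F₁, ∀ b ∈ F₂, a * b = b * a)
    (φ₁ : ↥E₁ ≃* ↥F₁) (φ₂ : ↥E₂ ≃* ↥F₂)
    (h12 : ∀ (a : ↥E₁) (b : ↥E₂), (a : X) = b → ((φ₁ a : ↥F₁) : Y) = φ₂ b)
    (h21 : ∀ (a : ↥E₁) (b : ↥E₂), ((φ₁ a : ↥F₁) : Y) = φ₂ b → (a : X) = b) :
    ∃ ψ : ↥(E₁ ⊔ E₂) ≃* ↥(F₁ ⊔ F₂), ∀ (a : ↥E₁) (b : ↥E₂) (hab : (a : X) * b ∈ E₁ ⊔ E₂),
      ((ψ ⟨(a : X) * b, hab⟩ : ↥(F₁ ⊔ F₂)) : Y) = (φ₁ a : Y) * (φ₂ b : Y) := by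
  set f := prodToSup E₁ E₂ hE with hf
  set g : ↥E₁ × ↥E₂ →* ↥(F₁ ⊔ F₂) :=
    (prodToSup F₁ F₂ hF).comp (MulEquiv.prodCongr φ₁ φ₂).toMonoidHom with hg
  have hgapp : ∀ ab : ↥E₁ × ↥E₂, ((g ab : ↥(F₁ ⊔ F₂)) : Y) = (φ₁ ab.1 : Y) * (φ₂ ab.2 : Y) :=
    fun ab => rfl
  have hfsurj : Function.Surjective f := prodToSup_surjective E₁ E₂ hE
  have hker : f.ker = g.ker := by
    ext ⟨a, b⟩
    rw [MonoidHom.mem_ker, MonoidHom.mem_ker]
    have e1 : f (a, b) = 1 ↔ (a : X) = ((b⁻¹ : ↥E₂) : X) := by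
      rw [Subtype.ext_iff, prodToSup_apply]
      show (a : X) * (b : X) = 1 ↔ _
      rw [mul_eq_one_iff_eq_inv]
      rfl
    have e2 : g (a, b) = 1 ↔ ((φ₁ a : ↥F₁) : Y) = ((φ₂ b⁻¹ : ↥F₂) : Y) := by
      rw [Subtype.ext_iff, hgapp]
      show ((φ₁ a : ↥F₁) : Y) * ((φ₂ b : ↥F₂) : Y) = 1 ↔ _
      rw [mul_eq_one_iff_eq_inv, map_inv]
      rfl
    rw [e1, e2]
    exact ⟨h12 a b⁻¹, h21 a b⁻¹⟩
  let ψ₀ : ↥(E₁ ⊔ E₂) →* ↥(F₁ ⊔ F₂) := f.liftOfSurjective hfsurj ⟨g, hker.le⟩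
  have hψ₀ : ∀ ab, ψ₀ (f ab) = g ab := fun ab =>
    MonoidHom.liftOfRightInverse_comp_apply f _ (Function.rightInverse_surjInv hfsurj)
      ⟨g, hker.le⟩ ab
  have hinj : Function.Injective ψ₀ := by
    rw [injective_iff_map_eq_one]
    intro e he
    obtain ⟨ab, rfl⟩ := hfsurj e
    rw [hψ₀] at he
    have : ab ∈ g.ker := he
    rw [← hker] at this
    exact this
  have hsurj : Function.Surjective ψ₀ := by
    intro c
    obtain ⟨ab', rfl⟩ := prodToSup_surjective F₁ F₂ hF c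
    refine ⟨f ((MulEquiv.prodCongr φ₁ φ₂).symm ab'), ?_⟩
    rw [hψ₀, hg]
    simp
  refine ⟨MulEquiv.ofBijective ψ₀ ⟨hinj, hsurj⟩, ?_⟩
  intro a b hab
  have : (⟨(a : X) * b, hab⟩ : ↥(E₁ ⊔ E₂)) = f (a, b) := Subtype.ext rfl
  rw [this]
  show ((ψ₀ (f (a, b)) : ↥(F₁ ⊔ F₂)) : Y) = _
  rw [hψ₀, hgapp]

/-- cyclic subgroups generated by elements of the same order are isomorphic, matching generators. -/
theorem exists_zpowers_mulEquiv [Finite X] [Finite Y] {z : X} {w : Y} (h : orderOf z = orderOf w) :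
    ∃ φ : ↥(zpowers z) ≃* ↥(zpowers w), ((φ ⟨z, mem_zpowers z⟩ : ↥(zpowers w)) : Y) = w := by
  have hmem : ∀ a : ↥(zpowers z), ∃ n : ℕ, (a : X) = z ^ n := by
    rintro ⟨a, ha⟩
    rw [← (isOfFinOrder_of_finite z).mem_powers_iff_mem_zpowers] at ha
    obtain ⟨n, rfl⟩ := (Submonoid.mem_powers_iff _ _).mp ha
    exact ⟨n, rfl⟩
  have hmemw : ∀ a : ↥(zpowers w), ∃ n : ℕ, (a : Y) = w ^ n := by
    rintro ⟨a, ha⟩
    rw [← (isOfFinOrder_of_finite w).mem_powers_iff_mem_zpowers] at ha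
    obtain ⟨n, rfl⟩ := (Submonoid.mem_powers_iff _ _).mp ha
    exact ⟨n, rfl⟩
  let ψ : ↥(zpowers z) → ↥(zpowers w) := fun a =>
    ⟨w ^ (Classical.choose (hmem a)), Subgroup.pow_mem _ (mem_zpowers w) _⟩
  have hψ : ∀ (a : ↥(zpowers z)) (n : ℕ), (a : X) = z ^ n → ((ψ a : ↥(zpowers w)) : Y) = w ^ n := by
    intro a n hn
    have h1 := Classical.choose_spec (hmem a)
    show w ^ (Classical.choose (hmem a)) = w ^ n
    rw [pow_eq_pow_iff_modEq, ← h, ← pow_eq_pow_iff_modEq, ← h1, hn]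
  have hmul : ∀ a b, ψ (a * b) = ψ a * ψ b := by
    intro a b
    obtain ⟨m, hm⟩ := hmem a
    obtain ⟨n, hn⟩ := hmem b
    apply Subtype.ext
    have hab : ((a * b : ↥(zpowers z)) : X) = z ^ (m + n) := by
      rw [Subgroup.coe_mul, hm, hn, pow_add]
    rw [hψ _ _ hab, Subgroup.coe_mul, hψ a m hm, hψ b n hn, pow_add]
  have hinj : Function.Injective ψ := by
    intro a b hab
    obtain ⟨m, hm⟩ := hmem a
    obtain ⟨n, hn⟩ := hmem b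
    have := congrArg Subtype.val hab
    rw [hψ a m hm, hψ b n hn, pow_eq_pow_iff_modEq, ← h, ← pow_eq_pow_iff_modEq] at this
    apply Subtype.ext
    rw [hm, hn, this]
  have hsurj : Function.Surjective ψ := by
    intro c
    obtain ⟨n, hn⟩ := hmemw c
    refine ⟨⟨z ^ n, Subgroup.pow_mem _ (mem_zpowers z) _⟩, ?_⟩
    apply Subtype.ext
    rw [hψ _ n rfl, hn]
  refine ⟨MulEquiv.ofBijective (MonoidHom.mk' ψ hmul) ⟨hinj, hsurj⟩, ?_⟩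
  show ((ψ ⟨z, mem_zpowers z⟩ : ↥(zpowers w)) : Y) = w
  rw [hψ _ 1 (pow_one z).symm, pow_one]

end Cfsg.Agent.Lib.Helper32
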