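import Mathlib
import Cfsg.Agent.Lib.Helper32.XSDecomp

set_option autoImplicit false

/-!
# The Heisenberg model of order `p ^ 3` and hyperbolic pairs of exponent `p`
-/

namespace Cfsg.Agent.Lib.Helper32

open Subgroup
open scoped commutatorElement

/-- The Heisenberg group over `ZMod p`. -/
@[ext] structure Heis (p : ℕ) where
  a : ZMod p
  b : ZMod p
  c : ZMod p

namespace Heis

variable {p : ℕ}

instance : Mul (Heis p) := ⟨fun u v => ⟨u.a + v.a, u.b + v.b, u.c + v.c + u.b * v.a⟩⟩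
instance : One (Heis p) := ⟨⟨0, 0, 0⟩⟩
instance : Inv (Heis p) := ⟨fun u => ⟨-u.a, -u.b, -u.c + u.b * u.a⟩⟩

@[simp] theorem mul_a (u v : Heis p) : (u * v).a = u.a + v.a := rfl
@[simp] theorem mul_b (u v : Heis p) : (u * v).b = u.b + v.b := rfl
@[simp] theorem mul_c (u v : Heis p) : (u * v).c = u.c + v.c + u.b * v.a := rfl
@[simp] theorem one_a : (1 : Heis p).a = 0 := rfl
@[simp] theorem one_b : (1 : Heis p).b = 0 := rfl
@[simp] theorem one_c : (1 : Heis p).c = 0 := rfl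
@[simp] theorem inv_a (u : Heis p) : (u⁻¹).a = -u.a := rfl
@[simp] theorem inv_b (u : Heis p) : (u⁻¹).b = -u.b := rfl
@[simp] theorem inv_c (u : Heis p) : (u⁻¹).c = -u.c + u.b * u.a := rfl

instance : Group (Heis p) :=
  Group.ofLeftAxioms
    (by intro u v w; ext <;> simp <;> ring)
    (by intro u; ext <;> simp)
    (by intro u; ext <;> simp)

end Heis

variable {X : Type*} [Group X]

/-- powers indexed by `ZMod p`. -/
theorem pow_val_eq {p : ℕ} [NeZero p] {g : X} (hg : g ^ p = 1) (a : ZMod p) (n : ℕ)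
    (hn : (n : ZMod p) = a) : g ^ a.val = g ^ n := by
  subst hn
  rw [ZMod.val_natCast, ← pow_eq_pow_mod n hg]

namespace IsXS

variable {p : ℕ} {E : Subgroup X} {z : X} {x y : X}

/-- the map from the Heisenberg group. -/
def heisFun (x y z : X) (u : Heis p) : X := x ^ u.a.val * y ^ u.b.val * z ^ u.c.val

theorem heisFun_mul (h : IsXS p E z) [Fact p.Prime] (hx : x ∈ E) (hy : y ∈ E)
    (hyx : ⁅y, x⁆ = z) (hxp : x ^ p = 1) (hyp : y ^ p = 1) (u v : Heis p) :
    heisFun x y z (u * v) = heisFun x y z u * heisFun x y z v := by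
  have : NeZero p := ⟨(Fact.out : p.Prime).ne_zero⟩
  unfold heisFun
  rw [pow_val_eq hxp (u * v).a (u.a.val + v.a.val) (by simp),
    pow_val_eq hyp (u * v).b (u.b.val + v.b.val) (by simp),
    pow_val_eq h.z_pow (u * v).c (u.c.val + v.c.val + u.b.val * v.a.val) (by simp)]
  set ua := u.a.val
  set ub := u.b.val
  set uc := u.c.val
  set va := v.a.val
  set vb := v.b.val
  set vc := v.c.val
  have hzk : ∀ k : ℕ, z ^ k ∈ zpowers z := fun k => Subgroup.pow_mem _ (Subgroup.mem_zpowers z) k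
  have hcen : ∀ (k : ℕ) (a : X), a ∈ E → z ^ k * a = a * z ^ k :=
    fun k a ha => (h.central (hzk k) ha).symm
  have hBA : y ^ ub * x ^ va = z ^ (ub * va) * x ^ va * y ^ ub := by
    rw [mul_eq_comm_mul (y ^ ub) (x ^ va), h.comm_pow_left hy (E.pow_mem hx va),
      h.comm_pow_right hy hx, hyx, ← pow_mul, mul_comm va ub]
  have hA : x ^ ua ∈ E := E.pow_mem hx _
  have hA' : x ^ va ∈ E := E.pow_mem hx _
  have hB : y ^ ub ∈ E := E.pow_mem hy _
  have hB' : y ^ vb ∈ E := E.pow_mem hy _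
  have hC' : z ^ vc ∈ E := E.pow_mem h.z_mem _
  have hC : z ^ uc ∈ E := E.pow_mem h.z_mem _
  symm
  calc x ^ ua * y ^ ub * z ^ uc * (x ^ va * y ^ vb * z ^ vc)
      = x ^ ua * y ^ ub * (z ^ uc * (x ^ va * y ^ vb * z ^ vc)) := by simp only [mul_assoc]
    _ = x ^ ua * y ^ ub * ((x ^ va * y ^ vb * z ^ vc) * z ^ uc) := by
        rw [hcen uc _ (E.mul_mem (E.mul_mem hA' hB') hC')]
    _ = x ^ ua * (y ^ ub * x ^ va) * (y ^ vb * (z ^ vc * z ^ uc)) := by simp only [mul_assoc]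
    _ = x ^ ua * (z ^ (ub * va) * x ^ va * y ^ ub) * (y ^ vb * (z ^ vc * z ^ uc)) := by rw [hBA]
    _ = (x ^ ua * z ^ (ub * va)) * (x ^ va * y ^ ub * (y ^ vb * (z ^ vc * z ^ uc))) := by
        simp only [mul_assoc]
    _ = (z ^ (ub * va) * x ^ ua) * (x ^ va * y ^ ub * (y ^ vb * (z ^ vc * z ^ uc))) := by
        rw [hcen (ub * va) _ hA]
    _ = z ^ (ub * va) * (x ^ ua * x ^ va * (y ^ ub * y ^ vb) * (z ^ vc * z ^ uc)) := by
        simp only [mul_assoc]
    _ = (x ^ ua * x ^ va * (y ^ ub * y ^ vb) * (z ^ vc * z ^ uc)) * z ^ (ub * va) := by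
        rw [hcen (ub * va) _ (E.mul_mem (E.mul_mem (E.mul_mem hA hA') (E.mul_mem hB hB'))
          (E.mul_mem hC' hC))]
    _ = x ^ (ua + va) * y ^ (ub + vb) * z ^ (uc + vc + ub * va) := by
        rw [pow_add, pow_add, pow_add, pow_add, pow_mul_comm z vc uc]
        simp only [mul_assoc]

theorem heisFun_one : heisFun x y z (1 : Heis p) = 1 := by
  unfold heisFun
  simp

/-- the Heisenberg homomorphism attached to a hyperbolic pair of exponent `p`. -/
noncomputable def heisHom (h : IsXS p E z) [Fact p.Prime] (hx : x ∈ E) (hy : y ∈ E)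
    (hyx : ⁅y, x⁆ = z) (hxp : x ^ p = 1) (hyp : y ^ p = 1) : Heis p →* X where
  toFun := heisFun x y z
  map_one' := heisFun_one
  map_mul' := h.heisFun_mul hx hy hyx hxp hyp

theorem heisHom_apply (h : IsXS p E z) [Fact p.Prime] (hx : x ∈ E) (hy : y ∈ E)
    (hyx : ⁅y, x⁆ = z) (hxp : x ^ p = 1) (hyp : y ^ p = 1) (u : Heis p) :
    h.heisHom hx hy hyx hxp hyp u = x ^ u.a.val * y ^ u.b.val * z ^ u.c.val := rfl

theorem heisHom_injective (h : IsXS p E z) [Fact p.Prime] (hx : x ∈ E) (hy : y ∈ E)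
    (hyx : ⁅y, x⁆ = z) (hxp : x ^ p = 1) (hyp : y ^ p = 1) :
    Function.Injective (h.heisHom hx hy hyx hxp hyp) := by
  have : NeZero p := ⟨(Fact.out : p.Prime).ne_zero⟩
  rw [injective_iff_map_eq_one]
  intro u hu
  rw [heisHom_apply] at hu
  have hpos : 0 < p := (Fact.out : p.Prime).pos
  have hzc : z ^ u.c.val ∈ zpowers z := Subgroup.pow_mem _ (Subgroup.mem_zpowers z) _
  have ht : x ^ u.a.val * y ^ u.b.val ∈ E := E.mul_mem (E.pow_mem hx _) (E.pow_mem hy _)
  have hb : u.b.val = 0 := by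
    apply h.pow_inj (ZMod.val_lt _) hpos
    have := h.comm_mul_left ht (h.zpowers_le hzc) hx
    rw [hu, commutatorElement_one_left, h.comm_t_x hx hy hyx, h.comm_central_left hzc hx,
      mul_one] at this
    rw [← this, pow_zero]
  have ha : u.a.val = 0 := by
    apply h.pow_inj (ZMod.val_lt _) hpos
    have := h.comm_mul_left ht (h.zpowers_le hzc) hy
    rw [hu, commutatorElement_one_left, h.comm_t_y hx hy hyx, h.comm_central_left hzc hy,
      mul_one] at this
    rw [pow_zero, ← inv_inj, ← this, inv_one]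
  have hc : u.c.val = 0 := by
    apply h.pow_inj (ZMod.val_lt _) hpos
    rw [ha, hb, pow_zero, pow_zero, one_mul, one_mul] at hu
    rw [hu, pow_zero]
  ext
  · exact (ZMod.val_eq_zero _).mp ha
  · exact (ZMod.val_eq_zero _).mp hb
  · exact (ZMod.val_eq_zero _).mp hc

theorem heisHom_range (h : IsXS p E z) [Fact p.Prime] (hx : x ∈ E) (hy : y ∈ E)
    (hyx : ⁅y, x⁆ = z) (hxp : x ^ p = 1) (hyp : y ^ p = 1) :
    (h.heisHom hx hy hyx hxp hyp).range = closure {x, y} := by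
  have : NeZero p := ⟨(Fact.out : p.Prime).ne_zero⟩
  apply le_antisymm
  · rintro _ ⟨u, rfl⟩
    rw [heisHom_apply]
    exact Subgroup.mul_mem _ (t_mem_closure _ _) (Subgroup.pow_mem _ (z_mem_closure hyx) _)
  · rw [Subgroup.closure_le]
    intro g hg
    rcases hg with rfl | rfl
    · refine ⟨⟨1, 0, 0⟩, ?_⟩
      rw [heisHom_apply]
      simp [ZMod.val_one]
    · refine ⟨⟨0, 1, 0⟩, ?_⟩
      rw [heisHom_apply]
      simp [ZMod.val_one]

/-- the isomorphism of the Heisenberg group with `⟨x, y⟩`. -/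
noncomputable def heisEquiv (h : IsXS p E z) [Fact p.Prime] (hx : x ∈ E) (hy : y ∈ E)
    (hyx : ⁅y, x⁆ = z) (hxp : x ^ p = 1) (hyp : y ^ p = 1) : Heis p ≃* ↥(closure {x, y}) :=
  (MonoidHom.ofInjective (h.heisHom_injective hx hy hyx hxp hyp)).trans
    (MulEquiv.subgroupCongr (h.heisHom_range hx hy hyx hxp hyp))

theorem heisEquiv_apply (h : IsXS p E z) [Fact p.Prime] (hx : x ∈ E) (hy : y ∈ E)
    (hyx : ⁅y, x⁆ = z) (hxp : x ^ p = 1) (hyp : y ^ p = 1) (u : Heis p) :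
    ((h.heisEquiv hx hy hyx hxp hyp u : ↥(closure {x, y})) : X)
      = x ^ u.a.val * y ^ u.b.val * z ^ u.c.val := rfl

theorem heisEquiv_z (h : IsXS p E z) [Fact p.Prime] (hx : x ∈ E) (hy : y ∈ E)
    (hyx : ⁅y, x⁆ = z) (hxp : x ^ p = 1) (hyp : y ^ p = 1) :
    h.heisEquiv hx hy hyx hxp hyp ⟨0, 0, 1⟩ = ⟨z, z_mem_closure hyx⟩ := by
  have : NeZero p := ⟨(Fact.out : p.Prime).ne_zero⟩
  apply Subtype.ext
  rw [heisEquiv_apply]
  simp [ZMod.val_one]

end IsXS

end Cfsg.Agent.Lib.Helper32
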