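import Mathlib
import Cfsg.Agent.Lib.Helper32.XSHeis
import Cfsg.Agent.Lib.Helper32.XSGlue

set_option autoImplicit false

/-!
# Isomorphism step for extraspecial-like subgroups, and the exponent `p` classification
-/

namespace Cfsg.Agent.Lib.Helper32

open Subgroup
open scoped commutatorElement

variable {X Y : Type*} [Group X] [Group Y]

namespace IsXS

variable {p : ℕ} {E : Subgroup X} {z : X} {F : Subgroup Y} {w : Y}

/-- Extending an isomorphism of the centralizers of hyperbolic pairs of exponent `p`. -/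
theorem iso_step [Fact p.Prime] (hE : IsXS p E z) (hF : IsXS p F w) {x y : X} {x' y' : Y}
    (hx : x ∈ E) (hy : y ∈ E) (hyx : ⁅y, x⁆ = z) (hxp : x ^ p = 1) (hyp : y ^ p = 1)
    (hx' : x' ∈ F) (hy' : y' ∈ F) (hyx' : ⁅y', x'⁆ = w) (hxp' : x' ^ p = 1) (hyp' : y' ^ p = 1)
    (φ₂ : ↥(cent2 E x y) ≃* ↥(cent2 F x' y'))
    (hφ₂ : ∀ hz : z ∈ cent2 E x y, ((φ₂ ⟨z, hz⟩ : ↥(cent2 F x' y')) : Y) = w) :
    ∃ φ : ↥E ≃* ↥F, ∀ hz : z ∈ E, ((φ ⟨z, hz⟩ : ↥F) : Y) = w := by
  set ηE := hE.heisEquiv hx hy hyx hxp hyp with hηE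
  set ηF := hF.heisEquiv hx' hy' hyx' hxp' hyp' with hηF
  set φ₁ : ↥(closure {x, y}) ≃* ↥(closure {x', y'}) := ηE.symm.trans ηF with hφ₁def
  have hz1 : z ∈ closure {x, y} := z_mem_closure hyx
  have hw1 : w ∈ closure {x', y'} := z_mem_closure hyx'
  have hz2 : z ∈ cent2 E x y := (hE.isXS_cent2 hx hy hyx).z_mem
  have hw2 : w ∈ cent2 F x' y' := (hF.isXS_cent2 hx' hy' hyx').z_mem
  have hφ₁ : φ₁ ⟨z, hz1⟩ = ⟨w, hw1⟩ := by
    have e1 : ηE.symm ⟨z, hz1⟩ = ⟨0, 0, 1⟩ := by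
      rw [MulEquiv.symm_apply_eq]
      exact (hE.heisEquiv_z hx hy hyx hxp hyp).symm
    show ηF (ηE.symm ⟨z, hz1⟩) = _
    rw [e1]
    exact hF.heisEquiv_z hx' hy' hyx' hxp' hyp'
  have hφ₂' : φ₂ ⟨z, hz2⟩ = ⟨w, hw2⟩ := Subtype.ext (hφ₂ hz2)
  have key1 : ∀ (a : ↥(closure {x, y})) (k : ℕ), (a : X) = z ^ k → ((φ₁ a : ↥(closure {x', y'})) : Y) = w ^ k := by
    intro a k hk
    have : a = (⟨z, hz1⟩ : ↥(closure {x, y})) ^ k := Subtype.ext (by rw [hk]; rfl)
    rw [this, map_pow, hφ₁]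
    rfl
  have key2 : ∀ (b : ↥(cent2 E x y)) (k : ℕ), (b : X) = z ^ k → ((φ₂ b : ↥(cent2 F x' y')) : Y) = w ^ k := by
    intro b k hk
    have : b = (⟨z, hz2⟩ : ↥(cent2 E x y)) ^ k := Subtype.ext (by rw [hk]; rfl)
    rw [this, map_pow, hφ₂']
    rfl
  have key1' : ∀ (a : ↥(closure {x, y})) (k : ℕ), ((φ₁ a : ↥(closure {x', y'})) : Y) = w ^ k → (a : X) = z ^ k := by
    intro a k hk
    have h1 : φ₁ a = φ₁ ((⟨z, hz1⟩ : ↥(closure {x, y})) ^ k) := by
      apply Subtype.ext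
      rw [hk, map_pow, hφ₁]
      rfl
    rw [φ₁.injective h1]
    rfl
  have key2' : ∀ (b : ↥(cent2 E x y)) (k : ℕ), ((φ₂ b : ↥(cent2 F x' y')) : Y) = w ^ k → (b : X) = z ^ k := by
    intro b k hk
    have h1 : φ₂ b = φ₂ ((⟨z, hz2⟩ : ↥(cent2 E x y)) ^ k) := by
      apply Subtype.ext
      rw [hk, map_pow, hφ₂']
      rfl
    rw [φ₂.injective h1]
    rfl
  have hcE : ∀ a ∈ closure {x, y}, ∀ b ∈ cent2 E x y, a * b = b * a :=
    fun a ha b hb => closure_comm_cent2 ha hb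
  have hcF : ∀ a ∈ closure {x', y'}, ∀ b ∈ cent2 F x' y', a * b = b * a :=
    fun a ha b hb => closure_comm_cent2 ha hb
  have h12 : ∀ (a : ↥(closure {x, y})) (b : ↥(cent2 E x y)), (a : X) = b →
      ((φ₁ a : ↥(closure {x', y'})) : Y) = φ₂ b := by
    intro a b hab
    have hmem : (a : X) ∈ closure {x, y} ⊓ cent2 E x y := ⟨a.2, by rw [hab]; exact b.2⟩
    rw [hE.closure_inf_cent2 hx hy hyx] at hmem
    obtain ⟨k, -, hk⟩ := hE.exists_pow_lt hmem
    rw [key1 a k hk.symm, key2 b k (by rw [← hab, hk])]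
  have h21 : ∀ (a : ↥(closure {x, y})) (b : ↥(cent2 E x y)),
      ((φ₁ a : ↥(closure {x', y'})) : Y) = φ₂ b → (a : X) = b := by
    intro a b hab
    have hmem : ((φ₁ a : ↥(closure {x', y'})) : Y) ∈ closure {x', y'} ⊓ cent2 F x' y' :=
      ⟨(φ₁ a).2, by rw [hab]; exact (φ₂ b).2⟩
    rw [hF.closure_inf_cent2 hx' hy' hyx'] at hmem
    obtain ⟨k, -, hk⟩ := hF.exists_pow_lt hmem
    rw [key1' a k hk.symm, key2' b k (by rw [← hab, hk])]
  obtain ⟨ψ, hψ⟩ := exists_glue hcE hcF φ₁ φ₂ h12 h21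
  have hEsup := hE.closure_sup_cent2 hx hy hyx
  have hFsup := hF.closure_sup_cent2 hx' hy' hyx'
  refine ⟨(MulEquiv.subgroupCongr hEsup).symm.trans (ψ.trans (MulEquiv.subgroupCongr hFsup)), ?_⟩
  intro hz
  have hzsup : (⟨z, hz1⟩ : ↥(closure {x, y})).1 * ((1 : ↥(cent2 E x y)) : X) ∈
      closure {x, y} ⊔ cent2 E x y := by
    rw [hEsup]
    simpa using hz
  have e1 : (MulEquiv.subgroupCongr hEsup).symm ⟨z, hz⟩ =
      ⟨(⟨z, hz1⟩ : ↥(closure {x, y})).1 * ((1 : ↥(cent2 E x y)) : X), hzsup⟩ := by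
    apply Subtype.ext
    simp
  show (((MulEquiv.subgroupCongr hFsup) (ψ ((MulEquiv.subgroupCongr hEsup).symm ⟨z, hz⟩)) : ↥F) : Y) = w
  rw [e1]
  have := hψ ⟨z, hz1⟩ 1 hzsup
  rw [hφ₁, map_one] at this
  simpa using this

theorem card_cent2_pos [Finite X] (x y : X) : 0 < Nat.card (cent2 E x y) := Nat.card_pos

/-- the abelian case: both sides are the cyclic centre. -/
theorem iso_of_card_eq_p [Finite X] [Finite Y] [Fact p.Prime] (hE : IsXS p E z) (hF : IsXS p F w)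
    (hcE : Nat.card E = p) (hcF : Nat.card F = p) :
    ∃ φ : ↥E ≃* ↥F, ∀ hz : z ∈ E, ((φ ⟨z, hz⟩ : ↥F) : Y) = w := by
  have hE' : zpowers z = E := Subgroup.eq_of_le_of_card_ge hE.zpowers_le (by
    rw [hcE, hE.card_zpowers])
  have hF' : zpowers w = F := Subgroup.eq_of_le_of_card_ge hF.zpowers_le (by
    rw [hcF, hF.card_zpowers])
  subst hE' hF'
  obtain ⟨φ, hφ⟩ := exists_zpowers_mulEquiv (z := z) (w := w) (by rw [hE.orderOf_z, hF.orderOf_z])
  exact ⟨φ, fun _ => hφ⟩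

/-- **Classification for exponent `p`.** Two extraspecial-like subgroups of exponent `p` and the
same order are isomorphic, by an isomorphism matching the chosen central generators. -/
theorem exists_iso_of_exponent [Finite X] [Finite Y] [Fact p.Prime] :
    ∀ n : ℕ, ∀ (E : Subgroup X) (z : X) (F : Subgroup Y) (w : Y), IsXS p E z → IsXS p F w →
      (∀ a ∈ E, a ^ p = 1) → (∀ b ∈ F, b ^ p = 1) → Nat.card E = n → Nat.card F = n →
      ∃ φ : ↥E ≃* ↥F, ∀ hz : z ∈ E, ((φ ⟨z, hz⟩ : ↥F) : Y) = w := by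
  intro n
  induction n using Nat.strong_induction_on with
  | _ n ih =>
    intro E z F w hE hF hEp hFp hcE hcF
    have hp : p.Prime := Fact.out
    by_cases habE : ∀ a ∈ E, ∀ b ∈ E, a * b = b * a
    · have hE' := hE.eq_zpowers_of_comm habE
      have hnp : n = p := by rw [← hcE, hE', hE.card_zpowers]
      exact iso_of_card_eq_p hE hF (hcE.trans hnp) (hcF.trans hnp)
    · obtain ⟨x, hx, y, hy, hyx⟩ := hE.exists_pair habE
      have hcardE := hE.card_eq hx hy hyx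
      by_cases habF : ∀ a ∈ F, ∀ b ∈ F, a * b = b * a
      · exfalso
        have hF' := hF.eq_zpowers_of_comm habF
        have hnp : n = p := by rw [← hcF, hF', hF.card_zpowers]
        have h1 : 0 < Nat.card (cent2 E x y) := Nat.card_pos
        rw [hcE, hnp] at hcardE
        have h2 : p * p * 1 ≤ p * p * Nat.card (cent2 E x y) := Nat.mul_le_mul_left _ h1
        have h3 : p * 2 ≤ p * p := Nat.mul_le_mul_left _ hp.two_le
        have h4 : 0 < p := hp.pos
        omega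
      · obtain ⟨x', hx', y', hy', hyx'⟩ := hF.exists_pair habF
        have hcardF := hF.card_eq hx' hy' hyx'
        have hpp : 0 < p * p := Nat.mul_pos hp.pos hp.pos
        have hm : Nat.card (cent2 F x' y') = Nat.card (cent2 E x y) := by
          apply Nat.eq_of_mul_eq_mul_left hpp
          rw [← hcardE, ← hcardF, hcE, hcF]
        have hlt : Nat.card (cent2 E x y) < n := by
          have h1 : 0 < Nat.card (cent2 E x y) := Nat.card_pos
          have h3 : p * 2 ≤ p * p := Nat.mul_le_mul_left _ hp.two_le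
          have h4 : 0 < p := hp.pos
          rw [← hcE, hcardE]
          nlinarith
        obtain ⟨φ₂, hφ₂⟩ := ih _ hlt (cent2 E x y) z (cent2 F x' y') w
          (hE.isXS_cent2 hx hy hyx) (hF.isXS_cent2 hx' hy' hyx')
          (fun a ha => hEp a (cent2_le E x y ha)) (fun b hb => hFp b (cent2_le F x' y' hb))
          rfl hm
        exact hE.iso_step hF hx hy hyx (hEp x hx) (hEp y hy) hx' hy' hyx' (hFp x' hx')
          (hFp y' hy') φ₂ hφ₂

end IsXS

/-- type-level version: extraspecial groups of exponent `p` and the same order are isomorphic. -/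
theorem nonempty_mulEquiv_of_exponent {p : ℕ} [Fact p.Prime] {P Q : Type*} [Group P] [Group Q]
    [Finite P] [Finite Q] (hP : Cfsg.IsExtraspecial p P) (hQ : Cfsg.IsExtraspecial p Q)
    (heP : ∀ a : P, a ^ p = 1) (heQ : ∀ b : Q, b ^ p = 1) (hc : Nat.card P = Nat.card Q) :
    Nonempty (P ≃* Q) := by
  obtain ⟨z, hz⟩ := exists_isXS_top hP
  obtain ⟨w, hw⟩ := exists_isXS_top hQ
  obtain ⟨φ, -⟩ := IsXS.exists_iso_of_exponent (Nat.card P) ⊤ z ⊤ w hz hw (fun a _ => heP a)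
    (fun b _ => heQ b) (by rw [Subgroup.card_top]) (by rw [Subgroup.card_top, hc])
  exact ⟨Subgroup.topEquiv.symm.trans (φ.trans Subgroup.topEquiv)⟩

end Cfsg.Agent.Lib.Helper32
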