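import Mathlib
import Cfsg.Agent.Lib.Helper32.XSIso
import Cfsg.Agent.Lib.Helper59.QuaternionIso

set_option autoImplicit false

/-!
# Extraspecial-like 2-subgroups: involution counts and classification
-/

namespace Cfsg.Agent.Lib.Helper32

open Subgroup
open scoped commutatorElement

variable {X Y : Type*} [Group X] [Group Y]

/-- the number of `e ∈ E` with `e * e = c`. -/
noncomputable def sqc (E : Subgroup X) (c : X) : ℕ := Nat.card {e : ↥E // (e : X) * (e : X) = c}

theorem sqc_pos [Finite X] (E : Subgroup X) : 0 < sqc E 1 := by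
  unfold sqc
  have : Nonempty {e : ↥E // (e : X) * (e : X) = 1} := ⟨⟨1, by simp⟩⟩
  exact Nat.card_pos

theorem sqc_eq_card_of_forall (E : Subgroup X) (h : ∀ e ∈ E, e * e = 1) : sqc E 1 = Nat.card E := by
  unfold sqc
  exact Nat.card_congr (Equiv.subtypeUnivEquiv (fun e => h e.1 e.2))

namespace IsXS

variable {p : ℕ} {E : Subgroup X} {z : X} {F : Subgroup Y} {w : Y}

/-- counting along the coordinate bijection. -/
theorem card_subtype_split [Finite X] [Fact p.Prime] (h : IsXS p E z) {x y : X} (hx : x ∈ E)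
    (hy : y ∈ E) (hyx : ⁅y, x⁆ = z) (P : X → Prop) :
    Nat.card {e : ↥E // P (e : X)} = ∑ a : Fin p, ∑ b : Fin p,
      Nat.card {e₂ : ↥(cent2 E x y) // P (x ^ (a : ℕ) * y ^ (b : ℕ) * (e₂ : X))} := by
  rw [← Fintype.sum_prod_type' (f := fun (a b : Fin p) =>
    Nat.card {e₂ : ↥(cent2 E x y) // P (x ^ (a : ℕ) * y ^ (b : ℕ) * (e₂ : X))}), ← Nat.card_sigma]
  apply Nat.card_congr
  exact ((h.coordEquiv hx hy hyx).subtypeEquiv (fun t => Iff.rfl)).symm.trans
    (Equiv.subtypeProdEquivSigmaSubtype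
      (fun (ab : Fin p × Fin p) (e₂ : ↥(cent2 E x y)) =>
        P (x ^ (ab.1 : ℕ) * y ^ (ab.2 : ℕ) * (e₂ : X))))

theorem z_mul_self (h : IsXS 2 E z) : z * z = 1 := by
  rw [← pow_two]; exact h.z_pow

theorem z_inv (h : IsXS 2 E z) : z⁻¹ = z := inv_eq_of_mul_eq_one_left h.z_mul_self

theorem mem_zpowers_two (h : IsXS 2 E z) {c : X} (hc : c ∈ zpowers z) : c = 1 ∨ c = z := by
  have : Fact (Nat.Prime 2) := ⟨Nat.prime_two⟩
  obtain ⟨k, hk, rfl⟩ := h.exists_pow_lt hc
  interval_cases k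
  · left; exact pow_zero z
  · right; exact pow_one z

theorem sq_cases (h : IsXS 2 E z) {e : X} (he : e ∈ E) : e * e = 1 ∨ e * e = z := by
  apply h.mem_zpowers_two
  rw [← pow_two]
  exact h.pow_mem e he

theorem sq_of_mem_zpowers (h : IsXS 2 E z) {c : X} (hc : c ∈ zpowers z) : c * c = 1 := by
  rcases h.mem_zpowers_two hc with rfl | rfl
  · exact one_mul 1
  · exact h.z_mul_self

theorem sqc_add [Finite X] (h : IsXS 2 E z) : sqc E 1 + sqc E z = Nat.card E := by
  classical
  unfold sqc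
  rw [← Nat.card_sum]
  apply Nat.card_congr
  refine (Equiv.sumCongr (Equiv.refl _) (Equiv.subtypeEquivRight (fun e => ?_))).trans
    (Equiv.sumCompl (fun e : ↥E => (e : X) * (e : X) = 1))
  constructor
  · intro he h1
    rw [h1] at he
    exact h.z_ne he.symm
  · intro he
    rcases h.sq_cases e.2 with h1 | h1
    · exact absurd h1 he
    · exact h1

/-- the recursion for the number of involutions along a dihedral pair. -/
theorem two_step [Finite X] (h : IsXS 2 E z) {x y : X} (hx : x ∈ E) (hy : y ∈ E)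
    (hyx : ⁅y, x⁆ = z) (hxx : x * x = 1) (hyy : y * y = 1) :
    sqc E 1 = 2 * sqc (cent2 E x y) 1 + Nat.card (cent2 E x y) := by
  have : Fact (Nat.Prime 2) := ⟨Nat.prime_two⟩
  have h2 := h.isXS_cent2 hx hy hyx
  have hsplit := h.card_subtype_split hx hy hyx (fun e => e * e = 1)
  have hsq : ∀ (a b : ℕ) (e₂ : ↥(cent2 E x y)),
      (x ^ a * y ^ b * (e₂ : X)) * (x ^ a * y ^ b * (e₂ : X))
        = ((x ^ a * y ^ b) * (x ^ a * y ^ b)) * ((e₂ : X) * (e₂ : X)) := by
    intro a b e₂
    have hc := cent2_comm_t e₂.2 a b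
    calc (x ^ a * y ^ b * (e₂ : X)) * (x ^ a * y ^ b * (e₂ : X))
        = x ^ a * y ^ b * ((e₂ : X) * (x ^ a * y ^ b)) * (e₂ : X) := by simp only [mul_assoc]
      _ = x ^ a * y ^ b * ((x ^ a * y ^ b) * (e₂ : X)) * (e₂ : X) := by rw [hc]
      _ = _ := by simp only [mul_assoc]
  have hxyxy : (x * y) * (x * y) = z := by
    have e1 : y * x = z * x * y := by rw [mul_eq_comm_mul y x, hyx]
    calc (x * y) * (x * y) = x * (y * x) * y := by simp only [mul_assoc]
      _ = x * (z * x * y) * y := by rw [e1]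
      _ = (x * z) * x * (y * y) := by simp only [mul_assoc]
      _ = (z * x) * x * (y * y) := by rw [h.z_comm x hx]
      _ = z * (x * x) * (y * y) := by simp only [mul_assoc]
      _ = z := by rw [hxx, hyy, mul_one, mul_one]
  have t00 : Nat.card {e₂ : ↥(cent2 E x y) //
      (x ^ ((0 : Fin 2) : ℕ) * y ^ ((0 : Fin 2) : ℕ) * (e₂ : X)) *
        (x ^ ((0 : Fin 2) : ℕ) * y ^ ((0 : Fin 2) : ℕ) * (e₂ : X)) = 1} = sqc (cent2 E x y) 1 := by
    unfold sqc
    apply Nat.card_congr
    apply Equiv.subtypeEquivRight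
    intro e₂
    rw [hsq]
    simp
  have t10 : Nat.card {e₂ : ↥(cent2 E x y) //
      (x ^ ((1 : Fin 2) : ℕ) * y ^ ((0 : Fin 2) : ℕ) * (e₂ : X)) *
        (x ^ ((1 : Fin 2) : ℕ) * y ^ ((0 : Fin 2) : ℕ) * (e₂ : X)) = 1} = sqc (cent2 E x y) 1 := by
    unfold sqc
    apply Nat.card_congr
    apply Equiv.subtypeEquivRight
    intro e₂
    rw [hsq]
    simp [hxx]
  have t01 : Nat.card {e₂ : ↥(cent2 E x y) //
      (x ^ ((0 : Fin 2) : ℕ) * y ^ ((1 : Fin 2) : ℕ) * (e₂ : X)) *
        (x ^ ((0 : Fin 2) : ℕ) * y ^ ((1 : Fin 2) : ℕ) * (e₂ : X)) = 1} = sqc (cent2 E x y) 1 := by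
    unfold sqc
    apply Nat.card_congr
    apply Equiv.subtypeEquivRight
    intro e₂
    rw [hsq]
    simp [hyy]
  have t11 : Nat.card {e₂ : ↥(cent2 E x y) //
      (x ^ ((1 : Fin 2) : ℕ) * y ^ ((1 : Fin 2) : ℕ) * (e₂ : X)) *
        (x ^ ((1 : Fin 2) : ℕ) * y ^ ((1 : Fin 2) : ℕ) * (e₂ : X)) = 1} = sqc (cent2 E x y) z := by
    unfold sqc
    apply Nat.card_congr
    apply Equiv.subtypeEquivRight
    intro e₂
    rw [hsq]
    simp only [Fin.val_one, pow_one, hxyxy]
    rw [mul_eq_one_iff_eq_inv', h.z_inv]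
  have hadd := h2.sqc_add
  have hsplit' : sqc E 1 = _ := hsplit
  rw [Fin.sum_univ_two, Fin.sum_univ_two, Fin.sum_univ_two] at hsplit'
  rw [t00, t10, t01, t11] at hsplit'
  omega

/-- the trichotomy for extraspecial-like `2`-subgroups. -/
theorem two_cases [Finite X] (h : IsXS 2 E z) :
    E = zpowers z ∨
    (∃ x ∈ E, ∃ y ∈ E, x * x = 1 ∧ y * y = 1 ∧ ⁅y, x⁆ = z) ∨
    (Nat.card E = 8 ∧ sqc E 1 = 2 ∧ ∃ x ∈ E, ∃ y ∈ E, x * x = z ∧ y * y = z ∧ ⁅y, x⁆ = z) := by
  have : Fact (Nat.Prime 2) := ⟨Nat.prime_two⟩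
  by_cases hab : ∀ a ∈ E, ∀ b ∈ E, a * b = b * a
  · left; exact h.eq_zpowers_of_comm hab
  right
  by_cases hinv : ∃ u ∈ E, u * u = 1 ∧ u ∉ zpowers z
  · left
    obtain ⟨u, hu, huu, huz⟩ := hinv
    have hex : ∃ v ∈ E, u * v ≠ v * u := by
      by_contra hcon
      push Not at hcon
      exact huz (h.center u hu hcon)
    obtain ⟨v, hv, hne⟩ := hex
    have hc1 : ⁅v, u⁆ ≠ 1 := by
      rw [Ne, commutatorElement_eq_one_iff_mul_comm]
      exact fun e => hne e.symm
    have hc : ⁅v, u⁆ = z := by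
      rcases h.mem_zpowers_two (h.comm_mem v hv u hu) with h1 | h1
      · exact absurd h1 hc1
      · exact h1
    rcases h.sq_cases hv with hvv | hvv
    · exact ⟨u, hu, v, hv, huu, hvv, hc⟩
    · refine ⟨u, hu, u * v, E.mul_mem hu hv, huu, ?_, ?_⟩
      · have e1 : v * u = z * u * v := by rw [mul_eq_comm_mul v u, hc]
        calc (u * v) * (u * v) = u * (v * u) * v := by simp only [mul_assoc]
          _ = u * (z * u * v) * v := by rw [e1]
          _ = (u * z) * u * (v * v) := by simp only [mul_assoc]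
          _ = (z * u) * u * (v * v) := by rw [h.z_comm u hu]
          _ = z * (u * u) * (v * v) := by simp only [mul_assoc]
          _ = 1 := by rw [huu, hvv, mul_one, h.z_mul_self]
      · rw [h.comm_mul_left hu hv hu, commutatorElement_self, one_mul, hc]
  · right
    push Not at hinv
    obtain ⟨x, hx, y, hy, hyx⟩ := h.exists_pair hab
    have hxz : x ∉ zpowers z := by
      intro hxz
      have := h.comm_central_right hxz hy
      rw [hyx] at this
      exact h.z_ne this
    have hyz : y ∉ zpowers z := by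
      intro hyz
      have := h.comm_central_left hyz hx
      rw [hyx] at this
      exact h.z_ne this
    have hxx : x * x = z := by
      rcases h.sq_cases hx with h1 | h1
      · exact absurd (hinv x hx h1) hxz
      · exact h1
    have hyy : y * y = z := by
      rcases h.sq_cases hy with h1 | h1
      · exact absurd (hinv y hy h1) hyz
      · exact h1
    have h2 := h.isXS_cent2 hx hy hyx
    have hcent : cent2 E x y = zpowers z := by
      apply le_antisymm _ h2.zpowers_le
      intro x' hx'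
      by_contra hx'z
      have hx'E : x' ∈ E := cent2_le E x y hx'
      have hx'x' : x' * x' = z := by
        rcases h.sq_cases hx'E with h1 | h1
        · exact absurd (hinv x' hx'E h1) hx'z
        · exact h1
      have hcomm : x * x' = x' * x := (mem_cent2.mp hx').2.1
      have huu : (x * x') * (x * x') = 1 := by
        calc (x * x') * (x * x') = x * (x' * x) * x' := by simp only [mul_assoc]
          _ = x * (x * x') * x' := by rw [hcomm]
          _ = (x * x) * (x' * x') := by simp only [mul_assoc]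
          _ = 1 := by rw [hxx, hx'x', h.z_mul_self]
      have hu := hinv (x * x') (E.mul_mem hx hx'E) huu
      have hxc : x ∈ cent2 E x y := by
        have h3 : (x * x') * x'⁻¹ ∈ cent2 E x y :=
          Subgroup.mul_mem _ (h2.zpowers_le hu) (Subgroup.inv_mem _ hx')
        rwa [mul_inv_cancel_right] at h3
      have := (mem_cent2.mp hxc).2.2
      have h1 : ⁅y, x⁆ = 1 := by
        rw [commutatorElement_eq_one_iff_mul_comm]; exact this
      rw [hyx] at h1
      exact h.z_ne h1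
    refine ⟨?_, ?_, x, hx, y, hy, hxx, hyy, hyx⟩
    · rw [h.card_eq hx hy hyx, hcent, h.card_zpowers]
    · have e1 : sqc E 1 = Nat.card (zpowers z) := by
        unfold sqc
        exact Nat.card_congr
          ⟨fun e => ⟨e.1.1, hinv e.1.1 e.1.2 e.2⟩,
            fun c => ⟨⟨c.1, h.zpowers_le c.2⟩, h.sq_of_mem_zpowers c.2⟩,
            fun e => rfl, fun c => rfl⟩
      rw [e1, h.card_zpowers]

/-- the quaternion case. -/
theorem nonempty_mulEquiv_quaternion [Finite X] (h : IsXS 2 E z) (hcard : Nat.card E = 8)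
    {x y : X} (hx : x ∈ E) (hy : y ∈ E) (hxx : x * x = z) (hyy : y * y = z) (hyx : ⁅y, x⁆ = z) :
    Nonempty (↥E ≃* QuaternionGroup 2) := by
  have hx4 : x ^ 4 = 1 := by
    have : x ^ 4 = (x * x) * (x * x) := by
      rw [← pow_two, ← pow_two, ← pow_mul]
    rw [this, hxx, h.z_mul_self]
  have hord : orderOf x = 4 := by
    have := orderOf_eq_prime_pow (x := x) (p := 2) (n := 1) (by
      rw [pow_one, pow_two, hxx]; exact h.z_ne) (by norm_num; exact hx4)
    simpa using this
  have hyxy : y * x = z * x * y := by rw [mul_eq_comm_mul y x, hyx]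
  have hzx : z * x = x⁻¹ := by
    apply eq_inv_of_mul_eq_one_left
    rw [mul_assoc, hxx, h.z_mul_self]
  apply Cfsg.Agent.Lib.Helper59.nonempty_mulEquiv_quaternion 2 (⟨x, hx⟩ : ↥E) ⟨y, hy⟩
  · rw [hcard]
  · rw [Subgroup.orderOf_mk, hord]
  · apply Subtype.ext
    show y * y = x ^ 2
    rw [pow_two, hxx, hyy]
  · apply Subtype.ext
    show y * x * y⁻¹ = x⁻¹
    rw [hyxy, mul_inv_cancel_right, hzx]
  · intro hmem
    obtain ⟨k, hk⟩ := Subgroup.mem_zpowers_iff.mp hmem
    have hcomm : Commute ((⟨x, hx⟩ : ↥E) ^ k) ⟨x, hx⟩ := (Commute.refl _).zpow_left k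
    rw [hk] at hcomm
    have := congrArg Subtype.val hcomm.eq
    have h1 : ⁅y, x⁆ = 1 := by
      rw [commutatorElement_eq_one_iff_mul_comm]; exact this
    rw [hyx] at h1
    exact h.z_ne h1

/-- for `p = 2` every isomorphism matches the central involutions. -/
theorem map_z_two (hE : IsXS 2 E z) (hF : IsXS 2 F w) (φ : ↥E ≃* ↥F) (hz : z ∈ E) :
    ((φ ⟨z, hz⟩ : ↥F) : Y) = w := by
  have hcen : ((φ ⟨z, hz⟩ : ↥F) : Y) ∈ zpowers w := by
    apply hF.center _ (φ ⟨z, hz⟩).2
    intro b hb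
    obtain ⟨a, ha⟩ := φ.surjective ⟨b, hb⟩
    have h1 : (⟨z, hz⟩ : ↥E) * a = a * ⟨z, hz⟩ := Subtype.ext (hE.z_comm a a.2).symm
    have h2 := congrArg φ h1
    rw [map_mul, map_mul, ha] at h2
    exact congrArg Subtype.val h2
  rcases hF.mem_zpowers_two hcen with h1 | h1
  · exfalso
    have : φ ⟨z, hz⟩ = 1 := Subtype.ext h1
    rw [MulEquiv.map_eq_one_iff] at this
    exact hE.z_ne (congrArg Subtype.val this)
  · exact h1

end IsXS

end Cfsg.Agent.Lib.Helper32
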