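import Mathlib
import Cfsg.Agent.Lib.Helper32.XSTwo

set_option autoImplicit false

/-!
# Extraspecial 2-groups: orders, involution counts, and classification
-/

namespace Cfsg.Agent.Lib.Helper32

open Subgroup
open scoped commutatorElement

variable {X Y : Type*} [Group X] [Group Y]

namespace IsXS

variable {E : Subgroup X} {z : X} {F : Subgroup Y} {w : Y}

/-- order and involution count. -/
theorem two_card_count [Finite X] :
    ∀ n : ℕ, ∀ (E : Subgroup X) (z : X), IsXS 2 E z → Nat.card E = n →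
      ∃ m : ℕ, Nat.card E = 2 ^ (2 * m + 1) ∧
        (sqc E 1 = 2 ^ (2 * m) + 2 ^ m ∨ (1 ≤ m ∧ sqc E 1 + 2 ^ m = 2 ^ (2 * m))) := by
  intro n
  induction n using Nat.strong_induction_on with
  | _ n ih =>
    intro E z h hn
    have : Fact (Nat.Prime 2) := ⟨Nat.prime_two⟩
    rcases h.two_cases with hA | ⟨x, hx, y, hy, hxx, hyy, hyx⟩ | ⟨hc8, hs2, -⟩
    · refine ⟨0, ?_, Or.inl ?_⟩
      · rw [hA, h.card_zpowers]; rfl
      · rw [sqc_eq_card_of_forall E (fun e he => h.sq_of_mem_zpowers (by rw [← hA]; exact he)),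
          hA, h.card_zpowers]
        rfl
    · have hcard := h.card_eq hx hy hyx
      have hstep := h.two_step hx hy hyx hxx hyy
      have hpos : 0 < Nat.card (cent2 E x y) := Nat.card_pos
      have hlt : Nat.card (cent2 E x y) < n := by rw [← hn, hcard]; omega
      obtain ⟨m, hm, hcount⟩ := ih _ hlt (cent2 E x y) z (h.isXS_cent2 hx hy hyx) rfl
      refine ⟨m + 1, ?_, ?_⟩
      · rw [hcard, hm]; ring
      · have e1 : (2 : ℕ) ^ (2 * (m + 1)) = 2 * 2 ^ (2 * m) + 2 ^ (2 * m + 1) := by ring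
        have e2 : (2 : ℕ) ^ (m + 1) = 2 * 2 ^ m := by ring
        rcases hcount with hc | ⟨_, hc⟩
        · left
          rw [hstep, hc, hm, e1, e2]; ring
        · right
          refine ⟨by omega, ?_⟩
          rw [hstep, hm, e1, e2]
          omega
    · refine ⟨1, ?_, Or.inr ⟨le_refl 1, ?_⟩⟩
      · rw [hc8]; rfl
      · rw [hs2]; rfl

/-- **Classification of extraspecial-like 2-subgroups** by order and number of involutions. -/
theorem two_iso [Finite X] [Finite Y] :
    ∀ n : ℕ, ∀ (E : Subgroup X) (z : X) (F : Subgroup Y) (w : Y), IsXS 2 E z → IsXS 2 F w →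
      Nat.card E = n → Nat.card F = n → sqc E 1 = sqc F 1 → Nonempty (↥E ≃* ↥F) := by
  intro n
  induction n using Nat.strong_induction_on with
  | _ n ih =>
    intro E z F w hE hF hcE hcF hs
    have : Fact (Nat.Prime 2) := ⟨Nat.prime_two⟩
    rcases hE.two_cases with hA | hBC
    · have hn : n = 2 := by rw [← hcE, hA, hE.card_zpowers]
      obtain ⟨φ, -⟩ := iso_of_card_eq_p hE hF (hcE.trans hn) (hcF.trans hn)
      exact ⟨φ⟩
    rcases hF.two_cases with hA' | hBC'
    · have hn : n = 2 := by rw [← hcF, hA', hF.card_zpowers]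
      obtain ⟨φ, -⟩ := iso_of_card_eq_p hE hF (hcE.trans hn) (hcF.trans hn)
      exact ⟨φ⟩
    rcases hBC with ⟨x, hx, y, hy, hxx, hyy, hyx⟩ | ⟨hc8, hs2, x, hx, y, hy, hxx, hyy, hyx⟩
    · have hcardE := hE.card_eq hx hy hyx
      have hstepE := hE.two_step hx hy hyx hxx hyy
      have hposE : 0 < Nat.card (cent2 E x y) := Nat.card_pos
      have hsposE := sqc_pos (cent2 E x y)
      rcases hBC' with ⟨x', hx', y', hy', hxx', hyy', hyx'⟩ | ⟨hc8', hs2', -⟩
      · have hcardF := hF.card_eq hx' hy' hyx'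
        have hstepF := hF.two_step hx' hy' hyx' hxx' hyy'
        have hm : Nat.card (cent2 F x' y') = Nat.card (cent2 E x y) := by
          rw [hcE] at hcardE; rw [hcF] at hcardF; omega
        have hlt : Nat.card (cent2 E x y) < n := by rw [← hcE, hcardE]; omega
        have hs' : sqc (cent2 E x y) 1 = sqc (cent2 F x' y') 1 := by omega
        have hE2 := hE.isXS_cent2 hx hy hyx
        have hF2 := hF.isXS_cent2 hx' hy' hyx'
        obtain ⟨φ₂⟩ := ih _ hlt (cent2 E x y) z (cent2 F x' y') w hE2 hF2 rfl hm hs'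
        obtain ⟨φ, -⟩ := hE.iso_step hF hx hy hyx (by rw [pow_two, hxx]) (by rw [pow_two, hyy])
          hx' hy' hyx' (by rw [pow_two, hxx']) (by rw [pow_two, hyy']) φ₂
          (fun hz => hE2.map_z_two hF2 φ₂ hz)
        exact ⟨φ⟩
      · exfalso
        rw [hcE] at hcardE; rw [hcF] at hc8'
        omega
    · rcases hBC' with ⟨x', hx', y', hy', hxx', hyy', hyx'⟩ | ⟨hc8', hs2', x', hx', y', hy', hxx', hyy', hyx'⟩
      · exfalso
        have hcardF := hF.card_eq hx' hy' hyx'
        have hstepF := hF.two_step hx' hy' hyx' hxx' hyy'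
        have hposF : 0 < Nat.card (cent2 F x' y') := Nat.card_pos
        have hsposF := sqc_pos (cent2 F x' y')
        rw [hcF] at hcardF; rw [hcE] at hc8
        omega
      · obtain ⟨φ⟩ := hE.nonempty_mulEquiv_quaternion hc8 hx hy hxx hyy hyx
        obtain ⟨φ'⟩ := hF.nonempty_mulEquiv_quaternion hc8' hx' hy' hxx' hyy' hyx'
        exact ⟨φ.trans φ'.symm⟩

end IsXS

theorem sqc_top_one {P : Type*} [Group P] :
    sqc (⊤ : Subgroup P) 1 = Nat.card {x : P // x ^ 2 = 1} := by
  unfold sqc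
  apply Nat.card_congr
  exact Subgroup.topEquiv.toEquiv.subtypeEquiv (fun e => by
    rw [pow_two]; rfl)

/-- type-level: order and involution count of an extraspecial 2-group. -/
theorem extraspecial_two_card_count {P : Type*} [Group P] [Finite P] (hP : Cfsg.IsExtraspecial 2 P) :
    ∃ m : ℕ, 1 ≤ m ∧ Nat.card P = 2 ^ (2 * m + 1) ∧
      (Nat.card {x : P // x ^ 2 = 1} = 2 ^ (2 * m) + 2 ^ m ∨
        Nat.card {x : P // x ^ 2 = 1} + 2 ^ m = 2 ^ (2 * m)) := by
  have : Fact (Nat.Prime 2) := ⟨Nat.prime_two⟩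
  obtain ⟨z, hz⟩ := exists_isXS_top hP
  obtain ⟨m, hm, hcount⟩ := IsXS.two_card_count _ ⊤ z hz rfl
  rw [Subgroup.card_top] at hm
  rw [sqc_top_one] at hcount
  have hm1 : 1 ≤ m := by
    by_contra hm0
    have hm0' : m = 0 := by omega
    subst hm0'
    obtain ⟨⟨-, -, hco⟩, hcard⟩ := hP
    have htop : Subgroup.center P = ⊤ := by
      rw [← Subgroup.card_eq_iff_eq_top, hcard, hm]; rfl
    have hbot : commutator P = ⊥ := (_root_.commutator_eq_bot_iff_center_eq_top (G := P)).mpr htop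
    rw [hco] at hbot
    rw [hbot, Subgroup.card_bot] at hcard
    omega
  refine ⟨m, hm1, hm, ?_⟩
  rcases hcount with hc | ⟨-, hc⟩
  · exact Or.inl hc
  · exact Or.inr hc

/-- type-level: extraspecial 2-groups with the same order and number of involutions are isomorphic. -/
theorem extraspecial_two_iso {P Q : Type*} [Group P] [Group Q] [Finite P] [Finite Q]
    (hP : Cfsg.IsExtraspecial 2 P) (hQ : Cfsg.IsExtraspecial 2 Q) (hc : Nat.card P = Nat.card Q)
    (hs : Nat.card {x : P // x ^ 2 = 1} = Nat.card {x : Q // x ^ 2 = 1}) : Nonempty (P ≃* Q) := by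
  have : Fact (Nat.Prime 2) := ⟨Nat.prime_two⟩
  obtain ⟨z, hz⟩ := exists_isXS_top hP
  obtain ⟨w, hw⟩ := exists_isXS_top hQ
  obtain ⟨φ⟩ := IsXS.two_iso (Nat.card P) ⊤ z ⊤ w hz hw (by rw [Subgroup.card_top])
    (by rw [Subgroup.card_top, hc]) (by rw [sqc_top_one, sqc_top_one, hs])
  exact ⟨Subgroup.topEquiv.symm.trans (φ.trans Subgroup.topEquiv)⟩

end Cfsg.Agent.Lib.Helper32
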