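import Mathlib
import Cfsg.Agent.Lib.Helper32.XSTwoMain
import Cfsg.Agent.Lib.Helper01.Coprime
import Cfsg.Agent.Lib.Helper52.Extraspecial
import Cfsg.Prelude.Def_CaseTheorems

set_option autoImplicit false

/-!
# Large elementary abelian subgroups of extraspecial 2-groups
-/

namespace Cfsg.Agent.Lib.Helper32

open Subgroup
open scoped commutatorElement

variable {X : Type*} [Group X]

/-- the closure of a pairwise commuting set is commutative. -/
theorem closure_comm_of_comm {S : Set X} (hS : ∀ a ∈ S, ∀ b ∈ S, a * b = b * a) :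
    ∀ a ∈ closure S, ∀ b ∈ closure S, a * b = b * a := by
  have h1 : closure S ≤ centralizer S := by
    rw [Subgroup.closure_le]
    intro a ha
    rw [SetLike.mem_coe, Subgroup.mem_centralizer_iff]
    intro b hb
    exact hS b hb a ha
  intro a ha
  have h2 : closure S ≤ centralizer {a} := by
    rw [Subgroup.closure_le]
    intro b hb
    rw [SetLike.mem_coe, Subgroup.mem_centralizer_iff]
    intro c hc
    rw [Set.mem_singleton_iff] at hc
    subst hc
    have := Subgroup.mem_centralizer_iff.mp (h1 ha) b hb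
    exact this.symm
  intro b hb
  have := Subgroup.mem_centralizer_iff.mp (h2 hb) a (Set.mem_singleton a)
  exact this

/-- adjoining a commuting involution to an elementary abelian 2-subgroup. -/
theorem exists_adjoin_involution [Finite X] {A : Subgroup X} {x : X}
    (hA : ∀ a ∈ A, ∀ b ∈ A, a * b = b * a) (hA2 : ∀ a ∈ A, a * a = 1)
    (hx : ∀ a ∈ A, x * a = a * x) (hxx : x * x = 1) (hxA : x ∉ A) :
    ∃ B : Subgroup X, B = A ⊔ zpowers x ∧ (∀ a ∈ B, ∀ b ∈ B, a * b = b * a) ∧
      (∀ a ∈ B, a * a = 1) ∧ Nat.card B = 2 * Nat.card A := by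
  have hB : A ⊔ zpowers x = closure ((A : Set X) ∪ {x}) := by
    rw [Subgroup.closure_union, Subgroup.closure_eq, Subgroup.zpowers_eq_closure]
  have hS : ∀ a ∈ ((A : Set X) ∪ {x}), ∀ b ∈ ((A : Set X) ∪ {x}), a * b = b * a := by
    rintro a (ha | ha) b (hb | hb)
    · exact hA a ha b hb
    · rw [Set.mem_singleton_iff] at hb; subst hb; exact (hx a ha).symm
    · rw [Set.mem_singleton_iff] at ha; subst ha; exact hx b hb
    · rw [Set.mem_singleton_iff] at ha hb; subst ha hb; rfl
  have hcomm := closure_comm_of_comm hS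
  rw [← hB] at hcomm
  have hx1 : x ≠ 1 := by
    rintro rfl
    exact hxA A.one_mem
  have hord : orderOf x = 2 := orderOf_eq_prime (by rw [pow_two, hxx]) hx1
  have hzx : ∀ c ∈ zpowers x, c = 1 ∨ c = x := by
    intro c hc
    obtain ⟨k, rfl⟩ := Subgroup.mem_zpowers_iff.mp hc
    rcases Int.even_or_odd k with ⟨j, rfl⟩ | ⟨j, rfl⟩
    · left
      rw [← two_mul, zpow_mul, zpow_ofNat, pow_two, hxx, one_zpow]
    · right
      rw [zpow_add, zpow_one, zpow_mul, zpow_ofNat, pow_two, hxx, one_zpow, one_mul]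
  have hcent : A ≤ centralizer (zpowers x : Set X) := by
    intro a ha
    rw [Subgroup.mem_centralizer_iff]
    intro c hc
    rcases hzx c hc with rfl | rfl
    · rw [one_mul, mul_one]
    · exact hx a ha
  have hnorm : A ≤ normalizer (zpowers x : Set X) :=
    hcent.trans (Subgroup.centralizer_le_normalizer _)
  refine ⟨A ⊔ zpowers x, rfl, hcomm, ?_, ?_⟩
  · intro b hb
    obtain ⟨a, ha, c, hc, rfl⟩ := Cfsg.Agent.Lib.Helper01.exists_mul_of_mem_sup hnorm hb
    have hac : c * a = a * c := by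
      rcases hzx c hc with rfl | rfl
      · rw [one_mul, mul_one]
      · exact hx a ha
    have hcc : c * c = 1 := by
      rcases hzx c hc with rfl | rfl
      · exact one_mul 1
      · exact hxx
    calc a * c * (a * c) = a * (c * a) * c := by simp only [mul_assoc]
      _ = a * (a * c) * c := by rw [hac]
      _ = (a * a) * (c * c) := by simp only [mul_assoc]
      _ = 1 := by rw [hA2 a ha, hcc, one_mul]
  · have := Cfsg.Agent.Lib.Helper01.card_sup_mul_card_inf_of_le_normalizer (zpowers x) A hnorm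
    have hinf : zpowers x ⊓ A = ⊥ := by
      rw [eq_bot_iff]
      rintro c ⟨hc1, hc2⟩
      rcases hzx c hc1 with rfl | rfl
      · exact Subgroup.mem_bot.mpr rfl
      · exact absurd hc2 hxA
    rw [hinf, Subgroup.card_bot, mul_one, Nat.card_zpowers, hord] at this
    exact this

namespace IsXS

/-- existence of large elementary abelian subgroups, in terms of the involution count. -/
theorem exists_elemAb [Finite X] :
    ∀ n : ℕ, ∀ (E : Subgroup X) (z : X), IsXS 2 E z → Nat.card E = n →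
      ∃ A : Subgroup X, A ≤ E ∧ (∀ a ∈ A, ∀ b ∈ A, a * b = b * a) ∧ (∀ a ∈ A, a * a = 1) ∧
        (2 * sqc E 1 = Nat.card E + Nat.card A ∨ 2 * sqc E 1 + 2 * Nat.card A = Nat.card E) := by
  intro n
  induction n using Nat.strong_induction_on with
  | _ n ih =>
    intro E z h hn
    have : Fact (Nat.Prime 2) := ⟨Nat.prime_two⟩
    have hZcomm : ∀ a ∈ zpowers z, ∀ b ∈ zpowers z, a * b = b * a :=
      fun a ha b hb => (h.central ha (h.zpowers_le hb)).symm
    rcases h.two_cases with hA | ⟨x, hx, y, hy, hxx, hyy, hyx⟩ | ⟨hc8, hs2, -⟩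
    · refine ⟨zpowers z, h.zpowers_le, hZcomm, fun a ha => h.sq_of_mem_zpowers ha, Or.inl ?_⟩
      rw [sqc_eq_card_of_forall E (fun e he => h.sq_of_mem_zpowers (by rw [← hA]; exact he)),
        hA]
      ring
    · have hcard := h.card_eq hx hy hyx
      have hstep := h.two_step hx hy hyx hxx hyy
      have hpos : 0 < Nat.card (cent2 E x y) := Nat.card_pos
      have hlt : Nat.card (cent2 E x y) < n := by rw [← hn, hcard]; omega
      obtain ⟨A₂, hA₂le, hA₂c, hA₂s, hA₂card⟩ :=
        ih _ hlt (cent2 E x y) z (h.isXS_cent2 hx hy hyx) rfl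
      have hxA : x ∉ A₂ := by
        intro hxA
        have := (mem_cent2.mp (hA₂le hxA)).2.2
        have h1 : ⁅y, x⁆ = 1 := by
          rw [commutatorElement_eq_one_iff_mul_comm]; exact this
        rw [hyx] at h1
        exact h.z_ne h1
      obtain ⟨B, hBdef, hBc, hBs, hBcard⟩ := exists_adjoin_involution hA₂c hA₂s
        (fun a ha => (mem_cent2.mp (hA₂le ha)).2.1) hxx hxA
      refine ⟨B, ?_, hBc, hBs, ?_⟩
      · rw [hBdef]
        exact sup_le (hA₂le.trans (cent2_le E x y)) ((Subgroup.zpowers_le).mpr hx)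
      · rcases hA₂card with hc | hc
        · left; omega
        · right; omega
    · refine ⟨zpowers z, h.zpowers_le, hZcomm, fun a ha => h.sq_of_mem_zpowers ha, Or.inr ?_⟩
      rw [hs2, hc8, h.card_zpowers]

end IsXS

/-- type-level existence of large elementary abelian subgroups. -/
theorem extraspecial_two_exists_elemAb {P : Type*} [Group P] [Finite P]
    (hP : Cfsg.IsExtraspecial 2 P) :
    ∃ A : Subgroup P, IsMulCommutative A ∧ (∀ a ∈ A, a ^ 2 = 1) ∧
      (2 * Nat.card {x : P // x ^ 2 = 1} = Nat.card P + Nat.card A ∨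
        2 * Nat.card {x : P // x ^ 2 = 1} + 2 * Nat.card A = Nat.card P) := by
  have : Fact (Nat.Prime 2) := ⟨Nat.prime_two⟩
  obtain ⟨z, hz⟩ := exists_isXS_top hP
  obtain ⟨A, -, hAc, hAs, hcard⟩ := IsXS.exists_elemAb _ ⊤ z hz rfl
  rw [sqc_top_one, Subgroup.card_top] at hcard
  exact ⟨A, ⟨⟨fun a b => Subtype.ext (hAc a a.2 b b.2)⟩⟩,
    fun a ha => by rw [pow_two]; exact hAs a ha, hcard⟩

/-- the 2-rank of an extraspecial group of order `2 ^ (2 n + 1)` in terms of the involution count. -/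
theorem extraspecial_two_rank {P : Type*} [Group P] [Finite P] (hP : Cfsg.IsExtraspecial 2 P)
    (n : ℕ) (hn : Nat.card P = 2 ^ (2 * n + 1)) :
    1 ≤ n ∧ Cfsg.PRankLE 2 (n + 1) P ∧
      ((Nat.card {x : P // x ^ 2 = 1} = 2 ^ (2 * n) + 2 ^ n ∧ ¬ Cfsg.PRankLE 2 n P) ∨
        (Nat.card {x : P // x ^ 2 = 1} + 2 ^ n = 2 ^ (2 * n) ∧ Cfsg.PRankLE 2 n P ∧
          ¬ Cfsg.PRankLE 2 (n - 1) P)) := by
  classical
  have : Fact (Nat.Prime 2) := ⟨Nat.prime_two⟩
  have : Fintype P := Fintype.ofFinite P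
  obtain ⟨m, hm1, hm, hcount⟩ := extraspecial_two_card_count hP
  have hmn : m = n := by
    have : (2 : ℕ) ^ (2 * m + 1) = 2 ^ (2 * n + 1) := by rw [← hm, hn]
    have := Nat.pow_right_injective (le_refl 2) this
    omega
  subst hmn
  obtain ⟨A₀, hA₀c, hA₀s, hA₀card⟩ := extraspecial_two_exists_elemAb hP
  have hA₀pos : 0 < Nat.card A₀ := Nat.card_pos
  obtain ⟨⟨hpg, hfc, -⟩, hZ⟩ := id hP
  have hΦcard : Nat.card (frattini P) = 2 := by rw [hfc]; exact hZ
  obtain ⟨z, hz1, hzz, -, hΦz, hcent, -, hcomm⟩ := Cfsg.Agent.S3772.setup hpg hΦcard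
  have e1 : (2 : ℕ) ^ (2 * m + 1) = 2 * 2 ^ (2 * m) := by ring
  have e2 : (2 : ℕ) ^ (2 * m) = 2 ^ m * 2 ^ m := by rw [← pow_add]; congr 1; omega
  have e3 : (2 : ℕ) ^ (m + 1) = 2 * 2 ^ m := by ring
  have hpos : 0 < (2 : ℕ) ^ m := by positivity
  -- upper bound
  have hub : Cfsg.PRankLE 2 (m + 1) P := by
    intro A hAc _
    have hle : A ≤ Subgroup.centralizer (A : Set P) := by
      intro a ha
      rw [Subgroup.mem_centralizer_iff]
      intro b hb
      have := hAc.is_comm.comm (⟨b, hb⟩ : A) ⟨a, ha⟩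
      exact congrArg Subtype.val this
    have hbound := Cfsg.Agent.Lib.Helper52.card_mul_card_centralizer_le hz1 hzz hΦz hcent hcomm A
    rw [hn, hZ] at hbound
    have h1 : Nat.card A ≤ Nat.card (Subgroup.centralizer (A : Set P)) :=
      Subgroup.card_le_of_le hle
    have h2 : Nat.card A * Nat.card A ≤ 2 ^ (m + 1) * 2 ^ (m + 1) := by
      calc Nat.card A * Nat.card A ≤ Nat.card A * Nat.card (Subgroup.centralizer (A : Set P)) :=
            Nat.mul_le_mul_left _ h1
        _ ≤ 2 ^ (2 * m + 1) * 2 := hbound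
        _ = 2 ^ (m + 1) * 2 ^ (m + 1) := by rw [e1, e2, e3]; ring
    exact Nat.mul_self_le_mul_self_iff.mp h2
  refine ⟨hm1, hub, ?_⟩
  rcases hcount with hc | hc
  · left
    refine ⟨hc, ?_⟩
    intro hle
    have h1 := hle A₀ hA₀c hA₀s
    rw [hc, hn, e1, e2] at hA₀card
    rcases hA₀card with h2 | h2
    · omega
    · omega
  · right
    refine ⟨hc, ?_, ?_⟩
    · intro A hAc hAs
      have hAp : IsPGroup 2 A := hpg.to_subgroup A
      obtain ⟨k, hk⟩ := IsPGroup.iff_card.mp hAp
      have h1 := hub A hAc hAs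
      rw [hk] at h1 ⊢
      have hk1 : k ≤ m + 1 := (Nat.pow_le_pow_iff_right (le_refl 2)).mp h1
      apply Nat.pow_le_pow_right (by norm_num)
      by_contra hkm
      have hkeq : k = m + 1 := by omega
      subst hkeq
      have := (Cfsg.Agent.Lib.Helper52.card_sq_eq_one_of_extraspecial_plus m hP hn A
        ⟨hAc, hAs⟩ hk).1
      omega
    · intro hle
      have h1 := hle A₀ hA₀c hA₀s
      have e4 : (2 : ℕ) ^ m = 2 * 2 ^ (m - 1) := by
        rw [← pow_succ']; congr 1; omega
      rw [hn, e1] at hA₀card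
      rcases hA₀card with h2 | h2
      · omega
      · omega

end Cfsg.Agent.Lib.Helper32
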