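import Mathlib
import Cfsg.Agent.Lib.Helper32.XSRank
import Cfsg.Agent.Lib.Helper32.XSTwoMain

set_option autoImplicit false

/-!
# The extraspecial group `2^{1+4}_-`: basic facts

`M32 P z`: `P` is extraspecial of order `32` with central involution `z` and without elementary abelian
subgroups of order `8`.
-/

namespace Cfsg.Agent.Lib.Helper32.Aut32

open Subgroup
open scoped commutatorElement

variable {P : Type*} [Group P]

/-- the standing hypotheses. -/
structure M32 (P : Type*) [Group P] (z : P) : Prop where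
  xs : IsXS 2 (⊤ : Subgroup P) z
  card : Nat.card P = 32
  minus : ∀ A : Subgroup P, (∀ a ∈ A, ∀ b ∈ A, a * b = b * a) → (∀ a ∈ A, a * a = 1) →
    Nat.card A ≤ 4

namespace M32

variable {z : P}

theorem zc (S : M32 P z) (g : P) : g * z = z * g := S.xs.z_comm g (mem_top g)

theorem zz (S : M32 P z) : z * z = 1 := S.xs.z_mul_self

theorem z_ne (S : M32 P z) : z ≠ 1 := S.xs.z_ne

theorem z_inv (S : M32 P z) : z⁻¹ = z := S.xs.z_inv

theorem mem_zs (S : M32 P z) {c : P} : c ∈ zpowers z ↔ c = 1 ∨ c = z := by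
  constructor
  · exact S.xs.mem_zpowers_two
  · rintro (rfl | rfl)
    · exact one_mem _
    · exact mem_zpowers _

theorem comm_cases (S : M32 P z) (a b : P) : ⁅a, b⁆ = 1 ∨ ⁅a, b⁆ = z :=
  S.xs.mem_zpowers_two (S.xs.comm_mem a (mem_top a) b (mem_top b))

theorem sq_cases (S : M32 P z) (a : P) : a * a = 1 ∨ a * a = z := S.xs.sq_cases (mem_top a)

theorem central (S : M32 P z) {c : P} (hc : c ∈ zpowers z) (g : P) : g * c = c * g :=
  S.xs.central hc (mem_top g)

theorem mem_zs_of_central (S : M32 P z) {a : P} (ha : ∀ b : P, a * b = b * a) : a ∈ zpowers z :=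
  S.xs.center a (mem_top a) (fun b _ => ha b)

theorem card_zs (S : M32 P z) : Nat.card (zpowers z) = 2 := by
  have : Fact (Nat.Prime 2) := ⟨Nat.prime_two⟩
  exact S.xs.card_zpowers

theorem comm_mul_left (S : M32 P z) (a b c : P) : ⁅a * b, c⁆ = ⁅a, c⁆ * ⁅b, c⁆ :=
  S.xs.comm_mul_left (mem_top a) (mem_top b) (mem_top c)

theorem comm_mul_right (S : M32 P z) (a b c : P) : ⁅a, b * c⁆ = ⁅a, b⁆ * ⁅a, c⁆ :=
  S.xs.comm_mul_right (mem_top a) (mem_top b) (mem_top c)

/-- non-commuting elements: `a * b = z * (b * a)`. -/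
theorem mul_of_comm_eq_z {a b : P} (h : ⁅a, b⁆ = z) : a * b = z * (b * a) := by
  rw [← h, commutatorElement_def]; group

/-- two commuting noncentral involutions in different cosets of the centre give an `E₈`. -/
theorem noncomm [Finite P] (S : M32 P z) {v w : P} (hv : v * v = 1) (hw : w * w = 1)
    (hvZ : v ∉ zpowers z) (hwZ : w ∉ zpowers z) (hwv : w ≠ v) (hwvz : w ≠ v * z) :
    ⁅v, w⁆ = z := by
  rcases S.comm_cases v w with h1 | h1
  swap
  · exact h1
  exfalso
  have hvw : v * w = w * v := commutatorElement_eq_one_iff_mul_comm.mp h1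
  have hA0c : ∀ a ∈ zpowers z, ∀ b ∈ zpowers z, a * b = b * a := fun a _ b hb => S.central hb a
  have hA0s : ∀ a ∈ zpowers z, a * a = 1 := fun a ha => S.xs.sq_of_mem_zpowers ha
  obtain ⟨A1, hA1, hA1c, hA1s, hA1card⟩ := exists_adjoin_involution hA0c hA0s
    (x := v) (fun a ha => S.central ha _) hv hvZ
  have hZN : zpowers z ≤ normalizer (zpowers v : Set P) := by
    intro c hc
    rw [mem_normalizer_iff]
    intro h
    rw [← S.central hc h, mul_inv_cancel_right]
  have hvpow : ∀ k ∈ zpowers v, k = 1 ∨ k = v := by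
    intro k hk
    obtain ⟨j, rfl⟩ := Subgroup.mem_zpowers_iff.mp hk
    rcases Int.even_or_odd j with ⟨i, rfl⟩ | ⟨i, rfl⟩
    · left
      rw [← two_mul, zpow_mul, zpow_ofNat, pow_two, hv, one_zpow]
    · right
      rw [zpow_add, zpow_one, zpow_mul, zpow_ofNat, pow_two, hv, one_zpow, one_mul]
  have hA1mem : ∀ a ∈ A1, ∃ c ∈ zpowers z, a = c ∨ a = c * v := by
    intro a ha
    rw [hA1] at ha
    obtain ⟨c, hc, k, hk, rfl⟩ := Cfsg.Agent.Lib.Helper01.exists_mul_of_mem_sup hZN ha
    refine ⟨c, hc, ?_⟩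
    rcases hvpow k hk with rfl | rfl
    · left; rw [mul_one]
    · right; rfl
  have hwA1 : w ∉ A1 := by
    intro hmem
    obtain ⟨c, hc, e | e⟩ := hA1mem _ hmem
    · exact hwZ (by rw [e]; exact hc)
    · rcases S.mem_zs.mp hc with rfl | rfl
      · exact hwv (by rw [e, one_mul])
      · exact hwvz (by rw [e, S.zc v])
  have hwcomm : ∀ a ∈ A1, w * a = a * w := by
    intro a ha
    obtain ⟨c, hc, rfl | rfl⟩ := hA1mem a ha
    · exact S.central hc _
    · rw [← mul_assoc, S.central hc w, mul_assoc, mul_assoc, hvw]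
  obtain ⟨A2, -, hA2c, hA2s, hA2card⟩ := exists_adjoin_involution hA1c hA1s
    (x := w) hwcomm hw hwA1
  have := S.minus A2 hA2c hA2s
  rw [hA2card, hA1card, S.card_zs] at this
  omega

/-- the number of solutions of `e * e = 1` is `12`. -/
theorem card_sq_one [Finite P] (S : M32 P z) : Nat.card {e : P // e * e = 1} = 12 := by
  have : Fact (Nat.Prime 2) := ⟨Nat.prime_two⟩
  obtain ⟨m, hm, hcount⟩ := IsXS.two_card_count _ ⊤ z S.xs rfl
  obtain ⟨A, -, hAc, hAs, hA⟩ := IsXS.exists_elemAb _ ⊤ z S.xs rfl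
  rw [Subgroup.card_top, S.card] at hm hA
  have hm2 : m = 2 := by
    have h5 : (2 : ℕ) ^ 5 = 2 ^ (2 * m + 1) := by rw [← hm]; norm_num
    have := Nat.pow_right_injective (le_refl 2) h5
    omega
  subst hm2
  have hA4 := S.minus A hAc hAs
  have hsq : sqc (⊤ : Subgroup P) 1 = 12 := by
    norm_num at hcount
    omega
  rw [← hsq]
  unfold sqc
  apply Nat.card_congr
  exact (Subgroup.topEquiv.toEquiv.subtypeEquiv (fun e => by rfl)).symm

/-- the number of noncentral involutions is `10`. -/
theorem card_inv [Finite P] (S : M32 P z) :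
    Nat.card {v : P // v * v = 1 ∧ v ∉ zpowers z} = 10 := by
  classical
  have : Fintype P := Fintype.ofFinite P
  have h12 : (Finset.univ.filter (fun e : P => e * e = 1)).card = 12 := by
    rw [← Fintype.card_subtype, ← Nat.card_eq_fintype_card]; exact S.card_sq_one
  have hsplit := Finset.card_filter_add_card_filter_not
    (s := Finset.univ.filter (fun e : P => e * e = 1)) (fun e => e ∈ zpowers z)
  have h2 : ((Finset.univ.filter (fun e : P => e * e = 1)).filter (fun e => e ∈ zpowers z))
      = {1, z} := by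
    ext e
    simp only [Finset.mem_filter, Finset.mem_univ, true_and, Finset.mem_insert,
      Finset.mem_singleton]
    constructor
    · rintro ⟨-, h⟩; exact S.mem_zs.mp h
    · rintro (rfl | rfl)
      · exact ⟨one_mul 1, one_mem _⟩
      · exact ⟨S.zz, mem_zpowers _⟩
  have h2c : ({1, z} : Finset P).card = 2 := Finset.card_pair (Ne.symm S.z_ne)
  rw [h2, h2c, h12] at hsplit
  rw [Nat.card_eq_fintype_card, Fintype.card_subtype]
  have e : (Finset.univ.filter (fun v : P => v * v = 1 ∧ v ∉ zpowers z))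
      = (Finset.univ.filter (fun e : P => e * e = 1)).filter (fun e => ¬ e ∈ zpowers z) := by
    ext e
    simp only [Finset.mem_filter, Finset.mem_univ, true_and]
  rw [e]
  omega

/-- four noncentral involutions generating `P`. -/
theorem exists_gens [Finite P] (S : M32 P z) :
    ∃ v1 v2 v3 v4 : P, (v1 * v1 = 1 ∧ v1 ∉ zpowers z) ∧ (v2 * v2 = 1 ∧ v2 ∉ zpowers z) ∧
      (v3 * v3 = 1 ∧ v3 ∉ zpowers z) ∧ (v4 * v4 = 1 ∧ v4 ∉ zpowers z) ∧
      closure ({v1, v2, v3, v4} : Set P) = ⊤ := by
  have : Fact (Nat.Prime 2) := ⟨Nat.prime_two⟩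
  have hc2 := S.card_zs
  -- the dihedral pair
  obtain ⟨x, -, y, -, hxx, hyy, hyx⟩ : ∃ x ∈ (⊤ : Subgroup P), ∃ y ∈ (⊤ : Subgroup P),
      x * x = 1 ∧ y * y = 1 ∧ ⁅y, x⁆ = z := by
    rcases S.xs.two_cases with h | h | ⟨h, -⟩
    · exfalso
      have := congrArg (fun K : Subgroup P => Nat.card K) h
      simp only [Subgroup.card_top, S.card, hc2] at this
      omega
    · exact h
    · exfalso
      rw [Subgroup.card_top, S.card] at h
      omega
  have hQ := S.xs.isXS_cent2 (mem_top x) (mem_top y) hyx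
  have hQcard : Nat.card (cent2 (⊤ : Subgroup P) x y) = 8 := by
    have := S.xs.card_eq (mem_top x) (mem_top y) hyx
    rw [Subgroup.card_top, S.card] at this
    omega
  have hxZ : x ∉ zpowers z := by
    intro h
    have := S.central h y
    have h1 : ⁅y, x⁆ = 1 := commutatorElement_eq_one_iff_mul_comm.mpr this
    rw [hyx] at h1
    exact S.z_ne h1
  have hyZ : y ∉ zpowers z := by
    intro h
    have := S.central h x
    have h1 : ⁅y, x⁆ = 1 := commutatorElement_eq_one_iff_mul_comm.mpr this.symm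
    rw [hyx] at h1
    exact S.z_ne h1
  -- the quaternion pair
  obtain ⟨a, haQ, b, hbQ, haa, hbb, hba⟩ : ∃ a ∈ cent2 (⊤ : Subgroup P) x y,
      ∃ b ∈ cent2 (⊤ : Subgroup P) x y, a * a = z ∧ b * b = z ∧ ⁅b, a⁆ = z := by
    rcases hQ.two_cases with h | ⟨x', hx'Q, y', hy'Q, hx'x', -, hy'x'⟩ | ⟨-, -, h⟩
    · exfalso
      have := congrArg (fun K : Subgroup P => Nat.card K) h
      simp only [hQcard, hc2] at this
      omega
    · exfalso
      obtain ⟨-, hxx', hyx'⟩ := mem_cent2.mp hx'Q
      have hx'Z : x' ∉ zpowers z := by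
        intro h
        have := S.central h y'
        have h1 : ⁅y', x'⁆ = 1 := commutatorElement_eq_one_iff_mul_comm.mpr this
        rw [hy'x'] at h1
        exact S.z_ne h1
      have hne1 : x' ≠ x := by
        rintro rfl
        have h1 : ⁅y, x'⁆ = 1 := commutatorElement_eq_one_iff_mul_comm.mpr hyx'
        rw [hyx] at h1
        exact S.z_ne h1
      have hne2 : x' ≠ x * z := by
        rintro rfl
        have h2 : y * x = x * y := by
          have h3 : y * (x * z) * z = (x * z) * y * z := by rw [hyx']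
          have e1 : y * (x * z) * z = y * x := by
            rw [mul_assoc, mul_assoc, S.zz, mul_one]
          have e2 : (x * z) * y * z = x * y := by
            rw [mul_assoc x z y, ← S.zc y, ← mul_assoc, mul_assoc, S.zz, mul_one]
          rw [e1, e2] at h3
          exact h3
        have h1 : ⁅y, x⁆ = 1 := commutatorElement_eq_one_iff_mul_comm.mpr h2
        rw [hyx] at h1
        exact S.z_ne h1
      have := S.noncomm hxx hx'x' hxZ hx'Z hne1 hne2
      have h1 : ⁅x, x'⁆ = 1 := commutatorElement_eq_one_iff_mul_comm.mpr hxx'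
      rw [this] at h1
      exact S.z_ne h1
    · exact h
  obtain ⟨-, hxa, hya⟩ := mem_cent2.mp haQ
  obtain ⟨-, hxb, hyb⟩ := mem_cent2.mp hbQ
  have hR := hQ.isXS_cent2 haQ hbQ hba
  have hRcard : Nat.card (cent2 (cent2 (⊤ : Subgroup P) x y) a b) = 2 := by
    have := hQ.card_eq haQ hbQ hba
    rw [hQcard] at this
    omega
  have hReq : cent2 (cent2 (⊤ : Subgroup P) x y) a b = zpowers z := by
    symm
    apply eq_of_le_of_card_ge hR.zpowers_le
    rw [hRcard, hc2]
  -- `(x y)² = z`
  have hyxyx : y * x * y * x = z := by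
    have : ⁅y, x⁆ = y * x * y * x := by
      rw [commutatorElement_def, inv_eq_of_mul_eq_one_left hxx, inv_eq_of_mul_eq_one_left hyy]
    rw [← this, hyx]
  have hxyxy : x * y * (x * y) = z := by
    calc x * y * (x * y) = x * (y * x * y * x) * x⁻¹ := by group
      _ = x * z * x⁻¹ := by rw [hyxyx]
      _ = z := by rw [S.zc x, mul_inv_cancel_right]
  have hinvol : ∀ c : P, c * c = z → x * c = c * x → y * c = c * y →
      (x * y * c) * (x * y * c) = 1 ∧ x * y * c ∉ zpowers z := by
    intro c hcc hxc hyc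
    constructor
    · calc x * y * c * (x * y * c) = x * (y * c) * x * y * c := by group
        _ = x * (c * y) * x * y * c := by rw [hyc]
        _ = (x * c) * y * x * y * c := by group
        _ = (c * x) * y * x * y * c := by rw [hxc]
        _ = c * (x * y * (x * y)) * c := by group
        _ = c * z * c := by rw [hxyxy]
        _ = z * (c * c) := by rw [S.zc c]; group
        _ = 1 := by rw [hcc, S.zz]
    · intro h
      -- then `c` is a central multiple of `(x y)⁻¹`, which does not commute with `x`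
      have h1 := S.central h x
      have h2 : x * (x * y) = (x * y) * x := by
        have e1 : x * (x * y * c) = x * (x * y) * c := by group
        have e2 : x * y * c * x = (x * y) * x * c := by
          rw [mul_assoc (x * y) c x, ← hxc]; group
        rw [e1, e2] at h1
        exact mul_right_cancel h1
      have h3 : x * y = y * x := by
        have : x * (x * y) = x * (y * x) := by rw [h2]; group
        exact mul_left_cancel this
      have h4 : ⁅y, x⁆ = 1 := commutatorElement_eq_one_iff_mul_comm.mpr h3.symm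
      rw [hyx] at h4
      exact S.z_ne h4
  refine ⟨x, y, x * y * a, x * y * b, ⟨hxx, hxZ⟩, ⟨hyy, hyZ⟩, hinvol a haa hxa hya,
    hinvol b hbb hxb hyb, ?_⟩
  rw [eq_top_iff]
  intro e _
  set K := closure ({x, y, x * y * a, x * y * b} : Set P) with hK
  have hxK : x ∈ K := subset_closure (by simp)
  have hyK : y ∈ K := subset_closure (by simp)
  have h3K : x * y * a ∈ K := subset_closure (by simp)
  have h4K : x * y * b ∈ K := subset_closure (by simp)
  have haK : a ∈ K := by
    have : a = (x * y)⁻¹ * (x * y * a) := by group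
    rw [this]
    exact K.mul_mem (K.inv_mem (K.mul_mem hxK hyK)) h3K
  have hbK : b ∈ K := by
    have : b = (x * y)⁻¹ * (x * y * b) := by group
    rw [this]
    exact K.mul_mem (K.inv_mem (K.mul_mem hxK hyK)) h4K
  have hzK : z ∈ K := by
    rw [← hyx, commutatorElement_def]
    exact K.mul_mem (K.mul_mem (K.mul_mem hyK hxK) (K.inv_mem hyK)) (K.inv_mem hxK)
  obtain ⟨i, j, -, -, hq⟩ := S.xs.exists_decomp (mem_top x) (mem_top y) hyx (mem_top e)
  obtain ⟨k, l, -, -, hc⟩ := hQ.exists_decomp haQ hbQ hba hq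
  rw [hReq] at hc
  have hcK : (a ^ k * b ^ l)⁻¹ * ((x ^ i * y ^ j)⁻¹ * e) ∈ K :=
    (zpowers_le.mpr hzK) hc
  have : e = (x ^ i * y ^ j) * ((a ^ k * b ^ l) * ((a ^ k * b ^ l)⁻¹ * ((x ^ i * y ^ j)⁻¹ * e))) := by
    group
  rw [this]
  exact K.mul_mem (K.mul_mem (K.pow_mem hxK i) (K.pow_mem hyK j))
    (K.mul_mem (K.mul_mem (K.pow_mem haK k) (K.pow_mem hbK l)) hcK)

end M32

end Cfsg.Agent.Lib.Helper32.Aut32
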