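import Mathlib
import Cfsg.Agent.Lib.Helper32.Aut32A

set_option autoImplicit false

/-!
# The extraspecial group `2^{1+4}_-`: automorphisms

Transvection automorphisms, the action on the five cosets of noncentral involutions, and the
determination of the automorphism group.
-/

namespace Cfsg.Agent.Lib.Helper32.Aut32

open Subgroup
open scoped commutatorElement Pointwise

variable {P : Type*} [Group P]

open Classical in
/-- the transvection map attached to `u`. -/
noncomputable def tvFun (u : P) (e : P) : P := if e * u = u * e then e else e * u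

theorem tvFun_pos {u e : P} (h : e * u = u * e) : tvFun u e = e := by
  unfold tvFun; rw [if_pos h]

theorem tvFun_neg {u e : P} (h : ¬ e * u = u * e) : tvFun u e = e * u := by
  unfold tvFun; rw [if_neg h]

namespace M32

variable {z : P}

theorem comm_of_not_comm (S : M32 P z) {e u : P} (h : ¬ e * u = u * e) : ⁅e, u⁆ = z := by
  rcases S.comm_cases e u with h1 | h1
  · exact absurd (commutatorElement_eq_one_iff_mul_comm.mp h1) h
  · exact h1

theorem tvFun_mul (S : M32 P z) {u : P} (huu : u * u = z) (e f : P) :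
    tvFun u (e * f) = tvFun u e * tvFun u f := by
  by_cases he : e * u = u * e
  · by_cases hf : f * u = u * f
    · have hef : e * f * u = u * (e * f) := by
        rw [mul_assoc, hf, ← mul_assoc, he, mul_assoc]
      rw [tvFun_pos he, tvFun_pos hf, tvFun_pos hef]
    · have hef : ¬ e * f * u = u * (e * f) := by
        intro h
        apply hf
        have : e * (f * u) = e * (u * f) := by
          rw [← mul_assoc, h, ← mul_assoc, ← he, mul_assoc]
        exact mul_left_cancel this
      rw [tvFun_pos he, tvFun_neg hf, tvFun_neg hef, mul_assoc]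
  · by_cases hf : f * u = u * f
    · have hef : ¬ e * f * u = u * (e * f) := by
        intro h
        apply he
        have : e * u * f = u * e * f := by
          rw [mul_assoc e u f, ← hf, ← mul_assoc, h, mul_assoc]
        exact mul_right_cancel this
      rw [tvFun_neg he, tvFun_pos hf, tvFun_neg hef, mul_assoc e f u, hf, mul_assoc]
    · have h1 := S.comm_of_not_comm he
      have h2 := S.comm_of_not_comm hf
      have hef : e * f * u = u * (e * f) := by
        have : ⁅e * f, u⁆ = 1 := by rw [S.comm_mul_left, h1, h2, S.zz]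
        exact commutatorElement_eq_one_iff_mul_comm.mp this
      rw [tvFun_neg he, tvFun_neg hf, tvFun_pos hef]
      have h3 : f * u = z * (u * f) := mul_of_comm_eq_z h2
      have h4 : u * f = z * (f * u) := by
        rw [h3, ← mul_assoc, S.zz, one_mul]
      calc e * f = e * f * (z * z) := by rw [S.zz, mul_one]
        _ = e * (z * f * z) := by rw [← S.zc f]; group
        _ = e * (z * f * (u * u)) := by rw [huu]
        _ = e * (z * (f * u)) * u := by group
        _ = e * (u * f) * u := by rw [← h4]
        _ = e * u * (f * u) := by group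

/-- the transvection homomorphism. -/
noncomputable def tvHom (S : M32 P z) {u : P} (huu : u * u = z) : P →* P :=
  MonoidHom.mk' (tvFun u) (S.tvFun_mul huu)

theorem tvHom_injective (S : M32 P z) {u : P} (huu : u * u = z) :
    Function.Injective (S.tvHom huu) := by
  rw [injective_iff_map_eq_one]
  intro e he
  change tvFun u e = 1 at he
  by_cases h : e * u = u * e
  · rwa [tvFun_pos h] at he
  · exfalso
    rw [tvFun_neg h] at he
    apply h
    have : e = u⁻¹ := eq_inv_of_mul_eq_one_left he
    rw [this, inv_mul_cancel, mul_inv_cancel]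

/-- the transvection automorphism. -/
noncomputable def tvAut [Finite P] (S : M32 P z) {u : P} (huu : u * u = z) : MulAut P :=
  MulEquiv.ofBijective (S.tvHom huu)
    ⟨S.tvHom_injective huu, Finite.injective_iff_surjective.mp (S.tvHom_injective huu)⟩

theorem tvAut_apply [Finite P] (S : M32 P z) {u : P} (huu : u * u = z) (e : P) :
    S.tvAut huu e = tvFun u e := rfl

/-- every automorphism fixes `z`. -/
theorem aut_z (S : M32 P z) (φ : MulAut P) : φ z = z := by
  have h1 : φ z ∈ zpowers z := by
    apply S.mem_zs_of_central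
    intro b
    obtain ⟨c, rfl⟩ := φ.surjective b
    rw [← map_mul, ← map_mul, S.zc c]
  rcases S.mem_zs.mp h1 with h | h
  · exfalso
    apply S.z_ne
    apply φ.injective
    rw [h, map_one]
  · exact h

theorem aut_mem_zs (S : M32 P z) (φ : MulAut P) {v : P} : φ v ∈ zpowers z ↔ v ∈ zpowers z := by
  constructor
  · intro h
    rcases S.mem_zs.mp h with h | h
    · have : v = 1 := φ.injective (by rw [h, map_one])
      rw [this]; exact one_mem _
    · have : v = z := φ.injective (by rw [h, S.aut_z])
      rw [this]; exact mem_zpowers _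
  · intro h
    rcases S.mem_zs.mp h with rfl | rfl
    · rw [map_one]; exact one_mem _
    · rw [S.aut_z]; exact mem_zpowers _

/-- the cosets of noncentral involutions, as a sub-action of the sets. -/
def omSub (S : M32 P z) : SubMulAction (MulAut P) (Set P) where
  carrier := {s | ∃ v : P, v * v = 1 ∧ v ∉ zpowers z ∧ s = {v, v * z}}
  smul_mem' := by
    rintro φ s ⟨v, hv, hvZ, rfl⟩
    refine ⟨φ v, by rw [← map_mul, hv, map_one], fun h => hvZ ((S.aut_mem_zs φ).mp h), ?_⟩
    rw [Set.smul_set_insert, Set.smul_set_singleton, MulAut.smul_def, MulAut.smul_def, map_mul,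
      S.aut_z]

/-- the coset of a noncentral involution. -/
def cls (S : M32 P z) (v : P) (hv : v * v = 1 ∧ v ∉ zpowers z) : S.omSub :=
  ⟨{v, v * z}, ⟨v, hv.1, hv.2, rfl⟩⟩

theorem exists_cls (S : M32 P z) (s : S.omSub) : ∃ v hv, s = S.cls v hv := by
  obtain ⟨s, v, hv1, hvZ, rfl⟩ := s
  exact ⟨v, ⟨hv1, hvZ⟩, rfl⟩

theorem cls_eq_iff (S : M32 P z) {v w : P} (hv : v * v = 1 ∧ v ∉ zpowers z)
    (hw : w * w = 1 ∧ w ∉ zpowers z) : S.cls v hv = S.cls w hw ↔ w = v ∨ w = v * z := by
  constructor
  · intro h
    have h1 : ({v, v * z} : Set P) = {w, w * z} := congrArg Subtype.val h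
    have h2 : w ∈ ({v, v * z} : Set P) := by rw [h1]; exact Set.mem_insert _ _
    rcases h2 with h2 | h2
    · exact Or.inl h2
    · exact Or.inr h2
  · rintro (rfl | rfl)
    · rfl
    · apply Subtype.ext
      show ({v, v * z} : Set P) = {v * z, v * z * z}
      rw [mul_assoc, S.zz, mul_one, Set.pair_comm]

theorem invol_mul_z (S : M32 P z) {v : P} (hv : v * v = 1 ∧ v ∉ zpowers z) :
    (v * z) * (v * z) = 1 ∧ v * z ∉ zpowers z := by
  constructor
  · calc v * z * (v * z) = v * (z * v) * z := by group
      _ = v * (v * z) * z := by rw [S.zc v]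
      _ = (v * v) * (z * z) := by group
      _ = 1 := by rw [hv.1, S.zz, one_mul]
  · intro h
    apply hv.2
    have : v = (v * z) * z⁻¹ := by group
    rw [this]
    exact mul_mem h (inv_mem (mem_zpowers z))

theorem smul_cls (S : M32 P z) (φ : MulAut P) {v : P} (hv : v * v = 1 ∧ v ∉ zpowers z)
    (hφv : φ v * φ v = 1 ∧ φ v ∉ zpowers z) : φ • S.cls v hv = S.cls (φ v) hφv := by
  apply Subtype.ext
  show φ • ({v, v * z} : Set P) = {φ v, φ v * z}
  rw [Set.smul_set_insert, Set.smul_set_singleton, MulAut.smul_def, MulAut.smul_def, map_mul,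
    S.aut_z]

theorem aut_invol (S : M32 P z) (φ : MulAut P) {v : P} (hv : v * v = 1 ∧ v ∉ zpowers z) :
    φ v * φ v = 1 ∧ φ v ∉ zpowers z :=
  ⟨by rw [← map_mul, hv.1, map_one], fun h => hv.2 ((S.aut_mem_zs φ).mp h)⟩

/-- the permutation representation on the five cosets. -/
noncomputable def psi (S : M32 P z) : MulAut P →* Equiv.Perm S.omSub :=
  MulAction.toPermHom (MulAut P) S.omSub

theorem psi_apply (S : M32 P z) (φ : MulAut P) (s : S.omSub) : S.psi φ s = φ • s := rfl

theorem mem_ker_psi (S : M32 P z) (φ : MulAut P) :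
    φ ∈ S.psi.ker ↔ ∀ v, (v * v = 1 ∧ v ∉ zpowers z) → (φ v = v ∨ φ v = v * z) := by
  rw [MonoidHom.mem_ker]
  constructor
  · intro h v hv
    have h1 : S.psi φ (S.cls v hv) = S.cls v hv := by rw [h]; rfl
    rw [psi_apply, S.smul_cls φ hv (S.aut_invol φ hv)] at h1
    exact (S.cls_eq_iff hv (S.aut_invol φ hv)).mp h1.symm
  · intro h
    apply Equiv.ext
    intro s
    obtain ⟨v, hv, rfl⟩ := S.exists_cls s
    rw [psi_apply, S.smul_cls φ hv (S.aut_invol φ hv)]
    exact ((S.cls_eq_iff hv (S.aut_invol φ hv)).mpr (h v hv)).symm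

/-- inner automorphisms act trivially on the cosets. -/
theorem inn_le_ker (S : M32 P z) : (MulAut.conj : P →* MulAut P).range ≤ S.psi.ker := by
  rintro φ ⟨g, rfl⟩
  rw [S.mem_ker_psi]
  intro v hv
  rw [MulAut.conj_apply]
  have e : g * v * g⁻¹ = ⁅g, v⁆ * v := by rw [commutatorElement_def]; group
  rcases S.comm_cases g v with h | h
  · left; rw [e, h, one_mul]
  · right; rw [e, h, S.zc v]

/-- the inner automorphism group has order `16`. -/
theorem card_inn [Finite P] (S : M32 P z) :
    Nat.card (MulAut.conj : P →* MulAut P).range = 16 := by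
  have hker : (MulAut.conj : P →* MulAut P).ker = zpowers z := by
    ext g
    rw [MonoidHom.mem_ker]
    constructor
    · intro h
      apply S.mem_zs_of_central
      intro b
      have := congrArg (fun φ : MulAut P => φ b) h
      simp only [MulAut.conj_apply, MulAut.one_apply] at this
      calc g * b = (g * b * g⁻¹) * g := by group
        _ = b * g := by rw [this]
    · intro h
      apply MulEquiv.ext
      intro b
      rw [MulAut.conj_apply, MulAut.one_apply, ← S.central h b, mul_inv_cancel_right]
  have h1 := (MulAut.conj : P →* MulAut P).ker.card_mul_index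
  rw [Subgroup.index_ker, hker, S.card_zs, S.card] at h1
  omega

/-- the kernel of the permutation representation has at most `16` elements. -/
theorem card_ker_le [Finite P] (S : M32 P z) : Nat.card S.psi.ker ≤ 16 := by
  obtain ⟨v1, v2, v3, v4, h1, h2, h3, h4, hgen⟩ := S.exists_gens
  let F : S.psi.ker → (zpowers z × zpowers z) × (zpowers z × zpowers z) := fun φ =>
    ((⟨v1⁻¹ * (φ : MulAut P) v1, by
        rcases (S.mem_ker_psi φ).mp φ.2 v1 h1 with h | h <;> rw [h]
        · rw [inv_mul_cancel]; exact one_mem _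
        · rw [inv_mul_cancel_left]; exact mem_zpowers _⟩,
      ⟨v2⁻¹ * (φ : MulAut P) v2, by
        rcases (S.mem_ker_psi φ).mp φ.2 v2 h2 with h | h <;> rw [h]
        · rw [inv_mul_cancel]; exact one_mem _
        · rw [inv_mul_cancel_left]; exact mem_zpowers _⟩),
     (⟨v3⁻¹ * (φ : MulAut P) v3, by
        rcases (S.mem_ker_psi φ).mp φ.2 v3 h3 with h | h <;> rw [h]
        · rw [inv_mul_cancel]; exact one_mem _
        · rw [inv_mul_cancel_left]; exact mem_zpowers _⟩,
      ⟨v4⁻¹ * (φ : MulAut P) v4, by
        rcases (S.mem_ker_psi φ).mp φ.2 v4 h4 with h | h <;> rw [h]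
        · rw [inv_mul_cancel]; exact one_mem _
        · rw [inv_mul_cancel_left]; exact mem_zpowers _⟩))
  have hF : Function.Injective F := by
    intro φ φ' h
    have e1 : v1⁻¹ * (φ : MulAut P) v1 = v1⁻¹ * (φ' : MulAut P) v1 :=
      congrArg (fun t => ((t.1.1 : zpowers z) : P)) h
    have e2 : v2⁻¹ * (φ : MulAut P) v2 = v2⁻¹ * (φ' : MulAut P) v2 :=
      congrArg (fun t => ((t.1.2 : zpowers z) : P)) h
    have e3 : v3⁻¹ * (φ : MulAut P) v3 = v3⁻¹ * (φ' : MulAut P) v3 :=
      congrArg (fun t => ((t.2.1 : zpowers z) : P)) h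
    have e4 : v4⁻¹ * (φ : MulAut P) v4 = v4⁻¹ * (φ' : MulAut P) v4 :=
      congrArg (fun t => ((t.2.2 : zpowers z) : P)) h
    have hhom : ((φ : MulAut P) : P ≃* P).toMonoidHom = ((φ' : MulAut P) : P ≃* P).toMonoidHom := by
      apply MonoidHom.eq_of_eqOn_dense hgen
      intro v hv
      simp only [Set.mem_insert_iff, Set.mem_singleton_iff] at hv
      rcases hv with rfl | rfl | rfl | rfl
      · exact mul_left_cancel e1
      · exact mul_left_cancel e2
      · exact mul_left_cancel e3
      · exact mul_left_cancel e4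
    apply Subtype.ext
    apply MulEquiv.ext
    intro b
    exact congrArg (fun f : P →* P => f b) hhom
  have hfin : Finite (zpowers z) := Nat.finite_of_card_ne_zero (by rw [S.card_zs]; norm_num)
  have := Nat.card_le_card_of_injective F hF
  rw [Nat.card_prod, Nat.card_prod, S.card_zs] at this
  exact this

/-- the kernel of the permutation representation is the inner automorphism group. -/
theorem inn_eq_ker [Finite P] (S : M32 P z) :
    (MulAut.conj : P →* MulAut P).range = S.psi.ker := by
  have hfinA : Finite (MulAut P) := Finite.of_injective (fun f : MulAut P => (f : P → P))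
    (fun f g h => MulEquiv.ext (congrFun h))
  exact eq_of_le_of_card_ge S.inn_le_ker (by rw [S.card_inn]; exact S.card_ker_le)

/-- every transposition of the cosets is induced by a transvection. -/
theorem swap_mem_range [Finite P] (S : M32 P z) [DecidableEq S.omSub] {s s' : S.omSub}
    (hss' : s ≠ s') : Equiv.swap s s' ∈ S.psi.range := by
  obtain ⟨v, hv, rfl⟩ := S.exists_cls s
  obtain ⟨v', hv', rfl⟩ := S.exists_cls s'
  have hne : ¬ (v' = v ∨ v' = v * z) := fun h => hss' ((S.cls_eq_iff hv hv').mpr h)
  push Not at hne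
  have hc : ⁅v, v'⁆ = z := S.noncomm hv.1 hv'.1 hv.2 hv'.2 hne.1 hne.2
  have h1 : v * v' = z * (v' * v) := mul_of_comm_eq_z hc
  have h2 : v' * v = z * (v * v') := by rw [h1, ← mul_assoc, S.zz, one_mul]
  have huu : (v * v') * (v * v') = z := by
    calc v * v' * (v * v') = v * (v' * v) * v' := by group
      _ = v * (z * (v * v')) * v' := by rw [h2]
      _ = (v * z) * v * (v' * v') := by group
      _ = (z * v) * v * (v' * v') := by rw [S.zc v]
      _ = z * (v * v) * (v' * v') := by group
      _ = z := by rw [hv.1, hv'.1, mul_one, mul_one]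
  have hzne : ∀ a : P, z * a ≠ a := by
    intro a h
    apply S.z_ne
    exact mul_right_cancel (h.trans (one_mul a).symm)
  -- values of the transvection
  have hφv : S.tvAut huu v = v' := by
    rw [tvAut_apply]
    have hn : ¬ v * (v * v') = (v * v') * v := by
      intro h
      have e1 : v * (v * v') = v' := by rw [← mul_assoc, hv.1, one_mul]
      have e2 : v * v' * v = z * v' := by
        rw [mul_assoc, h2, ← mul_assoc, ← mul_assoc, S.zc v, mul_assoc z v v, hv.1, mul_one]
      rw [e1, e2] at h
      exact hzne v' h.symm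
    rw [tvFun_neg hn, ← mul_assoc, hv.1, one_mul]
  have hφv' : S.tvAut huu v' = v * z := by
    rw [tvAut_apply]
    have e1 : v' * (v * v') = z * v := by
      rw [← mul_assoc, h2, mul_assoc, mul_assoc, hv'.1, mul_one]
    have e2 : v * v' * v' = v := by rw [mul_assoc, hv'.1, mul_one]
    have hn : ¬ v' * (v * v') = (v * v') * v' := by
      intro h
      rw [e1, e2] at h
      exact hzne v h
    rw [tvFun_neg hn, e1, S.zc v]
  have hφw : ∀ w (hw : w * w = 1 ∧ w ∉ zpowers z), S.cls w hw ≠ S.cls v hv →
      S.cls w hw ≠ S.cls v' hv' → S.tvAut huu w = w := by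
    intro w hw hwv hwv'
    have n1 : ¬ (w = v ∨ w = v * z) := fun h => hwv ((S.cls_eq_iff hv hw).mpr h).symm
    have n2 : ¬ (w = v' ∨ w = v' * z) := fun h => hwv' ((S.cls_eq_iff hv' hw).mpr h).symm
    push Not at n1 n2
    have c1 : ⁅w, v⁆ = z := by
      apply S.noncomm hw.1 hv.1 hw.2 hv.2
      · exact fun h => n1.1 h.symm
      · intro h
        apply n1.2
        rw [h, mul_assoc, S.zz, mul_one]
    have c2 : ⁅w, v'⁆ = z := by
      apply S.noncomm hw.1 hv'.1 hw.2 hv'.2
      · exact fun h => n2.1 h.symm
      · intro h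
        apply n2.2
        rw [h, mul_assoc, S.zz, mul_one]
    have c3 : ⁅w, v * v'⁆ = 1 := by rw [S.comm_mul_right, c1, c2, S.zz]
    rw [tvAut_apply, tvFun_pos (commutatorElement_eq_one_iff_mul_comm.mp c3)]
  refine ⟨S.tvAut huu, ?_⟩
  apply Equiv.ext
  intro t
  obtain ⟨w, hw, rfl⟩ := S.exists_cls t
  rw [psi_apply, S.smul_cls _ hw (S.aut_invol _ hw)]
  by_cases ht1 : S.cls w hw = S.cls v hv
  · rw [ht1, Equiv.swap_apply_left]
    rcases (S.cls_eq_iff hv hw).mp ht1.symm with rfl | rfl
    · exact (S.cls_eq_iff hv' (S.aut_invol _ hw)).mpr (Or.inl hφv) |>.symm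
    · apply ((S.cls_eq_iff hv' (S.aut_invol _ hw)).mpr _).symm
      right
      rw [map_mul, hφv, S.aut_z]
  · by_cases ht2 : S.cls w hw = S.cls v' hv'
    · rw [ht2, Equiv.swap_apply_right]
      rcases (S.cls_eq_iff hv' hw).mp ht2.symm with rfl | rfl
      · exact ((S.cls_eq_iff hv (S.aut_invol _ hw)).mpr (Or.inr hφv')).symm
      · apply ((S.cls_eq_iff hv (S.aut_invol _ hw)).mpr _).symm
        left
        rw [map_mul, hφv', S.aut_z, mul_assoc, S.zz, mul_one]
    · rw [Equiv.swap_apply_of_ne_of_ne ht1 ht2]
      apply ((S.cls_eq_iff hw (S.aut_invol _ hw)).mpr _).symm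
      left
      exact hφw w hw ht1 ht2

/-- the permutation representation is onto. -/
theorem psi_surjective [Finite P] (S : M32 P z) : Function.Surjective S.psi := by
  classical
  have hfin : Finite S.omSub := Finite.of_injective (fun s : S.omSub => (s : Set P))
    Subtype.val_injective
  rw [← MonoidHom.range_eq_top, eq_top_iff, ← Equiv.Perm.closure_isSwap, closure_le]
  rintro σ ⟨s, s', hss', rfl⟩
  exact S.swap_mem_range hss'

/-- there are five cosets of noncentral involutions. -/
theorem card_om [Finite P] (S : M32 P z) : Nat.card S.omSub = 5 := by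
  classical
  have hfin : Finite S.omSub := Finite.of_injective (fun s : S.omSub => (s : Set P))
    Subtype.val_injective
  have : Fintype S.omSub := Fintype.ofFinite _
  let f : {v : P // v * v = 1 ∧ v ∉ zpowers z} → S.omSub := fun v => S.cls v.1 v.2
  have hfib : ∀ s : S.omSub, Nat.card {v : {v : P // v * v = 1 ∧ v ∉ zpowers z} // f v = s} = 2 := by
    intro s
    obtain ⟨v0, hv0, rfl⟩ := S.exists_cls s
    rw [Nat.card_eq_two_iff]
    refine ⟨⟨⟨v0, hv0⟩, rfl⟩, ⟨⟨v0 * z, S.invol_mul_z hv0⟩,
      ((S.cls_eq_iff hv0 (S.invol_mul_z hv0)).mpr (Or.inr rfl)).symm⟩, ?_, ?_⟩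
    · intro h
      have h1 : v0 = v0 * z := congrArg (fun t => (t.1.1 : P)) h
      apply S.z_ne
      have : v0 * 1 = v0 * z := by rw [mul_one]; exact h1
      exact (mul_left_cancel this).symm
    · rw [Set.eq_univ_iff_forall]
      rintro ⟨⟨w, hw⟩, hws⟩
      have h1 : S.cls w hw = S.cls v0 hv0 := hws
      rcases (S.cls_eq_iff hv0 hw).mp h1.symm with rfl | rfl
      · left; rfl
      · right; rfl
  have h10 := S.card_inv
  rw [← Nat.card_congr (Equiv.sigmaFiberEquiv f), Nat.card_sigma] at h10
  simp only [hfib, Finset.sum_const, Finset.card_univ, smul_eq_mul] at h10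
  rw [Nat.card_eq_fintype_card]
  omega

end M32

end Cfsg.Agent.Lib.Helper32.Aut32
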