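import Mathlib
import Cfsg.Agent.Lib.Helper31.BG12a
import Cfsg.Agent.Lib.Helper58.BG1217
import Cfsg.Agent.Lib.Helper13.BG12B
import Cfsg.Agent.Lib.Helper16.BG134Ctx
import Cfsg.Agent.Lib.Helper12.CNMaxSub
import Cfsg.Agent.Lib.Helper83.BG11e
import Cfsg.Agent.Lib.Helper55.Uniq3
import Cfsg.Agent.Lib.Helper32.Coprime
import Cfsg.Agent.S1350
import Cfsg.Agent.S1408
import Cfsg.Agent.S1409
import Cfsg.Agent.S1414
import Cfsg.Agent.S1417
import Cfsg.Agent.S1418
import Cfsg.Agent.S1420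
import Cfsg.Agent.S1423
import Cfsg.Agent.S1424
import Cfsg.Agent.S1426

/-!
# Bender–Glauberman 13.4, step (D2): `p ∉ τ₂(H)`  (keystone 142852)

Everything here is relative to the Frattini statement (Fr) (keystone 142854), carried as the
hypothesis `hFr`; the exact-signature wrapper lives in `BG134D2.lean`.
-/

set_option autoImplicit false
set_option linter.unusedSectionVars false
set_option linter.unusedVariables false
set_option linter.style.haveILetI false

namespace Cfsg.Agent.Lib.Helper32.BG134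

open Cfsg Cfsg.Agent.Lib.Helper55 Cfsg.Agent.Lib.Helper31 Cfsg.Agent.Lib.Helper71.BG10
  Cfsg.Agent.Lib.Helper71.BG11 Cfsg.Agent.Lib.Helper69.BG10 Cfsg.Agent.Lib.Helper13.BG12
  Cfsg.Agent.Lib.Helper31.BG12 Cfsg.Agent.Lib.Helper16.BG134 Cfsg.Agent.Lib.Helper58.BG12
open scoped commutatorElement

/-- two endomorphisms of a group preserving a normal subgroup with cyclic quotient commute modulo it -/
theorem comm_mem_of_cyclic_quot {A : Type*} [Group A] (N : Subgroup A) [N.Normal]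
    (hc : IsCyclic (A ⧸ N)) (f g : A →* A) (hf : ∀ n ∈ N, f n ∈ N) (hg : ∀ n ∈ N, g n ∈ N) (a : A) :
    (f (g a))⁻¹ * g (f a) ∈ N := by
  have hf' : N ≤ N.comap f := fun n hn => hf n hn
  have hg' : N ≤ N.comap g := fun n hn => hg n hn
  obtain ⟨m, hm⟩ := MonoidHom.map_cyclic (QuotientGroup.map N N f hf')
  obtain ⟨n, hn⟩ := MonoidHom.map_cyclic (QuotientGroup.map N N g hg')
  have h1 : (QuotientGroup.mk (f (g a)) : A ⧸ N) = ((QuotientGroup.mk a : A ⧸ N) ^ n) ^ m := by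
    have := hm (QuotientGroup.mk (g a))
    rw [QuotientGroup.map_mk] at this
    rw [this]
    have h2 := hn (QuotientGroup.mk a)
    rw [QuotientGroup.map_mk] at h2
    rw [h2]
  have h2 : (QuotientGroup.mk (g (f a)) : A ⧸ N) = ((QuotientGroup.mk a : A ⧸ N) ^ m) ^ n := by
    have := hn (QuotientGroup.mk (f a))
    rw [QuotientGroup.map_mk] at this
    rw [this]
    have h2 := hm (QuotientGroup.mk a)
    rw [QuotientGroup.map_mk] at h2
    rw [h2]
  have h3 : (QuotientGroup.mk (f (g a)) : A ⧸ N) = QuotientGroup.mk (g (f a)) := by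
    rw [h1, h2, ← zpow_mul, ← zpow_mul, mul_comm]
  exact QuotientGroup.eq.mp h3

variable {G : Type*} [Group G]

/-- conjugation by a normalizing element as an endomorphism of the subgroup -/
def cHom (A : Subgroup G) (x : G) (hx : x ∈ Subgroup.normalizer (A : Set G)) : A →* A where
  toFun r := ⟨x * r * x⁻¹, (Subgroup.mem_normalizer_iff.mp hx r).mp r.2⟩
  map_one' := by ext; simp
  map_mul' a b := by ext; simp [mul_assoc]

theorem cHom_apply (A : Subgroup G) (x : G) (hx : x ∈ Subgroup.normalizer (A : Set G)) (r : A) :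
    ((cHom A x hx r : A) : G) = x * r * x⁻¹ := rfl

/-- `[x, y]` centralizes `A = E_{p^2}` if `x, y` normalize `A`, centralize `P ≤ A` of order `p`
and `[x, y]` is a `p'`-element. -/
theorem commutator_mem_centralizer [Finite G] {p : ℕ} [Fact p.Prime]
    {A P : Subgroup G} (hAe : IsElementaryAbelian p A) (hAc : Nat.card A = p ^ 2)
    (hPA : P ≤ A) (hP : Nat.card P = p) {x y : G}
    (hxA : x ∈ Subgroup.normalizer (A : Set G)) (hyA : y ∈ Subgroup.normalizer (A : Set G))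
    (hxP : x ∈ Subgroup.centralizer (P : Set G)) (hyP : y ∈ Subgroup.centralizer (P : Set G))
    (hcop : (orderOf (x * y * x⁻¹ * y⁻¹)).Coprime p) :
    x * y * x⁻¹ * y⁻¹ ∈ Subgroup.centralizer (A : Set G) := by
  have hpp : p.Prime := Fact.out
  have hcomm : ∀ a ∈ A, ∀ b ∈ A, a * b = b * a := by
    intro a ha b hb
    have := hAe.1.is_comm.comm ⟨a, ha⟩ ⟨b, hb⟩
    exact congrArg Subtype.val this
  set z := x * y * x⁻¹ * y⁻¹ with hz
  have hzA : z ∈ Subgroup.normalizer (A : Set G) :=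
    Subgroup.mul_mem _ (Subgroup.mul_mem _ (Subgroup.mul_mem _ hxA hyA) (Subgroup.inv_mem _ hxA))
      (Subgroup.inv_mem _ hyA)
  have hzP : z ∈ Subgroup.centralizer (P : Set G) :=
    Subgroup.mul_mem _ (Subgroup.mul_mem _ (Subgroup.mul_mem _ hxP hyP) (Subgroup.inv_mem _ hxP))
      (Subgroup.inv_mem _ hyP)
  -- the quotient `A / P`
  let N : Subgroup A := P.subgroupOf A
  have hNn : N.Normal := by
    constructor
    intro n hn g
    have : g * n * g⁻¹ = n := by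
      apply Subtype.ext
      have := hcomm g g.2 n n.2
      simp only [Subgroup.coe_mul, Subgroup.coe_inv]
      rw [this, mul_assoc, mul_inv_cancel, mul_one]
    rw [this]; exact hn
  have hNcard : Nat.card N = p := by
    rw [← hP]
    exact Nat.card_congr (Subgroup.subgroupOfEquivOfLe hPA).toEquiv
  have hQcard : Nat.card (A ⧸ N) = p := by
    have h1 := Subgroup.card_eq_card_quotient_mul_card_subgroup N
    rw [hAc, hNcard] at h1
    have : p * p = Nat.card (A ⧸ N) * p := by rw [← h1]; ring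
    exact (Nat.eq_of_mul_eq_mul_right hpp.pos this).symm
  have hQc : IsCyclic (A ⧸ N) := isCyclic_of_prime_card hQcard
  have hfN : ∀ w : G, ∀ hw : w ∈ Subgroup.normalizer (A : Set G),
      w ∈ Subgroup.centralizer (P : Set G) → ∀ n ∈ N, cHom A w hw n ∈ N := by
    intro w hw hwP n hn
    rw [Subgroup.mem_subgroupOf] at hn ⊢
    rw [cHom_apply]
    have := hwP (n : G) hn
    rw [← this, mul_assoc, mul_inv_cancel, mul_one]
    exact hn
  -- step 1 : `[a, z] ∈ P`
  have hstep1 : ∀ a ∈ A, (z * a * z⁻¹)⁻¹ * a ∈ P := by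
    intro a ha
    have hyx : y * x ∈ Subgroup.normalizer (A : Set G) := Subgroup.mul_mem _ hyA hxA
    have ha' : (y * x)⁻¹ * a * (y * x) ∈ A := by
      have := (Subgroup.mem_normalizer_iff.mp (Subgroup.inv_mem _ hyx) a).mp ha
      simpa using this
    have := comm_mem_of_cyclic_quot N hQc (cHom A x hxA) (cHom A y hyA) (hfN x hxA hxP)
      (hfN y hyA hyP) ⟨_, ha'⟩
    rw [Subgroup.mem_subgroupOf] at this
    simp only [Subgroup.coe_mul, Subgroup.coe_inv, cHom_apply] at this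
    have e1 : x * (y * ((y * x)⁻¹ * a * (y * x)) * y⁻¹) * x⁻¹ = z * a * z⁻¹ := by
      rw [hz]; group
    have e2 : y * (x * ((y * x)⁻¹ * a * (y * x)) * x⁻¹) * y⁻¹ = a := by group
    rw [e1, e2] at this
    exact this
  -- step 2
  rw [Subgroup.mem_centralizer_iff]
  intro a ha
  have haz : z * a * z⁻¹ ∈ A := (Subgroup.mem_normalizer_iff.mp hzA a).mp ha
  have hu : ⁅a, z⁆ = (z * a * z⁻¹)⁻¹ * a := by
    rw [commutatorElement_def]
    have h3 := hcomm a ha _ (Subgroup.inv_mem _ haz)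
    rw [← h3]; group
  have huP : ⁅a, z⁆ ∈ P := by rw [hu]; exact hstep1 a ha
  have hc1 : Commute ⁅a, z⁆ z := hzP _ huP
  have hord : orderOf ⁅a, z⁆ ∣ p := by
    rw [← hP]; exact Subgroup.orderOf_dvd_natCard _ huP
  have hc2 : Commute a z :=
    Cfsg.Agent.Lib.Helper32.commute_of_commutator a z hc1 (hcop.coprime_dvd_right hord)
  exact hc2

variable [Finite G]

/-- a `q`-subgroup of `L` of index prime to `q` is a Sylow `q`-subgroup of `L` -/
theorem isSylowIn_of_not_dvd_relIndex {q : ℕ} [Fact q.Prime] {L T : Subgroup G} (hTL : T ≤ L)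
    (hT : IsPGroup q T) (h : ¬ q ∣ T.relIndex L) : IsSylowIn q L T := by
  have hq : q.Prime := Fact.out
  refine ⟨hTL, hT, ?_⟩
  intro T' hT'L hT'q hle
  have h1 : T.relIndex T' ∣ T.relIndex L :=
    ⟨_, (Subgroup.relIndex_mul_relIndex T T' L hle hT'L).symm⟩
  have h2 : T.relIndex T' ∣ Nat.card T' := Subgroup.relIndex_dvd_card T T'
  obtain ⟨k, hk⟩ := hT'q.exists_card_eq
  rw [hk] at h2
  obtain ⟨j, -, hj⟩ := (Nat.dvd_prime_pow hq).mp h2
  have hj0 : j = 0 := by
    by_contra hj0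
    apply h
    apply dvd_trans _ h1
    rw [hj]
    exact dvd_pow_self q hj0
  rw [hj0, pow_zero] at hj
  exact le_antisymm (Subgroup.relIndex_eq_one.mp hj) hle

/-- a subgroup of `p`-rank one contains no `E_{p^2}` -/
theorem false_of_elemAb_sq_le {p : ℕ} [Fact p.Prime] {M A : Subgroup G} (hr : PRankLE p 1 ↥M)
    (hAM : A ≤ M) (hAe : IsElementaryAbelian p A) (hAc : Nat.card A = p ^ 2) : False := by
  have hpp : p.Prime := Fact.out
  have hcomm : ∀ a ∈ A, ∀ b ∈ A, a * b = b * a := by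
    intro a ha b hb
    have := hAe.1.is_comm.comm ⟨a, ha⟩ ⟨b, hb⟩
    exact congrArg Subtype.val this
  have := (pRankLE_sub_iff.mp hr) A hAM hcomm hAe.2
  rw [hAc, pow_one] at this
  nlinarith [hpp.two_le]

theorem not_isCyclic_of_elemAb_sq {q : ℕ} [Fact q.Prime] {B : Subgroup G}
    (hBe : IsElementaryAbelian q B) (hBc : Nat.card B = q ^ 2) : ¬ IsCyclic B := by
  intro hc
  have hq : q.Prime := Fact.out
  exact false_of_elemAb_sq_le (pRankLE_one_of_isCyclic (H := ↥B) q hq) le_rfl hBe hBc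

theorem prime_mem_of_dvd_pow {π : Set ℕ} {q k : ℕ} (hq : q.Prime) (hqπ : q ∈ π) :
    ∀ s : ℕ, s.Prime → s ∣ q ^ k → s ∈ π := by
  intro s hs hsd
  rw [(Nat.prime_dvd_prime_iff_eq hs hq).mp (hs.dvd_of_dvd_pow hsd)]
  exact hqπ

/-- case (i) of (D2): `q ∈ σ(L)` -/
theorem case_sigma (hG : IsMinSimpleOddOrder G) {M L : Subgroup G} (hM : IsCoatom M)
    (hL : IsCoatom L) {p q : ℕ} [Fact p.Prime] [Fact q.Prime]
    (hFr : q ∉ beta L → ∀ {Y : Subgroup G}, IsSylowIn q ⁅L, L⁆ Y → ∀ x ∈ L,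
      ∃ b ∈ piCoreOf (beta L) L, ∃ n ∈ L ⊓ Subgroup.normalizer (Y : Set G), x = b * n)
    (hr1 : PRankLE p 1 ↥M) (hpid : ¬ IsIdealPrime p G) (hqL : q ∈ sigma L)
    {Sq : Subgroup G} (hSqM : Sq ≤ M) (hSqL : IsSylowIn q L Sq)
    (hNS : Subgroup.normalizer (Sq : Set G) ≤ M) (hconj : ∀ g : G, L ≠ cj g M)
    {Y : Subgroup G} (hYL : Y ≤ L) (hYc : Nat.card Y = q)
    {A : Subgroup G} (hAL : A ≤ L) (hAe : IsElementaryAbelian p A) (hAc : Nat.card A = p ^ 2) :
    False := by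
  have hpp : p.Prime := Fact.out
  have hqp : q.Prime := Fact.out
  have hHallL := (Cfsg.Agent.S1350.result hG L hL).1
  -- (i.a) `q ∉ β(L)`
  have hqβ : q ∉ beta L := by
    intro hqβ
    have h23 := Cfsg.Agent.S1423.result hG L hL q hqL Y hYL hYc default (Or.inl hqβ)
    obtain ⟨-, huniq, -⟩ := h23
    set T := ((default : Sylow q ↥(sigmaCore L)) : Subgroup ↥(sigmaCore L)).map
      (sigmaCore L).subtype with hT
    have hTL : T ≤ L := (Subgroup.map_subtype_le _).trans (sigmaCore_le L)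
    have hTq : IsPGroup q T := (default : Sylow q ↥(sigmaCore L)).isPGroup'.map _
    obtain ⟨l, hl, hlT⟩ := hSqL.exists_conj_le hTL hTq
    have h1 : T ≤ cj l⁻¹ M := by
      rw [le_cj_iff, inv_inv]; exact hlT.trans hSqM
    obtain ⟨M0, -, hM0⟩ := huniq
    have e1 := hM0 (cj l⁻¹ M) ⟨isCoatom_cj l⁻¹ hM, h1⟩
    have e2 := hM0 L ⟨hL, hTL⟩
    exact hconj l⁻¹ (e2.trans e1.symm)
  -- (i.b) `Sq` is a Sylow subgroup of `L'`
  obtain ⟨EL, hEL, -⟩ := exists_complIn_ge hG hL hHallL (K := ⊥) bot_le (by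
    intro s hs hsd
    rw [Subgroup.card_bot] at hsd
    exact absurd (Nat.dvd_one.mp hsd) hs.one_lt.ne')
  have h26 := (Cfsg.Agent.S1426.result hG L hL EL hEL).2.1
  have hσL' : sigmaCore L ≤ ⁅L, L⁆ := by
    rw [← h26]; exact Subgroup.commutator_mono (sigmaCore_le L) hEL.1
  have hSqσ : Sq ≤ sigmaCore L := by
    obtain ⟨k, hk⟩ := hSqL.2.1.exists_card_eq
    refine le_of_isPiHallOf_normal hHallL (le_normalizer_sigmaCore L) hSqL.1 ?_
    rw [hk]
    exact prime_mem_of_dvd_pow hqp hqL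
  have hSq' : IsSylowIn q ⁅L, L⁆ Sq :=
    ⟨hSqσ.trans hσL', hSqL.2.1, fun T' hT' hT'q hle =>
      hSqL.2.2 T' (hT'.trans (commutator_self_le L)) hT'q hle⟩
  -- (i.c) Frattini
  have hfac := hFr hqβ hSq'
  have hpβ : p ∉ beta L := fun h => hpid h.2
  have h14 := (Cfsg.Agent.S1414.result hG L hL).1
  set B := piCoreOf (beta L) L with hB
  have hpB : ¬ p ∣ Nat.card B := fun h => hpβ (h14.2.1 p hpp h)
  have hBn : L ≤ Subgroup.normalizer (B : Set G) := le_normalizer_piCoreOf (beta L) L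
  set N := M ⊓ L with hN
  have hNL : N ≤ L := inf_le_right
  have hLsup : L ≤ B ⊔ N := by
    intro x hx
    obtain ⟨b, hb, n, hn, rfl⟩ := hfac x hx
    exact Subgroup.mul_mem _ (Subgroup.mem_sup_left hb)
      (Subgroup.mem_sup_right ⟨hNS hn.2, hn.1⟩)
  have hcard : Nat.card L ∣ Nat.card B * Nat.card N := by
    have h1 := Cfsg.Agent.Lib.Helper29.card_sup_dvd_of_le_normalizer B N (hNL.trans hBn)
    have h2 : Nat.card L ∣ Nat.card ↥(B ⊔ N) := Subgroup.card_dvd_of_le hLsup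
    exact h2.trans h1
  have hidx : ¬ p ∣ N.relIndex L := by
    intro h
    have h1 : Nat.card N * N.relIndex L = Nat.card L := by
      have := Subgroup.relIndex_mul_relIndex ⊥ N L bot_le hNL
      rwa [Subgroup.relIndex_bot_left, Subgroup.relIndex_bot_left] at this
    have h2 : N.relIndex L ∣ Nat.card B := by
      have : Nat.card N * N.relIndex L ∣ Nat.card N * Nat.card B := by
        rw [h1, mul_comm]; exact hcard
      exact Nat.dvd_of_mul_dvd_mul_left Nat.card_pos this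
    exact hpB (h.trans h2)
  obtain ⟨Tp, hTp, -⟩ := exists_isSylowIn_ge (p := p) (K := N) (Z := ⊥) bot_le IsPGroup.of_bot
  have hTpL : IsSylowIn p L Tp := by
    apply isSylowIn_of_not_dvd_relIndex (hTp.1.trans hNL) hTp.2.1
    rw [← Subgroup.relIndex_mul_relIndex Tp N L hTp.1 hNL]
    intro h
    rcases (Nat.Prime.dvd_mul hpp).mp h with h | h
    · exact sylow_not_dvd_relIndex hTp h
    · exact hidx h
  have hAp : IsPGroup p A := isPGroup_of_pow_eq_one hAe.2
  obtain ⟨l, hl, hlA⟩ := hTpL.exists_conj_le hAL hAp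
  have hAM : cj l A ≤ M := (hlA.trans hTp.1).trans inf_le_left
  exact false_of_elemAb_sq_le hr1 hAM (Cfsg.Agent.Lib.Helper83.BG11.isElementaryAbelian_cj hAe l) (by rw [card_cj, hAc])

/-- case (ii) of (D2): `q ∈ τ₂(L)` -/
theorem case_tau2 (hG : IsMinSimpleOddOrder G) {M L E : Subgroup G} (hM : IsCoatom M)
    (hL : IsCoatom L) (hE : IsComplIn E (sigmaCore M) M) (hLM : L ≠ M) {p q : ℕ}
    [Fact p.Prime] [Fact q.Prime]
    (hr1 : PRankLE p 1 ↥M) (hqM : q ∈ sigma M) (hqτ : q ∈ tau2 L)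
    {Sq : Subgroup G} (hSqM : Sq ≤ M) (hSqL : IsSylowIn q L Sq)
    {P A : Subgroup G} (hPM : P ≤ M) (hPA : P ≤ A) (hP : Nat.card P = p) (hAL : A ≤ L)
    (hAe : IsElementaryAbelian p A) (hAc : Nat.card A = p ^ 2) : False := by
  have hpp : p.Prime := Fact.out
  have hqp : q.Prime := Fact.out
  have hHallL := (Cfsg.Agent.S1350.result hG L hL).1
  obtain ⟨B0, hB0L, hB0e, hB0c⟩ := exists_elemAb_sq_of_tau2 hqτ
  have hB0q : IsPGroup q B0 := isPGroup_of_pow_eq_one hB0e.2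
  obtain ⟨l, hl, hlB⟩ := hSqL.exists_conj_le hB0L hB0q
  set B := cj l B0 with hB
  have hBe : IsElementaryAbelian q B := Cfsg.Agent.Lib.Helper83.BG11.isElementaryAbelian_cj hB0e l
  have hBc : Nat.card B = q ^ 2 := by rw [hB, card_cj, hB0c]
  have hBM : B ≤ M := hlB.trans hSqM
  have hBL : B ≤ L := hlB.trans hSqL.1
  have hBq : IsPGroup q B := isPGroup_of_pow_eq_one hBe.2
  have hBnc : ¬ IsCyclic B := not_isCyclic_of_elemAb_sq hBe hBc
  have hNB : Subgroup.normalizer (B : Set G) ≤ M :=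
    (Cfsg.Agent.S1420.result hG M hM E hE).2.2.1 q B hqM hBq hBM hBnc
  obtain ⟨EL, hEL, hBEL⟩ := exists_complIn_ge hG hL hHallL hBL (by
    rw [hBc]
    exact prime_mem_of_dvd_pow (π := (sigma L)ᶜ) hqp hqτ.2.1)
  have h18 := Cfsg.Agent.S1418.result hG L hL EL hEL q hqτ B ⟨hBEL, hBe, hBc⟩
  have hELM : EL ≤ M := h18.1.1.trans hNB
  have h17 := Cfsg.Agent.S1417.result hG L hL q hqτ B ⟨hBL, hBe, hBc⟩
  have hσLM : sigmaCore L ⊓ M = ⊥ := h17.2.2.2.2.1 M hM hLM.symm hBM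
  by_cases hpL : p ∈ sigma L
  · -- `P ≤ L_σ ∩ M = 1`
    have hPσ : P ≤ sigmaCore L := by
      refine le_of_isPiHallOf_normal hHallL (le_normalizer_sigmaCore L) (hPA.trans hAL) ?_
      rw [hP, ← pow_one p]
      exact prime_mem_of_dvd_pow hpp hpL
    have hPbot : P = ⊥ := le_bot_iff.mp (hσLM ▸ le_inf hPσ hPM)
    rw [hPbot, Subgroup.card_bot] at hP
    exact hpp.one_lt.ne hP
  · -- `A` is conjugate into `E_L ≤ M`
    obtain ⟨E', hE', hAE'⟩ := exists_complIn_ge hG hL hHallL hAL (by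
      rw [hAc]
      exact prime_mem_of_dvd_pow (π := (sigma L)ᶜ) hpp hpL)
    obtain ⟨s, hs, hsE⟩ := complIn_conj hG hL hHallL hEL hE'
    have hsA : cj s A ≤ EL := by
      rw [← hsE]
      exact cj_mono hAE'
    exact false_of_elemAb_sq_le hr1 (hsA.trans hELM) (Cfsg.Agent.Lib.Helper83.BG11.isElementaryAbelian_cj hAe s)
      (by rw [card_cj, hAc])

/-- (D2) relative to the Frattini statement (Fr). -/
theorem p_not_mem_tau2_of_fr
    (hFr : ∀ {L : Subgroup G}, IsCoatom L → ∀ {q : ℕ} [Fact q.Prime], q ∉ beta L →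
      ∀ {Y : Subgroup G}, IsSylowIn q ⁅L, L⁆ Y → ∀ x ∈ L,
        ∃ b ∈ piCoreOf (beta L) L, ∃ n ∈ L ⊓ Subgroup.normalizer (Y : Set G), x = b * n)
    {M E P R H : Subgroup G} {p : ℕ} (c : Ctx M E P R H p) (hnc : ∀ g : G, cj g M ≠ H)
    (hrσ : Nat.card R ∉ sigma H) : p ∉ tau2 H := by
  intro hp2
  obtain ⟨hG, hM, hE, hp1, hPE, hP, hRE, hR, hne, hH, hNP⟩ := c
  obtain ⟨hpp, hpσM, hpdM, hpM', hr1⟩ := hp1
  haveI : Fact p.Prime := ⟨hpp⟩
  have hHallM := (Cfsg.Agent.S1350.result hG M hM).1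
  have hHallH := (Cfsg.Agent.S1350.result hG H hH).1
  have hEM : E ≤ M := hE.1
  have hPM : P ≤ M := hPE.trans hEM
  have hRM : R ≤ M := (hRE.trans inf_le_left).trans hEM
  have hRcP : R ≤ Subgroup.centralizer (P : Set G) := hRE.trans inf_le_right
  have hcn : Subgroup.centralizer (P : Set G) ≤ Subgroup.normalizer (P : Set G) :=
    Subgroup.centralizer_le_normalizer _
  set C := sigmaCore M ⊓ Subgroup.centralizer (P : Set G) with hC
  have hCH : C ≤ H := (inf_le_right.trans hcn).trans hNP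
  have hPH : P ≤ H := Subgroup.le_normalizer.trans hNP
  have hRH : R ≤ H := (hRcP.trans hcn).trans hNP
  have hRC : R ≤ Subgroup.normalizer (C : Set G) := by
    intro ρ hρ
    have h1 := Subgroup.mem_normalizer_iff.mp (le_normalizer_sigmaCore M (hRM hρ))
    have h2 := Subgroup.mem_normalizer_iff.mp
      (Subgroup.le_normalizer (H := Subgroup.centralizer (P : Set G)) (hRcP hρ))
    rw [Subgroup.mem_normalizer_iff]
    intro h
    rw [hC]
    show h ∈ sigmaCore M ⊓ Subgroup.centralizer (P : Set G) ↔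
      ρ * h * ρ⁻¹ ∈ sigmaCore M ⊓ Subgroup.centralizer (P : Set G)
    rw [Subgroup.mem_inf, Subgroup.mem_inf, h1 h, h2 h]
  -- the nontrivial commutator
  obtain ⟨c0, hc0C, hc0⟩ := SetLike.not_le_iff_exists.mp hne
  rw [Subgroup.mem_centralizer_iff] at hc0
  push Not at hc0
  obtain ⟨ρ, hρR, hρc⟩ := hc0
  set z := ρ * c0 * ρ⁻¹ * c0⁻¹ with hz
  have hz1 : z ≠ 1 := by
    intro h
    apply hρc
    have : ρ * c0 = z * c0 * ρ := by rw [hz]; group
    rw [this, h, one_mul]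
  have hzC : z ∈ C := by
    have h1 : ρ * c0 * ρ⁻¹ ∈ C := (Subgroup.mem_normalizer_iff.mp (hRC hρR) c0).mp hc0C
    exact Subgroup.mul_mem _ h1 (Subgroup.inv_mem _ hc0C)
  -- `H_σ` is nilpotent, so `σ(M) ∩ σ(H) = ∅`
  obtain ⟨A0, hA0H, hA0e, hA0c⟩ := exists_elemAb_sq_of_tau2 hp2
  have hnilH : Group.IsNilpotent (sigmaCore H) :=
    (Cfsg.Agent.S1417.result hG H hH p hp2 A0 ⟨hA0H, hA0e, hA0c⟩).1
  have hncHM : ∀ g : G, cj g H ≠ M := by
    intro g h
    apply hnc g⁻¹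
    rw [← h, cj_inv_cj]
  have hdisj : ∀ s : ℕ, s ∈ sigma M → s ∉ sigma H := fun s hsM hsH =>
    sigma_sigma_disjoint hG hH hM hncHM hnilH hsH hsM
  -- `K = C R P` is a `σ(H)'`-subgroup of `H`
  have hPcC : P ≤ Subgroup.centralizer ((C ⊔ R : Subgroup G) : Set G) := by
    rw [Subgroup.le_centralizer_iff]
    exact sup_le inf_le_right hRcP
  set K := (C ⊔ R) ⊔ P with hK
  have hKH : K ≤ H := sup_le (sup_le hCH hRH) hPH
  have hKcard : Nat.card K ∣ Nat.card C * Nat.card R * Nat.card P := by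
    have h1 := Cfsg.Agent.Lib.Helper29.card_sup_dvd_of_le_normalizer C R hRC
    have h2 := Cfsg.Agent.Lib.Helper29.card_sup_dvd_of_le_normalizer (C ⊔ R) P
      (hPcC.trans (Subgroup.centralizer_le_normalizer _))
    exact h2.trans (Nat.mul_dvd_mul_right h1 _)
  have hKσ : ∀ s : ℕ, s.Prime → s ∣ Nat.card K → s ∉ sigma H := by
    intro s hs hsd
    rcases (Nat.Prime.dvd_mul hs).mp (hsd.trans hKcard) with h | h
    · rcases (Nat.Prime.dvd_mul hs).mp h with h | h
      · exact hdisj s (sigmaCore_pi hG hM hs (h.trans (Subgroup.card_dvd_of_le inf_le_left)))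
      · rw [(Nat.prime_dvd_prime_iff_eq hs hR).mp h]; exact hrσ
    · rw [hP] at h
      rw [(Nat.prime_dvd_prime_iff_eq hs hpp).mp h]; exact hp2.2.1
  obtain ⟨EH, hEH, hKEH⟩ := exists_complIn_ge hG hH hHallH hKH hKσ
  obtain ⟨A, hAEH, hAe, hAc⟩ := exists_elemAb_sq_le_compl hG hH hHallH hp2 hEH
  have h18 := Cfsg.Agent.S1418.result hG H hH EH hEH p hp2 A ⟨hAEH, hAe, hAc⟩
  have hEHA : EH ≤ Subgroup.normalizer (A : Set G) := h18.1.1
  have hPA : P ≤ A := h18.1.2 P (le_sup_right.trans hKEH) hP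
  have hρK : ρ ∈ K := (le_sup_left : C ⊔ R ≤ K) ((le_sup_right : R ≤ C ⊔ R) hρR)
  have hc0K : c0 ∈ K := (le_sup_left : C ⊔ R ≤ K) ((le_sup_left : C ≤ C ⊔ R) hc0C)
  have hzord : (orderOf z).Coprime p := by
    have h1 : orderOf z ∣ Nat.card (sigmaCore M) :=
      Subgroup.orderOf_dvd_natCard _ (Subgroup.mem_inf.mp hzC).1
    have h2 : ¬ p ∣ Nat.card (sigmaCore M) := fun h => hpσM (sigmaCore_pi hG hM hpp h)
    exact ((Nat.Prime.coprime_iff_not_dvd hpp).mpr (fun h => h2 (h.trans h1))).symm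
  have hzA : z ∈ Subgroup.centralizer (A : Set G) :=
    commutator_mem_centralizer hAe hAc hPA hP (hEHA (hKEH hρK)) (hEHA (hKEH hc0K))
      (hRcP hρR) (Subgroup.mem_inf.mp hc0C).2 hzord
  -- a subgroup `Y` of prime order `q` of `⟨z⟩`
  have hord1 : orderOf z ≠ 1 := fun h => hz1 (orderOf_eq_one_iff.mp h)
  set q := (orderOf z).minFac with hq
  have hqp : q.Prime := Nat.minFac_prime hord1
  haveI : Fact q.Prime := ⟨hqp⟩
  have hqd : q ∣ orderOf z := Nat.minFac_dvd _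
  set y0 := z ^ (orderOf z / q) with hy0
  have hy0ord : orderOf y0 = q := orderOf_pow_orderOf_div (orderOf_pos z).ne' hqd
  set Y := Subgroup.zpowers y0 with hY
  have hYcard : Nat.card Y = q := by rw [Nat.card_zpowers, hy0ord]
  have hYC : Y ≤ C := by
    rw [hY, Subgroup.zpowers_le]; exact Subgroup.pow_mem _ hzC _
  have hYM : Y ≤ M := (hYC.trans inf_le_left).trans (sigmaCore_le M)
  have hYq : IsPGroup q Y := IsPGroup.of_card (n := 1) (by rw [hYcard, pow_one])
  have hY1 : Y ≠ ⊥ := by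
    intro h
    rw [h, Subgroup.card_bot] at hYcard
    exact hqp.one_lt.ne hYcard
  have hqσM : q ∈ sigma M := sigmaCore_pi hG hM hqp (by
    rw [← hYcard]; exact Subgroup.card_dvd_of_le (hYC.trans inf_le_left))
  have hAY : A ≤ Subgroup.centralizer (Y : Set G) := by
    rw [Subgroup.le_centralizer_iff, hY, Subgroup.zpowers_le]
    exact Subgroup.pow_mem _ hzA _
  -- a maximal subgroup `L` over `N_G(Y)`
  have hYtop : Y ≠ ⊤ := fun h => hM.1 (top_le_iff.mp (h ▸ hYM))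
  obtain ⟨L, hL, hNYL⟩ :=
    Cfsg.Agent.Lib.Helper12.CNMaxSub.exists_coatom_normalizer_le hG hY1 hYtop
  have hAL : A ≤ L := (hAY.trans (Subgroup.centralizer_le_normalizer _)).trans hNYL
  have hYL : Y ≤ L := Subgroup.le_normalizer.trans hNYL
  have hLM : L ≠ M := by
    intro h
    exact false_of_elemAb_sq_le hr1 (h ▸ hAL) hAe hAc
  obtain ⟨Sq, hSq, hYSq⟩ := exists_isSylowIn_ge (p := q) (K := M ⊓ L) (le_inf hYM hYL) hYq
  have h24 := Cfsg.Agent.S1424.result hG M hM q hqσM Y hYq hY1 hYM L hL hLM hNYL hSq.toSylow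
    (by rw [hSq.map_toSylow]; exact hYSq)
  rw [hSq.map_toSylow] at h24
  obtain ⟨h24a, h24b, h24c⟩ := h24
  have hSqM : Sq ≤ M := hSq.1.trans inf_le_left
  have hSqL : IsSylowIn q L Sq :=
    isSylowIn_of_not_dvd_relIndex (hSq.1.trans inf_le_right) hSq.2.1 h24c
  by_cases hqL : q ∈ sigma L
  · have hpid : ¬ IsIdealPrime p G :=
      (Cfsg.Agent.S1408.result hG H hH p hp2.2.1 hp2.2.2.1 hp2.2.2.2).1
    exact case_sigma hG hM hL (fun hqβ _ hY' => hFr hL hqβ hY') hr1 hpid hqL hSqM hSqL h24b h24a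
      hYL hYcard hAL hAe hAc
  · have h09 := Cfsg.Agent.S1409.result hG L hL q hqL Y hYcard hNYL
    have hqτ : q ∈ tau2 L := ⟨hqp, hqL, h09.1.1, h09.1.2⟩
    exact case_tau2 hG hM hL hE hLM hr1 hqσM hqτ hSqM hSqL hPM hPA hP hAL hAe hAc

end Cfsg.Agent.Lib.Helper32.BG134
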