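import Mathlib
import Cfsg.Agent.Lib.Helper89.OrderPCube

/-!
# K-1383 pack (S1383), leaf E2 (138305, helper32, parallel hand): a cyclic odd `p'`-group `K` acting on a
nonabelian group `P` of order `p ^ 3` with `C_P(k) = C_P(K)` of order `p` for all `k ≠ 1`, and with an
invariant line for some `a ≠ 1`, has order dividing `p - 1`.
-/

set_option autoImplicit false
set_option linter.unusedSectionVars false
set_option linter.unusedVariables false
set_option linter.style.haveILetI false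
set_option linter.unusedSimpArgs false
set_option linter.unnecessarySimpa false

namespace Cfsg.Agent.Lib.Helper32.BG1383

open Cfsg
open scoped commutatorElement

variable {G : Type*} [Group G]

/-- products in the join of two elementwise commuting subgroups -/
theorem e2_exists_mul_of_mem_sup {H L : Subgroup G} (hc : ∀ h ∈ H, ∀ l ∈ L, h * l = l * h) {x : G}
    (hx : x ∈ H ⊔ L) : ∃ h ∈ H, ∃ l ∈ L, x = h * l := by
  have hle : H ⊔ L ≤
      { carrier := {x | ∃ h ∈ H, ∃ k ∈ L, x = h * k}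
        one_mem' := ⟨1, H.one_mem, 1, L.one_mem, by simp⟩
        mul_mem' := by
          rintro _ _ ⟨h, hh, k, hk, rfl⟩ ⟨h', hh', k', hk', rfl⟩
          refine ⟨h * h', H.mul_mem hh hh', k * k', L.mul_mem hk hk', ?_⟩
          have := hc h' hh' k hk
          calc h * k * (h' * k') = h * (k * h') * k' := by group
            _ = h * (h' * k) * k' := by rw [this]
            _ = h * h' * (k * k') := by group
        inv_mem' := by
          rintro _ ⟨h, hh, k, hk, rfl⟩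
          refine ⟨h⁻¹, H.inv_mem hh, k⁻¹, L.inv_mem hk, ?_⟩
          have := hc h⁻¹ (H.inv_mem hh) k⁻¹ (L.inv_mem hk)
          rw [mul_inv_rev, this] : Subgroup G } := by
    refine sup_le (fun h hh => ⟨h, hh, 1, L.one_mem, by simp⟩) (fun k hk => ⟨1, H.one_mem, k, hk, by simp⟩)
  exact hle hx

/-- the data of the leaf, in elementwise form -/
structure E2Data (p : ℕ) (P K Z : Subgroup G) : Prop where
  ZP : Z ≤ P
  central : ∀ z ∈ Z, ∀ w ∈ P, z * w = w * z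
  comm : ∀ w₁ ∈ P, ∀ w₂ ∈ P, w₁ * w₂ * w₁⁻¹ * w₂⁻¹ ∈ Z
  ppow : ∀ w ∈ P, w ^ p ∈ Z
  zpow : ∀ z ∈ Z, z ^ p = 1
  fixK : ∀ z ∈ Z, ∀ k ∈ K, k * z * k⁻¹ = z
  normK : ∀ k ∈ K, ∀ w ∈ P, k * w * k⁻¹ ∈ P
  cop : ∀ k ∈ K, (orderOf k).Coprime p
  fix : ∀ k ∈ K, k ≠ 1 → ∀ w ∈ P, k * w * k⁻¹ = w → w ∈ Z

variable {p : ℕ} {P K Z : Subgroup G}

/-- `g ^ i` conjugates `u` to `u * z ^ i` if `g` conjugates `u` to `u * z` and centralizes `z` -/
theorem e2_conj_pow_mul {g u z : G} (hz : g * z * g⁻¹ = z) (h : g * u * g⁻¹ = u * z) (i : ℕ) :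
    g ^ i * u * (g ^ i)⁻¹ = u * z ^ i := by
  induction i with
  | zero => simp
  | succ i ih =>
    have hzi : g * z ^ i * g⁻¹ = z ^ i := by
      have : g * z ^ i * g⁻¹ = (g * z * g⁻¹) ^ i := by rw [conj_pow]
      rw [this, hz]
    calc g ^ (i + 1) * u * (g ^ (i + 1))⁻¹ = g * (g ^ i * u * (g ^ i)⁻¹) * g⁻¹ := by
          rw [pow_succ']; group
      _ = g * (u * z ^ i) * g⁻¹ := by rw [ih]
      _ = (g * u * g⁻¹) * (g * z ^ i * g⁻¹) := by group
      _ = u * z * z ^ i := by rw [h, hzi]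
      _ = u * z ^ (i + 1) := by rw [pow_succ', mul_assoc]

/-- an element of `K` which fixes `u` modulo `Z` fixes `u` -/
theorem e2_fix_of_fix_mod (D : E2Data p P K Z) [hp : Fact p.Prime] {g u z : G} (hg : g ∈ K) (hu : u ∈ P)
    (hz : z ∈ Z) (h : g * u * g⁻¹ = u * z) : g * u * g⁻¹ = u := by
  have h1 := e2_conj_pow_mul (D.fixK z hz g hg) h (orderOf g)
  rw [pow_orderOf_eq_one] at h1
  have h2 : z ^ orderOf g = 1 := by
    have : u = u * z ^ orderOf g := by simpa using h1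
    exact (mul_eq_left.mp this.symm)
  have h3 : z ^ p = 1 := D.zpow z hz
  have h4 : orderOf z ∣ orderOf g := orderOf_dvd_of_pow_eq_one h2
  have h5 : orderOf z ∣ p := orderOf_dvd_of_pow_eq_one h3
  have h6 : orderOf z = 1 := Nat.eq_one_of_dvd_coprimes (D.cop g hg) h4 h5
  have h7 : z = 1 := orderOf_eq_one_iff.mp h6
  rw [h, h7, mul_one]

/-- an element `g ≠ 1` of `K` fixing `u ∈ P` modulo `Z` forces `u ∈ Z` -/
theorem e2_mem_Z_of_fix_mod (D : E2Data p P K Z) [hp : Fact p.Prime] {g u z : G} (hg : g ∈ K) (hg1 : g ≠ 1)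
    (hu : u ∈ P) (hz : z ∈ Z) (h : g * u * g⁻¹ = u * z) : u ∈ Z :=
  D.fix g hg hg1 u hu (e2_fix_of_fix_mod D hg hu hz h)

/-- powers of `u ∈ P` only depend on the exponent modulo `p`, up to `Z` -/
theorem e2_pow_modEq (D : E2Data p P K Z) {u : G} (hu : u ∈ P) {n m : ℕ} (h : n ≡ m [MOD p]) :
    ∃ z ∈ Z, u ^ n = u ^ m * z := by
  have h' : (n : ℤ) ≡ (m : ℤ) [ZMOD (p : ℤ)] := Int.natCast_modEq_iff.mpr h
  obtain ⟨t, ht⟩ := (Int.modEq_iff_dvd.mp h'.symm)
  refine ⟨(u ^ p) ^ t, Z.zpow_mem (D.ppow u hu) t, ?_⟩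
  have h1 : (n : ℤ) = m + p * t := by linarith
  have h2 : u ^ (n : ℤ) = u ^ (m : ℤ) * (u ^ (p : ℤ)) ^ t := by
    rw [h1, zpow_add, zpow_mul]
  simpa [zpow_natCast] using h2

/-- `g ^ i` conjugates `u` to `u ^ (j ^ i)` modulo `Z` if `g` conjugates `u` to `u ^ j` modulo `Z` -/
theorem e2_conj_pow_pow (D : E2Data p P K Z) {g u z : G} (hg : g ∈ K) (hu : u ∈ P) (hz : z ∈ Z) {j : ℕ}
    (h : g * u * g⁻¹ = u ^ j * z) (i : ℕ) :
    ∃ z' ∈ Z, g ^ i * u * (g ^ i)⁻¹ = u ^ (j ^ i) * z' := by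
  induction i with
  | zero => exact ⟨1, Z.one_mem, by simp⟩
  | succ i ih =>
    obtain ⟨z', hz', h'⟩ := ih
    refine ⟨z ^ (j ^ i) * z', Z.mul_mem (Z.pow_mem hz _) hz', ?_⟩
    have hcz : Commute (u ^ j) z := by
      have := D.central z hz (u ^ j) (P.pow_mem hu j)
      exact this.symm
    calc g ^ (i + 1) * u * (g ^ (i + 1))⁻¹ = g * (g ^ i * u * (g ^ i)⁻¹) * g⁻¹ := by
          rw [pow_succ']; group
      _ = g * (u ^ (j ^ i) * z') * g⁻¹ := by rw [h']
      _ = (g * u * g⁻¹) ^ (j ^ i) * (g * z' * g⁻¹) := by rw [conj_pow]; group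
      _ = (u ^ j * z) ^ (j ^ i) * z' := by rw [h, D.fixK z' hz' g hg]
      _ = (u ^ j) ^ (j ^ i) * z ^ (j ^ i) * z' := by rw [hcz.mul_pow]
      _ = u ^ (j ^ (i + 1)) * (z ^ (j ^ i) * z') := by rw [← pow_mul, ← pow_succ', mul_assoc]

/-- class two: `v ^ m` conjugates `w ^ n` to `t ^ (m * n) * w ^ n` where `t = [v, w]` is central -/
theorem e2_comm_pow {v w t : G} (ht : v * w * v⁻¹ = t * w) (hv : Commute v t) (hw : Commute w t) (m n : ℕ) :
    v ^ m * w ^ n * (v ^ m)⁻¹ = t ^ (m * n) * w ^ n := by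
  have h1 : ∀ m : ℕ, v ^ m * w * (v ^ m)⁻¹ = t ^ m * w := by
    intro m
    induction m with
    | zero => simp
    | succ m ih =>
      calc v ^ (m + 1) * w * (v ^ (m + 1))⁻¹ = v * (v ^ m * w * (v ^ m)⁻¹) * v⁻¹ := by
            rw [pow_succ']; group
        _ = v * (t ^ m * w) * v⁻¹ := by rw [ih]
        _ = (v * t ^ m * v⁻¹) * (v * w * v⁻¹) := by group
        _ = t ^ m * (t * w) := by
            rw [ht]
            have : v * t ^ m * v⁻¹ = t ^ m := by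
              have hc : Commute v (t ^ m) := hv.pow_right m
              rw [hc.eq, mul_inv_cancel_right]
            rw [this]
        _ = t ^ (m + 1) * w := by rw [← mul_assoc, ← pow_succ]
  have h2 : v ^ m * w ^ n * (v ^ m)⁻¹ = (v ^ m * w * (v ^ m)⁻¹) ^ n := by rw [conj_pow]
  rw [h2, h1 m]
  have hc : Commute (t ^ m) w := (hw.pow_right m).symm
  rw [hc.mul_pow, ← pow_mul]

/-- the centralizer in `P` of a non-central element `v` is `⟨v⟩ Z` -/
theorem e2_mem_sup_of_commute [Finite G] [hp : Fact p.Prime] (D : E2Data p P K Z)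
    (hP : Nat.card P = p ^ 3) (hZ : Nat.card Z = p)
    (hcen : ∀ u ∈ P, (∀ w ∈ P, u * w = w * u) → u ∈ Z)
    {v w : G} (hv : v ∈ P) (hvZ : v ∉ Z) (hw : w ∈ P) (hvw : v * w = w * v) :
    w ∈ Subgroup.zpowers v ⊔ Z := by
  have hpp : p.Prime := hp.out
  have hvc : v ∈ Subgroup.centralizer ({v} : Set G) := by
    rw [Subgroup.mem_centralizer_iff]
    intro x hx
    rw [Set.mem_singleton_iff.1 hx]
  have hL₀C : Subgroup.zpowers v ⊔ Z ≤ P ⊓ Subgroup.centralizer ({v} : Set G) := by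
    refine sup_le (le_inf (Subgroup.zpowers_le.2 hv) (Subgroup.zpowers_le.2 hvc)) (le_inf D.ZP ?_)
    intro z hz
    rw [Subgroup.mem_centralizer_iff]
    intro x hx
    rw [Set.mem_singleton_iff.1 hx]
    exact (D.central z hz v hv).symm
  have hCP : P ⊓ Subgroup.centralizer ({v} : Set G) ≤ P := inf_le_left
  have hCne : P ⊓ Subgroup.centralizer ({v} : Set G) ≠ P := by
    intro h
    apply hvZ
    apply hcen v hv
    intro w hw
    have hwC : w ∈ P ⊓ Subgroup.centralizer ({v} : Set G) := by rw [h]; exact hw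
    exact (Subgroup.mem_centralizer_iff.1 hwC.2) v rfl
  have h1 : Nat.card ↥(P ⊓ Subgroup.centralizer ({v} : Set G)) ∣ p ^ 3 := by
    rw [← hP]; exact Subgroup.card_dvd_of_le hCP
  obtain ⟨i, hi3, hi⟩ := (Nat.dvd_prime_pow hpp).1 h1
  have hi2 : i ≤ 2 := by
    by_contra hh
    have hi3' : i = 3 := by omega
    apply hCne
    exact Subgroup.eq_of_le_of_card_ge hCP (by rw [hP, hi, hi3'])
  have h2 : Nat.card ↥(Subgroup.zpowers v ⊔ Z) ∣ Nat.card ↥(P ⊓ Subgroup.centralizer ({v} : Set G)) :=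
    Subgroup.card_dvd_of_le hL₀C
  rw [hi] at h2
  obtain ⟨i', hi'i, hi'⟩ := (Nat.dvd_prime_pow hpp).1 h2
  have hZL : Z ≤ Subgroup.zpowers v ⊔ Z := le_sup_right
  have hZne : Z ≠ Subgroup.zpowers v ⊔ Z := by
    intro h
    apply hvZ
    rw [h]
    exact Subgroup.mem_sup_left (Subgroup.mem_zpowers v)
  have h3 : p ∣ Nat.card ↥(Subgroup.zpowers v ⊔ Z) := by
    rw [← hZ]; exact Subgroup.card_dvd_of_le hZL
  have hi'2 : 2 ≤ i' := by
    by_contra hh
    have h01 : i' = 0 ∨ i' = 1 := by omega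
    rcases h01 with h0 | h1'
    · rw [hi', h0, pow_zero] at h3
      exact hpp.one_lt.ne' (Nat.dvd_one.1 h3)
    · apply hZne
      exact Subgroup.eq_of_le_of_card_ge hZL (by rw [hZ, hi', h1', pow_one])
  have hLC : Subgroup.zpowers v ⊔ Z = P ⊓ Subgroup.centralizer ({v} : Set G) :=
    Subgroup.eq_of_le_of_card_ge hL₀C (by
      rw [hi, hi']; exact Nat.pow_le_pow_right hpp.pos (by omega))
  rw [hLC]
  refine Subgroup.mem_inf.2 ⟨hw, ?_⟩
  rw [Subgroup.mem_centralizer_iff]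
  intro x hx
  rw [Set.mem_singleton_iff.1 hx]
  exact hvw

/-- the line `⟨v⟩ Z` is `K`-invariant -/
theorem e2_line_invariant [Finite G] [hp : Fact p.Prime] (D : E2Data p P K Z)
    (hP : Nat.card P = p ^ 3) (hZ : Nat.card Z = p)
    (hcen : ∀ u ∈ P, (∀ w ∈ P, u * w = w * u) → u ∈ Z)
    (hKcomm : ∀ x ∈ K, ∀ y ∈ K, x * y = y * x) (hodd : ∀ k ∈ K, Odd (orderOf k))
    {a v z₀ : G} {j : ℕ} (haK : a ∈ K) (ha1 : a ≠ 1) (hvP : v ∈ P) (hvZ : v ∉ Z) (hz₀ : z₀ ∈ Z)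
    (hav : a * v * a⁻¹ = v ^ j * z₀) {k : G} (hk : k ∈ K) :
    k * v * k⁻¹ ∈ Subgroup.zpowers v ⊔ Z := by
  have hpp : p.Prime := hp.out
  have hwP : k * v * k⁻¹ ∈ P := D.normK k hk v hvP
  have haw : a * (k * v * k⁻¹) * a⁻¹ = (k * v * k⁻¹) ^ j * z₀ := by
    have hak : a * k = k * a := hKcomm a haK k hk
    calc a * (k * v * k⁻¹) * a⁻¹ = a * k * v * (a * k)⁻¹ := by group
      _ = k * (a * v * a⁻¹) * k⁻¹ := by rw [hak]; group
      _ = k * (v ^ j * z₀) * k⁻¹ := by rw [hav]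
      _ = (k * v * k⁻¹) ^ j * (k * z₀ * k⁻¹) := by rw [conj_pow]; group
      _ = (k * v * k⁻¹) ^ j * z₀ := by rw [D.fixK z₀ hz₀ k hk]
  generalize hw : k * v * k⁻¹ = w at hwP haw ⊢
  have htZ : v * w * v⁻¹ * w⁻¹ ∈ Z := D.comm v hvP w hwP
  by_cases ht1 : v * w * v⁻¹ * w⁻¹ = 1
  · have hvw : v * w = w * v := by
      have h := mul_inv_eq_one.1 ht1
      exact mul_inv_eq_iff_eq_mul.1 h
    exact e2_mem_sup_of_commute D hP hZ hcen hvP hvZ hwP hvw
  · exfalso
    generalize ht : v * w * v⁻¹ * w⁻¹ = t at htZ ht1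
    have htw : v * w * v⁻¹ = t * w := by rw [← ht]; group
    have hcv : Commute v t := (D.central t htZ v hvP).symm
    have hcw : Commute w t := (D.central t htZ w hwP).symm
    have h1 := e2_comm_pow htw hcv hcw j j
    have hat : a * t * a⁻¹ = t := D.fixK t htZ a haK
    have hat' : a * t * a⁻¹ = t ^ (j * j) := by
      have e1 : a * t * a⁻¹ =
          (a * v * a⁻¹) * (a * w * a⁻¹) * (a * v * a⁻¹)⁻¹ * (a * w * a⁻¹)⁻¹ := by
        rw [← ht]; group
      rw [e1, hav, haw]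
      have c1 : Commute z₀ (v ^ j) := D.central z₀ hz₀ _ (P.pow_mem hvP j)
      have c2 : Commute z₀ (w ^ j) := D.central z₀ hz₀ _ (P.pow_mem hwP j)
      have e2 : v ^ j * z₀ * (w ^ j * z₀) * (v ^ j * z₀)⁻¹ * (w ^ j * z₀)⁻¹ =
          v ^ j * w ^ j * (v ^ j)⁻¹ * (w ^ j)⁻¹ := by
        calc v ^ j * z₀ * (w ^ j * z₀) * (v ^ j * z₀)⁻¹ * (w ^ j * z₀)⁻¹
            = v ^ j * (z₀ * w ^ j) * (v ^ j)⁻¹ * z₀⁻¹ * (w ^ j)⁻¹ := by group
          _ = v ^ j * (w ^ j * z₀) * (v ^ j)⁻¹ * z₀⁻¹ * (w ^ j)⁻¹ := by rw [c2.eq]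
          _ = v ^ j * w ^ j * (z₀ * (v ^ j)⁻¹) * z₀⁻¹ * (w ^ j)⁻¹ := by group
          _ = v ^ j * w ^ j * ((v ^ j)⁻¹ * z₀) * z₀⁻¹ * (w ^ j)⁻¹ := by rw [(c1.inv_right).eq]
          _ = v ^ j * w ^ j * (v ^ j)⁻¹ * (w ^ j)⁻¹ := by group
      rw [e2, h1]; group
    have htt : t ^ (j * j) = t ^ 1 := by rw [pow_one, ← hat', hat]
    have hot : orderOf t = p := orderOf_eq_prime (D.zpow t htZ) ht1
    have hmod : j * j ≡ 1 [MOD p] := by
      have := pow_eq_pow_iff_modEq.1 htt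
      rwa [hot] at this
    obtain ⟨z', hz', h2⟩ := e2_conj_pow_pow D haK hvP hz₀ hav 2
    have hmod2 : j ^ 2 ≡ 1 [MOD p] := by rw [pow_two]; exact hmod
    obtain ⟨z'', hz'', h3⟩ := e2_pow_modEq D hvP hmod2
    have h4 : a ^ 2 * v * (a ^ 2)⁻¹ = v * (z'' * z') := by
      rw [h2, h3, pow_one, mul_assoc]
    have ha2 : a ^ 2 ≠ 1 := by
      intro h
      have hd : orderOf a ∣ 2 := orderOf_dvd_of_pow_eq_one h
      have ho : Odd (orderOf a) := hodd a haK
      have : orderOf a = 1 := by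
        rcases (Nat.dvd_prime Nat.prime_two).1 hd with h1' | h2'
        · exact h1'
        · rw [h2'] at ho; exact absurd ho (by decide)
      exact ha1 (orderOf_eq_one_iff.1 this)
    exact hvZ (e2_mem_Z_of_fix_mod D (K.pow_mem haK 2) ha2 hvP (Z.mul_mem hz'' hz') h4)

/-- **K-1383 leaf E2** -/
theorem card_dvd_pred_of_invariant_line {G : Type*} [Group G] [Finite G] (p : ℕ) [Fact p.Prime]
    (hp : p ≠ 2) (P K : Subgroup G) (hP : Nat.card P = p ^ 3) (hPna : ¬ IsMulCommutative P)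
    (hKP : K ≤ Subgroup.normalizer (P : Set G)) (hKc : IsCyclic K)
    (hcop : (Nat.card K).Coprime p) (hodd : Odd (Nat.card K))
    (hZ : Nat.card ↥(P ⊓ Subgroup.centralizer (K : Set G)) = p)
    (hZ' : P ⊓ Subgroup.centralizer (K : Set G) ≤ ⁅P, P⁆)
    (hfix : ∀ k ∈ K, k ≠ 1 →
      P ⊓ Subgroup.centralizer ({k} : Set G) = P ⊓ Subgroup.centralizer (K : Set G))
    (hline : ∃ a ∈ K, a ≠ 1 ∧ ∃ v ∈ P, v ∉ Subgroup.centralizer (K : Set G) ∧
      a * v * a⁻¹ ∈ Subgroup.zpowers v ⊔ (P ⊓ Subgroup.centralizer (K : Set G))) :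
    Nat.card K ∣ p - 1 := by
  have hpp : p.Prime := Fact.out
  have hnc : ¬ ∀ a b : ↥P, a * b = b * a := fun h => hPna ⟨⟨h⟩⟩
  obtain ⟨hcz, hcomm, hpow, -⟩ := Cfsg.Agent.Lib.Helper89.nonabelian_cube_basic hP hnc
  have hZ'card : Nat.card ((P ⊓ Subgroup.centralizer (K : Set G)).subgroupOf P) = p := by
    rw [← hZ]
    exact Nat.card_congr (Subgroup.subgroupOfEquivOfLe inf_le_left).toEquiv
  have hZ'le : (P ⊓ Subgroup.centralizer (K : Set G)).subgroupOf P ≤ Subgroup.center ↥P := by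
    rw [← hcomm]
    intro x hx
    have hx' : (x : G) ∈ ⁅P, P⁆ := hZ' (Subgroup.mem_subgroupOf.1 hx)
    rw [← Subgroup.map_subtype_commutator] at hx'
    obtain ⟨y, hy, hyx⟩ := hx'
    have hyx' : y = x := Subtype.ext hyx
    rw [← hyx']; exact hy
  have hZ'eq : (P ⊓ Subgroup.centralizer (K : Set G)).subgroupOf P = Subgroup.center ↥P :=
    Subgroup.eq_of_le_of_card_ge hZ'le (by rw [hcz, hZ'card])
  have hmemZ : ∀ u (hu : u ∈ P), (⟨u, hu⟩ : ↥P) ∈ Subgroup.center ↥P →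
      u ∈ P ⊓ Subgroup.centralizer (K : Set G) := by
    intro u hu h
    rw [← hZ'eq] at h
    exact Subgroup.mem_subgroupOf.1 h
  have hZmem : ∀ u (hu : u ∈ P), u ∈ P ⊓ Subgroup.centralizer (K : Set G) →
      (⟨u, hu⟩ : ↥P) ∈ Subgroup.center ↥P := by
    intro u hu h
    rw [← hZ'eq]
    exact Subgroup.mem_subgroupOf.2 h
  have D : E2Data p P K (P ⊓ Subgroup.centralizer (K : Set G)) :=
    { ZP := inf_le_left
      central := by
        intro z hz w hw
        have h1 := hZmem z hz.1 hz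
        have h2 := Subgroup.mem_center_iff.1 h1 ⟨w, hw⟩
        exact (congrArg Subtype.val h2).symm
      comm := by
        intro w₁ hw₁ w₂ hw₂
        have h1 : ⁅(⟨w₁, hw₁⟩ : ↥P), (⟨w₂, hw₂⟩ : ↥P)⁆ ∈ commutator ↥P := by
          rw [commutator_def]
          exact Subgroup.commutator_mem_commutator (Subgroup.mem_top _) (Subgroup.mem_top _)
        rw [hcomm] at h1
        have h2 := hmemZ _ (⁅(⟨w₁, hw₁⟩ : ↥P), (⟨w₂, hw₂⟩ : ↥P)⁆).2 h1
        simpa [commutatorElement_def] using h2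
      ppow := by
        intro w hw
        have h1 := hpow ⟨w, hw⟩
        have h2 := hmemZ _ ((⟨w, hw⟩ : ↥P) ^ p).2 h1
        simpa using h2
      zpow := by
        intro z hz
        have h1 : (⟨z, hz⟩ : ↥(P ⊓ Subgroup.centralizer (K : Set G))) ^
            Nat.card ↥(P ⊓ Subgroup.centralizer (K : Set G)) = 1 := pow_card_eq_one'
        rw [hZ] at h1
        have h2 := congrArg Subtype.val h1
        simpa using h2
      fixK := by
        intro z hz k hk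
        have h1 := Subgroup.mem_centralizer_iff.1 hz.2 k hk
        rw [h1, mul_inv_cancel_right]
      normK := by
        intro k hk w hw
        exact (Subgroup.mem_normalizer_iff.mp (hKP hk) w).mp hw
      cop := by
        intro k hk
        exact Nat.Coprime.coprime_dvd_left (Subgroup.orderOf_dvd_natCard K hk) hcop
      fix := by
        intro k hk hk1 w hw h
        rw [← hfix k hk hk1]
        refine Subgroup.mem_inf.2 ⟨hw, ?_⟩
        rw [Subgroup.mem_centralizer_iff]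
        intro x hx
        rw [Set.mem_singleton_iff.1 hx]
        exact mul_inv_eq_iff_eq_mul.1 h }
  have hcen : ∀ u ∈ P, (∀ w ∈ P, u * w = w * u) → u ∈ P ⊓ Subgroup.centralizer (K : Set G) := by
    intro u hu h
    apply hmemZ u hu
    rw [Subgroup.mem_center_iff]
    intro g
    exact Subtype.ext (h g g.2).symm
  have hKcomm : ∀ x ∈ K, ∀ y ∈ K, x * y = y * x := by
    intro x hx y hy
    haveI := hKc
    have := isMulCommutative_iff.1 (IsCyclic.isMulCommutative (α := ↥K)) ⟨x, hx⟩ ⟨y, hy⟩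
    exact congrArg Subtype.val this
  have hoddK : ∀ k ∈ K, Odd (orderOf k) := fun k hk =>
    Odd.of_dvd_nat hodd (Subgroup.orderOf_dvd_natCard K hk)
  obtain ⟨a, haK, ha1, v, hvP, hvK, hav⟩ := hline
  have hvZ : v ∉ P ⊓ Subgroup.centralizer (K : Set G) := fun h => hvK h.2
  have hcomm' : ∀ h ∈ Subgroup.zpowers v, ∀ l ∈ P ⊓ Subgroup.centralizer (K : Set G), h * l = l * h := by
    intro h hh l hl
    exact (D.central l hl h (Subgroup.zpowers_le.2 hvP hh)).symm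
  -- the shape of `a v a⁻¹`
  obtain ⟨y, hy, z₀, hz₀, hyz⟩ := e2_exists_mul_of_mem_sup hcomm' hav
  obtain ⟨j, hj⟩ := (Submonoid.mem_powers_iff _ _).1 (mem_powers_iff_mem_zpowers.2 hy)
  have hav' : a * v * a⁻¹ = v ^ j * z₀ := by rw [hyz, hj]
  -- the generator
  obtain ⟨c, hc⟩ := hKc.exists_generator
  have hcK : (c : G) ∈ K := c.2
  have hline_c := e2_line_invariant D hP hZ hcen hKcomm hoddK haK ha1 hvP hvZ hz₀ hav' hcK
  obtain ⟨y', hy', z₁, hz₁, hyz'⟩ := e2_exists_mul_of_mem_sup hcomm' hline_c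
  obtain ⟨l, hl⟩ := (Submonoid.mem_powers_iff _ _).1 (mem_powers_iff_mem_zpowers.2 hy')
  have hcv : (c : G) * v * (c : G)⁻¹ = v ^ l * z₁ := by rw [hyz', hl]
  have hpl : ¬ p ∣ l := by
    rintro ⟨s, rfl⟩
    apply hvZ
    have h1 : v ^ (p * s) ∈ P ⊓ Subgroup.centralizer (K : Set G) := by
      rw [pow_mul]; exact Subgroup.pow_mem _ (D.ppow v hvP) s
    have h2 : (c : G) * v * (c : G)⁻¹ ∈ P ⊓ Subgroup.centralizer (K : Set G) := by
      rw [hcv]; exact Subgroup.mul_mem _ h1 hz₁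
    have h3 := D.fixK _ h2 (c : G)⁻¹ (K.inv_mem hcK)
    have h4 : (c : G)⁻¹ * ((c : G) * v * (c : G)⁻¹) * ((c : G)⁻¹)⁻¹ = v := by group
    rw [h4] at h3
    rw [h3]; exact h2
  have hfermat : l ^ (p - 1) ≡ 1 [MOD p] := by
    have h0 : (l : ZMod p) ≠ 0 := by
      rw [Ne, ZMod.natCast_eq_zero_iff]; exact hpl
    have h1 := ZMod.pow_card_sub_one_eq_one h0
    apply (ZMod.natCast_eq_natCast_iff _ _ _).1
    push_cast
    exact h1
  obtain ⟨z', hz', h2⟩ := e2_conj_pow_pow D hcK hvP hz₁ hcv (p - 1)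
  obtain ⟨z'', hz'', h3⟩ := e2_pow_modEq D hvP hfermat
  have h4 : (c : G) ^ (p - 1) * v * ((c : G) ^ (p - 1))⁻¹ = v * (z'' * z') := by
    rw [h2, h3, pow_one, mul_assoc]
  have hc1 : (c : G) ^ (p - 1) = 1 := by
    by_contra hne
    exact hvZ (e2_mem_Z_of_fix_mod D (K.pow_mem hcK (p - 1)) hne hvP
      (Subgroup.mul_mem _ hz'' hz') h4)
  have hord : orderOf (c : G) ∣ p - 1 := orderOf_dvd_of_pow_eq_one hc1
  have hcard : Nat.card K = orderOf (c : G) := by
    rw [Subgroup.orderOf_coe]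
    exact (orderOf_eq_card_of_forall_mem_zpowers hc).symm
  rw [hcard]; exact hord

end Cfsg.Agent.Lib.Helper32.BG1383
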