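import Mathlib
import Cfsg.Agent.S1350
import Cfsg.Agent.Lib.Helper03.Gaschutz
import Cfsg.Agent.Lib.Helper13.ComplementSystem
import Cfsg.Agent.Lib.Helper58.BG139K2c
import Cfsg.Agent.Lib.Helper45.BG153A
import Cfsg.Agent.Lib.Helper04.BG153B
import Cfsg.Agent.Lib.Helper61.BG153C
import Cfsg.Agent.Lib.Helper65.BG153D
import Cfsg.Agent.Lib.Helper03.BG153E
import Cfsg.Agent.Lib.Helper64.BG153F
import Cfsg.Agent.Lib.Helper26.BG151G
import Cfsg.Agent.Lib.Helper72.BG153G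
import Cfsg.Agent.Lib.Helper62.BG153I1
import Cfsg.Agent.Lib.Helper52.BG153I2
import Cfsg.Agent.S1351
import Cfsg.Agent.S1373
import Cfsg.Agent.Lib.Helper61.BG151H1
import Cfsg.Agent.Lib.Helper68.BG147C7
import Cfsg.Agent.Lib.Helper71.BG11a
import Cfsg.Agent.Lib.Helper55.Uniq2

/-!
# S1438 (BG Corollary 15.3): glue over the pack K-153
-/

set_option autoImplicit false
set_option linter.unusedVariables false
set_option linter.style.haveILetI false
set_option linter.unusedSimpArgs false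
set_option linter.unnecessarySimpa false
set_option linter.unusedSectionVars false

namespace Cfsg.Agent.Lib.Helper32.BG153

open Cfsg

variable {G : Type*} [Group G] [Finite G]

/-- the image of `H` under conjugation by `m` equals `H` ⟹ `m` normalizes `H` -/
theorem mem_normalizer_of_map_conj_eq {H : Subgroup G} {m : G}
    (h : H.map (MulAut.conj m).toMonoidHom = H) : m ∈ Subgroup.normalizer (H : Set G) := by
  rw [Subgroup.mem_normalizer_iff]
  intro x
  constructor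
  · intro hx
    rw [← h]
    exact ⟨x, hx, by simp⟩
  · intro hx
    rw [← h] at hx
    obtain ⟨y, hy, hyx⟩ := hx
    have : y = x := by
      have h1 : m * y * m⁻¹ = m * x * m⁻¹ := by simpa using hyx
      have h2 := congrArg (fun t => m⁻¹ * t * m) h1
      simpa [mul_assoc] using h2
    rw [← this]
    exact hy

/-- **Part (1)** of S1438. -/
theorem part1 (hG : IsMinSimpleOddOrder G) {M H : Subgroup G} (hM : IsCoatom M)
    (hH : H ≤ sigmaCore M) (hH1 : H ≠ ⊥)
    (hHall : (Nat.card H).Coprime (H.relIndex (sigmaCore M))) :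
    ∃ X : Subgroup G, IsCyclic X ∧ (∀ p : ℕ, p.Prime → p ∣ Nat.card X → p ∈ tau2 M) ∧
      M ⊓ Subgroup.centralizer (H : Set G) =
        (sigmaCore M ⊓ Subgroup.centralizer (H : Set G)) ⊔ X := by
  classical
  have hHallσ := (Cfsg.Agent.S1350.result hG M hM).1
  have hσM : sigmaCore M ≤ M := hHallσ.1
  have hMnσ : M ≤ Subgroup.normalizer (sigmaCore M : Set G) :=
    Cfsg.Agent.Lib.Helper71.BG11.le_normalizer_sigmaCore M
  have hDZ : sigmaCore M ⊓ Subgroup.centralizer (H : Set G) ≤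
      M ⊓ Subgroup.centralizer (H : Set G) := inf_le_inf_right _ hσM
  have hDn : M ⊓ Subgroup.centralizer (H : Set G) ≤
      Subgroup.normalizer ((sigmaCore M ⊓ Subgroup.centralizer (H : Set G) : Subgroup G) : Set G) := by
    intro z hz
    have hz1 := Subgroup.mem_normalizer_iff.mp (hMnσ hz.1)
    have hz2 := Subgroup.mem_normalizer_iff.mp
      ((Subgroup.le_normalizer : Subgroup.centralizer (H : Set G) ≤ _) hz.2)
    rw [Subgroup.mem_normalizer_iff]
    intro h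
    rw [Subgroup.mem_inf, Subgroup.mem_inf, ← hz1 h, ← hz2 h]
  have hDeq : sigmaCore M ⊓ Subgroup.centralizer (H : Set G) =
      sigmaCore M ⊓ (M ⊓ Subgroup.centralizer (H : Set G)) := by
    rw [← inf_assoc, inf_of_le_left hσM]
  have hrel : (sigmaCore M ⊓ Subgroup.centralizer (H : Set G)).relIndex
      (M ⊓ Subgroup.centralizer (H : Set G)) ∣ (sigmaCore M).relIndex M := by
    rw [hDeq, Subgroup.inf_relIndex_right]
    have hZM : M ⊓ Subgroup.centralizer (H : Set G) ≤ M := inf_le_left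
    rw [← Subgroup.relIndex_subgroupOf hZM]
    apply Cfsg.Agent.Lib.Helper13.relIndex_dvd_index_of_le_normalizer
    intro z hz
    rw [Subgroup.mem_normalizer_iff]
    intro h
    rw [Subgroup.mem_subgroupOf, Subgroup.mem_subgroupOf]
    have := Subgroup.mem_normalizer_iff.mp (hMnσ z.2) (h : G)
    simpa using this
  have hcop : (Nat.card ↥(sigmaCore M ⊓ Subgroup.centralizer (H : Set G))).Coprime
      ((sigmaCore M ⊓ Subgroup.centralizer (H : Set G)).relIndex
        (M ⊓ Subgroup.centralizer (H : Set G))) := by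
    apply Nat.coprime_of_dvd
    intro q hq hq1 hq2
    have hqσ : q ∈ sigma M :=
      hHallσ.2.1 q hq (hq1.trans (Subgroup.card_dvd_of_le inf_le_left))
    exact hHallσ.2.2 q hq hqσ (hq2.trans hrel)
  have hbotn : M ⊓ Subgroup.centralizer (H : Set G) ≤
      Subgroup.normalizer (((⊥ : Subgroup G)) : Set G) := by
    intro z _
    rw [Subgroup.mem_normalizer_iff]
    intro h
    simp [Subgroup.mem_bot]
  obtain ⟨X, hXZ, hDX, hsup, -, hXcard⟩ :=
    Cfsg.Agent.Lib.Helper68.BG147.exists_compl_ge hDZ hDn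
      (bot_le : (⊥ : Subgroup G) ≤ M ⊓ Subgroup.centralizer (H : Set G)) hbotn hcop
      (by simp)
  have hXM : X ≤ M := hXZ.trans inf_le_left
  have hXH : X ≤ Subgroup.centralizer (H : Set G) := hXZ.trans inf_le_right
  have hXσ0 : X ⊓ sigmaCore M = ⊥ := by
    rw [eq_bot_iff]
    intro y hy
    have : y ∈ (sigmaCore M ⊓ Subgroup.centralizer (H : Set G)) ⊓ X :=
      ⟨⟨hy.2, hXH hy.1⟩, hy.1⟩
    rw [hDX] at this
    exact this
  have hXdvd : Nat.card X ∣ (sigmaCore M).relIndex M :=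
    Cfsg.Agent.Lib.Helper03.card_dvd_relIndex_of_inf_eq_bot (sigmaCore M) M X hσM hMnσ hXM hXσ0
  have hXσ : ∀ p : ℕ, p.Prime → p ∣ Nat.card X → p ∉ sigma M := by
    intro p hp hpX hpσ
    exact hHallσ.2.2 p hp hpσ (hpX.trans hXdvd)
  have hXκ : ∀ p : ℕ, p.Prime → p ∣ Nat.card X → p ∉ kappa M := by
    intro p hp hpX
    obtain ⟨a, haX, hao⟩ :=
      Cfsg.Agent.Lib.Helper58.BG139.exists_mem_orderOf_eq_of_dvd_card hp hpX
    exact Cfsg.Agent.Lib.Helper45.BG153.not_mem_kappa_of_centralizes hG hM hH hH1 hHall (hXM haX) (hXH haX) hp hao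
  have hXτ : ∀ p : ℕ, p.Prime → p ∣ Nat.card X → p ∈ tau2 M := by
    intro p hp hpX
    obtain ⟨a, haX, hao⟩ :=
      Cfsg.Agent.Lib.Helper58.BG139.exists_mem_orderOf_eq_of_dvd_card hp hpX
    exact Cfsg.Agent.Lib.Helper04.BG153.mem_tau2_of_centralizes hG hM hH hH1 (hXM haX) (hXH haX) hp hao (hXσ p hp hpX)
      (hXκ p hp hpX)
  have hcomm := Cfsg.Agent.Lib.Helper61.BG153.comm_of_centralizes hG hM hH hH1 hXM hXH hXσ hXκ
  exact ⟨X, Cfsg.Agent.Lib.Helper65.BG153.isCyclic_of_centralizes hG hM hH hH1 hXM hXH hcomm hXτ, hXτ, hsup.symm⟩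

/-- structure of `M_σ` when it is not nilpotent (K-151 `structure_of_decomp` + `S1373`). -/
theorem exists_structure_of_not_nilpotent (hG : IsMinSimpleOddOrder G) {M : Subgroup G}
    (hM : IsCoatom M) (hnn : ¬ Group.IsNilpotent (sigmaCore M)) :
    ∃ (q : ℕ) (Q D : Subgroup G), q.Prime ∧ Q ≤ sigmaCore M ∧
      M ≤ Subgroup.normalizer (Q : Set G) ∧ IsPGroup q Q ∧
      (Nat.card Q).Coprime (Q.relIndex (sigmaCore M)) ∧ Q ⊔ D = sigmaCore M ∧
      Group.IsNilpotent D := by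
  have h51 := (Cfsg.Agent.S1351.result hG M hM).2
  obtain ⟨K, hKU, hK1⟩ := Cfsg.Agent.Lib.Helper61.BG151.exists_decomp_of_not_nilpotent hG hM h51 hnn
  have hpr := Cfsg.Agent.S1373.result hG M hM K ⊥ hKU hK1 rfl
  obtain ⟨Q, D, hMQ, hQp, hQc, -, hQD, hDn⟩ := Cfsg.Agent.Lib.Helper26.BG151.structure_of_decomp hG hM hKU hK1 hpr hnn
  have hQσ : Q ≤ sigmaCore M := hQD ▸ le_sup_left
  have hσM : sigmaCore M ≤ M := (Cfsg.Agent.S1350.result hG M hM).1.1
  refine ⟨_, Q, D, hpr, hQσ, hMQ, hQp, ?_, hQD, hDn⟩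
  apply Nat.Coprime.coprime_dvd_right _ hQc
  exact Dvd.intro _ (Subgroup.relIndex_mul_relIndex Q (sigmaCore M) M hQσ hσM)

/-- **Part (2)** of S1438. -/
theorem part2 (hG : IsMinSimpleOddOrder G) {M H : Subgroup G} (hM : IsCoatom M)
    (hH : H ≤ sigmaCore M) (hH1 : H ≠ ⊥)
    (hHall : (Nat.card H).Coprime (H.relIndex (sigmaCore M))) :
    ∀ x ∈ H, ∀ g : G, g * x * g⁻¹ ∈ H →
      ∃ n ∈ M ⊓ Subgroup.normalizer (H : Set G), n * x * n⁻¹ = g * x * g⁻¹ := by
  classical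
  intro x hx g hgx
  have hσM : sigmaCore M ≤ M := (Cfsg.Agent.S1350.result hG M hM).1.1
  have hMnσ : M ≤ Subgroup.normalizer (sigmaCore M : Set G) :=
    Cfsg.Agent.Lib.Helper71.BG11.le_normalizer_sigmaCore M
  by_cases hx1 : x = 1
  · exact ⟨1, one_mem _, by simp [hx1]⟩
  obtain ⟨m, hmM, hmx⟩ := Cfsg.Agent.Lib.Helper03.BG153.exists_mem_conj_eq hG hM (hH hx) hx1 (hσM (hH hgx))
  by_cases hnil : Group.IsNilpotent (sigmaCore M)
  · -- nilpotent case: `M` normalizes `H`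
    have hmap : H.map (MulAut.conj m).toMonoidHom = H := by
      apply Cfsg.Agent.Lib.Helper64.BG153.eq_of_hall_of_nilpotent hH _ hnil hHall
      · exact Nat.card_congr
          (Subgroup.equivMapOfInjective H _ (MulAut.conj m).injective).symm.toEquiv
      · rintro _ ⟨y, hy, rfl⟩
        have := (Subgroup.mem_normalizer_iff.mp (hMnσ hmM) y).mp (hH hy)
        simpa using this
    exact ⟨m, ⟨hmM, mem_normalizer_of_map_conj_eq hmap⟩, hmx⟩
  · obtain ⟨q, Q, D, hq, hQσ, hMQ, hQp, hQc, hQD, hDn⟩ :=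
      exists_structure_of_not_nilpotent hG hM hnil
    have huniq : ∀ T T' : Subgroup G, Q ≤ T → T ≤ sigmaCore M → Q ≤ T' → T' ≤ sigmaCore M →
        (Nat.card T).Coprime (T.relIndex (sigmaCore M)) → Nat.card T' = Nat.card T → T' = T :=
      fun T T' h1 h2 h3 h4 h5 h6 =>
        Cfsg.Agent.Lib.Helper72.BG153.eq_of_hall_over hQσ (hσM.trans hMQ) hDn hQD h1 h2 h3 h4 h5 h6
    by_cases hqH : q ∣ Nat.card H
    · have hMH := Cfsg.Agent.Lib.Helper62.BG153.le_normalizer_of_dvd hq hσM hMnσ hH hHall hQσ hMQ hQp hQc huniq hqH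
      exact ⟨m, ⟨hmM, hMH hmM⟩, hmx⟩
    · haveI hsolv : Group.IsSolvable ↥M := Cfsg.Agent.Lib.Helper55.ms_solvable hG hM.1
      have hy : m * x * m⁻¹ ∈ H := by rw [hmx]; exact hgx
      obtain ⟨n, hn, hnx⟩ := Cfsg.Agent.Lib.Helper52.BG153.exists_normalizer_conj_of_not_dvd hq hsolv hσM hMnσ hH hHall hQσ hMQ
        hQp hQc huniq hqH hx hmM hy
      exact ⟨n, hn, hnx.trans hmx⟩

/-- **S1438** -/
theorem s1438_main (hG : IsMinSimpleOddOrder G) (M : Subgroup G) (hM : IsCoatom M)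
    (H : Subgroup G) (hH : H ≤ sigmaCore M) (hH1 : H ≠ ⊥)
    (hHall : (Nat.card H).Coprime (H.relIndex (sigmaCore M))) :
    (∃ X : Subgroup G, IsCyclic X ∧ (∀ p : ℕ, p.Prime → p ∣ Nat.card X → p ∈ tau2 M) ∧
        M ⊓ Subgroup.centralizer (H : Set G) =
          (sigmaCore M ⊓ Subgroup.centralizer (H : Set G)) ⊔ X) ∧
      ∀ x ∈ H, ∀ g : G, g * x * g⁻¹ ∈ H →
        ∃ n ∈ M ⊓ Subgroup.normalizer (H : Set G), n * x * n⁻¹ = g * x * g⁻¹ :=
  ⟨part1 hG hM hH hH1 hHall, part2 hG hM hH hH1 hHall⟩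

end Cfsg.Agent.Lib.Helper32.BG153
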