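import Mathlib
import Cfsg.Prelude.Def_Characters
import Cfsg.Prelude.Def_Blocks
import Cfsg.Agent.Lib.Helper01.CD3Defs
import Cfsg.Agent.Lib.Helper32.CD3Tors
import Cfsg.Agent.Lib.Helper32.CD3Vanish
import Cfsg.Agent.Lib.Helper83.Constituent
import Cfsg.Agent.Lib.Helper83.Linear

/-!
# K-CD3-VAN (S4460 leaf 446029), helper32

If every linear character of `N` trivial on `K` fixes `ψ ∈ Irr(N)` under multiplication, then `ψ`
vanishes off `K`, so `m² t = |N : K| = r^a` and `ψ(1) = m t θ(1)`: `r ∣ ψ(1)`.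
-/

set_option autoImplicit false
set_option linter.unusedSectionVars false
set_option linter.style.haveILetI false
set_option linter.unusedVariables false

namespace Cfsg.Agent.Lib.Helper32.CD3

open Cfsg Cfsg.Agent.Lib.Helper01.CD3

universe u

section TwelveFourVan

variable {G : Type u} [Group G] [Finite G] (K N : Subgroup G) [hK : K.Normal] [hN : N.Normal]

/-- 446029 K-CD3-VAN. -/
theorem dvd_degree_of_twist_invariant (hKN : K ≤ N)
    (hNK : ∀ x ∈ N, ∀ y ∈ N, x * y * x⁻¹ * y⁻¹ ∈ K) {r : ℕ} (hr : r.Prime)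
    (hidx : ∃ a : ℕ, 0 < a ∧ K.relIndex N = r ^ a)
    {ψ : N → ℂ} (hψ : IsIrrCharacter N ψ)
    (hinv : ∀ μ : N → ℂ, IsIrrCharacter N μ → μ 1 = 1 → (∀ k : N, (k : G) ∈ K → μ k = 1) → ψ * μ = ψ) :
    r ∣ charDegree ψ := by
  classical
  letI : Fintype G := Fintype.ofFinite G
  letI : Fintype N := Fintype.ofFinite N
  letI : Fintype (K.subgroupOf N) := Fintype.ofFinite _
  have hab : ∀ x y : N, x * y * x⁻¹ * y⁻¹ ∈ K.subgroupOf N := by
    intro x y
    rw [Subgroup.mem_subgroupOf]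
    simpa using hNK x x.2 y y.2
  -- ψ vanishes off K
  have hvan : ∀ n : N, n ∉ K.subgroupOf N → ψ n = 0 := by
    intro n hn
    obtain ⟨φ, hφK, hφn⟩ := exists_sep_hom (K.subgroupOf N) hab hn
    have h1 := hinv (fun x => ((φ x : ℂˣ) : ℂ)) (Cfsg.Agent.Lib.Helper83.isIrrCharacter_of_hom φ)
      (by simp) (by
        intro k hk
        have := hφK k (by rw [Subgroup.mem_subgroupOf]; exact hk)
        rw [this]; rfl)
    have h2 := congrFun h1 n
    simp only [Pi.mul_apply] at h2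
    by_contra h0
    apply hφn
    have h3 : ((φ n : ℂˣ) : ℂ) = 1 := by
      have : ψ n * ((φ n : ℂˣ) : ℂ) = ψ n * 1 := by rw [h2, mul_one]
      exact mul_left_cancel₀ h0 this
    exact Units.ext h3
  -- a constituent of the restriction
  have hψc := Cfsg.Agent.Lib.Helper83.isCharacter_of_irr hψ
  have hres : IsCharacter (K.subgroupOf N) (fun k : K.subgroupOf N => ψ (k : N)) :=
    Cfsg.Agent.Lib.Helper83.isCharacter_restrict (K.subgroupOf N) hψc
  have hψ1 : ψ 1 ≠ 0 := Cfsg.Agent.Lib.Helper83.irr_degree_ne_zero ⟨ψ, hψ⟩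
  obtain ⟨θ, hθ⟩ := Cfsg.Agent.Lib.Helper83.exists_constituent hres (by simpa using hψ1)
  obtain ⟨m, t, hmt, hdeg⟩ := vanish_clifford_count (K.subgroupOf N) hψ hvan θ.2 hθ
  obtain ⟨a, ha, hra⟩ := hidx
  have hidx' : (K.subgroupOf N).index = r ^ a := hra
  rw [hidx'] at hmt
  -- r ∣ m * t
  have hrmt : r ∣ m * t := by
    have h1 : r ∣ m ^ 2 * t := by
      rw [hmt]
      exact dvd_pow_self r (Nat.pos_iff_ne_zero.mp ha)
    rcases (Nat.Prime.dvd_mul hr).mp h1 with h | h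
    · exact Dvd.dvd.mul_right (hr.dvd_of_dvd_pow h) t
    · exact Dvd.dvd.mul_left h m
  -- degrees
  have hcast : (charDegree ψ : ℂ) = ((m * t * charDegree (θ : K.subgroupOf N → ℂ) : ℕ) : ℂ) := by
    rw [Cfsg.Agent.Lib.Helper83.charDegree_cast hψc, hdeg]
    push_cast
    rw [Cfsg.Agent.Lib.Helper83.charDegree_cast (Cfsg.Agent.Lib.Helper83.isCharacter_of_irr θ.2)]
  have hnat : charDegree ψ = m * t * charDegree (θ : K.subgroupOf N → ℂ) := by
    exact_mod_cast hcast
  rw [hnat]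
  exact Dvd.dvd.mul_right hrmt _

end TwelveFourVan

end Cfsg.Agent.Lib.Helper32.CD3
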