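import Mathlib
import Cfsg.Prelude.Def_Characters
import Cfsg.Agent.Lib.Helper84.SigmaExt
import Cfsg.Agent.Lib.Helper83.Abelian
import Cfsg.Agent.Lib.Helper18.CaminaA

/-!
# K-S4140-B: the Clifford count in a Camina pair

If `(G, N)` is a Camina pair, `χ ∈ Irr(G)` lies over `1 ≠ θ ∈ Irr(N)` with multiplicity `m` and
`T = I_G(θ)`, then `m² |G : T| = |G : N|`.
-/

set_option autoImplicit false

namespace Cfsg.Agent.Lib.Helper32.Camina

open Cfsg
open Cfsg.Agent.Lib.Helper84 (inertiaSub)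
open scoped ComplexConjugate

universe u

/-- K-S4140-B (C2). -/
theorem camina_clifford_count {G : Type u} [Group G] [Fintype G] (N : Subgroup G) [hN : N.Normal]
    [Fintype N]
    (hcam : ∀ g : G, g ∉ N → ∀ n ∈ N, ∃ x : G, x * g * x⁻¹ = g * n)
    {χ : G → ℂ} (hχ : IsIrrCharacter G χ) {θ : N → ℂ} (hθ : IsIrrCharacter N θ)
    (hθ1 : θ ≠ fun _ => 1) (hcon : classInner (fun n : N => χ n) θ ≠ 0) :
    ∃ m : ℕ, (m : ℂ) = classInner (fun n : N => χ n) θ ∧
      m ^ 2 * (inertiaSub N θ).index = N.index := by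
  classical
  have : Fintype (IrrCharacter N) := Fintype.ofFinite _
  set χN : N → ℂ := fun n : N => χ n with hχN_def
  have hχc : IsCharacter G χ := Cfsg.Agent.Lib.Helper83.isCharacter_of_irr hχ
  have hχcl : IsClassFunction G χ := Cfsg.Agent.Lib.Helper83.char_isClassFunction hχc
  have hχN : IsCharacter N χN := Cfsg.Agent.Lib.Helper83.isCharacter_restrict N hχc
  obtain ⟨m, hm⟩ := Cfsg.Agent.Lib.Helper83.classInner_char_nat hχN
    (Cfsg.Agent.Lib.Helper83.isCharacter_of_irr hθ)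
  refine ⟨m, hm.symm, ?_⟩
  -- `χ` is not trivial on `N`
  have hker : ∃ n ∈ N, χ n ≠ χ 1 := by
    by_contra hcon'
    push Not at hcon'
    apply hcon
    have h1 : χN = (χ 1) • (fun _ : N => (1 : ℂ)) := by
      funext n
      simp [χN, hcon' n n.2]
    rw [h1, Cfsg.Agent.Lib.Helper83.classInner_smul_left,
      Cfsg.Agent.Lib.Helper84.classInner_irr_irr Cfsg.Agent.Lib.Helper83.isIrrCharacter_one hθ,
      if_neg (Ne.symm hθ1), mul_zero]
  have hvan : ∀ g : G, g ∉ N → χ g = 0 := fun g hg =>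
    Cfsg.Agent.Lib.Helper18.Camina.camina_irr_vanish N hcam hχ hker g hg
  -- the norm of `χN`
  have hG0 : (Nat.card G : ℂ) ≠ 0 := by
    exact_mod_cast Nat.card_pos.ne'
  have hN0 : (Nat.card N : ℂ) ≠ 0 := by
    exact_mod_cast Nat.card_pos.ne'
  have hnorm : classInner χN χN = (N.index : ℂ) := by
    have h1 : classInner χ χ = 1 := Cfsg.Agent.Lib.Helper83.irr_inner_self ⟨χ, hχ⟩
    rw [classInner] at h1
    have h2 : ∑ g : G, χ g * conj (χ g) = ∑ n : N, χ n * conj (χ n) := by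
      rw [Cfsg.Agent.Lib.Helper83.sum_subgroup_eq_sum_ite' N (fun x => χ x * conj (χ x))]
      apply Finset.sum_congr rfl
      intro x _
      split_ifs with hx
      · rfl
      · rw [hvan x hx, zero_mul]
    rw [h2] at h1
    have hcard : (Nat.card G : ℂ) = (Nat.card N : ℂ) * (N.index : ℂ) := by
      rw [← Nat.cast_mul, Subgroup.card_mul_index]
    have hS : ∑ n : N, χ n * conj (χ n) = (Nat.card G : ℂ) := by
      have h3 : (Nat.card G : ℂ) * ((Nat.card G : ℂ)⁻¹ * ∑ n : N, χ n * conj (χ n)) =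
          (Nat.card G : ℂ) * 1 := by rw [h1]
      rw [← mul_assoc, mul_inv_cancel₀ hG0, one_mul, mul_one] at h3
      exact h3
    show (Nat.card N : ℂ)⁻¹ * ∑ n : N, χN n * conj (χN n) = _
    rw [hS, hcard, ← mul_assoc, inv_mul_cancel₀ hN0, one_mul]
  -- decomposition into irreducibles
  have hdec := Cfsg.Agent.Lib.Helper83.char_eq_sum_irrMult hχN
  have hnorm2 : classInner χN χN =
      ∑ ψ : IrrCharacter N, ((Cfsg.Agent.Lib.Helper83.irrMult χN ψ : ℕ) : ℂ) ^ 2 := by
    conv_lhs => rw [hdec]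
    rw [Cfsg.Agent.Lib.Helper83.classInner_sum_irr_self]
    apply Finset.sum_congr rfl
    intro ψ _
    rw [Complex.conj_natCast, sq]
  -- the orbit of `θ`
  set T := inertiaSub N θ with hT
  have hlift : ∀ a b : G, (QuotientGroup.leftRel T) a b →
      (⟨Cfsg.Agent.Lib.Helper84.conjFun N a⁻¹ θ,
        Cfsg.Agent.Lib.Helper84.isIrrCharacter_conjFun N a⁻¹ hθ⟩ : IrrCharacter N) =
      ⟨Cfsg.Agent.Lib.Helper84.conjFun N b⁻¹ θ,
        Cfsg.Agent.Lib.Helper84.isIrrCharacter_conjFun N b⁻¹ hθ⟩ := by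
    intro a b hab
    rw [QuotientGroup.leftRel_apply] at hab
    apply Subtype.ext
    show Cfsg.Agent.Lib.Helper84.conjFun N a⁻¹ θ = Cfsg.Agent.Lib.Helper84.conjFun N b⁻¹ θ
    have h1 : Cfsg.Agent.Lib.Helper84.conjFun N (a⁻¹ * b) θ = θ := hab
    rw [Cfsg.Agent.Lib.Helper84.conjFun_mul] at h1
    have h2 := Cfsg.Agent.Lib.Helper84.conjFun_inv_conjFun N b
      (Cfsg.Agent.Lib.Helper84.conjFun N a⁻¹ θ)
    rw [h1] at h2
    exact h2.symm
  let F : G ⧸ T → IrrCharacter N := Quotient.lift (fun g : G =>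
    (⟨Cfsg.Agent.Lib.Helper84.conjFun N g⁻¹ θ,
      Cfsg.Agent.Lib.Helper84.isIrrCharacter_conjFun N g⁻¹ hθ⟩ : IrrCharacter N)) hlift
  have hFmk : ∀ g : G, (F (QuotientGroup.mk g) : N → ℂ) =
      Cfsg.Agent.Lib.Helper84.conjFun N g⁻¹ θ := fun g => rfl
  have hFinj : Function.Injective F := by
    intro q₁ q₂
    induction q₁ using QuotientGroup.induction_on with
    | H a =>
      induction q₂ using QuotientGroup.induction_on with
      | H b =>
        intro h
        have h1 : Cfsg.Agent.Lib.Helper84.conjFun N a⁻¹ θ =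
            Cfsg.Agent.Lib.Helper84.conjFun N b⁻¹ θ := by
          rw [← hFmk a, ← hFmk b, h]
        apply QuotientGroup.eq.mpr
        show Cfsg.Agent.Lib.Helper84.conjFun N (a⁻¹ * b) θ = θ
        rw [Cfsg.Agent.Lib.Helper84.conjFun_mul, h1]
        exact Cfsg.Agent.Lib.Helper84.conjFun_conjFun_inv N b θ
  have hmult_in : ∀ q : G ⧸ T, Cfsg.Agent.Lib.Helper83.irrMult χN (F q) = m := by
    intro q
    induction q using QuotientGroup.induction_on with
    | H a =>
      have h1 : ((Cfsg.Agent.Lib.Helper83.irrMult χN (F (QuotientGroup.mk a)) : ℕ) : ℂ) = (m : ℂ) := by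
        rw [Cfsg.Agent.Lib.Helper83.irrMult_cast hχN, hFmk,
          Cfsg.Agent.Lib.Helper84.classInner_restrict_conjFun N hχcl a⁻¹ θ]
        exact hm
      exact_mod_cast h1
  have hmult_out : ∀ ψ : IrrCharacter N, ψ ∉ Finset.univ.image F →
      Cfsg.Agent.Lib.Helper83.irrMult χN ψ = 0 := by
    intro ψ hψ
    by_contra h0
    apply hψ
    have h1 : classInner χN (ψ : N → ℂ) ≠ 0 := by
      rw [← Cfsg.Agent.Lib.Helper83.irrMult_cast hχN]
      exact_mod_cast h0
    obtain ⟨g, hg⟩ := Cfsg.Agent.Lib.Helper84.clifford_exists_conj N hχ hθ ψ.2 hcon h1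
    rw [Finset.mem_image]
    refine ⟨QuotientGroup.mk g⁻¹, Finset.mem_univ _, ?_⟩
    apply Subtype.ext
    rw [hFmk, inv_inv]
    exact hg
  have hsum : ∑ ψ : IrrCharacter N, ((Cfsg.Agent.Lib.Helper83.irrMult χN ψ : ℕ) : ℂ) ^ 2 =
      (T.index : ℂ) * (m : ℂ) ^ 2 := by
    rw [← Finset.sum_subset (Finset.subset_univ (Finset.univ.image F))
      (fun ψ _ hψ => by rw [hmult_out ψ hψ]; simp)]
    rw [Finset.sum_image (fun a _ b _ h => hFinj h)]
    simp only [hmult_in]
    rw [Finset.sum_const, Finset.card_univ, nsmul_eq_mul, Subgroup.index,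
      Nat.card_eq_fintype_card]
  rw [hnorm2, hsum] at hnorm
  have : ((m ^ 2 * T.index : ℕ) : ℂ) = ((N.index : ℕ) : ℂ) := by
    push_cast
    rw [← hnorm]
    ring
  exact_mod_cast this

end Cfsg.Agent.Lib.Helper32.Camina
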