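import Mathlib
import Cfsg.Prelude.Def_SolvableStructure
import Cfsg.Agent.Lib.Helper01.Hall
import Cfsg.Agent.Lib.Helper01.Glauberman
import Cfsg.Agent.Lib.Helper13.MinNormalSolvable
import Cfsg.Agent.Lib.Helper32.CarterBasic
import Cfsg.Agent.Lib.Helper32.CoprimeHall

set_option autoImplicit false

namespace Cfsg.Agent.Lib.Helper32

open scoped Pointwise
open Cfsg.Agent.Lib.Helper01 Cfsg.Agent.Lib.Helper13

universe u

variable {G : Type*} [Group G]

/-- Relative Carter property transfers to the subgroup type. -/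
theorem isCarter_subgroupOf {C L : Subgroup G} (hCL : C ≤ L) (hnil : Group.IsNilpotent C)
    (hnorm : Subgroup.normalizer (C : Set G) ⊓ L = C) : Cfsg.IsCarterSubgroup (C.subgroupOf L) := by
  refine ⟨(Group.isNilpotent_congr (Subgroup.subgroupOfEquivOfLe hCL)).mpr hnil, ?_⟩
  rw [← Subgroup.subgroupOf_normalizer_eq hCL, ← Subgroup.inf_subgroupOf_right, hnorm]

theorem IsCarterSubgroup.subgroupOf {C L : Subgroup G} (hC : Cfsg.IsCarterSubgroup C)
    (hCL : C ≤ L) : Cfsg.IsCarterSubgroup (C.subgroupOf L) :=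
  isCarter_subgroupOf hCL hC.1 (by rw [hC.2]; exact inf_of_le_left hCL)

/-- A Carter subgroup of the subgroup type `K`, pushed to the ambient group. -/
theorem isCarter_map_subtype {K : Subgroup G} {C₀ : Subgroup K} (hC₀ : Cfsg.IsCarterSubgroup C₀) :
    Group.IsNilpotent (C₀.map K.subtype) ∧
      Subgroup.normalizer ((C₀.map K.subtype : Subgroup G) : Set G) ⊓ K = C₀.map K.subtype := by
  have hle : C₀.map K.subtype ≤ K := Subgroup.map_subtype_le C₀
  have hC₀eq : (C₀.map K.subtype).subgroupOf K = C₀ :=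
    Subgroup.comap_map_eq_self_of_injective K.subtype_injective C₀
  refine ⟨(Group.isNilpotent_congr (C₀.equivMapOfInjective K.subtype K.subtype_injective)).mp hC₀.1,
    ?_⟩
  have h1 := Subgroup.subgroupOf_normalizer_eq hle
  rw [hC₀eq, hC₀.2] at h1
  have h2 := congrArg (Subgroup.map K.subtype) h1
  rwa [Subgroup.subgroupOf_map_subtype] at h2

theorem IsCarterSubgroup.conj_smul {C : Subgroup G} (hC : Cfsg.IsCarterSubgroup C) (g : G) :
    Cfsg.IsCarterSubgroup (MulAut.conj g • C) := by
  refine ⟨(Group.isNilpotent_congr (Subgroup.equivSMul (MulAut.conj g) C)).mp hC.1, ?_⟩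
  rw [normalizer_conj_smul, hC.2]

/-- Conjugacy of Carter subgroups of `G` (as a property of the group). -/
def CarterConj (G : Type u) [Group G] : Prop :=
  ∀ C D : Subgroup G, Cfsg.IsCarterSubgroup C → Cfsg.IsCarterSubgroup D →
    ∃ g : G, MulAut.conj g • C = D

/-- Conjugacy of relative Carter subgroups inside a subgroup `L` whose type satisfies `CarterConj`. -/
theorem exists_conj_of_carterConj_subgroup {G : Type u} [Group G] {L C D : Subgroup G}
    (hL : CarterConj L) (hCL : C ≤ L) (hDL : D ≤ L)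
    (hC : Group.IsNilpotent C) (hCn : Subgroup.normalizer (C : Set G) ⊓ L = C)
    (hD : Group.IsNilpotent D) (hDn : Subgroup.normalizer (D : Set G) ⊓ L = D) :
    ∃ h ∈ L, MulAut.conj h • C = D := by
  obtain ⟨l, hl⟩ := hL _ _ (isCarter_subgroupOf hCL hC hCn) (isCarter_subgroupOf hDL hD hDn)
  obtain ⟨h, hhL, hh⟩ := conj_of_conj_subgroupOf hCL hDL ⟨l, hl⟩
  exact ⟨h, hhL, hh⟩


/-- Relative version: if `C` is nilpotent and self-normalizing in `K ≥ N`, then the image of `C`
in `G ⧸ N` is self-normalizing in the image of `K`. -/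
theorem carter_map_rel {G : Type u} [Group G] [Finite G] (N : Subgroup G) [N.Normal]
    (ih : ∀ L : Subgroup G, L ≠ ⊤ → CarterConj L) {C K : Subgroup G} (hCK : C ≤ K) (hNK : N ≤ K)
    (hnil : Group.IsNilpotent C) (hn : Subgroup.normalizer (C : Set G) ⊓ K = C) :
    Subgroup.normalizer ((C.map (QuotientGroup.mk' N) : Subgroup (G ⧸ N)) : Set (G ⧸ N)) ⊓
      K.map (QuotientGroup.mk' N) ≤ C.map (QuotientGroup.mk' N) := by
  set f := QuotientGroup.mk' N with hf
  have hfs : Function.Surjective f := QuotientGroup.mk'_surjective N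
  have hker : f.ker = N := QuotientGroup.ker_mk' N
  have hNmap : N.map f = ⊥ := (Subgroup.map_eq_bot_iff N).mpr hker.ge
  have hLmap : (C ⊔ N).map f = C.map f := by rw [Subgroup.map_sup, hNmap, sup_bot_eq]
  rintro x ⟨hx, hxK⟩
  obtain ⟨g, hgK, rfl⟩ := hxK
  have hg : g ∈ Subgroup.normalizer ((C ⊔ N : Subgroup G) : Set G) := by
    have h1 : g ∈ (Subgroup.normalizer ((C.map f : Subgroup (G ⧸ N)) : Set (G ⧸ N))).comap f := hx
    rw [Subgroup.comap_normalizer_eq_of_surjective _ hfs, Subgroup.comap_map_eq, hker] at h1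
    exact h1
  by_cases hL : C ⊔ N = ⊤
  · have h2 : C.map f = ⊤ := by
      rw [← hLmap, hL, ← MonoidHom.range_eq_map, MonoidHom.range_eq_top]
      exact hfs
    rw [h2]
    exact Subgroup.mem_top _
  · have hCL : C ≤ C ⊔ N := le_sup_left
    have hLK : C ⊔ N ≤ K := sup_le hCK hNK
    have hC'L : MulAut.conj g • C ≤ C ⊔ N := conj_smul_le_of_mem_normalizer hg hCL
    have hC'nil : Group.IsNilpotent (MulAut.conj g • C : Subgroup G) :=
      (Group.isNilpotent_congr (Subgroup.equivSMul (MulAut.conj g) C)).mp hnil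
    have hnL : Subgroup.normalizer (C : Set G) ⊓ (C ⊔ N) = C :=
      le_antisymm (fun y hy => hn ▸ ⟨hy.1, hLK hy.2⟩) (le_inf Subgroup.le_normalizer hCL)
    have hnL' : Subgroup.normalizer ((MulAut.conj g • C : Subgroup G) : Set G) ⊓ (C ⊔ N) =
        MulAut.conj g • C := by
      have h5 : MulAut.conj g • (C ⊔ N) = C ⊔ N := mem_normalizer_iff_conj_smul.mp hg
      rw [normalizer_conj_smul]
      conv_lhs => rw [← h5]
      rw [← Subgroup.smul_inf, hnL]
    obtain ⟨h, hhL, hh⟩ := exists_conj_of_carterConj_subgroup (ih _ hL) hCL hC'L hnil hnL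
      hC'nil hnL'
    have h3 : h⁻¹ * g ∈ C := by
      have h4 : h⁻¹ * g ∈ Subgroup.normalizer (C : Set G) := by
        rw [mem_normalizer_iff_conj_smul, ← conj_smul_conj_smul, ← hh, conj_smul_conj_smul,
          inv_mul_cancel, map_one, one_smul]
      have h6 : h⁻¹ * g ∈ K := K.mul_mem (K.inv_mem (hLK hhL)) hgK
      rw [← hn]
      exact ⟨h4, h6⟩
    have h4 : g ∈ C ⊔ N := by
      have : g = h * (h⁻¹ * g) := by group
      rw [this]
      exact (C ⊔ N).mul_mem hhL (hCL h3)
    rw [← hLmap]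
    exact Subgroup.mem_map_of_mem f h4

/-- Images of Carter subgroups in quotients are Carter subgroups, given conjugacy of Carter
subgroups in all proper subgroups. -/
theorem IsCarterSubgroup.map_mk' {G : Type u} [Group G] [Finite G] (N : Subgroup G) [N.Normal]
    (ih : ∀ L : Subgroup G, L ≠ ⊤ → CarterConj L) {C : Subgroup G}
    (hC : Cfsg.IsCarterSubgroup C) :
    Cfsg.IsCarterSubgroup (C.map (QuotientGroup.mk' N)) := by
  refine ⟨?_, le_antisymm ?_ Subgroup.le_normalizer⟩
  · have := hC.1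
    exact Group.nilpotent_of_surjective ((QuotientGroup.mk' N).subgroupMap C)
      ((QuotientGroup.mk' N).subgroupMap_surjective C)
  · have h := carter_map_rel N ih (le_top : C ≤ ⊤) le_top hC.1
      (by rw [hC.2]; exact inf_of_le_left le_top)
    intro x hx
    refine h ⟨hx, ?_⟩
    obtain ⟨g, rfl⟩ := QuotientGroup.mk'_surjective N x
    exact Subgroup.mem_map_of_mem _ (Subgroup.mem_top g)

/-- In a nilpotent group, the whole group is the unique Carter subgroup. -/
theorem isCarter_top_of_isNilpotent {G : Type u} [Group G] (hG : Group.IsNilpotent G) :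
    Cfsg.IsCarterSubgroup (⊤ : Subgroup G) :=
  ⟨(Group.isNilpotent_congr Subgroup.topEquiv).mpr hG, Subgroup.normalizer_eq_top _⟩

theorem IsCarterSubgroup.eq_top_of_isNilpotent {G : Type u} [Group G] (hG : Group.IsNilpotent G)
    {D : Subgroup G} (hD : Cfsg.IsCarterSubgroup D) : D = ⊤ :=
  eq_of_normalizer_inf_le ((Group.isNilpotent_congr Subgroup.topEquiv).mpr hG) le_top
    (by rw [hD.2]; exact inf_le_left)

theorem isNilpotent_of_isCarter_top {G : Type u} [Group G]
    (h : Cfsg.IsCarterSubgroup (⊤ : Subgroup G)) : Group.IsNilpotent G :=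
  (Group.isNilpotent_congr Subgroup.topEquiv).mp h.1

/-- Existence step, case where the preimage `K` of a Carter subgroup of `G ⧸ N` is proper. -/
theorem exists_carter_of_comap_ne_top {G : Type u} [Group G] [Finite G] (N : Subgroup G)
    [N.Normal] (ih : ∀ L : Subgroup G, L ≠ ⊤ → CarterConj L)
    {Kbar : Subgroup (G ⧸ N)} (hK : Cfsg.IsCarterSubgroup Kbar)
    (hC₀ : ∃ C₀ : Subgroup (Kbar.comap (QuotientGroup.mk' N)), Cfsg.IsCarterSubgroup C₀) :
    ∃ C : Subgroup G, Cfsg.IsCarterSubgroup C := by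
  set f := QuotientGroup.mk' N with hf
  have hfs : Function.Surjective f := QuotientGroup.mk'_surjective N
  have hker : f.ker = N := QuotientGroup.ker_mk' N
  set K : Subgroup G := Kbar.comap f with hKdef
  have hNK : N ≤ K := by
    rw [← hker]
    exact Subgroup.ker_le_comap f Kbar
  have hKmap : K.map f = Kbar := Subgroup.map_comap_eq_self_of_surjective hfs Kbar
  obtain ⟨C₀, hC₀⟩ := hC₀
  obtain ⟨hnil, hn⟩ := isCarter_map_subtype hC₀
  set C : Subgroup G := C₀.map K.subtype with hCdef
  have hCK : C ≤ K := Subgroup.map_subtype_le C₀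
  have h1 := carter_map_rel N ih hCK hNK hnil hn
  rw [hKmap] at h1
  have h2 : C.map f = Kbar :=
    eq_of_normalizer_inf_le hK.1 (by rw [← hKmap]; exact Subgroup.map_mono hCK) h1
  have h3 : C ⊔ N = K := by
    rw [hKdef, ← h2, Subgroup.comap_map_eq, hker]
  have h4 : Subgroup.normalizer (K : Set G) = K := by
    rw [hKdef, ← Subgroup.comap_normalizer_eq_of_surjective _ hfs, hK.2]
  refine ⟨C, hnil, le_antisymm ?_ Subgroup.le_normalizer⟩
  intro g hg
  have hgK : g ∈ K := by
    rw [← h4, ← h3]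
    exact le_normalizer_sup (le_refl _) (by rw [Subgroup.normalizer_eq_top N]; exact le_top) hg
  rw [← hn]
  exact ⟨hg, hgK⟩

end Cfsg.Agent.Lib.Helper32
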