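import Mathlib
import Cfsg.Agent.Lib.Helper32.Carter
import Cfsg.Agent.Lib.Helper32.PiNumber

set_option autoImplicit false

namespace Cfsg.Agent.Lib.Helper32

open scoped Pointwise
open Cfsg.Agent.Lib.Helper01 Cfsg.Agent.Lib.Helper13

universe u

/-- If `X ⊔ N = ⊤` with `N` abelian normal, then `X ⊓ N` is normal. -/
theorem inf_normal_of_sup_eq_top {G : Type*} [Group G] {X N : Subgroup G} [hN : N.Normal]
    (hab : ∀ a ∈ N, ∀ b ∈ N, a * b = b * a) (hXN : X ⊔ N = ⊤) : (X ⊓ N).Normal := by
  rw [← Subgroup.normalizer_eq_top_iff, eq_top_iff, ← hXN]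
  refine sup_le ?_ ?_
  · intro g hg
    rw [Subgroup.mem_normalizer_iff]
    intro x
    constructor
    · rintro ⟨hxX, hxN⟩
      exact ⟨X.mul_mem (X.mul_mem hg hxX) (X.inv_mem hg), hN.conj_mem x hxN g⟩
    · rintro ⟨hxX, hxN⟩
      refine ⟨?_, ?_⟩
      · have := X.mul_mem (X.mul_mem (X.inv_mem hg) hxX) hg
        simpa [mul_assoc] using this
      · have := hN.conj_mem _ hxN g⁻¹
        simpa [mul_assoc] using this
  · intro g hg
    rw [Subgroup.mem_normalizer_iff]
    intro x
    constructor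
    · rintro ⟨hxX, hxN⟩
      have h1 : g * x * g⁻¹ = x := by rw [hab g hg x hxN, mul_inv_cancel_right]
      rw [h1]
      exact ⟨hxX, hxN⟩
    · rintro ⟨hxX, hxN⟩
      have hxN' : x ∈ N := by
        have := hN.conj_mem _ hxN g⁻¹
        simpa [mul_assoc] using this
      have h1 : g * x * g⁻¹ = x := by rw [hab g hg x hxN', mul_inv_cancel_right]
      rw [h1] at hxX
      exact ⟨hxX, hxN'⟩

/-- Existence step, case `G ⧸ N` nilpotent, `N` a minimal normal `p`-subgroup. -/
theorem exists_carter_of_quotient_nilpotent {G : Type u} [Group G] [Finite G] [Group.IsSolvable G]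
    (N : Subgroup G) [hNn : N.Normal]
    (hmin : ∀ K : Subgroup G, K.Normal → K ≤ N → K = ⊥ ∨ K = N)
    (hab : ∀ a ∈ N, ∀ b ∈ N, a * b = b * a) (p : ℕ) (hp : p.Prime) (hNp : IsPGroup p N)
    (hGN : Group.IsNilpotent (G ⧸ N)) (hG : ¬ Group.IsNilpotent G) :
    ∃ C : Subgroup G, Cfsg.IsCarterSubgroup C := by
  haveI : Fact p.Prime := ⟨hp⟩
  set f := QuotientGroup.mk' N with hf
  have hfs : Function.Surjective f := QuotientGroup.mk'_surjective N
  have hker : f.ker = N := QuotientGroup.ker_mk' N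
  obtain ⟨b, m, hpm, hcard⟩ := Nat.exists_eq_pow_mul_and_not_dvd
    (Nat.card_pos (α := G)).ne' p hp.ne_one
  have hmpos : 0 < m := by
    rcases Nat.eq_zero_or_pos m with h | h
    · exfalso; exact hpm (h ▸ dvd_zero p)
    · exact h
  have hcopmp : m.Coprime p := ((Nat.Prime.coprime_iff_not_dvd hp).mpr hpm).symm
  have hcop : m.Coprime (p ^ b) := Nat.Coprime.pow_right b hcopmp
  have hcard' : Nat.card G = m * p ^ b := by rw [hcard, mul_comm]
  obtain ⟨⟨Q, hQ⟩, -, -⟩ := hallProp (G := G) m (p ^ b) hcard' hcop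
  have hQidx : Q.index = p ^ b := by
    have := Q.card_mul_index
    rw [hQ, hcard'] at this
    exact Nat.eq_of_mul_eq_mul_left hmpos this
  set C : Subgroup G := Subgroup.normalizer (Q : Set G) with hCdef
  have hQC : Q ≤ C := Subgroup.le_normalizer
  -- the order of `N`
  obtain ⟨k, hk⟩ := (IsPGroup.iff_card (p := p) (G := N)).mp hNp
  have hQN : Q ⊓ N = ⊥ := Subgroup.inf_eq_bot_of_coprime (by
    rw [hQ, hk]; exact Nat.Coprime.pow_right k hcopmp)
  -- (i) `Q ⊔ N` is normal
  have hRn : Subgroup.normalizer ((Q ⊔ N : Subgroup G) : Set G) = ⊤ := by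
    have h1 : (⊤ : Subgroup (G ⧸ N)) ≤ Subgroup.normalizer ((Q.map f : Subgroup (G ⧸ N)) : Set _) := by
      apply le_normalizer_of_hall_of_nilpotent
        ((Group.isNilpotent_congr Subgroup.topEquiv).mpr hGN) le_top
      rw [Subgroup.relIndex_top_right]
      have h2 : Nat.card (Q.map f) ∣ m := hQ ▸ Subgroup.card_map_dvd Q f
      have h3 : (Q.map f).index ∣ p ^ b := hQidx ▸ Subgroup.index_map_dvd Q hfs
      exact Nat.Coprime.coprime_dvd_left h2 (Nat.Coprime.coprime_dvd_right h3 hcop)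
    have h2 := Subgroup.comap_normalizer_eq_of_surjective (Q.map f) hfs
    rw [Subgroup.comap_map_eq, hker, top_le_iff.mp h1, Subgroup.comap_top] at h2
    exact h2.symm
  -- (ii) Frattini
  have hCN : C ⊔ N = ⊤ := by
    rw [eq_top_iff]
    intro g _
    have hg : g ∈ Subgroup.normalizer ((Q ⊔ N : Subgroup G) : Set G) := by
      rw [hRn]; exact Subgroup.mem_top g
    have hQR : Q ≤ Q ⊔ N := le_sup_left
    have hgQ : MulAut.conj g • Q ≤ Q ⊔ N := conj_smul_le_of_mem_normalizer hg hQR
    obtain ⟨j, hj⟩ : m ∣ Nat.card (Q ⊔ N : Subgroup G) := hQ ▸ Subgroup.card_dvd_of_le hQR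
    have hj' : j ∣ p ^ b := by
      have := Subgroup.card_subgroup_dvd_card (Q ⊔ N : Subgroup G)
      rw [hj, hcard'] at this
      exact Nat.dvd_of_mul_dvd_mul_left hmpos this
    obtain ⟨h, hhR, hh⟩ := hall_conj_in (Q ⊔ N) inferInstance m j hj
      (Nat.Coprime.coprime_dvd_right hj' hcop) hQR hgQ hQ (by rw [card_conj_smul, hQ])
    have h4 : h⁻¹ * g ∈ C := by
      rw [hCdef, mem_normalizer_iff_conj_smul, ← conj_smul_conj_smul, ← hh, conj_smul_conj_smul,
        inv_mul_cancel, map_one, one_smul]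
    have : g = h * (h⁻¹ * g) := by group
    rw [this]
    refine (C ⊔ N).mul_mem ?_ (le_sup_left (a := C) h4)
    exact (sup_le (hQC.trans le_sup_left) le_sup_right : Q ⊔ N ≤ C ⊔ N) hhR
  -- (iii)
  have hCNn : (C ⊓ N).Normal := inf_normal_of_sup_eq_top hab hCN
  rcases hmin _ hCNn inf_le_right with hbot | hN'
  · -- `C ⊓ N = ⊥`: `C` embeds in `G ⧸ N`
    have hCnil : Group.IsNilpotent C := by
      refine Subgroup.isNilpotent_of_ker_le_center (f.comp C.subtype) ?_
      have : (f.comp C.subtype).ker = ⊥ := by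
        rw [eq_bot_iff]
        intro x hx
        have hx1 : (x : G) ∈ N := by
          rw [← hker]; exact hx
        have hx2 : (x : G) ∈ C ⊓ N := ⟨x.2, hx1⟩
        rw [hbot, Subgroup.mem_bot] at hx2
        rw [Subgroup.mem_bot]
        exact Subtype.ext hx2
      rw [this]
      exact bot_le
    refine ⟨C, hCnil, le_antisymm ?_ Subgroup.le_normalizer⟩
    intro g hg
    have h1 : MulAut.conj g • C = C := mem_normalizer_iff_conj_smul.mp hg
    have h2 : MulAut.conj g • Q ≤ C := by
      rw [← h1]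
      exact Subgroup.pointwise_smul_le_pointwise_smul_iff.mpr hQC
    have h3 : MulAut.conj g • Q ≤ Q := by
      apply le_of_coprime_relIndex h2 (le_refl _)
      rw [card_conj_smul, hQ]
      have h5 : Q.relIndex C ∣ p ^ b := hQidx ▸ Dvd.intro _ (Subgroup.relIndex_mul_index hQC)
      exact Nat.Coprime.coprime_dvd_right h5 hcop
    have h4 : MulAut.conj g • Q = Q := by
      apply Subgroup.eq_of_le_of_card_ge h3
      rw [card_conj_smul]
    exact mem_normalizer_iff_conj_smul.mpr h4
  · -- `N ≤ C`: then `Q` is normal and `G` is nilpotent, a contradiction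
    exfalso
    apply hG
    have hNC : N ≤ C := by rw [← hN']; exact inf_le_left
    have hCtop : C = ⊤ := by rw [← hCN]; exact (sup_eq_left.mpr hNC).symm
    haveI hQn : Q.Normal := Subgroup.normalizer_eq_top_iff.mp hCtop
    haveI : Group.IsNilpotent (G ⧸ Q) := by
      apply IsPGroup.isNilpotent (p := p)
      apply IsPGroup.of_card (n := b)
      rw [← Subgroup.index_eq_card, hQidx]
    haveI := hGN
    refine Subgroup.isNilpotent_of_ker_le_center
      ((QuotientGroup.mk' N).prod (QuotientGroup.mk' Q)) ?_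
    rw [MonoidHom.ker_prod, QuotientGroup.ker_mk', QuotientGroup.ker_mk', inf_comm, hQN]
    exact bot_le

end Cfsg.Agent.Lib.Helper32
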