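import Mathlib
import Cfsg.Agent.Lib.Helper32.CarterExist

set_option autoImplicit false

namespace Cfsg.Agent.Lib.Helper32

open scoped Pointwise
open Cfsg.Agent.Lib.Helper01 Cfsg.Agent.Lib.Helper13

universe u

/-- Conjugacy of two Carter subgroups which both supplement the minimal normal subgroup `N`. -/
theorem carter_conj_of_sup_eq_top {G : Type u} [Group G] [Finite G] [Group.IsSolvable G]
    (N : Subgroup G) [hNn : N.Normal]
    (hmin : ∀ K : Subgroup G, K.Normal → K ≤ N → K = ⊥ ∨ K = N)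
    (hab : ∀ a ∈ N, ∀ b ∈ N, a * b = b * a) (p : ℕ) (hp : p.Prime) (hNp : IsPGroup p N)
    (hG : ¬ Group.IsNilpotent G)
    (ih : ∀ L : Subgroup G, L ≠ ⊤ → CarterConj L)
    {C D : Subgroup G} (hC : Cfsg.IsCarterSubgroup C) (hD : Cfsg.IsCarterSubgroup D)
    (hCN : C ⊔ N = ⊤) (hDN : D ⊔ N = ⊤) : ∃ g : G, MulAut.conj g • C = D := by
  haveI : Fact p.Prime := ⟨hp⟩
  have hne_top : ∀ X : Subgroup G, Cfsg.IsCarterSubgroup X → X ≠ ⊤ := by
    intro X hX h
    exact hG (isNilpotent_of_isCarter_top (h ▸ hX))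
  have key : ∀ X : Subgroup G, Cfsg.IsCarterSubgroup X → X ⊔ N = ⊤ → X ⊓ N = ⊥ := by
    intro X hX hXN
    have hn : (X ⊓ N).Normal := inf_normal_of_sup_eq_top hab hXN
    rcases hmin _ hn inf_le_right with h | h
    · exact h
    · exfalso
      have hNX : N ≤ X := by rw [← h]; exact inf_le_left
      exact hne_top X hX (by rw [← hXN]; exact (sup_eq_left.mpr hNX).symm)
  have hcardX : ∀ X : Subgroup G, Cfsg.IsCarterSubgroup X → X ⊔ N = ⊤ →
      Nat.card N * Nat.card X = Nat.card G := by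
    intro X hX hXN
    have h1 := card_sup_mul_card_inf N X
    rw [hXN, inf_comm, key X hX hXN, Subgroup.card_top, Subgroup.card_bot, mul_one] at h1
    exact h1.symm
  obtain ⟨k, hk⟩ := (IsPGroup.iff_card (p := p) (G := N)).mp hNp
  obtain ⟨a, m, hpm, hCcard⟩ := Nat.exists_eq_pow_mul_and_not_dvd
    (Nat.card_pos (α := C)).ne' p hp.ne_one
  have hmpos : 0 < m := by
    rcases Nat.eq_zero_or_pos m with h | h
    · exfalso; exact hpm (h ▸ dvd_zero p)
    · exact h
  have hcopmp : m.Coprime p := ((Nat.Prime.coprime_iff_not_dvd hp).mpr hpm).symm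
  have hCcard' : Nat.card C = m * p ^ a := by rw [hCcard, mul_comm]
  have hDcard' : Nat.card D = m * p ^ a := by
    rw [← hCcard']
    have h1 := hcardX C hC hCN
    have h2 := hcardX D hD hDN
    exact Nat.eq_of_mul_eq_mul_left (Nat.card_pos (α := N)) (h2.trans h1.symm)
  have hGcard : Nat.card G = m * p ^ (a + k) := by
    rw [← hcardX C hC hCN, hk, hCcard', pow_add]; ring
  have hcopa : m.Coprime (p ^ a) := Nat.Coprime.pow_right a hcopmp
  have hcopak : m.Coprime (p ^ (a + k)) := Nat.Coprime.pow_right _ hcopmp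
  haveI := hC.1
  haveI := hD.1
  obtain ⟨QC, hQCle, hQCcard⟩ := hall_exists_in C inferInstance m (p ^ a) hCcard' hcopa
  obtain ⟨Q, hQD, hQcard⟩ := hall_exists_in D inferInstance m (p ^ a) hDcard' hcopa
  obtain ⟨-, hconj, -⟩ := hallProp (G := G) m (p ^ (a + k)) hGcard hcopak
  obtain ⟨y, hy⟩ := hconj QC Q hQCcard hQcard
  set C₂ : Subgroup G := MulAut.conj y • C with hC₂def
  have hC₂ : Cfsg.IsCarterSubgroup C₂ := IsCarterSubgroup.conj_smul hC y
  have hQC₂ : Q ≤ C₂ := by
    rw [← hy]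
    exact Subgroup.pointwise_smul_le_pointwise_smul_iff.mpr hQCle
  have hC₂card : Nat.card C₂ = m * p ^ a := by rw [hC₂def, card_conj_smul, hCcard']
  have hrel : ∀ X : Subgroup G, Q ≤ X → Nat.card X = m * p ^ a → Q.relIndex X = p ^ a := by
    intro X hQX hXc
    have := card_mul_relIndex_of_le hQX
    rw [hQcard, hXc] at this
    exact Nat.eq_of_mul_eq_mul_left hmpos this
  have hC₂M : C₂ ≤ Subgroup.normalizer (Q : Set G) :=
    le_normalizer_of_hall_of_nilpotent hC₂.1 hQC₂ (by rw [hQcard, hrel C₂ hQC₂ hC₂card]; exact hcopa)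
  have hDM : D ≤ Subgroup.normalizer (Q : Set G) :=
    le_normalizer_of_hall_of_nilpotent hD.1 hQD (by rw [hQcard, hrel D hQD hDcard']; exact hcopa)
  by_cases hM : Subgroup.normalizer (Q : Set G) = ⊤
  · exfalso
    haveI hQn : Q.Normal := Subgroup.normalizer_eq_top_iff.mp hM
    have hQidx : Q.index = p ^ (a + k) := by
      have := Q.card_mul_index
      rw [hQcard, hGcard] at this
      exact Nat.eq_of_mul_eq_mul_left hmpos this
    have hnilq : Group.IsNilpotent (G ⧸ Q) := by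
      apply IsPGroup.isNilpotent (p := p)
      apply IsPGroup.of_card (n := a + k)
      rw [← Subgroup.index_eq_card, hQidx]
    have h1 : D.map (QuotientGroup.mk' Q) = ⊤ :=
      IsCarterSubgroup.eq_top_of_isNilpotent hnilq (IsCarterSubgroup.map_mk' Q ih hD)
    have h2 : D ⊔ Q = ⊤ := by
      have := Subgroup.comap_map_eq (QuotientGroup.mk' Q) D
      rw [h1, Subgroup.comap_top, QuotientGroup.ker_mk'] at this
      exact this.symm
    exact hne_top D hD (by rw [← h2]; exact (sup_eq_left.mpr hQD).symm)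
  · obtain ⟨h, -, hh⟩ := exists_conj_of_carterConj_subgroup (ih _ hM) hC₂M hDM hC₂.1
      (by rw [hC₂.2]; exact inf_of_le_left hC₂M) hD.1 (by rw [hD.2]; exact inf_of_le_left hDM)
    exact ⟨h * y, by rw [← conj_smul_conj_smul]; exact hh⟩

/-- Inductive step for conjugacy of Carter subgroups. -/
theorem carterConj_step {G : Type u} [Group G] [Finite G] [Group.IsSolvable G]
    (N : Subgroup G) [hNn : N.Normal]
    (hmin : ∀ K : Subgroup G, K.Normal → K ≤ N → K = ⊥ ∨ K = N)
    (hab : ∀ a ∈ N, ∀ b ∈ N, a * b = b * a) (p : ℕ) (hp : p.Prime) (hNp : IsPGroup p N)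
    (hG : ¬ Group.IsNilpotent G)
    (ih : ∀ L : Subgroup G, L ≠ ⊤ → CarterConj L) (ihq : CarterConj (G ⧸ N)) : CarterConj G := by
  intro C D hC hD
  set f := QuotientGroup.mk' N with hf
  have hfs : Function.Surjective f := QuotientGroup.mk'_surjective N
  have hker : f.ker = N := QuotientGroup.ker_mk' N
  obtain ⟨xbar, hx⟩ := ihq _ _ (IsCarterSubgroup.map_mk' N ih hC) (IsCarterSubgroup.map_mk' N ih hD)
  obtain ⟨x, rfl⟩ := hfs xbar
  set C₁ : Subgroup G := MulAut.conj x • C with hC₁def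
  have hC₁ : Cfsg.IsCarterSubgroup C₁ := IsCarterSubgroup.conj_smul hC x
  have hmap : C₁.map f = D.map f := by rw [hC₁def, map_conj_smul]; exact hx
  have hK : C₁ ⊔ N = D ⊔ N := by
    have h1 := Subgroup.comap_map_eq f C₁
    have h2 := Subgroup.comap_map_eq f D
    rw [hker] at h1 h2
    rw [← h1, ← h2, hmap]
  have hfin : ∃ g : G, MulAut.conj g • C₁ = D := by
    by_cases hKtop : D ⊔ N = ⊤
    · exact carter_conj_of_sup_eq_top N hmin hab p hp hNp hG ih hC₁ hD (hK.trans hKtop) hKtop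
    · have hC₁K : C₁ ≤ D ⊔ N := hK ▸ le_sup_left
      have hDK : D ≤ D ⊔ N := le_sup_left
      obtain ⟨h, -, hh⟩ := exists_conj_of_carterConj_subgroup (ih _ hKtop) hC₁K hDK hC₁.1
        (by rw [hC₁.2]; exact inf_of_le_left hC₁K) hD.1 (by rw [hD.2]; exact inf_of_le_left hDK)
      exact ⟨h, hh⟩
  obtain ⟨g, hg⟩ := hfin
  exact ⟨g * x, by rw [← conj_smul_conj_smul]; exact hg⟩

end Cfsg.Agent.Lib.Helper32
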