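import Mathlib
import Cfsg.Agent.Lib.Helper32.CarterConjugacy

set_option autoImplicit false

namespace Cfsg.Agent.Lib.Helper32

open scoped Pointwise
open Cfsg.Agent.Lib.Helper01 Cfsg.Agent.Lib.Helper13

universe u

/-- Carter's theorem, by strong induction on the order. -/
theorem carter_aux (n : ℕ) : ∀ (G : Type u) [Group G] [Finite G] [Group.IsSolvable G],
    Nat.card G = n → (∃ C : Subgroup G, Cfsg.IsCarterSubgroup C) ∧ CarterConj G := by
  induction n using Nat.strong_induction_on with
  | _ n IH =>
    intro G _ _ _ hn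
    by_cases hG : Group.IsNilpotent G
    · refine ⟨⟨⊤, isCarter_top_of_isNilpotent hG⟩, fun C D hC hD => ⟨1, ?_⟩⟩
      rw [IsCarterSubgroup.eq_top_of_isNilpotent hG hC, IsCarterSubgroup.eq_top_of_isNilpotent hG hD,
        map_one, one_smul]
    · haveI : Nontrivial G := by
        by_contra h
        rw [not_nontrivial_iff_subsingleton] at h
        exact hG inferInstance
      obtain ⟨N, hN⟩ := exists_isMinNormal (G := G)
      haveI hNn : N.Normal := hN.1
      obtain ⟨p, hp, -, -, hNp⟩ := hN.exists_prime
      have hab : ∀ a ∈ N, ∀ b ∈ N, a * b = b * a := fun a ha b hb => hN.mul_comm_of_mem ha hb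
      have ihsub : ∀ L : Subgroup G, L ≠ ⊤ →
          (∃ C : Subgroup L, Cfsg.IsCarterSubgroup C) ∧ CarterConj L := by
        intro L hL
        refine IH (Nat.card L) ?_ L rfl
        rw [← hn]
        refine lt_of_le_of_ne (Subgroup.card_le_card_group L) ?_
        intro h
        exact hL (Subgroup.card_eq_iff_eq_top L |>.mp h)
      have ihq : (∃ C : Subgroup (G ⧸ N), Cfsg.IsCarterSubgroup C) ∧ CarterConj (G ⧸ N) := by
        refine IH (Nat.card (G ⧸ N)) ?_ (G ⧸ N) rfl
        rw [← hn, Subgroup.card_eq_card_quotient_mul_card_subgroup N]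
        have h1 : 1 < Nat.card N := N.one_lt_card_iff_ne_bot.mpr hN.2.1
        have h2 : 0 < Nat.card (G ⧸ N) := Nat.card_pos
        nlinarith
      refine ⟨?_, carterConj_step N hN.2.2 hab p hp hNp hG (fun L hL => (ihsub L hL).2) ihq.2⟩
      obtain ⟨Kbar, hKbar⟩ := ihq.1
      by_cases hK : Kbar.comap (QuotientGroup.mk' N) = ⊤
      · have hKtop : Kbar = ⊤ := by
          have := Subgroup.map_comap_eq_self_of_surjective (QuotientGroup.mk'_surjective N) Kbar
          rw [hK, ← MonoidHom.range_eq_map,
            MonoidHom.range_eq_top.mpr (QuotientGroup.mk'_surjective N)] at this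
          exact this.symm
        exact exists_carter_of_quotient_nilpotent N hN.2.2 hab p hp hNp
          (isNilpotent_of_isCarter_top (hKtop ▸ hKbar)) hG
      · exact exists_carter_of_comap_ne_top N (fun L hL => (ihsub L hL).2) hKbar (ihsub _ hK).1

/-- Carter's theorem. -/
theorem carter_theorem {G : Type u} [Group G] [Finite G] [Group.IsSolvable G] :
    (∃ C : Subgroup G, Cfsg.IsCarterSubgroup C) ∧ CarterConj G :=
  carter_aux (Nat.card G) G rfl

end Cfsg.Agent.Lib.Helper32
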