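import Mathlib
import Cfsg.Agent.Lib.Helper75.ClassProd

set_option autoImplicit false

/-!
# Class sizes: a Bertram–Herzog–Mann style configuration

`p0`, `p4` are primes dividing class sizes, `A ∋ p0`, `E ∋ p4` are disjoint sets of primes such
that no class size is divisible by a prime of `A` and a prime of `E`, every class size divisible by
`p0` is an `A`-number and every class size divisible by `p4` is an `E`-number.  `dstar` is a class
of size divisible by `p4` which is at least as large as every class of size divisible by `p0`.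
-/

namespace Cfsg.Agent.Lib.Helper32.ClassGraph

open Cfsg.Agent.Lib.Helper75.ClassProd

variable {G : Type*} [Group G]

/-- the configuration -/
structure Cfg (G : Type*) [Group G] (A E : Set ℕ) (p0 p4 : ℕ) (dstar x0 : G) : Prop where
  hp0 : p0.Prime
  hp4 : p4.Prime
  hAE : ∀ t ∈ A, t ∉ E
  hno : ∀ (w : G) (t t' : ℕ), t ∈ A → t' ∈ E → t ∣ idx w → t' ∣ idx w → False
  hA : ∀ x : G, p0 ∣ idx x → ∀ t : ℕ, t.Prime → t ∣ idx x → t ∈ A
  hE : ∀ y : G, p4 ∣ idx y → ∀ t : ℕ, t.Prime → t ∣ idx y → t ∈ E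
  hd : p4 ∣ idx dstar
  hmax : ∀ x : G, p0 ∣ idx x → idx x ≤ idx dstar
  hx0 : p0 ∣ idx x0

variable {A E : Set ℕ} {p0 p4 : ℕ} {dstar x0 : G}

theorem Cfg.p0_mem (D : Cfg G A E p0 p4 dstar x0) : p0 ∈ A :=
  D.hA x0 D.hx0 p0 D.hp0 D.hx0

theorem Cfg.coprime (D : Cfg G A E p0 p4 dstar x0) {x : G} (hx : p0 ∣ idx x) :
    (idx dstar).Coprime (idx x) := by
  refine Nat.coprime_of_dvd ?_
  intro k hk h1 h2
  exact D.hAE k (D.hA x hx k hk h2) (D.hE dstar D.hd k hk h1)

theorem Cfg.lt (D : Cfg G A E p0 p4 dstar x0) {x : G} (hx : p0 ∣ idx x) :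
    idx x < idx dstar := by
  refine lt_of_le_of_ne (D.hmax x hx) ?_
  intro h
  have hc := D.coprime hx
  rw [← h] at hc
  have h1 : idx x = 1 := by simpa using hc
  rw [h1] at hx
  exact D.hp0.one_lt.ne' (Nat.dvd_one.1 hx)

theorem Cfg.type_or [Finite G] (D : Cfg G A E p0 p4 dstar x0) {x : G} (hx : p0 ∣ idx x) :
    (idx (dstar * x)).Coprime (idx x) ∨ (idx (dstar * x)).Coprime (idx dstar) := by
  by_cases h : ∃ k : ℕ, k.Prime ∧ k ∣ idx (dstar * x) ∧ k ∣ idx x
  · obtain ⟨k, hk, hk1, hk2⟩ := h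
    right
    refine Nat.coprime_of_dvd ?_
    intro k' hk' h1 h2
    exact D.hno (dstar * x) k k' (D.hA x hx k hk hk2) (D.hE dstar D.hd k' hk' h2) hk1 h1
  · left
    refine Nat.coprime_of_dvd ?_
    intro k hk h1 h2
    exact h ⟨k, hk, h1, h2⟩

/-- right multiplication by `c * c'⁻¹` (`c, c'` conjugates of `x`, `p0 ∣ idx x`) preserves the
class of `dstar`. -/
theorem Cfg.stable [Finite G] (D : Cfg G A E p0 p4 dstar x0) {x : G} (hx : p0 ∣ idx x)
    {y c c' : G} (hy : IsConj dstar y) (hc : IsConj x c) (hc' : IsConj x c') :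
    IsConj dstar (y * c * c'⁻¹) :=
  isConj_mul_mul_inv (u := dstar) (v := x) (w := dstar * x)
    (fun _ _ ha hb => isConj_mul_of_coprime (D.coprime hx) ha hb)
    (idx_mul_eq_of_lt (D.coprime hx) (D.lt hx) (D.type_or hx)) hy hc hc'

/-- generators of the subgroup `N` -/
def gens (G : Type*) [Group G] (p0 : ℕ) : Set G :=
  {k | ∃ x c c' : G, p0 ∣ idx x ∧ IsConj x c ∧ IsConj x c' ∧ k = c * c'⁻¹}

/-- the normal subgroup `N` -/
def NN (G : Type*) [Group G] (p0 : ℕ) : Subgroup G := Subgroup.normalClosure (gens G p0)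

instance NN_normal (p0 : ℕ) : (NN G p0).Normal := Subgroup.normalClosure_normal

theorem mem_NN_of_conj {x c c' : G} (hx : p0 ∣ idx x) (hc : IsConj x c) (hc' : IsConj x c') :
    c * c'⁻¹ ∈ NN G p0 :=
  Subgroup.subset_normalClosure ⟨x, c, c', hx, hc, hc', rfl⟩

theorem comm_mem_NN {x : G} (hx : p0 ∣ idx x) (g : G) : x * (g * x * g⁻¹)⁻¹ ∈ NN G p0 :=
  mem_NN_of_conj hx (IsConj.refl x) (isConj_iff.2 ⟨g, rfl⟩)

theorem stabR_normal (d : G) : (stabR {y : G | IsConj d y}).Normal := by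
  have key : ∀ n : G, (∀ y : G, IsConj d y → IsConj d (y * n)) →
      ∀ g y : G, IsConj d y → IsConj d (y * (g * n * g⁻¹)) := by
    intro n hn g y hy
    have h1 : IsConj d (g⁻¹ * y * g) := by
      refine hy.trans (isConj_iff.2 ⟨g⁻¹, by group⟩)
    have h2 := hn _ h1
    refine h2.trans (isConj_iff.2 ⟨g, by group⟩)
  constructor
  intro n hn g
  obtain ⟨h1, h2⟩ := hn
  refine ⟨fun y hy => key n h1 g y hy, fun y hy => ?_⟩
  have : (g * n * g⁻¹)⁻¹ = g * n⁻¹ * g⁻¹ := by group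
  rw [this]
  exact key n⁻¹ h2 g y hy

theorem Cfg.NN_le_stabR [Finite G] (D : Cfg G A E p0 p4 dstar x0) :
    NN G p0 ≤ stabR {y : G | IsConj dstar y} := by
  haveI := stabR_normal dstar
  refine Subgroup.normalClosure_le_normal ?_
  rintro k ⟨x, c, c', hx, hc, hc', rfl⟩
  refine ⟨fun y hy => ?_, fun y hy => ?_⟩
  · have := D.stable hx hy hc hc'
    rw [mul_assoc] at this
    exact this
  · have := D.stable hx hy hc' hc
    rw [mul_assoc] at this
    have e : (c * c'⁻¹)⁻¹ = c' * c⁻¹ := by group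
    rw [e]
    exact this

theorem Cfg.card_NN_dvd [Finite G] (D : Cfg G A E p0 p4 dstar x0) :
    Nat.card (NN G p0) ∣ idx dstar := by
  have h1 := Subgroup.card_dvd_of_le D.NN_le_stabR
  have h2 := card_stabR_dvd {y : G | IsConj dstar y}
  have h3 : Nat.card ({y : G | IsConj dstar y} : Set G) = idx dstar := (idx_eq_card dstar).symm
  rw [h3] at h2
  exact h1.trans h2

theorem Cfg.mem_E_of_dvd_card_NN [Finite G] (D : Cfg G A E p0 p4 dstar x0) {t : ℕ} (ht : t.Prime)
    (h : t ∣ Nat.card (NN G p0)) : t ∈ E :=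
  D.hE dstar D.hd t ht (h.trans D.card_NN_dvd)

theorem Cfg.card_NN_coprime [Finite G] (D : Cfg G A E p0 p4 dstar x0) {x : G} (hx : p0 ∣ idx x) :
    (Nat.card (NN G p0)).Coprime (idx x) :=
  Nat.Coprime.coprime_dvd_left D.card_NN_dvd (D.coprime hx)

theorem Cfg.not_dvd_card_NN [Finite G] (D : Cfg G A E p0 p4 dstar x0) :
    ¬ p0 ∣ Nat.card (NN G p0) := fun h =>
  D.hAE p0 D.p0_mem (D.mem_E_of_dvd_card_NN D.hp0 h)

/-- a normal subgroup of order prime to the class size of `x` centralizes `x` -/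
theorem le_centralizer_of_coprime [Finite G] (K : Subgroup G) [K.Normal] (x : G)
    (h : (Nat.card K).Coprime (idx x)) : K ≤ Subgroup.centralizer ({x} : Set G) := by
  rw [← Subgroup.relIndex_eq_one]
  have h1 : (Subgroup.centralizer ({x} : Set G)).relIndex K ∣ idx x :=
    relIndex_dvd_index_of_normal_right _ K
  have h2 : (Subgroup.centralizer ({x} : Set G)).relIndex K ∣ Nat.card K :=
    Subgroup.relIndex_dvd_card _ _
  exact Nat.eq_one_of_dvd_coprimes h h2 h1

theorem Cfg.NN_le_centralizer [Finite G] (D : Cfg G A E p0 p4 dstar x0) {x : G} (hx : p0 ∣ idx x) :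
    NN G p0 ≤ Subgroup.centralizer ({x} : Set G) :=
  le_centralizer_of_coprime _ x (D.card_NN_coprime hx)

theorem Cfg.NN_comm' [Finite G] (D : Cfg G A E p0 p4 dstar x0) :
    NN G p0 ≤ Subgroup.centralizer ((NN G p0 : Subgroup G) : Set G) := by
  refine Subgroup.normalClosure_le_normal ?_
  rintro k ⟨x, c, c', hx, hc, hc', rfl⟩
  rw [SetLike.mem_coe, Subgroup.mem_centralizer_iff]
  intro n hn
  have hxc : p0 ∣ idx c := by rw [← idx_eq_of_isConj hc]; exact hx
  have hxc' : p0 ∣ idx c' := by rw [← idx_eq_of_isConj hc']; exact hx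
  have h1 := D.NN_le_centralizer hxc hn
  have h2 := D.NN_le_centralizer hxc' hn
  rw [mem_cent_iff] at h1 h2
  -- c * n = n * c, c' * n = n * c'
  have h3 : c'⁻¹ * n = n * c'⁻¹ := by
    have : n = c' * n * c'⁻¹ := by rw [h2]; group
    calc c'⁻¹ * n = c'⁻¹ * (c' * n * c'⁻¹) := by rw [← this]
      _ = n * c'⁻¹ := by group
  calc n * (c * c'⁻¹) = (n * c) * c'⁻¹ := by group
    _ = (c * n) * c'⁻¹ := by rw [h1]
    _ = c * (n * c'⁻¹) := by group
    _ = c * (c'⁻¹ * n) := by rw [h3]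
    _ = c * c'⁻¹ * n := by group

theorem Cfg.NN_comm [Finite G] (D : Cfg G A E p0 p4 dstar x0) {a b : G}
    (ha : a ∈ NN G p0) (hb : b ∈ NN G p0) : a * b = b * a := by
  have := D.NN_comm' ha
  rw [Subgroup.mem_centralizer_iff] at this
  exact (this b hb).symm

end Cfsg.Agent.Lib.Helper32.ClassGraph
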