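import Mathlib
import Cfsg.Agent.Lib.Helper32.ClassGraphA
import Cfsg.Agent.Lib.Helper77.ConjUnion
import Cfsg.Agent.Lib.Helper03.CoprimeAbelian
import Cfsg.Agent.Lib.Helper52.PCore

set_option autoImplicit false

namespace Cfsg.Agent.Lib.Helper32.ClassGraph

open Cfsg.Agent.Lib.Helper75.ClassProd
open scoped Pointwise

variable {G : Type*} [Group G] [Finite G]
variable {A E : Set ℕ} {p0 p4 : ℕ} {dstar x0 : G}

/-- if `p0 ∤ idx x` then some conjugate of `x` centralizes the Sylow subgroup `P0` -/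
theorem exists_conj_centralizes [Fact p0.Prime] (P0 : Sylow p0 G) {x : G} (hx : ¬ p0 ∣ idx x) :
    ∃ g : G, ∀ u ∈ P0, (g * x * g⁻¹) * u = u * (g * x * g⁻¹) := by
  have hp : p0.Prime := Fact.out
  have hc : (idx x).Coprime p0 := ((Nat.Prime.coprime_iff_not_dvd hp).2 hx).symm
  obtain ⟨Q, hQ⟩ := Cfsg.Agent.Lib.Helper52.exists_sylow_le_of_coprime_index _ hc
  obtain ⟨g, hg⟩ := MulAction.exists_smul_eq G Q P0
  refine ⟨g, fun u hu => ?_⟩
  have h1 : u ∈ MulAut.conj g • (Q : Subgroup G) := by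
    have : ((g • Q : Sylow p0 G) : Subgroup G) = MulAut.conj g • (Q : Subgroup G) := rfl
    rw [← this, hg]; exact hu
  rw [Cfsg.Agent.Lib.Helper77.mem_conj_smul_iff] at h1
  have h2 := hQ h1
  rw [mem_cent_iff] at h2
  -- x * (g⁻¹ u g) = (g⁻¹ u g) * x
  calc g * x * g⁻¹ * u = g * (x * (g⁻¹ * u * g)) * g⁻¹ := by group
    _ = g * ((g⁻¹ * u * g) * x) * g⁻¹ := by rw [h2]
    _ = u * (g * x * g⁻¹) := by group

theorem not_dvd_idx_of_centralizes [Fact p0.Prime] (P0 : Sylow p0 G) {x : G}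
    (hx : ∀ u ∈ P0, x * u = u * x) : ¬ p0 ∣ idx x := by
  have h1 : (P0 : Subgroup G) ≤ Subgroup.centralizer ({x} : Set G) := by
    intro u hu
    rw [mem_cent_iff]
    exact hx u hu
  have h2 : idx x ∣ (P0 : Subgroup G).index := Subgroup.index_dvd_of_le h1
  intro h
  exact P0.not_dvd_index (h.trans h2)

/-- every element of `G` commutes with `P0` modulo `N` -/
theorem Cfg.comm_sylow_mem (_D : Cfg G A E p0 p4 dstar x0) [Fact p0.Prime] (P0 : Sylow p0 G)
    (g u : G) (hu : u ∈ P0) : g * u * g⁻¹ * u⁻¹ ∈ NN G p0 := by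
  set N := NN G p0 with hN
  set M : Subgroup G := (Subgroup.centralizer
    (((P0 : Subgroup G).map (QuotientGroup.mk' N) : Subgroup (G ⧸ N)) : Set (G ⧸ N))).comap
      (QuotientGroup.mk' N) with hM
  have memM : ∀ y : G, y ∈ M ↔ ∀ u ∈ P0, y⁻¹ * u⁻¹ * y * u ∈ N := by
    intro y
    rw [hM, Subgroup.mem_comap, Subgroup.mem_centralizer_iff]
    constructor
    · intro h u hu
      have := h _ (Subgroup.mem_map_of_mem _ hu)
      rw [← map_mul, ← map_mul] at this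
      have h2 := (QuotientGroup.eq (s := N)).1 this
      have e : (u * y)⁻¹ * (y * u) = y⁻¹ * u⁻¹ * y * u := by group
      rw [e] at h2
      exact h2
    · intro h z hz
      obtain ⟨u, hu, rfl⟩ := Subgroup.mem_map.1 hz
      rw [← map_mul, ← map_mul]
      refine (QuotientGroup.eq (s := N)).2 ?_
      have e : (u * y)⁻¹ * (y * u) = y⁻¹ * u⁻¹ * y * u := by group
      rw [e]
      exact h u hu
  have hX : ∀ x : G, p0 ∣ idx x → x ∈ M := by
    intro x hx
    rw [memM]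
    intro u _
    have hx' : p0 ∣ idx x⁻¹ := by rw [idx_inv]; exact hx
    have := comm_mem_NN hx' u⁻¹
    have e : x⁻¹ * (u⁻¹ * x⁻¹ * u⁻¹⁻¹)⁻¹ = x⁻¹ * u⁻¹ * x * u := by group
    rw [e] at this
    exact this
  have hC : ∀ x : G, (∀ u ∈ P0, x * u = u * x) → x ∈ M := by
    intro x hx
    rw [memM]
    intro u hu
    have e : x⁻¹ * u⁻¹ * x * u = 1 := by
      have := hx u hu
      calc x⁻¹ * u⁻¹ * x * u = x⁻¹ * u⁻¹ * (x * u) := by group
        _ = x⁻¹ * u⁻¹ * (u * x) := by rw [this]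
        _ = 1 := by group
    rw [e]; exact N.one_mem
  have hMtop : M = ⊤ := by
    by_contra hne
    obtain ⟨x, hx⟩ := Cfsg.Agent.Lib.Helper77.exists_not_mem_conj M hne
    by_cases hpx : p0 ∣ idx x
    · apply hx 1
      rw [Cfsg.Agent.Lib.Helper77.mem_conj_smul_iff]
      simpa using hX x hpx
    · obtain ⟨g, hg⟩ := exists_conj_centralizes P0 hpx
      apply hx g⁻¹
      rw [Cfsg.Agent.Lib.Helper77.mem_conj_smul_iff, inv_inv]
      exact hC _ hg
  have hg : g⁻¹ ∈ M := by rw [hMtop]; exact Subgroup.mem_top _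
  rw [memM] at hg
  have := hg u⁻¹ (inv_mem hu)
  simpa using this

theorem Cfg.inf_eq_one (D : Cfg G A E p0 p4 dstar x0) [Fact p0.Prime] (P0 : Sylow p0 G)
    {z : G} (hz : z ∈ P0) (hzN : z ∈ NN G p0) : z = 1 := by
  have hp : p0.Prime := Fact.out
  obtain ⟨k, hk⟩ := (IsPGroup.iff_orderOf.1 P0.isPGroup') ⟨z, hz⟩
  have hk' : orderOf z = p0 ^ k := by
    rw [← hk]; exact (Subgroup.orderOf_mk z hz).symm
  have h1 : orderOf z ∣ Nat.card (NN G p0) := Subgroup.orderOf_dvd_natCard _ hzN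
  rcases Nat.eq_zero_or_pos k with h0 | h0
  · rw [h0, pow_zero] at hk'
    exact orderOf_eq_one_iff.1 hk'
  · exfalso
    apply D.not_dvd_card_NN
    refine dvd_trans ?_ h1
    rw [hk']
    exact dvd_pow_self p0 h0.ne'

theorem Cfg.normalizer_centralizes (D : Cfg G A E p0 p4 dstar x0) [Fact p0.Prime] (P0 : Sylow p0 G)
    {g : G} (hg : g ∈ Subgroup.normalizer ((P0 : Subgroup G) : Set G)) {u : G} (hu : u ∈ P0) :
    g * u = u * g := by
  have h1 : g * u * g⁻¹ ∈ (P0 : Subgroup G) := (Subgroup.mem_normalizer_iff.1 hg u).1 hu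
  have h2 : g * u * g⁻¹ * u⁻¹ ∈ (P0 : Subgroup G) := mul_mem h1 (inv_mem hu)
  have h3 := D.inf_eq_one P0 h2 (D.comm_sylow_mem P0 g u hu)
  calc g * u = (g * u * g⁻¹ * u⁻¹) * u * g := by group
    _ = u * g := by rw [h3, one_mul]

theorem Cfg.sup_normal (D : Cfg G A E p0 p4 dstar x0) [Fact p0.Prime] (P0 : Sylow p0 G) :
    ((P0 : Subgroup G) ⊔ NN G p0).Normal := by
  constructor
  intro k hk g
  obtain ⟨u, hu, n, hn, rfl⟩ := Subgroup.mem_sup_of_normal_right.1 hk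
  have e : g * (u * n) * g⁻¹ = (g * u * g⁻¹ * u⁻¹) * u * (g * n * g⁻¹) := by group
  rw [e]
  refine mul_mem (mul_mem ?_ ?_) ?_
  · exact (le_sup_right : NN G p0 ≤ _) (D.comm_sylow_mem P0 g u hu)
  · exact (le_sup_left : (P0 : Subgroup G) ≤ _) hu
  · exact (le_sup_right : NN G p0 ≤ _) ((NN_normal p0).conj_mem n hn g)

theorem Cfg.exists_decomp (D : Cfg G A E p0 p4 dstar x0) [Fact p0.Prime] (P0 : Sylow p0 G)
    (g : G) : ∃ h n : G, (∀ u ∈ P0, h * u = u * h) ∧ n ∈ NN G p0 ∧ g = h * n := by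
  have hKn := D.sup_normal P0
  have hF := Sylow.normalizer_sup_eq_top' (N := (P0 : Subgroup G) ⊔ NN G p0) P0 le_sup_left
  have hg : g ∈ Subgroup.normalizer ((P0 : Subgroup G) : Set G) ⊔ ((P0 : Subgroup G) ⊔ NN G p0) := by
    have h := Subgroup.mem_top g
    rw [← hF] at h
    exact h
  obtain ⟨a, ha, k, hk, rfl⟩ := Subgroup.mem_sup_of_normal_right.1 hg
  obtain ⟨u, hu, n, hn, rfl⟩ := Subgroup.mem_sup_of_normal_right.1 hk
  refine ⟨a * u, n, ?_, hn, by group⟩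
  intro u' hu'
  have hau : a * u ∈ Subgroup.normalizer ((P0 : Subgroup G) : Set G) :=
    mul_mem ha (Subgroup.le_normalizer hu)
  exact D.normalizer_centralizes P0 hau hu'

end Cfsg.Agent.Lib.Helper32.ClassGraph
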