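import Mathlib
import Cfsg.Agent.Lib.Helper32.ClassGraphB

set_option autoImplicit false

namespace Cfsg.Agent.Lib.Helper32.ClassGraph

open Cfsg.Agent.Lib.Helper75.ClassProd
open scoped Pointwise commutatorElement

variable {G : Type*} [Group G] [Finite G]
variable {A E : Set ℕ} {p0 p4 : ℕ} {dstar x0 : G}

/-- the normal subgroup `V = K' ∩ N`, `K = P0 N` -/
def VV (P0 N : Subgroup G) : Subgroup G := ⁅P0 ⊔ N, P0 ⊔ N⁆ ⊓ N

theorem Cfg.VV_normal (D : Cfg G A E p0 p4 dstar x0) [Fact p0.Prime] (P0 : Sylow p0 G) :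
    (VV (P0 : Subgroup G) (NN G p0)).Normal := by
  have hKn := D.sup_normal P0
  unfold VV
  infer_instance

/-- `V ∩ C(P0) = 1` -/
theorem Cfg.VV_inf (D : Cfg G A E p0 p4 dstar x0) [Fact p0.Prime] (P0 : Sylow p0 G) {v : G}
    (hv : v ∈ VV (P0 : Subgroup G) (NN G p0)) (hvc : ∀ u ∈ P0, v * u = u * v) : v = 1 := by
  have hp : p0.Prime := Fact.out
  obtain ⟨hv1, hv2⟩ := Subgroup.mem_inf.1 hv
  have hc : IsMulCommutative (NN G p0) :=
    ⟨⟨fun a b => Subtype.ext (D.NN_comm a.2 b.2)⟩⟩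
  have hcop : Nat.Coprime (Nat.card (NN G p0)) ((NN G p0).relIndex ((P0 : Subgroup G) ⊔ NN G p0)) := by
    rw [Subgroup.relIndex_sup_right]
    have h1 : (NN G p0).relIndex (P0 : Subgroup G) ∣ Nat.card (P0 : Subgroup G) :=
      Subgroup.relIndex_dvd_card _ _
    obtain ⟨k, hk⟩ := (IsPGroup.iff_card (p := p0)).1 P0.isPGroup'
    rw [hk] at h1
    refine Nat.Coprime.coprime_dvd_right h1 (Nat.Coprime.pow_right k ?_)
    exact ((Nat.Prime.coprime_iff_not_dvd hp).2 D.not_dvd_card_NN).symm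
  have key := Cfsg.Agent.Lib.Helper03.commutator_inf_centralizer_inf_eq_bot_of_abelian_hall
    (NN G p0) ((P0 : Subgroup G) ⊔ NN G p0) le_sup_right hc hcop
  have hvK : v ∈ Subgroup.centralizer ((((P0 : Subgroup G) ⊔ NN G p0 : Subgroup G)) : Set G) := by
    have h1 : (P0 : Subgroup G) ⊔ NN G p0 ≤ Subgroup.centralizer ({v} : Set G) := by
      refine sup_le ?_ ?_
      · intro u hu
        rw [mem_cent_iff]
        exact hvc u hu
      · intro n hn
        rw [mem_cent_iff]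
        exact D.NN_comm hv2 hn
    rw [Subgroup.mem_centralizer_iff]
    intro h hh
    have := h1 hh
    rw [mem_cent_iff] at this
    exact this.symm
  have : v ∈ (⊥ : Subgroup G) := by
    rw [← key]
    exact Subgroup.mem_inf.2 ⟨Subgroup.mem_inf.2 ⟨hv1, hvK⟩, hv2⟩
  exact Subgroup.mem_bot.1 this

/-- `V ≠ 1` -/
theorem Cfg.exists_VV_ne_one (D : Cfg G A E p0 p4 dstar x0) [Fact p0.Prime] (P0 : Sylow p0 G) :
    ∃ v ∈ VV (P0 : Subgroup G) (NN G p0), v ≠ 1 := by
  by_contra hcon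
  push Not at hcon
  -- `P0` centralizes `N`
  have h1 : ∀ n ∈ NN G p0, ∀ u ∈ P0, n * u = u * n := by
    intro n hn u hu
    have hmem : ⁅n, u⁆ ∈ VV (P0 : Subgroup G) (NN G p0) := by
      refine Subgroup.mem_inf.2 ⟨?_, ?_⟩
      · exact Subgroup.commutator_mem_commutator ((le_sup_right : NN G p0 ≤ _) hn)
          ((le_sup_left : (P0 : Subgroup G) ≤ _) hu)
      · rw [commutatorElement_def]
        have : n * u * n⁻¹ * u⁻¹ = n * (u * n⁻¹ * u⁻¹) := by group
        rw [this]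
        exact mul_mem hn ((NN_normal p0).conj_mem _ (inv_mem hn) u)
    have h := hcon _ hmem
    rw [commutatorElement_def] at h
    calc n * u = (n * u * n⁻¹ * u⁻¹) * u * n := by group
      _ = u * n := by rw [h, one_mul]
  -- `P0` is central
  have h2 : ∀ g : G, ∀ u ∈ P0, g * u = u * g := by
    intro g u hu
    obtain ⟨h, n, hh, hn, rfl⟩ := D.exists_decomp P0 g
    calc h * n * u = h * (n * u) := by group
      _ = h * (u * n) := by rw [h1 n hn u hu]
      _ = (h * u) * n := by group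
      _ = (u * h) * n := by rw [hh u hu]
      _ = u * (h * n) := by group
  exact not_dvd_idx_of_centralizes P0 (h2 x0) D.hx0

/-- nonidentity elements of `V` have class size divisible by `p0` -/
theorem Cfg.dvd_idx_of_mem_VV (D : Cfg G A E p0 p4 dstar x0) [Fact p0.Prime] (P0 : Sylow p0 G)
    {v : G} (hv : v ∈ VV (P0 : Subgroup G) (NN G p0)) (hv1 : v ≠ 1) : p0 ∣ idx v := by
  by_contra hnd
  obtain ⟨g, hg⟩ := exists_conj_centralizes P0 hnd
  have hVn := D.VV_normal P0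
  have h1 : g * v * g⁻¹ ∈ VV (P0 : Subgroup G) (NN G p0) := hVn.conj_mem v hv g
  have h2 := D.VV_inf P0 h1 hg
  apply hv1
  calc v = g⁻¹ * (g * v * g⁻¹) * g := by group
    _ = 1 := by rw [h2]; group

/-- the final contradiction -/
theorem Cfg.false (D : Cfg G A E p0 p4 dstar x0) (b : G) (t t' : ℕ) (ht : t ∈ A)
    (htb : t ∣ idx b) (ht' : t'.Prime) (ht'A : t' ∉ A) (ht'b : t' ∣ idx b) : False := by
  have : Fact p0.Prime := ⟨D.hp0⟩
  have hp : p0.Prime := D.hp0
  -- `b` has class size prime to `p0`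
  have hb0 : ¬ p0 ∣ idx b := fun h => ht'A (D.hA b h t' ht' ht'b)
  have hc : (idx b).Coprime p0 := ((Nat.Prime.coprime_iff_not_dvd hp).2 hb0).symm
  obtain ⟨P0, hP0⟩ := Cfsg.Agent.Lib.Helper52.exists_sylow_le_of_coprime_index _ hc
  have hbP : ∀ u ∈ P0, b * u = u * b := by
    intro u hu
    have := hP0 hu
    rw [mem_cent_iff] at this
    exact this
  -- `b` centralizes `N`
  have hbN : NN G p0 ≤ Subgroup.centralizer ({b} : Set G) := by
    rw [← Subgroup.relIndex_eq_one]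
    by_contra hne
    obtain ⟨s, hs, hsd⟩ := Nat.exists_prime_and_dvd hne
    have h1 : (Subgroup.centralizer ({b} : Set G)).relIndex (NN G p0) ∣ idx b :=
      relIndex_dvd_index_of_normal_right _ _
    have h2 : (Subgroup.centralizer ({b} : Set G)).relIndex (NN G p0) ∣ Nat.card (NN G p0) :=
      Subgroup.relIndex_dvd_card _ _
    exact D.hno b t s ht (D.mem_E_of_dvd_card_NN hs (hsd.trans h2)) htb (hsd.trans h1)
  obtain ⟨v, hv, hv1⟩ := D.exists_VV_ne_one P0
  have hVn := D.VV_normal P0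
  have hvN : v ∈ NN G p0 := (Subgroup.mem_inf.1 hv).2
  have hpv : p0 ∣ idx v := D.dvd_idx_of_mem_VV P0 hv hv1
  -- centralizer of `v * b`
  have key : ∀ g : G, (v * b) * g = g * (v * b) → v * g = g * v ∧ b * g = g * b := by
    intro g hg
    obtain ⟨h, n, hh, hn, rfl⟩ := D.exists_decomp P0 g
    have hnb : b * n = n * b := by
      have := hbN hn
      rw [mem_cent_iff] at this
      exact this
    -- c := v⁻¹ * (g v g⁻¹) = b * (h b h⁻¹)⁻¹
    have hgv : (h * n) * v * (h * n)⁻¹ ∈ VV (P0 : Subgroup G) (NN G p0) := hVn.conj_mem v hv _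
    have hc1 : v⁻¹ * ((h * n) * v * (h * n)⁻¹) ∈ VV (P0 : Subgroup G) (NN G p0) :=
      mul_mem (inv_mem hv) hgv
    have hgb : (h * n) * b * (h * n)⁻¹ = h * b * h⁻¹ := by
      calc (h * n) * b * (h * n)⁻¹ = h * (n * b) * n⁻¹ * h⁻¹ := by group
        _ = h * (b * n) * n⁻¹ * h⁻¹ := by rw [hnb]
        _ = h * b * h⁻¹ := by group
    have hprod : ((h * n) * v * (h * n)⁻¹) * (h * b * h⁻¹) = v * b := by
      rw [← hgb]
      calc ((h * n) * v * (h * n)⁻¹) * ((h * n) * b * (h * n)⁻¹)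
          = (h * n) * (v * b) * (h * n)⁻¹ := by group
        _ = ((v * b) * (h * n)) * (h * n)⁻¹ := by rw [hg]
        _ = v * b := by group
    have hc2 : v⁻¹ * ((h * n) * v * (h * n)⁻¹) = b * (h * b * h⁻¹)⁻¹ := by
      calc v⁻¹ * ((h * n) * v * (h * n)⁻¹)
          = v⁻¹ * (((h * n) * v * (h * n)⁻¹) * (h * b * h⁻¹)) * (h * b * h⁻¹)⁻¹ := by group
        _ = v⁻¹ * (v * b) * (h * b * h⁻¹)⁻¹ := by rw [hprod]
        _ = b * (h * b * h⁻¹)⁻¹ := by group
    have hcomm : ∀ u ∈ P0, (b * (h * b * h⁻¹)⁻¹) * u = u * (b * (h * b * h⁻¹)⁻¹) := by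
      intro u hu
      have e1 := hbP u hu
      have e2 := hh u hu
      have e3 : h⁻¹ * u = u * h⁻¹ := by
        calc h⁻¹ * u = h⁻¹ * (u * h) * h⁻¹ := by group
          _ = h⁻¹ * (h * u) * h⁻¹ := by rw [e2]
          _ = u * h⁻¹ := by group
      have e4 : b⁻¹ * u = u * b⁻¹ := by
        calc b⁻¹ * u = b⁻¹ * (u * b) * b⁻¹ := by group
          _ = b⁻¹ * (b * u) * b⁻¹ := by rw [e1]
          _ = u * b⁻¹ := by group
      calc (b * (h * b * h⁻¹)⁻¹) * u = b * h * b⁻¹ * (h⁻¹ * u) := by group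
        _ = b * h * b⁻¹ * (u * h⁻¹) := by rw [e3]
        _ = b * h * (b⁻¹ * u) * h⁻¹ := by group
        _ = b * h * (u * b⁻¹) * h⁻¹ := by rw [e4]
        _ = b * (h * u) * b⁻¹ * h⁻¹ := by group
        _ = b * (u * h) * b⁻¹ * h⁻¹ := by rw [e2]
        _ = (b * u) * h * b⁻¹ * h⁻¹ := by group
        _ = (u * b) * h * b⁻¹ * h⁻¹ := by rw [e1]
        _ = u * (b * (h * b * h⁻¹)⁻¹) := by group
    rw [hc2] at hc1
    have hone := D.VV_inf P0 hc1 hcomm
    have hb' : h * b * h⁻¹ = b := by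
      calc h * b * h⁻¹ = (b * (h * b * h⁻¹)⁻¹)⁻¹ * b := by group
        _ = b := by rw [hone]; group
    have hv' : (h * n) * v * (h * n)⁻¹ = v := by
      have : v⁻¹ * ((h * n) * v * (h * n)⁻¹) = 1 := by rw [hc2, hone]
      calc (h * n) * v * (h * n)⁻¹ = v * (v⁻¹ * ((h * n) * v * (h * n)⁻¹)) := by group
        _ = v := by rw [this, mul_one]
    constructor
    · calc v * (h * n) = ((h * n) * v * (h * n)⁻¹) * (h * n) := by rw [hv']
        _ = h * n * v := by group
    · have : (h * n) * b * (h * n)⁻¹ = b := by rw [hgb, hb']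
      calc b * (h * n) = ((h * n) * b * (h * n)⁻¹) * (h * n) := by rw [this]
        _ = h * n * b := by group
  have hle1 : Subgroup.centralizer ({v * b} : Set G) ≤ Subgroup.centralizer ({v} : Set G) := by
    intro g hg
    rw [mem_cent_iff] at hg ⊢
    exact (key g hg).1
  have hle2 : Subgroup.centralizer ({v * b} : Set G) ≤ Subgroup.centralizer ({b} : Set G) := by
    intro g hg
    rw [mem_cent_iff] at hg ⊢
    exact (key g hg).2
  have hd1 : idx v ∣ idx (v * b) := Subgroup.index_dvd_of_le hle1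
  have hd2 : idx b ∣ idx (v * b) := Subgroup.index_dvd_of_le hle2
  exact ht'A (D.hA (v * b) (hpv.trans hd1) t' ht' (ht'b.trans hd2))

end Cfsg.Agent.Lib.Helper32.ClassGraph
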