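import Mathlib

set_option autoImplicit false

/-!
# Norm identities for a pair of commuting elements of order `p` in a ring, and the
decomposition of a module under an elementary abelian group of order `p ^ 2`.
-/

namespace Cfsg.Agent.Lib.Helper32

open Finset

section ring

variable {R : Type*} [Ring R] {p : ℕ} [Fact p.Prime]

theorem mpow_val_eq {S : Type*} [Monoid S] {p : ℕ} [NeZero p] {g : S} (hg : g ^ p = 1)
    (a : ZMod p) (n : ℕ) (hn : (n : ZMod p) = a) : g ^ a.val = g ^ n := by
  subst hn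
  rw [ZMod.val_natCast, ← pow_eq_pow_mod n hg]

theorem mpow_val_add {S : Type*} [Monoid S] {p : ℕ} [NeZero p] {g : S} (hg : g ^ p = 1)
    (a b : ZMod p) : g ^ (a + b).val = g ^ a.val * g ^ b.val := by
  rw [mpow_val_eq hg (a + b) (a.val + b.val) (by simp), pow_add]

theorem mpow_val_mul {S : Type*} [Monoid S] {p : ℕ} [NeZero p] {g : S} (hg : g ^ p = 1)
    (a b : ZMod p) : g ^ (a * b).val = (g ^ a.val) ^ b.val := by
  rw [mpow_val_eq hg (a * b) (a.val * b.val) (by simp), pow_mul]

/-- the norm element `1 + U + ⋯ + U ^ (p - 1)`. -/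
def nrm (p : ℕ) [NeZero p] (U : R) : R := ∑ k : ZMod p, U ^ k.val

theorem mul_nrm {U : R} (hU : U ^ p = 1) : U * nrm p U = nrm p U := by
  unfold nrm
  rw [Finset.mul_sum]
  have : ∀ k : ZMod p, U * U ^ k.val = U ^ (k + 1).val := by
    intro k
    rw [mpow_val_add hU, ZMod.val_one, pow_one]
    exact ((Commute.refl U).pow_right _).eq
  simp_rw [this]
  exact Equiv.sum_comp (Equiv.addRight (1 : ZMod p)) (fun k => U ^ k.val)

theorem nrm_expand {X Z : R} (hXZ : X * Z = Z * X) (_hX : X ^ p = 1) (hZ : Z ^ p = 1) (i : ZMod p) :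
    nrm p (X * Z ^ i.val) = ∑ k : ZMod p, X ^ k.val * Z ^ (i * k).val := by
  unfold nrm
  apply Finset.sum_congr rfl
  intro k _
  have hc : Commute X (Z ^ i.val) := (show Commute X Z from hXZ).pow_right _
  rw [hc.mul_pow, mpow_val_mul hZ]

theorem sum_nrm {X Z : R} (hXZ : X * Z = Z * X) (hX : X ^ p = 1) (hZ : Z ^ p = 1)
    (hN : nrm p Z = 0) : ∑ i : ZMod p, nrm p (X * Z ^ i.val) = (p : R) := by
  simp_rw [nrm_expand hXZ hX hZ]
  rw [Finset.sum_comm]
  have hk : ∀ k : ZMod p, ∑ i : ZMod p, X ^ k.val * Z ^ (i * k).val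
      = if k = 0 then (p : R) else 0 := by
    intro k
    by_cases h0 : k = 0
    · subst h0
      simp
    · rw [if_neg h0, ← Finset.mul_sum]
      have : ∑ i : ZMod p, Z ^ (i * k).val = nrm p Z :=
        Equiv.sum_comp (Equiv.mulRight₀ k h0) (fun j => Z ^ j.val)
      rw [this, hN, mul_zero]
  simp_rw [hk]
  simp

theorem nrm_mul_nrm {X Z : R} (hXZ : X * Z = Z * X) (hX : X ^ p = 1) (hZ : Z ^ p = 1)
    (hN : nrm p Z = 0) {i j : ZMod p} (hij : i ≠ j) :
    nrm p (X * Z ^ j.val) * nrm p (X * Z ^ i.val) = 0 := by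
  rw [nrm_expand hXZ hX hZ, nrm_expand hXZ hX hZ, Finset.sum_mul_sum]
  have hc : ∀ a b : ℕ, Commute (Z ^ a) (X ^ b) :=
    fun a b => ((show Commute X Z from hXZ).pow_pow b a).symm
  have hterm : ∀ k l : ZMod p, X ^ k.val * Z ^ (j * k).val * (X ^ l.val * Z ^ (i * l).val)
      = X ^ (k + l).val * Z ^ (j * k + i * l).val := by
    intro k l
    rw [mpow_val_add hX, mpow_val_add hZ]
    calc X ^ k.val * Z ^ (j * k).val * (X ^ l.val * Z ^ (i * l).val)
        = X ^ k.val * (Z ^ (j * k).val * X ^ l.val) * Z ^ (i * l).val := by simp only [mul_assoc]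
      _ = X ^ k.val * (X ^ l.val * Z ^ (j * k).val) * Z ^ (i * l).val := by rw [(hc _ _).eq]
      _ = _ := by simp only [mul_assoc]
  simp_rw [hterm]
  rw [← Fintype.sum_prod_type' (f := fun k l : ZMod p => X ^ (k + l).val * Z ^ (j * k + i * l).val)]
  let φ : ZMod p × ZMod p → ZMod p × ZMod p := fun kl => (kl.1 + kl.2, j * kl.1 + i * kl.2)
  have hinj : Function.Injective φ := by
    rintro ⟨k, l⟩ ⟨k', l'⟩ h
    simp only [φ, Prod.mk.injEq] at h
    obtain ⟨h1, h2⟩ := h
    have h3 : (j - i) * (k - k') = 0 := by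
      have : l = k' + l' - k := by rw [← h1]; ring
      rw [this] at h2
      linear_combination h2
    have hji : j - i ≠ 0 := sub_ne_zero.mpr (Ne.symm hij)
    have hk : k = k' := by
      rcases mul_eq_zero.mp h3 with h | h
      · exact absurd h hji
      · exact sub_eq_zero.mp h
    subst hk
    have hl : l = l' := add_left_cancel h1
    rw [hl]
  let e : ZMod p × ZMod p ≃ ZMod p × ZMod p :=
    Equiv.ofBijective φ (Finite.injective_iff_bijective.mp hinj)
  have := Equiv.sum_comp e (fun ab : ZMod p × ZMod p => X ^ ab.1.val * Z ^ ab.2.val)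
  have h2 : ∑ kl : ZMod p × ZMod p, X ^ (kl.1 + kl.2).val * Z ^ (j * kl.1 + i * kl.2).val
      = ∑ ab : ZMod p × ZMod p, X ^ ab.1.val * Z ^ ab.2.val := this
  rw [h2, Fintype.sum_prod_type]
  simp_rw [← Finset.mul_sum]
  have : ∑ b : ZMod p, Z ^ b.val = nrm p Z := rfl
  simp_rw [this, hN, mul_zero]
  simp

end ring

section module

variable {M : Type*} [AddCommGroup M] {p : ℕ} [Fact p.Prime]

/-- the fixed points of an endomorphism. -/
def fixSub (U : AddMonoid.End M) : AddSubgroup M where
  carrier := {m | U m = m}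
  zero_mem' := map_zero U
  add_mem' := by
    intro a b ha hb
    show U (a + b) = a + b
    rw [map_add, ha, hb]
  neg_mem' := by
    intro a ha
    show U (-a) = -a
    rw [map_neg, ha]

theorem mem_fixSub {U : AddMonoid.End M} {m : M} : m ∈ fixSub U ↔ U m = m := Iff.rfl

theorem end_mul_apply (f g : AddMonoid.End M) (m : M) : (f * g) m = f (g m) := rfl

/-- evaluation at a point as an additive map. -/
def evalHom (m : M) : AddMonoid.End M →+ M where
  toFun f := f m
  map_zero' := rfl
  map_add' _ _ := rfl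

theorem end_sum_apply {ι : Type*} (s : Finset ι) (f : ι → AddMonoid.End M) (m : M) :
    (∑ i ∈ s, f i) m = ∑ i ∈ s, f i m :=
  map_sum (evalHom m) f s

theorem nrm_apply_of_fixed {U : AddMonoid.End M} {m : M} (hm : U m = m) :
    (nrm p U) m = p • m := by
  unfold nrm
  rw [end_sum_apply]
  have : ∀ k : ZMod p, (U ^ k.val) m = m := by
    intro k
    induction k.val with
    | zero => simp
    | succ n ih => rw [pow_succ, end_mul_apply, hm, ih]
  simp_rw [this]
  rw [Finset.sum_const, Finset.card_univ, ZMod.card]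

theorem nrm_apply_mem_fixSub {U : AddMonoid.End M} (hU : U ^ p = 1) (m : M) :
    (nrm p U) m ∈ fixSub U := by
  show U ((nrm p U) m) = (nrm p U) m
  rw [← end_mul_apply, mul_nrm hU]

theorem nrm_eq_zero_of_fixed_trivial {Z : AddMonoid.End M} (hZ : Z ^ p = 1)
    (hfix : ∀ m : M, Z m = m → m = 0) : nrm p Z = 0 := by
  ext m
  exact hfix _ (nrm_apply_mem_fixSub hZ m)

/-- **Decomposition lemma.** `X, Z` commuting of order `p`, `Y` invertible with `Y X = Z X Y`,
`Y Z = Z Y`, `Z` fixed-point-free, no `p`-torsion: `|M| = |C_M(X)| ^ p`. -/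
theorem card_eq_card_fixSub_pow [Finite M] {X Y Y' Z : AddMonoid.End M}
    (hXZ : X * Z = Z * X) (hX : X ^ p = 1) (hZ : Z ^ p = 1)
    (hYZ : Y * Z = Z * Y) (hYX : Y * X = Z * X * Y) (hY : Y' * Y = 1)
    (hfix : ∀ m : M, Z m = m → m = 0) (htor : ∀ m : M, p • m = 0 → m = 0) :
    Nat.card M = Nat.card (fixSub X) ^ p := by
  classical
  have hN : nrm p Z = 0 := nrm_eq_zero_of_fixed_trivial hZ hfix
  have hUp : ∀ i : ZMod p, (X * Z ^ i.val) ^ p = 1 := by
    intro i
    have hc : Commute X (Z ^ i.val) := (show Commute X Z from hXZ).pow_right _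
    rw [hc.mul_pow, hX, ← pow_mul, mul_comm, pow_mul, hZ, one_pow, one_mul]
  -- the key evaluation
  have hstar : ∀ (c : ∀ i : ZMod p, fixSub (X * Z ^ i.val)) (j : ZMod p),
      (nrm p (X * Z ^ j.val)) (∑ i, (c i : M)) = p • (c j : M) := by
    intro c j
    rw [map_sum]
    rw [Finset.sum_eq_single j]
    · exact nrm_apply_of_fixed (c j).2
    · intro i _ hij
      apply htor
      rw [← map_nsmul, ← nrm_apply_of_fixed (p := p) (c i).2, ← end_mul_apply,
        nrm_mul_nrm hXZ hX hZ hN hij]
      rfl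
    · intro h; exact absurd (Finset.mem_univ j) h
  have hpinj : Function.Injective (fun m : M => p • m) := by
    intro a b hab
    have : p • (a - b) = 0 := by rw [smul_sub]; exact sub_eq_zero.mpr hab
    exact sub_eq_zero.mp (htor _ this)
  have hpsurj : Function.Surjective (fun m : M => p • m) :=
    Finite.injective_iff_surjective.mp hpinj
  let Φ : (∀ i : ZMod p, fixSub (X * Z ^ i.val)) → M := fun c => ∑ i, (c i : M)
  have hΦinj : Function.Injective Φ := by
    intro c c' h
    funext j
    apply Subtype.ext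
    apply hpinj
    show p • (c j : M) = p • (c' j : M)
    rw [← hstar c j, ← hstar c' j]
    exact congrArg _ h
  have hΦsurj : Function.Surjective Φ := by
    intro m
    obtain ⟨m', rfl⟩ := hpsurj m
    let c : ∀ i : ZMod p, fixSub (X * Z ^ i.val) :=
      fun i => ⟨(nrm p (X * Z ^ i.val)) m', nrm_apply_mem_fixSub (hUp i) m'⟩
    refine ⟨c, ?_⟩
    have e1 : Φ c = ∑ i : ZMod p, (nrm p (X * Z ^ i.val)) m' := rfl
    rw [e1, ← end_sum_apply, sum_nrm hXZ hX hZ hN]
    exact AddMonoid.End.natCast_apply p m'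
  have hcard : Nat.card M = ∏ i : ZMod p, Nat.card (fixSub (X * Z ^ i.val)) := by
    rw [← Nat.card_pi]
    exact (Nat.card_congr (Equiv.ofBijective Φ ⟨hΦinj, hΦsurj⟩)).symm
  -- `Y` moves the fixed spaces around
  have hYinj : Function.Injective Y := by
    intro a b hab
    have := congrArg Y' hab
    rwa [← end_mul_apply, ← end_mul_apply, hY] at this
  have hstep : ∀ i : ZMod p, Nat.card (fixSub (X * Z ^ i.val)) ≤
      Nat.card (fixSub (X * Z ^ (i + 1).val)) := by
    intro i
    have hrel : (X * Z ^ (i + 1).val) * Y = Y * (X * Z ^ i.val) := by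
      have hc : Commute Y (Z ^ i.val) := (show Commute Y Z from hYZ).pow_right _
      have hc2 : Commute Z (Z ^ i.val) := (Commute.refl Z).pow_right _
      rw [mpow_val_add hZ, ZMod.val_one, pow_one]
      calc X * (Z ^ i.val * Z) * Y = X * (Z * Z ^ i.val) * Y := by rw [hc2.eq]
        _ = (X * Z) * (Z ^ i.val * Y) := by simp only [mul_assoc]
        _ = (Z * X) * (Y * Z ^ i.val) := by rw [hXZ, hc.eq]
        _ = (Z * X * Y) * Z ^ i.val := by simp only [mul_assoc]
        _ = Y * (X * Z ^ i.val) := by rw [← hYX]; simp only [mul_assoc]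
    refine Nat.card_le_card_of_injective
      (fun m : fixSub (X * Z ^ i.val) => (⟨Y (m : M), ?_⟩ : fixSub (X * Z ^ (i + 1).val))) ?_
    · show (X * Z ^ (i + 1).val) (Y (m : M)) = Y (m : M)
      rw [← end_mul_apply, hrel, end_mul_apply, m.2]
    · intro a b hab
      apply Subtype.ext
      apply hYinj
      exact congrArg Subtype.val hab
  have hle : ∀ (i : ZMod p) (k : ℕ), Nat.card (fixSub (X * Z ^ i.val)) ≤
      Nat.card (fixSub (X * Z ^ (i + (k : ZMod p)).val)) := by
    intro i k
    induction k with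
    | zero => simp
    | succ k ih =>
      refine ih.trans ?_
      have := hstep (i + (k : ZMod p))
      rwa [add_assoc, ← Nat.cast_succ] at this
  have hall : ∀ i j : ZMod p, Nat.card (fixSub (X * Z ^ i.val)) ≤
      Nat.card (fixSub (X * Z ^ j.val)) := by
    intro i j
    have := hle i (j - i).val
    rwa [ZMod.natCast_zmod_val, add_sub_cancel] at this
  have heq : ∀ i : ZMod p, Nat.card (fixSub (X * Z ^ i.val)) = Nat.card (fixSub X) := by
    intro i
    have h0 : fixSub (X * Z ^ (0 : ZMod p).val) = fixSub X := by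
      rw [ZMod.val_zero, pow_zero, mul_one]
    rw [← h0]
    exact le_antisymm (hall i 0) (hall 0 i)
  rw [hcard]
  simp_rw [heq]
  rw [Finset.prod_const, Finset.card_univ, ZMod.card]

end module

end Cfsg.Agent.Lib.Helper32
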