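import Mathlib
import Cfsg.Agent.Lib.Helper32.EndP

set_option autoImplicit false

/-!
# Small facts on finite modules given by endomorphisms of an additive group
-/

namespace Cfsg.Agent.Lib.Helper32

section

variable {M : Type*} [AddCommGroup M]

/-- restriction of a representation to an invariant subgroup. -/
def restrictEnd {Γ : Type*} [Monoid Γ] (ρ : Γ →* AddMonoid.End M) (N : AddSubgroup M)
    (hN : ∀ g : Γ, ∀ m ∈ N, ρ g m ∈ N) : Γ →* AddMonoid.End N where
  toFun g := AddMonoidHom.codRestrict ((ρ g : M →+ M).comp N.subtype) N (fun m => hN g m m.2)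
  map_one' := by
    apply AddMonoidHom.ext
    intro m
    apply Subtype.ext
    show ρ 1 (m : M) = m
    rw [map_one]
    rfl
  map_mul' := by
    intro a b
    apply AddMonoidHom.ext
    intro m
    apply Subtype.ext
    show ρ (a * b) (m : M) = ρ a (ρ b (m : M))
    rw [map_mul]
    rfl

theorem restrictEnd_apply {Γ : Type*} [Monoid Γ] (ρ : Γ →* AddMonoid.End M) (N : AddSubgroup M)
    (hN : ∀ g : Γ, ∀ m ∈ N, ρ g m ∈ N) (g : Γ) (m : N) :
    ((restrictEnd ρ N hN g m : N) : M) = ρ g (m : M) := rfl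

/-- a fixed-point-free endomorphism of `p`-power order: `|M| ≡ 1 mod p`. -/
theorem card_modEq_one_of_fpf [Finite M] {p : ℕ} [Fact p.Prime] {Z : AddMonoid.End M}
    (hZ : Z ^ p = 1) (hfix : ∀ m : M, Z m = m → m = 0) : Nat.card M ≡ 1 [MOD p] := by
  classical
  have : Fintype M := Fintype.ofFinite M
  let f : Function.End M := (Z : M → M)
  have hf : f ^ p ^ 1 = 1 := by
    rw [pow_one]
    have h1 : (⇑(Z ^ p) : M → M) = (⇑Z)^[p] := AddMonoid.End.coe_pow M Z p
    rw [hZ] at h1
    have h2 : ∀ n : ℕ, (f ^ n : Function.End M) = (⇑Z)^[n] := by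
      intro n
      induction n with
      | zero => rfl
      | succ n ih => rw [pow_succ, ih, Function.iterate_succ]; rfl
    rw [h2 p, ← h1]
    rfl
  have h := Equiv.Perm.card_fixedPoints_modEq (p := p) (n := 1) hf
  have hfp : Fintype.card (Function.fixedPoints f) = 1 := by
    rw [Fintype.card_eq_one_iff]
    refine ⟨⟨0, map_zero Z⟩, ?_⟩
    rintro ⟨m, hm⟩
    apply Subtype.ext
    exact hfix m hm
  rw [hfp, ← Nat.card_eq_fintype_card] at h
  exact h

/-- a finite group of exponent `r` has `r`-power order. -/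
theorem exists_card_eq_pow [Finite M] {r : ℕ} [Fact r.Prime] (hr : ∀ m : M, r • m = 0) :
    ∃ k : ℕ, Nat.card M = r ^ k := by
  have hp : IsPGroup r (Multiplicative M) := by
    intro g
    refine ⟨1, ?_⟩
    rw [pow_one]
    exact congrArg Multiplicative.ofAdd (hr (Multiplicative.toAdd g))
  obtain ⟨k, hk⟩ := (IsPGroup.iff_card).mp hp
  exact ⟨k, hk⟩

/-- no `p`-torsion in a group of exponent `r ≠ p`. -/
theorem eq_zero_of_smul_eq_zero {p r : ℕ} [Fact p.Prime] [Fact r.Prime] (hpr : p ≠ r)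
    (hr : ∀ m : M, r • m = 0) (m : M) (hm : p • m = 0) : m = 0 := by
  have hcop : Nat.Coprime p r := (Nat.coprime_primes Fact.out Fact.out).mpr hpr
  have h1 : addOrderOf m ∣ p := addOrderOf_dvd_of_nsmul_eq_zero hm
  have h2 : addOrderOf m ∣ r := addOrderOf_dvd_of_nsmul_eq_zero (hr m)
  have h3 : addOrderOf m ∣ 1 := by
    have := Nat.dvd_gcd h1 h2
    rwa [hcop.gcd_eq_one] at this
  exact AddMonoid.addOrderOf_eq_one_iff.mp (Nat.dvd_one.mp h3)

/-- endomorphisms of a group of prime order commute. -/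
theorem end_comm_of_card_prime {r : ℕ} [Fact r.Prime] (hcard : Nat.card M = r)
    (f g : AddMonoid.End M) : f * g = g * f := by
  have hcyc : IsAddCyclic M := isAddCyclic_of_prime_card hcard
  obtain ⟨u, hu⟩ := hcyc.exists_generator
  have key : ∀ h : AddMonoid.End M, ∃ a : ℤ, ∀ m : M, h m = a • m := by
    intro h
    obtain ⟨a, ha⟩ := AddSubgroup.mem_zmultiples_iff.mp (hu (h u))
    refine ⟨a, ?_⟩
    intro m
    obtain ⟨b, rfl⟩ := AddSubgroup.mem_zmultiples_iff.mp (hu m)
    rw [map_zsmul, ← ha, smul_comm]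
  obtain ⟨a, ha⟩ := key f
  obtain ⟨b, hb⟩ := key g
  apply AddMonoidHom.ext
  intro m
  show f (g m) = g (f m)
  rw [ha, hb, hb, ha, smul_comm]

end

end Cfsg.Agent.Lib.Helper32
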