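import Mathlib
import Cfsg.Prelude.Def_Solvable
import Cfsg.Agent.Lib.Helper07.GagG14
import Cfsg.Agent.Lib.Helper16.GagG12a
import Cfsg.Agent.Lib.Helper18.GagPowP
import Cfsg.Agent.Lib.Helper21.GagG05
import Cfsg.Agent.Lib.Helper25.GagG01
import Cfsg.Agent.Lib.Helper39.GagG07b
import Cfsg.Agent.Lib.Helper50.GagG07c
import Cfsg.Agent.Lib.Helper52.GagSplitKill
import Cfsg.Agent.Lib.Helper54.GagFrobFpf
import Cfsg.Agent.Lib.Helper58.GagG04a
import Cfsg.Agent.Lib.Helper60.GagG09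
import Cfsg.Agent.Lib.Helper60.GagG10
import Cfsg.Agent.Lib.Helper61.GagG08
import Cfsg.Agent.Lib.Helper63.GagG02
import Cfsg.Agent.Lib.Helper80.GagInvol
import Cfsg.Agent.Lib.Helper81.GagG03

/-!
# K-GAG: leaves for S4839, re-exported under the spec names (Gagola: `N = O_p(G)` iff doubly transitive Frobenius)

All leaves are pure group theory.  Standing data: `G` finite, `N` a normal `p`-subgroup, `N ≠ 1`,
`hconj`: the nonidentity elements of `N` form one `G`-class,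
`hcam`: Camina property `x ~ x n` for `x ∉ N`, `n ∈ N`.
-/

set_option autoImplicit false

namespace Cfsg.Agent.Lib.Helper32.GagSpec

variable {G : Type*} [Group G] [Finite G]

/-- G01 (MEDIUM-HARD, counting): equal centralizer orders in `G` and `G/N` give the Camina property. -/
theorem camina_of_card (N : Subgroup G) [N.Normal]
    (h : ∀ x : G, x ∉ N → Nat.card (Subgroup.centralizer ({x} : Set G)) =
      Nat.card (Subgroup.centralizer ({(x : G ⧸ N)} : Set (G ⧸ N)))) :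
    ∀ x : G, x ∉ N → ∀ n ∈ N, IsConj x (x * n) := by
  exact Cfsg.Agent.Lib.Helper25.Gag.camina_of_card N h

/-- G02 (MEDIUM): centralizers of nonidentity elements of `N` are `p`-groups. -/
theorem centralizer_isPGroup {p : ℕ} [Fact p.Prime] (N : Subgroup G) [N.Normal]
    (hNp : IsPGroup p N) (hcam : ∀ x : G, x ∉ N → ∀ n ∈ N, IsConj x (x * n))
    (x : G) (hx : x ∈ N) (hx1 : x ≠ 1) :
    IsPGroup p (Subgroup.centralizer ({x} : Set G)) := by
  exact Cfsg.Agent.Lib.Helper63.Gag.centralizer_isPGroup N hNp hcam x hx hx1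

/-- G03 (MEDIUM): the class of `x ∈ N#` is `N#`, so `[G : C_G(x)] + 1 = |N|`. -/
theorem index_centralizer (N : Subgroup G) [N.Normal]
    (hconj : ∀ x ∈ N, ∀ y ∈ N, x ≠ 1 → y ≠ 1 → IsConj x y)
    (x : G) (hx : x ∈ N) (hx1 : x ≠ 1) :
    (Subgroup.centralizer ({x} : Set G)).index + 1 = Nat.card N := by
  exact Cfsg.Agent.Lib.Helper81.Gag.index_centralizer N hconj x hx hx1

/-- G04a (MEDIUM): `N` is abelian. -/
theorem comm_of_conj {p : ℕ} [Fact p.Prime] (N : Subgroup G) [N.Normal] (hNp : IsPGroup p N)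
    (hconj : ∀ x ∈ N, ∀ y ∈ N, x ≠ 1 → y ≠ 1 → IsConj x y) :
    ∀ a ∈ N, ∀ b ∈ N, a * b = b * a := by
  exact Cfsg.Agent.Lib.Helper58.Gag.comm_of_conj N hNp hconj

/-- G04b (MEDIUM): `N` has exponent `p`. -/
theorem pow_p_of_conj {p : ℕ} [Fact p.Prime] (N : Subgroup G) [N.Normal] (hNp : IsPGroup p N)
    (hconj : ∀ x ∈ N, ∀ y ∈ N, x ≠ 1 → y ≠ 1 → IsConj x y) :
    ∀ a ∈ N, a ^ p = 1 := by
  exact Cfsg.Agent.Lib.Helper18.Gag.pow_p_of_conj N hNp hconj

/-- G05 (EASY): if `N = O_p(G)` then `C_G(N) ≤ N`. -/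
theorem centralizer_le {p : ℕ} [Fact p.Prime] (N : Subgroup G) [N.Normal] (hN1 : N ≠ ⊥)
    (hcp : ∀ x ∈ N, x ≠ 1 → IsPGroup p (Subgroup.centralizer ({x} : Set G)))
    (hO : N = Cfsg.pCore p G) :
    Subgroup.centralizer (N : Set G) ≤ N := by
  exact Cfsg.Agent.Lib.Helper21.Gag.centralizer_le N hN1 hcp hO

/-- G06 (MEDIUM-HARD): a split extension `G = N L` with the Camina property has `p ∤ [G:N]`. -/
theorem split_kill {p : ℕ} [Fact p.Prime] (N : Subgroup G) [N.Normal]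
    (hNp : IsPGroup p N) (hN1 : N ≠ ⊥)
    (hcam : ∀ x : G, x ∉ N → ∀ n ∈ N, IsConj x (x * n))
    (L : Subgroup G) (hLN : L ⊓ N = ⊥) (hNL : ∀ g : G, ∃ n ∈ N, ∃ l ∈ L, g = n * l) :
    ¬ p ∣ N.index := by
  exact Cfsg.Agent.Lib.Helper52.Gag.split_kill N hNp hN1 hcam L hLN hNL

/-- G07a (MEDIUM): for `p` odd, `G` has an involution. -/
theorem exists_involution {p : ℕ} [Fact p.Prime] (hp2 : p ≠ 2) (N : Subgroup G) [N.Normal]
    (hNp : IsPGroup p N) (hN1 : N ≠ ⊥)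
    (hidx : ∀ x ∈ N, x ≠ 1 → (Subgroup.centralizer ({x} : Set G)).index + 1 = Nat.card N) :
    ∃ t : G, t ≠ 1 ∧ t * t = 1 := by
  exact Cfsg.Agent.Lib.Helper80.Gag.exists_involution hp2 N hNp hN1 hidx

/-- G07b (MEDIUM): for `p` odd every involution inverts `N`. -/
theorem involution_inverts {p : ℕ} [Fact p.Prime] (hp2 : p ≠ 2) (N : Subgroup G) [N.Normal]
    (hcp : ∀ x ∈ N, x ≠ 1 → IsPGroup p (Subgroup.centralizer ({x} : Set G)))
    (hcomm : ∀ a ∈ N, ∀ b ∈ N, a * b = b * a)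
    (s : G) (hs : s * s = 1) (hs1 : s ≠ 1) :
    ∀ n ∈ N, s * n * s⁻¹ = n⁻¹ := by
  exact Cfsg.Agent.Lib.Helper39.Gag.involution_inverts hp2 N hcp hcomm s hs hs1

/-- G07c (MEDIUM-HARD): Frattini for the central involution of `G/N`: `G = N C_G(t)`, `C_N(t) = 1`. -/
theorem frattini_involution {p : ℕ} [Fact p.Prime] (hp2 : p ≠ 2) (N : Subgroup G) [N.Normal]
    (hNp : IsPGroup p N) (hcent : Subgroup.centralizer (N : Set G) ≤ N)
    (t : G) (ht : t * t = 1) (ht1 : t ≠ 1)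
    (hall : ∀ s : G, s * s = 1 → s ≠ 1 → ∀ n ∈ N, s * n * s⁻¹ = n⁻¹) :
    Subgroup.centralizer ({t} : Set G) ⊓ N = ⊥ ∧
      ∀ g : G, ∃ n ∈ N, ∃ l ∈ Subgroup.centralizer ({t} : Set G), g = n * l := by
  exact Cfsg.Agent.Lib.Helper50.Gag.frattini_involution hp2 N hNp hcent t ht ht1 hall

/-- G08 (EASY-MEDIUM): `p = 2`: no involution outside `N`. -/
theorem no_involution_outside (N : Subgroup G) [N.Normal]
    (hcent : Subgroup.centralizer (N : Set G) ≤ N) (hsq : ∀ n ∈ N, n * n = 1)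
    (hcam : ∀ x : G, x ∉ N → ∀ n ∈ N, IsConj x (x * n))
    (t : G) (ht : t * t = 1) : t ∈ N := by
  exact Cfsg.Agent.Lib.Helper61.Gag.no_involution_outside N hcent hsq hcam t ht

/-- G09 (MEDIUM): two involutions generating a non-2-group: some odd-order `x ≠ 1` is inverted. -/
theorem dihedral_odd {Γ : Type*} [Group Γ] [Finite Γ] (a b : Γ) (ha : a * a = 1) (hb : b * b = 1)
    (h : ¬ IsPGroup 2 (Subgroup.closure ({a, b} : Set Γ))) :
    ∃ x : Γ, x ≠ 1 ∧ Odd (orderOf x) ∧ a * x * a⁻¹ = x⁻¹ := by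
  exact Cfsg.Agent.Lib.Helper60.Gag.dihedral_odd a b ha hb h

/-- G10 (HARD): Schur–Zassenhaus conjugacy lifts the involution of a dihedral section. -/
theorem lift_involution (N : Subgroup G) [N.Normal] (hN2 : IsPGroup 2 N)
    (u : G) (hu : u ∉ N) (hu2 : u * u ∈ N)
    (xb : G ⧸ N) (hxb1 : xb ≠ 1) (hodd : Odd (orderOf xb))
    (hinv : (u : G ⧸ N) * xb * (u : G ⧸ N)⁻¹ = xb⁻¹)
    (hfpf : ∀ y : G, y ≠ 1 → Odd (orderOf y) → ∀ n ∈ N, y * n = n * y → n = 1) :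
    ∃ s : G, s ∉ N ∧ s * s = 1 := by
  exact Cfsg.Agent.Lib.Helper60.Gag.lift_involution N hN2 u hu hu2 xb hxb1 hodd hinv hfpf

/-- G12a (MEDIUM): if `N` is a Sylow `p`-subgroup then `C_G(x) = N` for `x ∈ N#`. -/
theorem centralizer_eq_of_hall {p : ℕ} [Fact p.Prime] (N : Subgroup G) [N.Normal]
    (hNp : IsPGroup p N)
    (hcomm : ∀ a ∈ N, ∀ b ∈ N, a * b = b * a)
    (hcp : ∀ x ∈ N, x ≠ 1 → IsPGroup p (Subgroup.centralizer ({x} : Set G)))
    (hhall : ¬ p ∣ N.index) (x : G) (hx : x ∈ N) (hx1 : x ≠ 1) :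
    Subgroup.centralizer ({x} : Set G) = N := by
  exact Cfsg.Agent.Lib.Helper16.Gag.centralizer_eq_of_hall N hNp hcomm hcp hhall x hx hx1

/-- G12b (HARD, standard Frobenius): a complement acting fixed-point-freely on the abelian normal
subgroup `N` is a Frobenius complement with Frobenius kernel `N`. -/
theorem frobenius_of_fpf (N : Subgroup G) [N.Normal] (hN1 : N ≠ ⊥)
    (H : Subgroup G) (hc : N.IsComplement' H) (hH1 : H ≠ ⊥)
    (hcomm : ∀ a ∈ N, ∀ b ∈ N, a * b = b * a)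
    (hfpf : ∀ h ∈ H, h ≠ 1 → ∀ n ∈ N, h * n = n * h → n = 1) :
    Cfsg.IsFrobeniusComplement H ∧ Cfsg.frobeniusKernel H = (N : Set G) := by
  exact Cfsg.Agent.Lib.Helper54.Gag.frobenius_of_fpf N hN1 H hc hH1 hcomm hfpf

/-- G14 (MEDIUM): converse: a Frobenius kernel that is a `p`-group is `O_p(G)`. -/
theorem pCore_eq_of_frobenius {p : ℕ} [Fact p.Prime] (N : Subgroup G) [N.Normal]
    (hNp : IsPGroup p N) (hN1 : N ≠ ⊥)
    (H : Subgroup G) (hH : Cfsg.IsFrobeniusComplement H)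
    (hker : Cfsg.frobeniusKernel H = (N : Set G)) :
    N = Cfsg.pCore p G := by
  exact Cfsg.Agent.Lib.Helper07.Gag.pCore_eq_of_frobenius N hNp hN1 H hH hker

end Cfsg.Agent.Lib.Helper32.GagSpec
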