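import Mathlib
import Cfsg.Prelude.Def_Solvable
import Cfsg.Agent.Lib.Helper32.GagSpec
import Cfsg.Agent.Lib.Helper02.PStab
import Cfsg.Agent.Lib.Helper01.PCore

set_option autoImplicit false
set_option linter.unusedVariables false
set_option linter.style.haveILetI false
set_option linter.unusedSectionVars false

namespace Cfsg.Agent.Lib.Helper32.GagGlue

open Cfsg.Agent.Lib.Helper32

variable {G : Type*} [Group G] [Finite G]

/-- the image of a non-2-group closure in a quotient by a 2-group is not a 2-group -/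
theorem not_isPGroup_closure_mk (N : Subgroup G) [N.Normal] (hN2 : IsPGroup 2 N) (u b : G)
    (h : ¬ IsPGroup 2 (Subgroup.closure ({u, b} : Set G))) :
    ¬ IsPGroup 2 (Subgroup.closure ({(u : G ⧸ N), (b : G ⧸ N)} : Set (G ⧸ N))) := by
  intro hq
  apply h
  intro y
  have hy : ((y : G) : G ⧸ N) ∈ Subgroup.closure ({(u : G ⧸ N), (b : G ⧸ N)} : Set (G ⧸ N)) := by
    have hmap : (Subgroup.closure ({u, b} : Set G)).map (QuotientGroup.mk' N) =
        Subgroup.closure ({(u : G ⧸ N), (b : G ⧸ N)} : Set (G ⧸ N)) := by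
      rw [MonoidHom.map_closure]
      congr 1
      ext z
      simp [Set.image_pair]
    rw [← hmap]
    exact Subgroup.mem_map_of_mem _ y.2
  obtain ⟨k, hk⟩ := hq ⟨_, hy⟩
  have hk' : ((y : G) : G ⧸ N) ^ 2 ^ k = 1 := by
    have := congrArg Subtype.val hk
    simpa using this
  have hyN : (y : G) ^ 2 ^ k ∈ N := by
    rw [← QuotientGroup.eq_one_iff]
    simpa using hk'
  obtain ⟨j, hj⟩ := hN2 ⟨_, hyN⟩
  have hj' : ((y : G) ^ 2 ^ k) ^ 2 ^ j = 1 := by
    have := congrArg Subtype.val hj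
    simpa using this
  refine ⟨k + j, ?_⟩
  apply Subtype.ext
  simp only [Subgroup.coe_pow, Subgroup.coe_one]
  rw [pow_add, pow_mul]
  exact hj'

/-- `p = 2`: if `N = O_2(G)` then `N` is a Sylow 2-subgroup. -/
theorem even_kill (N : Subgroup G) [N.Normal] (hN2 : IsPGroup 2 N) (hN1 : N ≠ ⊥)
    (hcam : ∀ x : G, x ∉ N → ∀ n ∈ N, IsConj x (x * n))
    (hcp : ∀ x ∈ N, x ≠ 1 → IsPGroup 2 (Subgroup.centralizer ({x} : Set G)))
    (hsq : ∀ n ∈ N, n * n = 1) (hO : N = Cfsg.pCore 2 G) : ¬ 2 ∣ N.index := by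
  intro h2
  haveI : Fact (Nat.Prime 2) := ⟨Nat.prime_two⟩
  have hcent := GagSpec.centralizer_le (p := 2) N hN1 hcp hO
  have hcard : Nat.card (G ⧸ N) = N.index := (Subgroup.index_eq_card N).symm
  obtain ⟨ab, hab⟩ := exists_prime_orderOf_dvd_card' (G := G ⧸ N) 2 (by rw [hcard]; exact h2)
  obtain ⟨u, rfl⟩ := QuotientGroup.mk_surjective ab
  have hu : u ∉ N := by
    intro h
    have : (u : G ⧸ N) = 1 := (QuotientGroup.eq_one_iff u).2 h
    rw [this, orderOf_one] at hab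
    omega
  have hu2q : (u : G ⧸ N) * (u : G ⧸ N) = 1 := by
    have := pow_orderOf_eq_one (u : G ⧸ N)
    rwa [hab, pow_two] at this
  have hu2 : u * u ∈ N := by
    rw [← QuotientGroup.eq_one_iff]
    simpa using hu2q
  obtain ⟨g, hg⟩ := Cfsg.Agent.Lib.Helper02.PStab.exists_conj_not_pGroup (p := 2) u (by
    intro M hM hMp huM
    apply hu
    rw [hO]
    exact Cfsg.Agent.Lib.Helper01.le_pCore hM hMp huM)
  have hq := not_isPGroup_closure_mk N hN2 u (g * u * g⁻¹) hg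
  have hb2q : ((g * u * g⁻¹ : G) : G ⧸ N) * ((g * u * g⁻¹ : G) : G ⧸ N) = 1 := by
    have : (g * u * g⁻¹) * (g * u * g⁻¹) = g * (u * u) * g⁻¹ := by group
    rw [← QuotientGroup.mk_mul, this, QuotientGroup.eq_one_iff]
    exact (inferInstance : N.Normal).conj_mem _ hu2 g
  obtain ⟨xb, hxb1, hodd, hinv⟩ := GagSpec.dihedral_odd (u : G ⧸ N) ((g * u * g⁻¹ : G) : G ⧸ N) hu2q hb2q hq
  have hfpf : ∀ y : G, y ≠ 1 → Odd (orderOf y) → ∀ n ∈ N, y * n = n * y → n = 1 := by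
    intro y hy1 hyodd n hn hyn
    by_contra hn1
    have hyc : y ∈ Subgroup.centralizer ({n} : Set G) := by
      rw [Subgroup.mem_centralizer_singleton_iff]
      exact hyn
    obtain ⟨k, hk⟩ := hcp n hn hn1 ⟨y, hyc⟩
    have hk' : y ^ 2 ^ k = 1 := by
      have := congrArg Subtype.val hk
      simpa using this
    have hdvd : orderOf y ∣ 2 ^ k := orderOf_dvd_of_pow_eq_one hk'
    obtain ⟨j, _, hj⟩ := (Nat.dvd_prime_pow Nat.prime_two).1 hdvd
    rw [hj] at hyodd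
    rcases Nat.eq_zero_or_pos j with h0 | hpos
    · rw [h0, pow_zero] at hj
      exact hy1 (orderOf_eq_one_iff.1 hj)
    · have : Even (2 ^ j) := (Nat.even_pow.2 ⟨even_two, hpos.ne'⟩)
      exact (Nat.not_odd_iff_even.2 this) hyodd
  obtain ⟨s, hsN, hs⟩ := GagSpec.lift_involution N hN2 u hu hu2 xb hxb1 hodd hinv hfpf
  exact hsN (GagSpec.no_involution_outside N hcent hsq hcam s hs)

/-- `p` odd: if `N = O_p(G)` then `N` is a Sylow `p`-subgroup. -/
theorem odd_kill {p : ℕ} [Fact p.Prime] (hp2 : p ≠ 2) (N : Subgroup G) [N.Normal]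
    (hNp : IsPGroup p N) (hN1 : N ≠ ⊥)
    (hcam : ∀ x : G, x ∉ N → ∀ n ∈ N, IsConj x (x * n))
    (hcp : ∀ x ∈ N, x ≠ 1 → IsPGroup p (Subgroup.centralizer ({x} : Set G)))
    (hcomm : ∀ a ∈ N, ∀ b ∈ N, a * b = b * a)
    (hidx : ∀ x ∈ N, x ≠ 1 → (Subgroup.centralizer ({x} : Set G)).index + 1 = Nat.card N)
    (hO : N = Cfsg.pCore p G) : ¬ p ∣ N.index := by
  have hcent := GagSpec.centralizer_le N hN1 hcp hO
  obtain ⟨t, ht1, ht⟩ := GagSpec.exists_involution hp2 N hNp hN1 hidx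
  have hall : ∀ s : G, s * s = 1 → s ≠ 1 → ∀ n ∈ N, s * n * s⁻¹ = n⁻¹ :=
    fun s hs hs1 => GagSpec.involution_inverts hp2 N hcp hcomm s hs hs1
  obtain ⟨hLN, hNL⟩ := GagSpec.frattini_involution hp2 N hNp hcent t ht ht1 hall
  exact GagSpec.split_kill N hNp hN1 hcam _ hLN hNL

/-- the Frobenius conclusion once `N` is a Sylow `p`-subgroup -/
theorem frobenius_glue {p : ℕ} [Fact p.Prime] (hG : 2 < Nat.card G) (N : Subgroup G) [N.Normal]
    (hNp : IsPGroup p N) (hN1 : N ≠ ⊥)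
    (hcomm : ∀ a ∈ N, ∀ b ∈ N, a * b = b * a)
    (hcp : ∀ x ∈ N, x ≠ 1 → IsPGroup p (Subgroup.centralizer ({x} : Set G)))
    (hidx : ∀ x ∈ N, x ≠ 1 → (Subgroup.centralizer ({x} : Set G)).index + 1 = Nat.card N)
    (hhall : ¬ p ∣ N.index) :
    ∃ H : Subgroup G, Cfsg.IsFrobeniusComplement H ∧ Cfsg.frobeniusKernel H = (N : Set G) ∧
      Nat.card H + 1 = Nat.card N := by
  have hpp : p.Prime := Fact.out
  have hcop : (Nat.card N).Coprime N.index := by
    obtain ⟨k, hk⟩ := IsPGroup.iff_card.mp hNp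
    rw [hk]
    exact Nat.Coprime.pow_left k ((Nat.Prime.coprime_iff_not_dvd hpp).2 hhall)
  obtain ⟨H, hH⟩ := Subgroup.exists_right_complement'_of_coprime hcop
  have hcardH : Nat.card H = N.index := by
    have h1 := hH.card_mul_card
    have h2 := N.card_mul_index
    have hpos : 0 < Nat.card N := Nat.card_pos
    exact Nat.eq_of_mul_eq_mul_left hpos (h1.trans h2.symm)
  obtain ⟨x, hx, hx1⟩ := (Subgroup.ne_bot_iff_exists_ne_one).1 hN1 |> fun ⟨⟨x, hx⟩, hne⟩ =>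
    (⟨x, hx, fun h => hne (Subtype.ext h)⟩ : ∃ x ∈ N, x ≠ 1)
  have hCx := GagSpec.centralizer_eq_of_hall N hNp hcomm hcp hhall x hx hx1
  have hidxN : N.index + 1 = Nat.card N := by
    have := hidx x hx hx1
    rwa [hCx] at this
  have hH1 : H ≠ ⊥ := by
    intro hbot
    rw [hbot, Subgroup.card_bot] at hcardH
    have h2 := N.card_mul_index
    rw [← hcardH] at hidxN h2
    omega
  have hdisj : ∀ h ∈ H, h ∈ N → h = 1 := by
    intro h hh hn
    have := hH.disjoint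
    have hmem : h ∈ N ⊓ H := ⟨hn, hh⟩
    rw [this.eq_bot] at hmem
    exact (Subgroup.mem_bot).1 hmem
  have hfpf : ∀ h ∈ H, h ≠ 1 → ∀ n ∈ N, h * n = n * h → n = 1 := by
    intro h hh hh1 n hn hcommhn
    by_contra hn1
    have hc : h ∈ Subgroup.centralizer ({n} : Set G) := by
      rw [Subgroup.mem_centralizer_singleton_iff]
      exact hcommhn
    rw [GagSpec.centralizer_eq_of_hall N hNp hcomm hcp hhall n hn hn1] at hc
    exact hh1 (hdisj h hh hc)
  obtain ⟨hF, hK⟩ := GagSpec.frobenius_of_fpf N hN1 H hH hH1 hcomm hfpf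
  exact ⟨H, hF, hK, by omega⟩

end Cfsg.Agent.Lib.Helper32.GagGlue
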