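import Mathlib
import Cfsg.Prelude.Def_Local
import Cfsg.Agent.Lib.Helper15.PSolv

/-!
# From Hall–Higman's Theorem B (linear form, S0633) to faithful actions on elementary abelian groups

`HHBStmt p F V` is the statement of S0633 for a fixed field `F` and module `V`.
`hhb_group` applies it to a finite `p`-solvable group `Γ` with `O_p(Γ) = 1` acting faithfully on an
elementary abelian `p`-group `V` (written multiplicatively): if `x` has order `p ^ n` and
`(x - 1) ^ r'` kills `V`, then `p ^ n ≤ r'` or we are in the exceptional case.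
-/

set_option autoImplicit false

namespace Cfsg.Agent.Lib.Helper32.HHBridge

open Cfsg

universe u

/-- the statement of Hall–Higman's Theorem B (S0633) for a fixed field and module -/
def HHBStmt (p : ℕ) [Fact p.Prime] (F : Type*) [Field F] [CharP F p] (V : Type*)
    [AddCommGroup V] [Module F V] [FiniteDimensional F V] [Nontrivial V] : Prop :=
  ∀ (H : Subgroup (V ≃ₗ[F] V)) [Finite H] (_ : Cfsg.IsPSolvable p H) (_ : Cfsg.pCore p H = ⊥)
    (x : V ≃ₗ[F] V) (_ : x ∈ H) (n : ℕ) (_ : orderOf x = p ^ n) (r : ℕ)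
    (_ : minpoly F (x : Module.End F V) = (Polynomial.X - 1) ^ r),
    r = p ^ n ∨ ∃ n₀ q m : ℕ, 1 ≤ n₀ ∧ n₀ ≤ n ∧ q.Prime ∧ 1 ≤ m ∧ p ^ n₀ - 1 = q ^ m ∧
      (∀ Q : Sylow q H, ¬ IsMulCommutative Q) ∧ p ^ (n - n₀) * (p ^ n₀ - 1) ≤ r

/-- Theorem B for a faithful action on an elementary abelian `p`-group -/
theorem hhb_group {Γ : Type*} {V : Type u} [Group Γ] [Finite Γ] [CommGroup V] [Finite V]
    [Nontrivial V] {p : ℕ} [hp : Fact p.Prime]
    (hHH : ∀ (M : Type u) [AddCommGroup M] [Module (ZMod p) M] [FiniteDimensional (ZMod p) M]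
      [Nontrivial M], HHBStmt p (ZMod p) M)
    (hV : ∀ v : V, v ^ p = 1) (hΓsol : IsPSolvable p Γ) (hΓOp : pCore p Γ = ⊥)
    (a : Γ →* MulAut V) (ha : Function.Injective a) (x : Γ) (n : ℕ) (hn : orderOf x = p ^ n)
    (r' : ℕ) (hr' : ∀ v : V, (fun w => a x w * w⁻¹)^[r'] v = 1) :
    p ^ n ≤ r' ∨ ∃ n₀ q m : ℕ, 1 ≤ n₀ ∧ n₀ ≤ n ∧ q.Prime ∧ 1 ≤ m ∧ p ^ n₀ - 1 = q ^ m ∧
      p ^ (n - n₀) * (p ^ n₀ - 1) ≤ r' := by
  classical
  have hpp : p.Prime := hp.out
  have : NeZero p := ⟨hpp.ne_zero⟩
  have hx0 : ∀ x : Additive V, p • x = 0 := fun x =>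
    congrArg Additive.ofMul (hV (Additive.toMul x))
  letI : Module (ZMod p) (Additive V) := AddCommGroup.zmodModule (n := p) hx0
  let lin : MulAut V →* (Additive V ≃ₗ[ZMod p] Additive V) :=
    { toFun := fun φ =>
        { (MonoidHom.toAdditive φ.toMonoidHom).toZModLinearMap p with
          invFun := fun w => Additive.ofMul (φ.symm (Additive.toMul w))
          left_inv := fun w => by
            show Additive.ofMul (φ.symm (φ (Additive.toMul w))) = w
            rw [MulEquiv.symm_apply_apply]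
            rfl
          right_inv := fun w => by
            show Additive.ofMul (φ (φ.symm (Additive.toMul w))) = w
            rw [MulEquiv.apply_symm_apply]
            rfl }
      map_one' := by ext w; rfl
      map_mul' := fun φ ψ => by ext w; rfl }
  have hlin : ∀ (φ : MulAut V) (w : Additive V),
      lin φ w = Additive.ofMul (φ (Additive.toMul w)) := fun _ _ => rfl
  have hlininj : Function.Injective lin := by
    intro φ ψ h
    ext v
    have := LinearEquiv.congr_fun h (Additive.ofMul v)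
    rw [hlin, hlin] at this
    exact Additive.ofMul.injective this
  set ρ : Γ →* (Additive V ≃ₗ[ZMod p] Additive V) := lin.comp a with hρ
  have hρinj : Function.Injective ρ := hlininj.comp ha
  set H : Subgroup (Additive V ≃ₗ[ZMod p] Additive V) := ρ.range with hH
  let e : Γ ≃* H := MonoidHom.ofInjective hρinj
  have hHfin : Finite H := Finite.of_equiv Γ e.toEquiv
  have hsol : IsPSolvable p H :=
    Cfsg.Agent.Lib.Helper15.IsPSolvable.of_surjective hpp hΓsol e.toMonoidHom e.surjective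
  have hOp : pCore p H = ⊥ := by
    rw [← Cfsg.Agent.Lib.Helper15.pCore_map_equiv p e, hΓOp, Subgroup.map_bot]
  set x' : Additive V ≃ₗ[ZMod p] Additive V := ρ x with hx'
  have hx'H : x' ∈ H := ⟨x, rfl⟩
  have hord : orderOf x' = p ^ n := by rw [hx', orderOf_injective ρ hρinj x, hn]
  set f : Module.End (ZMod p) (Additive V) := (x' : Module.End (ZMod p) (Additive V)) with hf
  have hfapp : ∀ w : Additive V, f w = Additive.ofMul (a x (Additive.toMul w)) := fun _ => rfl
  have hd : ∀ (k : ℕ) (w : Additive V), ((f - 1) ^ k) w =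
      Additive.ofMul ((fun w => a x w * w⁻¹)^[k] (Additive.toMul w)) := by
    intro k
    induction k with
    | zero => intro w; simp
    | succ k ih =>
      intro w
      rw [pow_succ', Module.End.mul_apply, ih, Function.iterate_succ', Function.comp_apply]
      rw [LinearMap.sub_apply, hfapp, Module.End.one_apply, toMul_ofMul, ← ofMul_div,
        div_eq_mul_inv]
  have hpow : ∀ (i : ℕ) (w : Additive V),
      (f ^ i) w = Additive.ofMul ((a x ^ i) (Additive.toMul w)) := by
    intro i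
    induction i with
    | zero => intro w; simp
    | succ i ih =>
      intro w
      rw [pow_succ', Module.End.mul_apply, ih, hfapp, pow_succ', MulAut.mul_apply]
      rfl
  have hfr' : (f - 1) ^ r' = 0 := by
    ext w
    rw [hd, hr']
    rfl
  have hfpn : f ^ (p ^ n) = 1 := by
    ext w
    rw [hpow, ← map_pow, ← hn, pow_orderOf_eq_one, map_one]
    rfl
  have hpoly : ((Polynomial.X : Polynomial (ZMod p)) - Polynomial.C 1) ^ (p ^ n) =
      Polynomial.X ^ (p ^ n) - 1 := by
    rw [map_one, sub_pow_char_pow, one_pow]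
  have hann : Polynomial.aeval f
      (((Polynomial.X : Polynomial (ZMod p)) - Polynomial.C 1) ^ (p ^ n)) = 0 := by
    rw [hpoly]
    simp only [map_sub, map_pow, Polynomial.aeval_X, map_one]
    rw [hfpn, sub_self]
  have hann' : Polynomial.aeval f
      (((Polynomial.X : Polynomial (ZMod p)) - Polynomial.C 1) ^ r') = 0 := by
    simp only [map_sub, map_pow, Polynomial.aeval_X, map_one, Polynomial.aeval_C]
    exact hfr'
  have hint : IsIntegral (ZMod p) f := IsIntegral.of_finite (ZMod p) f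
  have hmon : (minpoly (ZMod p) f).Monic := minpoly.monic hint
  have hdvd := minpoly.dvd (ZMod p) f hann
  have hdvd' := minpoly.dvd (ZMod p) f hann'
  obtain ⟨r, hr_le, hassoc⟩ := (dvd_prime_pow (Polynomial.prime_X_sub_C (1 : ZMod p)) _).mp hdvd
  have hr0 : minpoly (ZMod p) f = (Polynomial.X - Polynomial.C 1) ^ r :=
    Polynomial.eq_of_monic_of_associated hmon ((Polynomial.monic_X_sub_C (1 : ZMod p)).pow r)
      hassoc
  have hr : minpoly (ZMod p) f = (Polynomial.X - 1) ^ r := by
    rw [hr0, map_one]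
  have hrr' : r ≤ r' := by
    rw [hr0] at hdvd'
    exact (pow_dvd_pow_iff (Polynomial.X_sub_C_ne_zero (1 : ZMod p))
      (Polynomial.not_isUnit_X_sub_C (1 : ZMod p))).mp hdvd'
  have hmain := hHH (Additive V) H hsol hOp x' hx'H n hord r hr
  rcases hmain with h | ⟨n₀, q, m, h1, h2, h3, h4, h5, _, h7⟩
  · left
    rw [← h]
    exact hrr'
  · right
    exact ⟨n₀, q, m, h1, h2, h3, h4, h5, h7.trans hrr'⟩

/-- the same with a commutativity hypothesis instead of a `CommGroup` instance -/
theorem hhb_group' {Γ : Type*} {V : Type u} [Group Γ] [Finite Γ] [Group V] [Finite V]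
    [Nontrivial V] {p : ℕ} [hp : Fact p.Prime]
    (hHH : ∀ (M : Type u) [AddCommGroup M] [Module (ZMod p) M] [FiniteDimensional (ZMod p) M]
      [Nontrivial M], HHBStmt p (ZMod p) M)
    (hcomm : ∀ x y : V, x * y = y * x)
    (hV : ∀ v : V, v ^ p = 1) (hΓsol : IsPSolvable p Γ) (hΓOp : pCore p Γ = ⊥)
    (a : Γ →* MulAut V) (ha : Function.Injective a) (x : Γ) (n : ℕ) (hn : orderOf x = p ^ n)
    (r' : ℕ) (hr' : ∀ v : V, (fun w => a x w * w⁻¹)^[r'] v = 1) :
    p ^ n ≤ r' ∨ ∃ n₀ q m : ℕ, 1 ≤ n₀ ∧ n₀ ≤ n ∧ q.Prime ∧ 1 ≤ m ∧ p ^ n₀ - 1 = q ^ m ∧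
      p ^ (n - n₀) * (p ^ n₀ - 1) ≤ r' := by
  letI : CommGroup V := { (inferInstance : Group V) with mul_comm := hcomm }
  exact hhb_group hHH hV hΓsol hΓOp a ha x n hn r' hr'

/-- the case `n = 1`, `p` odd and not a Fermat prime: `(x - 1) ^ (p - 1)` does not kill `V` -/
theorem exists_iterate_ne_one {Γ : Type*} {V : Type u} [Group Γ] [Finite Γ] [Group V] [Finite V]
    [Nontrivial V] {p : ℕ} [hp : Fact p.Prime] (hp2 : p ≠ 2) (hnf : ¬ ∃ k : ℕ, p = 2 ^ k + 1)
    (hHH : ∀ (M : Type u) [AddCommGroup M] [Module (ZMod p) M] [FiniteDimensional (ZMod p) M]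
      [Nontrivial M], HHBStmt p (ZMod p) M)
    (hcomm : ∀ x y : V, x * y = y * x)
    (hV : ∀ v : V, v ^ p = 1) (hΓsol : IsPSolvable p Γ) (hΓOp : pCore p Γ = ⊥)
    (a : Γ →* MulAut V) (ha : Function.Injective a) (x : Γ) (hx : orderOf x = p) :
    ∃ v : V, (fun w => a x w * w⁻¹)^[p - 1] v ≠ 1 := by
  by_contra hcon
  push Not at hcon
  have hpp : p.Prime := hp.out
  have h := hhb_group' hHH hcomm hV hΓsol hΓOp a ha x 1 (by rw [hx, pow_one]) (p - 1) hcon
  rcases h with h | ⟨n₀, q, m, h1, h2, h3, h4, h5, _⟩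
  · rw [pow_one] at h
    have := hpp.two_le
    omega
  · have hn₀ : n₀ = 1 := le_antisymm h2 h1
    subst hn₀
    rw [pow_one] at h5
    -- `p - 1 = q ^ m` with `p` odd forces `q = 2`
    have hodd : Odd p := hpp.odd_of_ne_two hp2
    have heven : Even (q ^ m) := by
      rw [← h5]
      exact Nat.Prime.even_sub_one hpp hp2
    have hq2 : q = 2 := by
      have h2dvd : 2 ∣ q ^ m := heven.two_dvd
      have := Nat.Prime.dvd_of_dvd_pow Nat.prime_two h2dvd
      exact ((Nat.prime_dvd_prime_iff_eq Nat.prime_two h3).mp this).symm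
    apply hnf
    refine ⟨m, ?_⟩
    rw [← hq2, ← h5]
    have := hpp.one_le
    omega

end Cfsg.Agent.Lib.Helper32.HHBridge
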