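import Mathlib
import Cfsg.Prelude.Def_HallClasses
import Cfsg.Agent.Lib.Helper38.HallAlt.Defs

/-!
# Keystone 253814 (K-HB-L3): a subgroup of `Sym` not inside `Alt` whose intersection with `Alt` is a
Hall `π`-subgroup of `Alt` (`2 ∈ π`) is a Hall `π`-subgroup of `Sym`.
-/

set_option autoImplicit false
open Cfsg

namespace Cfsg.Agent.Lib.Helper32.HallAlt

open Cfsg.Agent.Lib.Helper38.HallAlt

theorem altSub_index_eq_two {α : Type} [Finite α] (h : altSub α ≠ ⊤) : (altSub α).index = 2 := by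
  classical
  let _ := Fintype.ofFinite α
  have hnt : Nontrivial α := by
    by_contra hn
    rw [not_nontrivial_iff_subsingleton] at hn
    apply h
    rw [eq_top_iff]
    intro g _
    have : g = 1 := Subsingleton.elim _ _
    rw [this]; exact Subgroup.one_mem _
  rw [altSub_eq]
  exact alternatingGroup.index_eq_two

/-- **K-HB-L3** (253814). -/
theorem isPiHall_of_inf_altHall (π : Set ℕ) (h2 : 2 ∈ π) {α : Type} [Finite α]
    (M₀ : Subgroup (Equiv.Perm α)) (hodd : ¬ M₀ ≤ altSub α) (hH : AltHall π (M₀ ⊓ altSub α)) :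
    IsPiHall π M₀ := by
  obtain ⟨-, hH1, hH2⟩ := hH
  have hAtop : altSub α ≠ ⊤ := fun h => hodd (h ▸ le_top)
  have hA2 : (altSub α).index = 2 := altSub_index_eq_two hAtop
  -- `[M₀ : M₀ ∩ A] = 2`
  have hrel : (M₀ ⊓ altSub α).relIndex M₀ = 2 := by
    rw [Subgroup.inf_relIndex_left]
    have h1 : (altSub α).relIndex M₀ ∣ 2 := hA2 ▸ Subgroup.relIndex_dvd_index_of_normal (altSub α) M₀
    have h3 : (altSub α).relIndex M₀ ≠ 1 := fun h => hodd (Subgroup.relIndex_eq_one.mp h)
    rcases (Nat.dvd_prime Nat.prime_two).mp h1 with h | h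
    · exact absurd h h3
    · exact h
  have hcard : Nat.card ↥(M₀ ⊓ altSub α) * 2 = Nat.card M₀ := by
    have := Subgroup.relIndex_mul_relIndex ⊥ (M₀ ⊓ altSub α) M₀ bot_le inf_le_left
    rwa [Subgroup.relIndex_bot_left, Subgroup.relIndex_bot_left, hrel] at this
  have hidx : M₀.index = (M₀ ⊓ altSub α).relIndex (altSub α) := by
    have e1 := Subgroup.relIndex_mul_index (inf_le_left : M₀ ⊓ altSub α ≤ M₀)
    have e2 := Subgroup.relIndex_mul_index (inf_le_right : M₀ ⊓ altSub α ≤ altSub α)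
    rw [hrel] at e1
    rw [hA2] at e2
    omega
  refine ⟨?_, ?_⟩
  · intro p hp hpd
    rw [← hcard] at hpd
    rcases (Nat.Prime.dvd_mul hp).mp hpd with h | h
    · exact hH1 p hp h
    · rw [(Nat.prime_dvd_prime_iff_eq hp Nat.prime_two).mp h]; exact h2
  · intro p hp hpπ
    rw [hidx]
    exact hH2 p hp hpπ

end Cfsg.Agent.Lib.Helper32.HallAlt
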