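import Mathlib
import Cfsg.Agent.Lib.Helper06.NFDefs

/-!
# K-S0688-3 (field lemma)

`H ≤ GL(V)` transitive on `V \ {0}`, `A ⊴ H` abelian: every nonzero element of `F_p[A]` is injective.
-/

set_option autoImplicit false

namespace Cfsg.Agent.Lib.Helper32.NF

open Cfsg.Agent.Lib.Helper06.NF

variable {p : ℕ} [Fact p.Prime] {V : Type*} [AddCommGroup V] [Module (ZMod p) V]

/-- K-S0688-3 (field lemma). -/
theorem adj_injective [Finite V] (H : Subgroup (V ≃ₗ[ZMod p] V))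
    (htrans : ∀ v w : V, v ≠ 0 → w ≠ 0 → ∃ h : H, (h : V ≃ₗ[ZMod p] V) v = w)
    (A : Subgroup H) (hAn : A.Normal) (hAc : ∀ a ∈ A, ∀ b ∈ A, a * b = b * a) :
    ∀ k ∈ adj H A, ∀ v : V, v ≠ 0 → k v = 0 → k = 0 := by
  classical
  have hfinE : Finite (Module.End (ZMod p) V) :=
    Finite.of_injective (fun f : Module.End (ZMod p) V => (f : V → V))
      (fun _ _ h => LinearMap.ext (congrFun h))
  -- commutativity of `K`
  have hS : ∀ f ∈ {f : Module.End (ZMod p) V | ∃ a ∈ A, f = (((a : H) : V ≃ₗ[ZMod p] V) : V →ₗ[ZMod p] V)},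
      ∀ g ∈ {f : Module.End (ZMod p) V | ∃ a ∈ A, f = (((a : H) : V ≃ₗ[ZMod p] V) : V →ₗ[ZMod p] V)},
      f * g = g * f := by
    rintro f ⟨a, ha, rfl⟩ g ⟨b, hb, rfl⟩
    apply LinearMap.ext
    intro x
    have h1 := hAc a ha b hb
    have h2 : ((a * b : H) : V ≃ₗ[ZMod p] V) x = ((b * a : H) : V ≃ₗ[ZMod p] V) x := by rw [h1]
    simpa using h2
  have hcomm : ∀ k₁ ∈ adj H A, ∀ k₂ ∈ adj H A, k₁ * k₂ = k₂ * k₁ := by
    intro k₁ h₁ k₂ h₂
    have hc := Algebra.isMulCommutative_adjoin (ZMod p) hS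
    have := hc.is_comm.comm (⟨k₁, h₁⟩ : Algebra.adjoin (ZMod p) _) ⟨k₂, h₂⟩
    exact congrArg Subtype.val this
  -- conjugation invariance of `K`
  have hconj : ∀ h : H, ∀ k ∈ adj H A,
      (((h : V ≃ₗ[ZMod p] V)) : V →ₗ[ZMod p] V) * k *
        ((((h : V ≃ₗ[ZMod p] V)).symm : V ≃ₗ[ZMod p] V) : V →ₗ[ZMod p] V) ∈ adj H A := by
    intro h k hk
    have hgg : ((((h : V ≃ₗ[ZMod p] V)).symm : V ≃ₗ[ZMod p] V) : V →ₗ[ZMod p] V) *
        (((h : V ≃ₗ[ZMod p] V)) : V →ₗ[ZMod p] V) = 1 := by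
      apply LinearMap.ext
      intro x
      simp
    induction hk using Algebra.adjoin_induction with
    | mem x hx =>
      obtain ⟨a, ha, rfl⟩ := hx
      apply Algebra.subset_adjoin
      refine ⟨h * a * h⁻¹, hAn.conj_mem a ha h, ?_⟩
      apply LinearMap.ext
      intro x
      simp
    | algebraMap r =>
      have : (((h : V ≃ₗ[ZMod p] V)) : V →ₗ[ZMod p] V) * (algebraMap (ZMod p) (Module.End (ZMod p) V) r) *
        ((((h : V ≃ₗ[ZMod p] V)).symm : V ≃ₗ[ZMod p] V) : V →ₗ[ZMod p] V) =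
          algebraMap (ZMod p) (Module.End (ZMod p) V) r := by
        apply LinearMap.ext
        intro x
        simp
      rw [this]
      exact Subalgebra.algebraMap_mem _ r
    | add x y hx hy ihx ihy =>
      rw [mul_add, add_mul]
      exact add_mem ihx ihy
    | mul x y hx hy ihx ihy =>
      have : (((h : V ≃ₗ[ZMod p] V)) : V →ₗ[ZMod p] V) * (x * y) *
        ((((h : V ≃ₗ[ZMod p] V)).symm : V ≃ₗ[ZMod p] V) : V →ₗ[ZMod p] V) =
          ((((h : V ≃ₗ[ZMod p] V)) : V →ₗ[ZMod p] V) * x *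
        ((((h : V ≃ₗ[ZMod p] V)).symm : V ≃ₗ[ZMod p] V) : V →ₗ[ZMod p] V)) *
          ((((h : V ≃ₗ[ZMod p] V)) : V →ₗ[ZMod p] V) * y *
        ((((h : V ≃ₗ[ZMod p] V)).symm : V ≃ₗ[ZMod p] V) : V →ₗ[ZMod p] V)) := by
        have e : ∀ a b c d : Module.End (ZMod p) V, a * b * c * (a * d * c) = a * b * (c * a) * d * c := by
          intro a b c d
          simp only [mul_assoc]
        rw [e, hgg, mul_one]
        simp only [mul_assoc]
      rw [this]
      exact mul_mem ihx ihy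
  -- annihilators
  let Ann : V → Set (Module.End (ZMod p) V) := fun v => {k | k ∈ adj H A ∧ k v = 0}
  have hle : ∀ v w : V, v ≠ 0 → w ≠ 0 → (Ann v).ncard ≤ (Ann w).ncard := by
    intro v w hv hw
    obtain ⟨h, hh⟩ := htrans v w hv hw
    have hgg : ((((h : V ≃ₗ[ZMod p] V)).symm : V ≃ₗ[ZMod p] V) : V →ₗ[ZMod p] V) *
        (((h : V ≃ₗ[ZMod p] V)) : V →ₗ[ZMod p] V) = 1 := by
      apply LinearMap.ext
      intro x
      simp
    apply Set.ncard_le_ncard_of_injOn (fun k => (((h : V ≃ₗ[ZMod p] V)) : V →ₗ[ZMod p] V) * k *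
        ((((h : V ≃ₗ[ZMod p] V)).symm : V ≃ₗ[ZMod p] V) : V →ₗ[ZMod p] V)) ?_ ?_ (Set.toFinite _)
    · rintro k ⟨hk, hkv⟩
      refine ⟨hconj h k hk, ?_⟩
      rw [← hh]
      simp [hkv]
    · intro k₁ _ k₂ _ he
      have := congrArg (fun m => ((((h : V ≃ₗ[ZMod p] V)).symm : V ≃ₗ[ZMod p] V) : V →ₗ[ZMod p] V) * m *
        (((h : V ≃ₗ[ZMod p] V)) : V →ₗ[ZMod p] V)) he
      simp only at this
      have e : ∀ a b c : Module.End (ZMod p) V, c * (a * b * c) * a = (c * a) * b * (c * a) := by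
        intro a b c
        simp only [mul_assoc]
      rw [e, e, hgg, one_mul, mul_one, one_mul, mul_one] at this
      exact this
  have heq : ∀ v w : V, v ≠ 0 → w ≠ 0 → (Ann v).ncard = (Ann w).ncard :=
    fun v w hv hw => le_antisymm (hle v w hv hw) (hle w v hw hv)
  have hsub : ∀ v w : V, v ≠ 0 → w ≠ 0 → Ann v ⊆ Ann w → Ann v = Ann w :=
    fun v w hv hw hs => Set.eq_of_subset_of_ncard_le hs (heq v w hv hw).ge (Set.toFinite _)
  have hK_orbit : ∀ v : V, v ≠ 0 → ∀ k' ∈ adj H A, k' v ≠ 0 → Ann (k' v) = Ann v := by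
    intro v hv k' hk' hne
    symm
    apply hsub v (k' v) hv hne
    rintro k ⟨hk, hkv⟩
    refine ⟨hk, ?_⟩
    have h1 : k (k' v) = (k * k') v := rfl
    rw [h1, hcomm k hk k' hk']
    show k' (k v) = 0
    rw [hkv, map_zero]
  have hall : ∀ u v : V, u ≠ 0 → v ≠ 0 → Ann u = Ann v := by
    intro u v hu hv
    by_cases hex : ∃ k₁ ∈ adj H A, ∃ k₂ ∈ adj H A, k₁ u = k₂ v ∧ k₁ u ≠ 0
    · obtain ⟨k₁, h₁, k₂, h₂, he, hne⟩ := hex
      rw [← hK_orbit u hu k₁ h₁ hne, he, hK_orbit v hv k₂ h₂ (he ▸ hne)]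
    · push Not at hex
      have huv : u + v ≠ 0 := by
        intro h0
        have h1 : (1 : Module.End (ZMod p) V) u = (-1 : Module.End (ZMod p) V) v := by
          simp only [Module.End.one_apply, LinearMap.neg_apply]
          exact eq_neg_of_add_eq_zero_left h0
        have := hex 1 (one_mem _) (-1) (neg_mem (one_mem _)) h1
        simp only [Module.End.one_apply] at this
        exact hu this
      have hsubset : ∀ k ∈ Ann (u + v), k ∈ Ann u ∧ k ∈ Ann v := by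
        rintro k ⟨hk, hkuv⟩
        have h1 : k u = (-k) v := by
          rw [map_add] at hkuv
          rw [LinearMap.neg_apply]
          exact eq_neg_of_add_eq_zero_left hkuv
        have h2 := hex k hk (-k) (neg_mem hk) h1
        refine ⟨⟨hk, h2⟩, ⟨hk, ?_⟩⟩
        rw [map_add, h2, zero_add] at hkuv
        exact hkuv
      have hA1 : Ann (u + v) = Ann u := hsub (u + v) u huv hu (fun k hk => (hsubset k hk).1)
      have hA2 : Ann (u + v) = Ann v := hsub (u + v) v huv hv (fun k hk => (hsubset k hk).2)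
      rw [← hA1, hA2]
  -- conclusion
  intro k hk v hv hkv
  apply LinearMap.ext
  intro w
  by_cases hw : w = 0
  · simp [hw]
  · have : k ∈ Ann w := by
      rw [← hall v w hv hw]
      exact ⟨hk, hkv⟩
    exact this.2

end Cfsg.Agent.Lib.Helper32.NF
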