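import Cfsg.Agent.Lib.Helper32.WreathSection
import Cfsg.Agent.Lib.Helper32.HHBridge
import Cfsg.Agent.Lib.Helper67.ExpPLen3
import Cfsg.Agent.Lib.Helper67.CycNormal3
import Cfsg.Agent.Lib.Helper03.PGroupFrattini
import Cfsg.Agent.Lib.Helper39.FrattiniNilp

/-!
# `p`-length one from the absence of sections `C_p ≀ C_p` (helper32)

Conditional on the statement of Hall–Higman's Theorem B (`HHBridge.HHBStmt`, i.e. S0633): for an odd
prime `p` which is not a Fermat prime, a `p`-solvable group whose Sylow `p`-subgroups do not involve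
`C_p ≀ C_p` has `p`-length at most one.
-/

set_option autoImplicit false

namespace Cfsg.Agent.Lib.Helper32.Wreath

open Cfsg
open Cfsg.Agent.Lib.Helper67
open Cfsg.Agent.Lib.Helper81 (le_pCore le_pPrimeCore isPGroup_pCore card_pPrimeCore_coprime)
open Cfsg.Agent.Lib.Helper32.HHBridge
open scoped commutatorElement

universe u

/-- core step: with `O_{p'}(X) = 1`, the quotient `X / O_p(X)` is a `p'`-group -/
theorem not_dvd_card_quotient_pCore {X : Type u} [Group X] [Finite X] {p : ℕ} [hp : Fact p.Prime]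
    (hp2 : p ≠ 2) (hnf : ¬ ∃ k : ℕ, p = 2 ^ k + 1)
    (hHH : ∀ (M : Type u) [AddCommGroup M] [Module (ZMod p) M] [FiniteDimensional (ZMod p) M]
      [Nontrivial M], HHBStmt p (ZMod p) M)
    (hX : IsPSolvable p X) (hO : pPrimeCore p X = ⊥)
    (hwr : ∀ (W : Type) [Group W] [Finite W], WrProp p W → ¬ Involves W X) :
    ¬ p ∣ Nat.card (X ⧸ pCore p X) := by
  intro hdvd
  have hpp : p.Prime := hp.out
  have hRp : IsPGroup p (pCore p X) := isPGroup_pCore p
  have hcent : Subgroup.centralizer (pCore p X : Set X) ≤ pCore p X :=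
    Helper81.centralizer_pCore_le hX hO
  set R : Subgroup X := pCore p X with hR
  set Φ : Subgroup X := (frattini ↥R).map R.subtype with hΦ
  have hΦn : Φ.Normal := Cfsg.Agent.Lib.Helper39.frattini_map_subtype_normal R
  have hpowΦ : ∀ a ∈ R, a ^ p ∈ Φ := fun a ha =>
    ⟨⟨a, ha⟩ ^ p, Cfsg.Agent.Lib.Helper03.pow_mem_frattini_of_isPGroup hRp ⟨a, ha⟩, by simp⟩
  have hcommΦ : ∀ a ∈ R, ∀ b ∈ R, (b * a)⁻¹ * (a * b) ∈ Φ := by
    intro a ha b hb
    have h1 : ⁅(⟨a, ha⟩ : ↥R)⁻¹, (⟨b, hb⟩ : ↥R)⁻¹⁆ ∈ commutator ↥R := by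
      rw [commutator_def]
      exact Subgroup.commutator_mem_commutator (Subgroup.mem_top _) (Subgroup.mem_top _)
    have h2 := Cfsg.Agent.Lib.Helper03.commutator_le_frattini_of_isPGroup hRp h1
    refine ⟨_, h2, ?_⟩
    simp only [Subgroup.subtype_apply, commutatorElement_def, Subgroup.coe_mul, Subgroup.coe_inv,
      inv_inv]
    group
  set π : X →* X ⧸ Φ := QuotientGroup.mk' Φ with hπ
  have hπs : Function.Surjective π := QuotientGroup.mk'_surjective Φ
  have hπker : ∀ y : X, π y = 1 ↔ y ∈ Φ := fun y => QuotientGroup.eq_one_iff y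
  set A : Subgroup (X ⧸ Φ) := R.map π with hA
  have hRn : R.Normal := inferInstance
  have hAn : A.Normal := Subgroup.Normal.map hRn π hπs
  have hAc : ∀ a ∈ A, ∀ b ∈ A, a * b = b * a := by
    rintro _ ⟨a, ha, rfl⟩ _ ⟨b, hb, rfl⟩
    rw [← map_mul, ← map_mul]
    have h1 := (hπker _).mpr (hcommΦ a ha b hb)
    rw [map_mul, map_inv, inv_mul_eq_one] at h1
    exact h1.symm
  have hAp : ∀ a ∈ A, a ^ p = 1 := by
    rintro _ ⟨a, ha, rfl⟩
    rw [← map_pow]
    exact (hπker _).mpr (hpowΦ a ha)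
  -- the action of `X / R` on `A`
  set a₀ : X →* MulAut ↥A := (MulAut.conjNormal (H := A)).comp π with ha₀
  have ha₀app : ∀ (g : X) (b : ↥A), ((a₀ g b : ↥A) : X ⧸ Φ) = π g * b * (π g)⁻¹ :=
    fun g b => MulAut.conjNormal_apply (π g) b
  have hRker : R ≤ a₀.ker := by
    intro r hr
    rw [MonoidHom.mem_ker]
    ext b
    rw [ha₀app, MulAut.one_apply, hAc (π r) (Subgroup.mem_map_of_mem π hr) b b.2,
      mul_inv_cancel_right]
  set ab : X ⧸ R →* MulAut ↥A := QuotientGroup.lift R a₀ hRker with hab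
  have hab_mk : ∀ g : X, ab (g : X ⧸ R) = a₀ g := fun g => rfl
  have habinj : Function.Injective ab := by
    rw [injective_iff_map_eq_one]
    intro γ hγ
    obtain ⟨g, rfl⟩ := QuotientGroup.mk_surjective γ
    rw [QuotientGroup.eq_one_iff]
    apply Cfsg.Agent.Lib.Helper75.mem_pCore_of_trivial_on_frattini_quotient R hRp hcent g
    intro y hy
    rw [hab_mk] at hγ
    have h1 := congrArg (fun f : MulAut ↥A => ((f ⟨π y, Subgroup.mem_map_of_mem π hy⟩ : ↥A) :
      X ⧸ Φ)) hγ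
    simp only [ha₀app, MulAut.one_apply] at h1
    rw [← hπker, map_mul, map_mul, map_mul, map_inv, map_inv, h1, mul_inv_cancel]
  have hΓsol : IsPSolvable p (X ⧸ R) := Helper81.IsPSolvable.quotient hpp hX R
  have hΓOp : pCore p (X ⧸ R) = ⊥ := by
    rw [Helper54.pCore_quotient_of_isPGroup R hRp]
    exact QuotientGroup.map_mk'_self _
  obtain ⟨xb, hxb⟩ := exists_prime_orderOf_dvd_card' p hdvd
  obtain ⟨x, rfl⟩ := QuotientGroup.mk_surjective xb
  have hcommA : ∀ a b : ↥A, a * b = b * a := fun a b => Subtype.ext (hAc a a.2 b b.2)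
  have hVA : ∀ v : ↥A, v ^ p = 1 := fun v => Subtype.ext (hAp v v.2)
  have hnt : Nontrivial ↥A := by
    by_contra hcon
    rw [not_nontrivial_iff_subsingleton] at hcon
    have h1 : ab (x : X ⧸ R) = 1 := by
      ext b
      exact congrArg Subtype.val (Subsingleton.elim _ _)
    have h2 : (x : X ⧸ R) = 1 := habinj (by rw [h1, map_one])
    rw [h2, orderOf_one] at hxb
    exact hpp.one_lt.ne hxb
  obtain ⟨v, hv⟩ := exists_iterate_ne_one hp2 hnf hHH hcommA hVA hΓsol hΓOp ab habinj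
    (x : X ⧸ R) hxb
  have hxpR : x ^ p ∈ R := by
    rw [← QuotientGroup.eq_one_iff, QuotientGroup.mk_pow, ← hxb, pow_orderOf_eq_one]
  have hxpA : (π x) ^ p ∈ A := by
    rw [← map_pow]
    exact Subgroup.mem_map_of_mem π hxpR
  have hwr' : ∀ (W : Type) [Group W] [Finite W], WrProp p W → ¬ Involves W (X ⧸ Φ) :=
    fun W _ _ hW hI => hwr W hW (involves_of_quotient Φ hI)
  exact wreath_false hwr' A hAc hAp (π x) hxpA v hv

/-- **S3787, conditional on Theorem B** -/
theorem pLengthLE_one_of_no_wreath {G : Type u} [Group G] [Finite G] {p : ℕ} [hp : Fact p.Prime]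
    (hp2 : p ≠ 2) (hnf : ¬ ∃ k : ℕ, p = 2 ^ k + 1)
    (hHH : ∀ (M : Type u) [AddCommGroup M] [Module (ZMod p) M] [FiniteDimensional (ZMod p) M]
      [Nontrivial M], HHBStmt p (ZMod p) M)
    (hG : IsPSolvable p G) (P : Sylow p G)
    (hwr : ∀ (W : Type) [Group W] [Finite W], WrProp p W → ¬ Involves W ↥(P : Subgroup G)) :
    PLengthLE p 1 G := by
  have hpp : p.Prime := hp.out
  have hwrG : ∀ (W : Type) [Group W] [Finite W], WrProp p W → ¬ Involves W G := by
    intro W _ _ hW hI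
    have hWp : IsPGroup p W := by
      obtain ⟨B, t, _, _, _, _, _, _, hcard, _⟩ := hW
      exact IsPGroup.of_card hcard
    exact hwr W hW (Cfsg.Agent.Lib.Helper90.Involves.sylow hWp P hI)
  have hN₀ : (pPrimeCore p G).Normal := pPrimeCore_normal p G
  have hX : IsPSolvable p (G ⧸ pPrimeCore p G) := Helper81.IsPSolvable.quotient hpp hG _
  have hO : pPrimeCore p (G ⧸ pPrimeCore p G) = ⊥ := Helper81.pPrimeCore_quotient_eq_bot p
  have hwrX : ∀ (W : Type) [Group W] [Finite W], WrProp p W →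
      ¬ Involves W (G ⧸ pPrimeCore p G) :=
    fun W _ _ hW hI => hwrG W hW (involves_of_quotient _ hI)
  have hnd := not_dvd_card_quotient_pCore hp2 hnf hHH hX hO hwrX
  have h3 : PLengthLE p 0 ((G ⧸ pPrimeCore p G) ⧸ pCore p (G ⧸ pPrimeCore p G)) :=
    pLengthLE_zero_of_coprime p ((Nat.Prime.coprime_iff_not_dvd hpp).mpr hnd).symm
  have h4 : PLengthLE p 1 ↥(pCore p (G ⧸ pPrimeCore p G)) :=
    pLengthLE_one_of_isPGroup p (isPGroup_pCore p)
  have h5 : PLengthLE p (1 + 0) (G ⧸ pPrimeCore p G) := pLengthLE_add p _ 1 0 h4 h3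
  have h0 : PLengthLE p 0 ↥(pPrimeCore p G) :=
    pLengthLE_zero_of_coprime p (card_pPrimeCore_coprime p)
  have h6 := pLengthLE_add p (pPrimeCore p G) 0 (1 + 0) h0 h5
  simpa using h6

end Cfsg.Agent.Lib.Helper32.Wreath
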