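import Mathlib
import Cfsg.Agent.S3995
import Cfsg.Agent.S0497

/-!
# K-NSE-D6 (S3431): a group of order 360 with 80 elements of order 3, 144 elements of order 5 and
all element orders at most 5 is isomorphic to `A_6`.

Pure counting: `K` normal, proper, nontrivial.  If `5 ∣ |K|`, Sylow conjugacy puts all elements of
order 5 into `K`, so `|K| = 180` has index 2 and also contains all elements of order 3.  Otherwise an
element of order 5 acts fixed-point-freely on `K`, so the numbers of elements of `K` of each order are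
multiples of 5; `|K| ∈ {6, 36}` and Cauchy / Frobenius finish.
-/

set_option autoImplicit false
set_option linter.style.haveILetI false
set_option linter.unusedSectionVars false
set_option linter.unusedVariables false

namespace Cfsg.Agent.Lib.Helper32.Nse

open Cfsg.Agent.S3995 (s)

variable {G : Type*} [Group G] [Finite G]

/-- the number of elements of order `m` in the subgroup `K` -/
noncomputable def eK (K : Subgroup G) (m : ℕ) : ℕ := Nat.card {x : G // x ∈ K ∧ orderOf x = m}

theorem orderOf_conj_eq (c x : G) : orderOf (c * x * c⁻¹) = orderOf x := by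
  have := orderOf_injective (MulAut.conj c).toMonoidHom (MulAut.conj c).injective x
  simpa using this

/-- if an element of prime order `p` fixes (by conjugation) no element of order `m` of the normal
subgroup `K`, then the number of these elements is divisible by `p` -/
theorem dvd_eK_of_fpf (K : Subgroup G) [hK : K.Normal] (p : ℕ) [hp : Fact p.Prime] (g : G)
    (hg : orderOf g = p) (m : ℕ)
    (hfix : ∀ x ∈ K, orderOf x = m → g * x * g⁻¹ ≠ x) : p ∣ eK K m := by
  classical
  let S : SubMulAction (ConjAct G) G :=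
    { carrier := {x | x ∈ K ∧ orderOf x = m}
      smul_mem' := by
        intro c x hx
        rw [ConjAct.smul_def]
        exact ⟨hK.conj_mem x hx.1 _, by rw [orderOf_conj_eq]; exact hx.2⟩ }
  let H : Subgroup (ConjAct G) := Subgroup.zpowers (ConjAct.toConjAct g)
  have hHcard : Nat.card H = p ^ 1 := by
    rw [pow_one, Nat.card_zpowers, MulEquiv.orderOf_eq, hg]
  have hP : IsPGroup p H := IsPGroup.of_card hHcard
  haveI : Finite ↥S := Subtype.finite
  have hmod := hP.card_modEq_card_fixedPoints ↥S
  have hempty : IsEmpty (MulAction.fixedPoints H ↥S) := by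
    constructor
    rintro ⟨x, hx⟩
    have h1 := hx ⟨ConjAct.toConjAct g, Subgroup.mem_zpowers _⟩
    have h2 : g * (x : G) * g⁻¹ = (x : G) := by
      have := congrArg (fun y : ↥S => (y : G)) h1
      simpa [Subgroup.smul_def, ConjAct.smul_def] using this
    exact hfix x x.2.1 x.2.2 h2
  have h0 : Nat.card (MulAction.fixedPoints H ↥S) = 0 := by
    rw [Nat.card_eq_zero]; exact Or.inl hempty
  rw [h0] at hmod
  have : eK K m = Nat.card ↥S := rfl
  rw [this]
  exact (Nat.modEq_zero_iff_dvd).mp hmod

/-- Sylow conjugacy: if `p ‖ |G|` and `p ∣ |K|` then the normal subgroup `K` contains every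
element of order `p` -/
theorem mem_of_orderOf_eq_prime (K : Subgroup G) [hK : K.Normal] (p : ℕ) [hp : Fact p.Prime]
    (hpp : ¬ p ^ 2 ∣ Nat.card G) (hpK : p ∣ Nat.card K) (h : G) (hh : orderOf h = p) : h ∈ K := by
  obtain ⟨x, hx⟩ := exists_prime_orderOf_dvd_card' (G := K) p hpK
  have hx' : orderOf (x : G) = p := by rw [Subgroup.orderOf_coe]; exact hx
  -- a subgroup generated by an element of order `p` is a Sylow subgroup
  have key : ∀ y : G, orderOf y = p → ∃ Q : Sylow p G, (Q : Subgroup G) = Subgroup.zpowers y := by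
    intro y hy
    have hpg : IsPGroup p (Subgroup.zpowers y) := by
      apply IsPGroup.of_card (n := 1)
      rw [pow_one, Nat.card_zpowers, hy]
    obtain ⟨Q, hQ⟩ := hpg.exists_le_sylow
    refine ⟨Q, ?_⟩
    obtain ⟨n, hn⟩ := IsPGroup.iff_card.mp Q.2
    have hdvd : Nat.card (Q : Subgroup G) ∣ Nat.card G := Subgroup.card_subgroup_dvd_card _
    have hle : Nat.card (Subgroup.zpowers y) ∣ Nat.card (Q : Subgroup G) :=
      Subgroup.card_dvd_of_le hQ
    rw [Nat.card_zpowers, hy, hn] at hle
    rw [hn] at hdvd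
    have hn1 : n ≤ 1 := by
      by_contra hcon
      have hcon : 2 ≤ n := by omega
      exact hpp (dvd_trans (pow_dvd_pow p hcon) hdvd)
    have hn0 : n ≠ 0 := by
      rintro rfl
      rw [pow_zero] at hle
      exact hp.out.one_lt.ne' (Nat.dvd_one.mp hle)
    have hn' : n = 1 := by omega
    subst hn'
    rw [pow_one] at hn
    symm
    apply Subgroup.eq_of_le_of_card_ge hQ
    rw [hn, Nat.card_zpowers, hy]
  obtain ⟨Q1, hQ1⟩ := key x hx'
  obtain ⟨Q2, hQ2⟩ := key h hh
  obtain ⟨c, hc⟩ := MulAction.exists_smul_eq G Q1 Q2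
  have hmem : h ∈ (Q2 : Subgroup G) := by rw [hQ2]; exact Subgroup.mem_zpowers h
  rw [← hc, Sylow.coe_subgroup_smul, hQ1] at hmem
  rw [Subgroup.mem_pointwise_smul_iff_inv_smul_mem] at hmem
  -- `c⁻¹ h c ∈ zpowers x ≤ K`
  have h1 : (MulAut.conj c)⁻¹ • h ∈ K := by
    have hle : Subgroup.zpowers (x : G) ≤ K := by
      rw [Subgroup.zpowers_le]; exact x.2
    exact hle hmem
  have h2 : (MulAut.conj c)⁻¹ • h = c⁻¹ * h * c := by
    simp [MulAut.smul_def]
  rw [h2] at h1
  have := hK.conj_mem _ h1 c
  simpa [mul_assoc] using this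

/-- the elements of `K` split according to their order, when all orders are at most 5 -/
theorem card_eq_sum_eK (K : Subgroup G) (hsp : ∀ g : G, orderOf g ≤ 5) :
    Nat.card K = 1 + eK K 2 + eK K 3 + eK K 4 + eK K 5 := by
  classical
  letI : Fintype G := Fintype.ofFinite G
  have hE : ∀ m, eK K m = (Finset.univ.filter (fun x : G => x ∈ K ∧ orderOf x = m)).card := by
    intro m
    unfold eK
    rw [Nat.card_eq_fintype_card, Fintype.card_subtype]
  have hKc : Nat.card K = (Finset.univ.filter (fun x : G => x ∈ K)).card := by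
    rw [Nat.card_eq_fintype_card, Fintype.card_subtype]
  have hfib := Finset.card_eq_sum_card_fiberwise (f := fun x : G => orderOf x)
    (s := Finset.univ.filter (fun x : G => x ∈ K)) (t := ({1, 2, 3, 4, 5} : Finset ℕ))
    (by
      intro x _
      have h1 := hsp x
      have h2 := orderOf_pos x
      simp only [Finset.coe_insert, Finset.coe_singleton, Set.mem_insert_iff,
        Set.mem_singleton_iff]
      omega)
  have h1 : eK K 1 = 1 := by
    rw [hE]
    rw [Finset.card_eq_one]
    refine ⟨1, ?_⟩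
    ext x
    simp only [Finset.mem_filter, Finset.mem_univ, true_and, Finset.mem_singleton]
    constructor
    · rintro ⟨_, hx⟩; exact orderOf_eq_one_iff.mp hx
    · rintro rfl; exact ⟨K.one_mem, orderOf_one⟩
  rw [hKc, hfib]
  simp only [Finset.filter_filter]
  rw [Finset.sum_insert (by decide), Finset.sum_insert (by decide), Finset.sum_insert (by decide),
    Finset.sum_insert (by decide), Finset.sum_singleton]
  rw [← hE 1, ← hE 2, ← hE 3, ← hE 4, ← hE 5, h1]
  ring

theorem eK_eq_s_of_forall_mem (K : Subgroup G) (m : ℕ) (h : ∀ x : G, orderOf x = m → x ∈ K) :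
    eK K m = s G m := by
  unfold eK s
  exact Nat.card_congr (Equiv.subtypeEquivRight (fun x => ⟨fun hx => hx.2, fun hx => ⟨h x hx, hx⟩⟩))

theorem eK_pos_of_prime_dvd (K : Subgroup G) (p : ℕ) [hp : Fact p.Prime] (hpK : p ∣ Nat.card K) :
    1 ≤ eK K p := by
  obtain ⟨x, hx⟩ := exists_prime_orderOf_dvd_card' (G := K) p hpK
  have hx' : orderOf (x : G) = p := by rw [Subgroup.orderOf_coe]; exact hx
  unfold eK
  haveI : Nonempty {y : G // y ∈ K ∧ orderOf y = p} := ⟨⟨x, x.2, hx'⟩⟩
  exact Nat.card_pos

theorem eK_eq_zero_of_not_dvd (K : Subgroup G) (m : ℕ) (hm : ¬ m ∣ Nat.card K) : eK K m = 0 := by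
  unfold eK
  rw [Nat.card_eq_zero]
  left
  constructor
  rintro ⟨x, hxK, hx⟩
  apply hm
  rw [← hx]
  exact Subgroup.orderOf_dvd_natCard K hxK

theorem eK_eq_sub (K : Subgroup G) (m : ℕ) : eK K m = s K m := by
  unfold eK s
  refine Nat.card_congr ?_
  exact
    { toFun := fun x => ⟨⟨x.1, x.2.1⟩, by rw [← Subgroup.orderOf_coe]; exact x.2.2⟩
      invFun := fun x => ⟨x.1.1, x.1.2, by rw [Subgroup.orderOf_coe]; exact x.2⟩
      left_inv := fun x => rfl
      right_inv := fun x => rfl }

/-- the fixed-point-free action of an element of order 5 -/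
theorem fpf_of_spectrum (K : Subgroup G) (hsp : ∀ g : G, orderOf g ≤ 5) (h5K : ¬ 5 ∣ Nat.card K)
    (g : G) (hg : orderOf g = 5) (x : G) (hxK : x ∈ K) (hx1 : x ≠ 1) : g * x * g⁻¹ ≠ x := by
  intro hfix
  have hcomm : Commute g x := by
    have : g * x = x * g := by
      calc g * x = g * x * g⁻¹ * g := by group
        _ = x * g := by rw [hfix]
    exact this
  have hdvd : orderOf x ∣ Nat.card K := Subgroup.orderOf_dvd_natCard K hxK
  have hcop : (orderOf g).Coprime (orderOf x) := by
    rw [hg]
    apply (Nat.Prime.coprime_iff_not_dvd (by norm_num)).mpr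
    intro h5
    exact h5K (dvd_trans h5 hdvd)
  have hord := hcomm.orderOf_mul_eq_mul_orderOf_of_coprime hcop
  have h2 : 2 ≤ orderOf x := by
    have hpos := orderOf_pos x
    have hne : orderOf x ≠ 1 := fun h => hx1 (orderOf_eq_one_iff.mp h)
    omega
  have := hsp (g * x)
  rw [hord, hg] at this
  omega

/-- the common skeleton: simplicity from the counts -/
theorem simple_of_counts (N a3 a5 : ℕ) (hN : Nat.card G = N) (h3 : s G 3 = a3) (h5 : s G 5 = a5)
    (ha5 : a5 ≠ 0) (hsp : ∀ g : G, orderOf g ≤ 5) (hN1 : 1 < N)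
    (h25 : ¬ 5 ^ 2 ∣ N)
    (hA : ∀ k, k ∣ N → k < N → 1 + a5 ≤ k → 2 * k = N ∧ k < 1 + a3 + a5)
    (hB : ∀ k, k ∣ N → ¬ 5 ∣ k → 1 < k → k % 5 = 1 → k = 6 ∨ k = 36) :
    IsSimpleGroup G := by
  classical
  haveI : Nontrivial G := by
    rw [← Finite.one_lt_card_iff_nontrivial, hN]; exact hN1
  refine ⟨fun K hK => ?_⟩
  by_contra hcon
  rw [not_or] at hcon
  obtain ⟨hbot, htop⟩ := hcon
  haveI := hK
  haveI : Fact (Nat.Prime 5) := ⟨by norm_num⟩
  haveI : Fact (Nat.Prime 2) := ⟨by norm_num⟩
  haveI : Fact (Nat.Prime 3) := ⟨by norm_num⟩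
  have hkdvd : Nat.card K ∣ N := hN ▸ Subgroup.card_subgroup_dvd_card K
  have hk1 : 1 < Nat.card K := (Subgroup.one_lt_card_iff_ne_bot K).mpr hbot
  have hklt : Nat.card K < N := by
    have hle : Nat.card K ≤ N := Nat.le_of_dvd (by omega) hkdvd
    rcases Nat.lt_or_ge (Nat.card K) N with h | h
    · exact h
    · exfalso
      apply htop
      apply (Subgroup.card_eq_iff_eq_top K).mp
      rw [hN]; omega
  have hsum := card_eq_sum_eK K hsp
  by_cases h5K : 5 ∣ Nat.card K
  · -- all elements of order 5 are in `K`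
    have hall5 : ∀ x : G, orderOf x = 5 → x ∈ K :=
      fun x hx => mem_of_orderOf_eq_prime K 5 (by rw [hN]; exact h25) h5K x hx
    have he5 : eK K 5 = a5 := by rw [eK_eq_s_of_forall_mem K 5 hall5, h5]
    obtain ⟨h2k, hklt'⟩ := hA (Nat.card K) hkdvd hklt (by omega)
    have hidx : K.index = 2 := by
      have := K.card_mul_index
      rw [hN, ← h2k] at this
      have hpos : 0 < Nat.card K := by omega
      have : Nat.card K * K.index = Nat.card K * 2 := by rw [this]; ring
      exact Nat.eq_of_mul_eq_mul_left hpos this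
    have hall3 : ∀ x : G, orderOf x = 3 → x ∈ K := by
      intro x hx
      have hsq := Subgroup.sq_mem_of_index_two hidx (x ^ 2)
      have : (x ^ 2) ^ 2 = x := by
        rw [← pow_mul]
        have h3' : x ^ 3 = 1 := by rw [← hx]; exact pow_orderOf_eq_one x
        calc x ^ (2 * 2) = x ^ 3 * x := by rw [← pow_succ]
          _ = x := by rw [h3', one_mul]
      rwa [this] at hsq
    have he3 : eK K 3 = a3 := by rw [eK_eq_s_of_forall_mem K 3 hall3, h3]
    omega
  · -- fixed-point-free action of an element of order 5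
    obtain ⟨g, hg⟩ := (Cfsg.Agent.S3995.s_ne_zero_iff (G := G) 5).mp (by rw [h5]; exact ha5)
    have hfpf := fpf_of_spectrum K hsp h5K g hg
    have hd : ∀ m, m ≠ 1 → 5 ∣ eK K m := by
      intro m hm
      apply dvd_eK_of_fpf K 5 g hg m
      intro x hxK hxm
      apply hfpf x hxK
      rintro rfl
      rw [orderOf_one] at hxm
      exact hm hxm.symm
    have he5 : eK K 5 = 0 := eK_eq_zero_of_not_dvd K 5 h5K
    have hd2 := hd 2 (by norm_num)
    have hd3 := hd 3 (by norm_num)
    have hd4 := hd 4 (by norm_num)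
    have hmod : Nat.card K % 5 = 1 := by omega
    rcases hB (Nat.card K) hkdvd h5K hk1 hmod with h6 | h36
    · have c2 := eK_pos_of_prime_dvd K 2 (by rw [h6]; norm_num)
      have c3 := eK_pos_of_prime_dvd K 3 (by rw [h6]; norm_num)
      omega
    · have c2 := eK_pos_of_prime_dvd K 2 (by rw [h36]; norm_num)
      have hfrob := Cfsg.Agent.S3995.frob_s (G := K) 9 (by rw [h36]; norm_num)
      have h9 : (9 : ℕ) = 3 ^ 2 := by norm_num
      rw [h9, Cfsg.Agent.S3995.sum_div_prime_sq 3 (by norm_num)] at hfrob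
      rw [← eK_eq_sub K 1, ← eK_eq_sub K 3, ← eK_eq_sub K (3 ^ 2)] at hfrob
      have e9 : eK K (3 ^ 2) = 0 := by
        unfold eK
        rw [Nat.card_eq_zero]
        left
        constructor
        rintro ⟨x, _, hx⟩
        have := hsp x
        rw [hx] at this
        norm_num at this
      have e1 : eK K 1 = 1 := by rw [eK_eq_sub K 1]; exact Cfsg.Agent.S3995.s_one
      rw [e9, e1] at hfrob
      omega

/-- **K-NSE-D6** -/
theorem recog_A6 {G : Type*} [Group G] [Finite G] (hN : Nat.card G = 360)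
    (h3 : Cfsg.Agent.S3995.s G 3 = 80)
    (h5 : Cfsg.Agent.S3995.s G 5 = 144) (hsp : ∀ m, Cfsg.Agent.S3995.s G m ≠ 0 → m ≤ 5) :
    Nonempty (G ≃* ↥(alternatingGroup (Fin 6))) := by
  have hsp' : ∀ g : G, orderOf g ≤ 5 :=
    fun g => hsp _ ((Cfsg.Agent.S3995.s_ne_zero_iff _).mpr ⟨g, rfl⟩)
  haveI : IsSimpleGroup G := by
    refine simple_of_counts 360 80 144 hN h3 h5 (by norm_num) hsp' (by norm_num) (by norm_num) ?_ ?_
    · intro k hk hlt hge
      obtain ⟨j, hj⟩ := hk
      have hj2 : j ≤ 2 := by nlinarith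
      have hj1 : 2 ≤ j := by
        by_contra hcon
        have hcon : j < 2 := by omega
        interval_cases j <;> omega
      have : j = 2 := by omega
      subst this
      omega
    · intro k hk h5 h1 hmod
      have hk72 : k ∣ 72 := by
        have : k ∣ 72 * 5 := by norm_num; exact hk
        exact Nat.Coprime.dvd_of_dvd_mul_right
          ((Nat.coprime_comm.mp ((Nat.Prime.coprime_iff_not_dvd (by norm_num)).mpr h5))) this
      have hle : k ≤ 72 := Nat.le_of_dvd (by norm_num) hk72
      interval_cases k <;> omega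
  exact Cfsg.Agent.S0497.result hN

end Cfsg.Agent.Lib.Helper32.Nse
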