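import Mathlib
import Cfsg.Agent.Lib.Helper49.OInvDefs

/-!
# K-OInv-3b (keystone 268305, architect helper49): pure arithmetic for the pointwise stabiliser of a
totally isotropic subspace of mixed type in `O⁺_{2m}(q)`.
-/

set_option autoImplicit false

namespace Cfsg.Agent.Lib.Helper32.OInv

open Cfsg.Agent.Lib.Helper49.SpInv Cfsg.Agent.Lib.Helper49.OInv

lemma sub_one_mul_add_one (a : ℕ) (ha : 1 ≤ a) : (a - 1) * (a + 1) = a ^ 2 - 1 := by
  obtain ⟨b, rfl⟩ : ∃ b, a = b + 1 := ⟨a - 1, by omega⟩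
  simp only [Nat.add_sub_cancel]
  have : (b + 1) ^ 2 = b * (b + 1 + 1) + 1 := by ring
  rw [this, Nat.add_sub_cancel]

/-- the key product identity. -/
lemma prod_identity (q d k : ℕ) (hq : 1 ≤ q) :
    (q ^ (k + d + 1) - 1) * ∏ i ∈ Finset.range (k + d), (q ^ (2 * (i + 1)) - 1) =
      (∏ i ∈ Finset.range d, (q ^ (2 * (i + 1)) - 1)) * ((q ^ (d + 1) - 1) *
        ∏ j ∈ Finset.range k, ((q ^ (d + 2 + j) - 1) * (q ^ (d + 1 + j) + 1))) := by
  induction k with
  | zero => simp [mul_comm]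
  | succ k ih =>
    rw [Finset.prod_range_succ (fun j => (q ^ (d + 2 + j) - 1) * (q ^ (d + 1 + j) + 1)) k]
    have e1 : k + 1 + d = (k + d) + 1 := by omega
    rw [e1, Finset.prod_range_succ]
    have hsq : (q ^ (k + d + 1) - 1) * (q ^ (k + d + 1) + 1) = q ^ (2 * (k + d + 1)) - 1 := by
      rw [sub_one_mul_add_one _ (Nat.one_le_pow _ _ hq), ← pow_mul, mul_comm]
    have e2 : d + 2 + k = k + d + 1 + 1 := by omega
    have e3 : d + 1 + k = k + d + 1 := by omega
    rw [e2, e3, ← hsq]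
    calc (q ^ (k + d + 1 + 1) - 1) * ((∏ i ∈ Finset.range (k + d), (q ^ (2 * (i + 1)) - 1)) *
          ((q ^ (k + d + 1) - 1) * (q ^ (k + d + 1) + 1)))
        = ((q ^ (k + d + 1) - 1) * ∏ i ∈ Finset.range (k + d), (q ^ (2 * (i + 1)) - 1)) *
            ((q ^ (k + d + 1 + 1) - 1) * (q ^ (k + d + 1) + 1)) := by ring
      _ = _ := by rw [ih]; ring

/-- K-OInv-3b. -/
theorem arith_stab_m (q m k c : ℕ) (hq : 2 ≤ q) (hk : k < m)
    (hc : c * (sFrameCount q m k * (q ^ k * (q ^ (m - k - 1) * (q ^ (m - k) - 1)))) = oPlusOrd q m) :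
    c = 2 * (q ^ (2 * m * k - (3 * (k + 1) ^ 2 - 3 * (k + 1)) / 2) * spOrd q (m - k - 1)) := by
  obtain ⟨d, rfl⟩ : ∃ d, m = k + d + 1 := ⟨m - k - 1, by omega⟩
  have hd1 : k + d + 1 - k - 1 = d := by omega
  have hd2 : k + d + 1 - k = d + 1 := by omega
  rw [hd1] at hc ⊢
  rw [hd2] at hc
  have hq0 : 0 < q := by omega
  have hq1 : 1 ≤ q := by omega
  set T := ∑ i ∈ Finset.range k, i with hTdef
  have hT2 : T * 2 = k * (k - 1) := Finset.sum_range_id_mul_two k
  have h1 : sFrameCount q (k + d + 1) k =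
      q ^ T * ∏ j ∈ Finset.range k, ((q ^ (d + 2 + j) - 1) * (q ^ (d + 1 + j) + 1)) := by
    unfold sFrameCount
    rw [Finset.prod_mul_distrib, Finset.prod_pow_eq_pow_sum]
    congr 1
    rw [← Finset.prod_range_reflect (fun j => (q ^ (d + 2 + j) - 1) * (q ^ (d + 1 + j) + 1)) k]
    apply Finset.prod_congr rfl
    intro i hi
    have hi' : i < k := Finset.mem_range.1 hi
    have e1 : k + d + 1 - i = d + 2 + (k - 1 - i) := by omega
    have e2 : k + d + 1 - i - 1 = d + 1 + (k - 1 - i) := by omega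
    rw [e2, e1]
  have h2 : oPlusOrd q (k + d + 1) = 2 * q ^ ((k + d + 1) * (k + d)) *
      ((∏ i ∈ Finset.range d, (q ^ (2 * (i + 1)) - 1)) * ((q ^ (d + 1) - 1) *
        ∏ j ∈ Finset.range k, ((q ^ (d + 2 + j) - 1) * (q ^ (d + 1 + j) + 1)))) := by
    unfold oPlusOrd
    have e : k + d + 1 - 1 = k + d := by omega
    rw [e, mul_assoc, prod_identity q d k hq1]
  set G := ∏ j ∈ Finset.range k, ((q ^ (d + 2 + j) - 1) * (q ^ (d + 1 + j) + 1)) with hG
  set D := ∏ i ∈ Finset.range d, (q ^ (2 * (i + 1)) - 1) with hD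
  have hGpos : 0 < G := by
    apply Finset.prod_pos
    intro j _
    have h3 : 1 < q ^ (d + 2 + j) := Nat.one_lt_pow (by omega) (by omega)
    have h4 : 0 < q ^ (d + 2 + j) - 1 := by omega
    positivity
  have hBpos : 0 < q ^ (d + 1) - 1 := by
    have h3 : 1 < q ^ (d + 1) := Nat.one_lt_pow (by omega) (by omega)
    omega
  rw [h1, h2] at hc
  clear_value G D T
  have hc2 : c * q ^ (T + k + d) = 2 * q ^ ((k + d + 1) * (k + d)) * D := by
    apply Nat.eq_of_mul_eq_mul_right (Nat.mul_pos hBpos hGpos)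
    rw [pow_add, pow_add]
    calc c * (q ^ T * q ^ k * q ^ d) * ((q ^ (d + 1) - 1) * G)
        = c * (q ^ T * G * (q ^ k * (q ^ d * (q ^ (d + 1) - 1)))) := by ring
      _ = _ := by rw [hc]; ring
  unfold spOrd
  rw [← hD]
  have hU : (3 * (k + 1) ^ 2 - 3 * (k + 1)) / 2 = T + k ^ 2 + 2 * k := by
    have h : 3 * (k + 1) ^ 2 - 3 * (k + 1) = 2 * (T + k ^ 2 + 2 * k) := by
      rcases Nat.eq_zero_or_pos k with h0 | hpos
      · subst h0
        simp [hTdef]
      · obtain ⟨j, rfl⟩ : ∃ j, k = j + 1 := ⟨k - 1, by omega⟩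
        have hT2' : T * 2 = (j + 1) * j := by simpa using hT2
        have h3' : 3 * (j + 1 + 1) ^ 2 = 2 * (T + (j + 1) ^ 2 + 2 * (j + 1)) + 3 * (j + 1 + 1) := by
          nlinarith [hT2']
        omega
    rw [h, Nat.mul_div_cancel_left _ (by norm_num : 0 < 2)]
  rw [hU]
  have hTle : T * 2 ≤ k * k := by
    rw [hT2]
    exact Nat.mul_le_mul_left k (Nat.sub_le k 1)
  have e1 : (k + d + 1) * (k + d) = k * k + 2 * (k * d) + d ^ 2 + k + d := by ring
  have e2 : 2 * (k + d + 1) * k = 2 * (k * k) + 2 * (k * d) + 2 * k := by ring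
  have e3 : k ^ 2 = k * k := by ring
  have hle : T + k ^ 2 + 2 * k ≤ 2 * (k + d + 1) * k := by
    rw [e2, e3]
    omega
  obtain ⟨W, hW⟩ := Nat.exists_eq_add_of_le hle
  have hWsub : 2 * (k + d + 1) * k - (T + k ^ 2 + 2 * k) = W := by
    rw [hW, Nat.add_sub_cancel_left]
  rw [hWsub]
  have hexp : (k + d + 1) * (k + d) = W + d ^ 2 + (T + k + d) := by
    rw [e2, e3] at hW
    rw [e1]
    omega
  have key : c * q ^ (T + k + d) = (2 * (q ^ W * (q ^ d ^ 2 * D))) * q ^ (T + k + d) := by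
    rw [hc2, hexp, pow_add, pow_add]
    ring
  exact Nat.eq_of_mul_eq_mul_right (pow_pos hq0 (T + k + d)) key

end Cfsg.Agent.Lib.Helper32.OInv
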