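import Cfsg.Agent.Lib.Helper32.OmT

/-!
# K-OMb-0a (keystone 599100, row S5991, architect helper32): transport of the SQUARE of an isometry of an abstract
symmetric space of minus type to `Ω⁻`.  Variant of `Cfsg.Agent.Lib.Helper32.Om.transport_minus` (no order hypothesis).
-/

set_option autoImplicit false
set_option linter.unusedSimpArgs false
set_option linter.unusedSectionVars false
set_option linter.unusedVariables false
set_option linter.style.haveILetI false

namespace Cfsg.Agent.Lib.Helper32.OMb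

open Module Cfsg.Agent.Lib.Helper98.Elus Cfsg.Agent.Lib.Helper98.Sy
open scoped Matrix MatrixGroups

universe u
variable {F : Type u} [Field F]

/-- the isometry `E` alone: an abstract symmetric space of minus type is isometric to the standard one. -/
theorem exists_equiv_minus [Fintype F] (h2 : (2 : F) ≠ 0) (d : ℕ)
    (a b : F) (hab : ∀ x y : F, x ^ 2 + a * x * y + b * y ^ 2 = 0 → x = 0 ∧ y = 0)
    {V : Type u} [AddCommGroup V] [Module F V] [FiniteDimensional F V]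
    (B : LinearMap.BilinForm F V) (hsymm : ∀ x y, B x y = B y x) (hnd : NonDeg B ⊤)
    (hV : finrank F V = 2 * d)
    (hminus : ∀ X : Submodule F V, (∀ x ∈ X, B x x = 0) → finrank F X < d) :
    ∃ φ : V ≃ₗ[F] ((Fin (d - 1) ⊕ Fin (d - 1)) ⊕ Fin 2 → F),
      ∀ v, Cfsg.quadFormMinus (d - 1) F a b (φ v) = 2⁻¹ * B v v := by
  classical
  let Q : QuadraticForm F V := (2⁻¹ : F) • LinearMap.BilinMap.toQuadraticMap B
  have hQ : ∀ v, Q v = 2⁻¹ * B v v := by
    intro v
    show (2⁻¹ : F) • (LinearMap.BilinMap.toQuadraticMap B) v = _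
    rw [LinearMap.BilinMap.toQuadraticMap_apply, smul_eq_mul]
  have hpolar : ∀ x y, QuadraticMap.polar Q x y = B x y := by
    intro x y
    unfold QuadraticMap.polar
    rw [hQ, hQ, hQ, map_add, map_add, LinearMap.add_apply, LinearMap.add_apply, hsymm y x]
    field_simp
    ring
  have hQND : Cfsg.Agent.Lib.Helper50.QND Q := by
    intro v hv
    apply hnd v Submodule.mem_top
    intro w _
    rw [← hpolar]
    exact hv w
  rcases Cfsg.Agent.Lib.Helper50.witt_type (2 * d) Q hV hQND with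
    ⟨m, hm, hplus⟩ | ⟨m, ζ, hm, hζ, hmin⟩ | ⟨m, c, hm, -, -⟩
  · exfalso
    have hmd : m = d := by omega
    subst hmd
    obtain ⟨X, hXd, hX⟩ :=
      Cfsg.Agent.Lib.Helper50.exists_totally_singular_of_plusType Q m hplus
    have := hminus X (fun x hx => by
      have h1 := hX x hx
      rw [hQ] at h1
      rcases mul_eq_zero.mp h1 with h | h
      · exact absurd h (inv_ne_zero h2)
      · exact h)
    omega
  · have hmd : m = d - 1 := by omega
    subst hmd
    obtain ⟨φ₁, hφ₁⟩ := hmin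
    obtain ⟨ψ, hψ⟩ := Cfsg.Agent.Lib.Helper49.exists_equiv_minus_all (d - 1) a b hab ζ hζ
    refine ⟨φ₁.trans ψ, fun v => ?_⟩
    rw [LinearEquiv.trans_apply, hψ, hφ₁, hQ]
  · exfalso
    omega

/-- LEAF `transport_minus_sq`. -/
theorem transport_minus_sq [Fintype F] (h2 : (2 : F) ≠ 0) (d : ℕ)
    (a b : F) (hab : ∀ x y : F, x ^ 2 + a * x * y + b * y ^ 2 = 0 → x = 0 ∧ y = 0)
    {V : Type u} [AddCommGroup V] [Module F V] [FiniteDimensional F V]
    (B : LinearMap.BilinForm F V) (hsymm : ∀ x y, B x y = B y x) (hnd : NonDeg B ⊤)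
    (hV : finrank F V = 2 * d)
    (hminus : ∀ X : Submodule F V, (∀ x ∈ X, B x x = 0) → finrank F X < d)
    (y : V →ₗ[F] V) (hiso : Iso B y) :
    ∃ x : GL ((Fin (d - 1) ⊕ Fin (d - 1)) ⊕ Fin 2) F,
      x ∈ Cfsg.Geo.omegaGL (Cfsg.quadFormMinus (d - 1) F a b) ∧
      ∃ E : ((Fin (d - 1) ⊕ Fin (d - 1)) ⊕ Fin 2 → F) ≃ₗ[F] V,
        (∀ w, E (Matrix.toLin' (x : Matrix ((Fin (d - 1) ⊕ Fin (d - 1)) ⊕ Fin 2)
          ((Fin (d - 1) ⊕ Fin (d - 1)) ⊕ Fin 2) F) w) = y (y (E w))) ∧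
        ∀ v w, B (E v) (E w) =
          QuadraticMap.polar (Cfsg.quadFormMinus (d - 1) F a b) v w := by
  classical
  obtain ⟨φ, hφ⟩ := exists_equiv_minus h2 d a b hab B hsymm hnd hV hminus
  have hpolar : ∀ x y : V, B x y = 2⁻¹ * B (x + y) (x + y) - 2⁻¹ * B x x - 2⁻¹ * B y y := by
    intro x y
    rw [map_add, map_add, LinearMap.add_apply, LinearMap.add_apply, hsymm y x]
    field_simp
    ring
  -- `y` is bijective
  have hinj : Function.Injective y := by
    rw [← LinearMap.ker_eq_bot, LinearMap.ker_eq_bot']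
    intro v hv
    apply hnd v Submodule.mem_top
    intro w _
    rw [← hiso, hv, map_zero, LinearMap.zero_apply]
  let yE : V ≃ₗ[F] V := LinearEquiv.ofInjectiveEndo y hinj
  have hyE : ∀ v, yE v = y v := fun v => rfl
  let b' : Basis ((Fin (d - 1) ⊕ Fin (d - 1)) ⊕ Fin 2) F V := Basis.ofEquivFun φ
  set M := LinearMap.toMatrix b' b' y with hM
  set M' := LinearMap.toMatrix b' b' (yE.symm : V →ₗ[F] V) with hM'
  have hMM : M * M' = 1 := by
    rw [hM, hM', ← LinearMap.toMatrix_mul, ← LinearMap.toMatrix_one b']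
    congr 1
    ext v
    simp only [Module.End.mul_apply, LinearEquiv.coe_coe, Module.End.one_apply]
    rw [← hyE, LinearEquiv.apply_symm_apply]
  have hMM' : M' * M = 1 := by
    rw [hM, hM', ← LinearMap.toMatrix_mul, ← LinearMap.toMatrix_one b']
    congr 1
    ext v
    simp only [Module.End.mul_apply, LinearEquiv.coe_coe, Module.End.one_apply]
    rw [← hyE, LinearEquiv.symm_apply_apply]
  have hinter : ∀ w : (Fin (d - 1) ⊕ Fin (d - 1)) ⊕ Fin 2 → F,
      φ.symm (Matrix.toLin' M w) = y (φ.symm w) := by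
    intro w
    apply φ.injective
    rw [LinearEquiv.apply_symm_apply, Matrix.toLin'_apply]
    have h1 := LinearMap.toMatrix_mulVec_repr b' b' y (φ.symm w)
    have h3 : (b'.repr (φ.symm w) : (Fin (d - 1) ⊕ Fin (d - 1)) ⊕ Fin 2 → F) = w := by
      have := φ.apply_symm_apply w
      exact this
    rw [h3] at h1
    rw [← hM] at h1
    rw [h1]
    rfl
  have hform : ∀ v w : (Fin (d - 1) ⊕ Fin (d - 1)) ⊕ Fin 2 → F,
      B (φ.symm v) (φ.symm w) = QuadraticMap.polar (Cfsg.quadFormMinus (d - 1) F a b) v w := by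
    intro v w
    rw [hpolar]
    unfold QuadraticMap.polar
    rw [← hφ, ← hφ, ← hφ, map_add, LinearEquiv.apply_symm_apply, LinearEquiv.apply_symm_apply]
  have hMQ : ∀ w : (Fin (d - 1) ⊕ Fin (d - 1)) ⊕ Fin 2 → F,
      Cfsg.quadFormMinus (d - 1) F a b (M *ᵥ w) = Cfsg.quadFormMinus (d - 1) F a b w := by
    intro w
    have h1 : M *ᵥ w = φ (y (φ.symm w)) := by
      rw [← hinter, LinearEquiv.apply_symm_apply, Matrix.toLin'_apply]
    rw [h1, hφ, hiso, ← hφ, LinearEquiv.apply_symm_apply]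
  let x₀ : GL ((Fin (d - 1) ⊕ Fin (d - 1)) ⊕ Fin 2) F := ⟨M, M', hMM, hMM'⟩
  have hcoe : (⇑(Cfsg.Agent.Lib.Helper50.QMinus (d - 1) F a b) :
      ((Fin (d - 1) ⊕ Fin (d - 1)) ⊕ Fin 2 → F) → F) = Cfsg.quadFormMinus (d - 1) F a b := rfl
  have hx₀iso : x₀ ∈ Cfsg.isometryGroup F (⇑(Cfsg.Agent.Lib.Helper50.QMinus (d - 1) F a b)) := by
    rw [hcoe, Cfsg.Agent.Lib.Helper19.mem_isometryGroup_iff]
    exact hMQ
  let g : ↥(Cfsg.isometryGroup F (⇑(Cfsg.Agent.Lib.Helper50.QMinus (d - 1) F a b))) :=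
    ⟨x₀, hx₀iso⟩
  have hgΩ : g * g ∈ Cfsg.Omega F (⇑(Cfsg.Agent.Lib.Helper50.QMinus (d - 1) F a b)) :=
    Cfsg.Agent.Lib.Helper08.sq_mem_Omega h2 (Cfsg.Agent.Lib.Helper50.QMinus (d - 1) F a b)
      (Cfsg.Agent.Lib.Helper50.QMinus_nondeg_of_anis (d - 1) a b hab) g
  have hmem : x₀ * x₀ ∈ Cfsg.Geo.omegaGL (Cfsg.quadFormMinus (d - 1) F a b) := by
    have h1 := Cfsg.Agent.Lib.Helper50.coe_mem_omegaGL
      (⇑(Cfsg.Agent.Lib.Helper50.QMinus (d - 1) F a b)) (g * g) hgΩ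
    exact h1
  refine ⟨x₀ * x₀, hmem, φ.symm, ?_, hform⟩
  intro w
  have h1 : ((x₀ * x₀ : GL ((Fin (d - 1) ⊕ Fin (d - 1)) ⊕ Fin 2) F) :
      Matrix ((Fin (d - 1) ⊕ Fin (d - 1)) ⊕ Fin 2) ((Fin (d - 1) ⊕ Fin (d - 1)) ⊕ Fin 2) F) =
      M * M := rfl
  rw [h1, Matrix.toLin'_mul, LinearMap.comp_apply, hinter, hinter]

end Cfsg.Agent.Lib.Helper32.OMb
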