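import Cfsg.Agent.Lib.Helper98.Sy1
import Cfsg.Agent.Lib.Helper50.TypeCriteria
import Cfsg.Agent.Lib.Helper50.WittMain
import Cfsg.Agent.Lib.Helper50.GeoBridge
import Cfsg.Agent.Lib.Helper50.MinusLang
import Cfsg.Agent.Lib.Helper49.MinusUnique
import Cfsg.Agent.Lib.Helper08.POmegaIso
import Cfsg.Agent.Lib.Helper19.QuadMat

/-!
# K-Om-T (keystone 599403, row S5994, architect helper32): transport of an abstract symmetric space
without totally singular subspaces of half the dimension, with an isometry of odd order, to `Ω⁻`.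
Mirror of `Cfsg.Agent.Lib.Helper34.Os.transport_plus`.
-/

set_option autoImplicit false
set_option linter.unusedSimpArgs false
set_option linter.unusedSectionVars false
set_option linter.unusedVariables false
set_option linter.style.haveILetI false

namespace Cfsg.Agent.Lib.Helper32.Om

open Module Cfsg.Agent.Lib.Helper98.Elus Cfsg.Agent.Lib.Helper98.Sy
open scoped Matrix

universe u
variable {F : Type u} [Field F]

/-- LEAF OmT (transport to `Ω⁻`). -/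
theorem transport_minus [Fintype F] (h2 : (2 : F) ≠ 0) (p : ℕ) (hp : Odd p) (d : ℕ)
    (a b : F) (hab : ∀ x y : F, x ^ 2 + a * x * y + b * y ^ 2 = 0 → x = 0 ∧ y = 0)
    {V : Type u} [AddCommGroup V] [Module F V] [FiniteDimensional F V]
    (B : LinearMap.BilinForm F V) (hsymm : ∀ x y, B x y = B y x) (hnd : NonDeg B ⊤)
    (hV : finrank F V = 2 * d)
    (hminus : ∀ X : Submodule F V, (∀ x ∈ X, B x x = 0) → finrank F X < d)
    (u : V →ₗ[F] V) (hiso : Iso B u) (hu : u ^ p = 1) (hns : ∀ z : F, u ≠ z • 1) :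
    ∃ x : GL ((Fin (d - 1) ⊕ Fin (d - 1)) ⊕ Fin 2) F,
      x ∈ Cfsg.Geo.omegaGL (Cfsg.quadFormMinus (d - 1) F a b) ∧
      ((x ^ p : GL ((Fin (d - 1) ⊕ Fin (d - 1)) ⊕ Fin 2) F) :
        Matrix ((Fin (d - 1) ⊕ Fin (d - 1)) ⊕ Fin 2) ((Fin (d - 1) ⊕ Fin (d - 1)) ⊕ Fin 2) F) =
        (1 : F) • (1 : Matrix ((Fin (d - 1) ⊕ Fin (d - 1)) ⊕ Fin 2)
          ((Fin (d - 1) ⊕ Fin (d - 1)) ⊕ Fin 2) F) ∧
      (∀ z : F, (x : Matrix ((Fin (d - 1) ⊕ Fin (d - 1)) ⊕ Fin 2)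
          ((Fin (d - 1) ⊕ Fin (d - 1)) ⊕ Fin 2) F) ≠
        z • (1 : Matrix ((Fin (d - 1) ⊕ Fin (d - 1)) ⊕ Fin 2)
          ((Fin (d - 1) ⊕ Fin (d - 1)) ⊕ Fin 2) F)) ∧
      ∃ E : ((Fin (d - 1) ⊕ Fin (d - 1)) ⊕ Fin 2 → F) ≃ₗ[F] V,
        (∀ w, E (Matrix.toLin' (x : Matrix ((Fin (d - 1) ⊕ Fin (d - 1)) ⊕ Fin 2)
          ((Fin (d - 1) ⊕ Fin (d - 1)) ⊕ Fin 2) F) w) = u (E w)) ∧
        ∀ v w, B (E v) (E w) =
          QuadraticMap.polar (Cfsg.quadFormMinus (d - 1) F a b) v w := by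
  classical
  -- the quadratic form `Q v = B v v / 2`
  let Q : QuadraticForm F V := (2⁻¹ : F) • LinearMap.BilinMap.toQuadraticMap B
  have hQ : ∀ v, Q v = 2⁻¹ * B v v := by
    intro v
    show (2⁻¹ : F) • (LinearMap.BilinMap.toQuadraticMap B) v = _
    rw [LinearMap.BilinMap.toQuadraticMap_apply, smul_eq_mul]
  have hpolar : ∀ x y, QuadraticMap.polar Q x y = B x y := by
    intro x y
    unfold QuadraticMap.polar
    rw [hQ, hQ, hQ, map_add, map_add, LinearMap.add_apply, LinearMap.add_apply, hsymm y x]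
    field_simp
    ring
  have hQND : Cfsg.Agent.Lib.Helper50.QND Q := by
    intro v hv
    apply hnd v Submodule.mem_top
    intro w _
    rw [← hpolar]
    exact hv w
  -- the type of `Q`
  obtain ⟨φ, hφ⟩ : ∃ φ : V ≃ₗ[F] ((Fin (d - 1) ⊕ Fin (d - 1)) ⊕ Fin 2 → F),
      ∀ v, Cfsg.quadFormMinus (d - 1) F a b (φ v) = Q v := by
    rcases Cfsg.Agent.Lib.Helper50.witt_type (2 * d) Q hV hQND with
      ⟨m, hm, hplus⟩ | ⟨m, ζ, hm, hζ, hmin⟩ | ⟨m, c, hm, -, -⟩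
    · exfalso
      have hmd : m = d := by omega
      subst hmd
      obtain ⟨X, hXd, hX⟩ :=
        Cfsg.Agent.Lib.Helper50.exists_totally_singular_of_plusType Q m hplus
      have := hminus X (fun x hx => by
        have h1 := hX x hx
        rw [hQ] at h1
        rcases mul_eq_zero.mp h1 with h | h
        · exact absurd h (inv_ne_zero h2)
        · exact h)
      omega
    · have hmd : m = d - 1 := by omega
      subst hmd
      obtain ⟨φ₁, hφ₁⟩ := hmin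
      obtain ⟨ψ, hψ⟩ := Cfsg.Agent.Lib.Helper49.exists_equiv_minus_all (d - 1) a b hab ζ hζ
      refine ⟨φ₁.trans ψ, fun v => ?_⟩
      rw [LinearEquiv.trans_apply, hψ, hφ₁]
    · exfalso
      omega
  -- the basis attached to `φ`
  let b' : Basis ((Fin (d - 1) ⊕ Fin (d - 1)) ⊕ Fin 2) F V := Basis.ofEquivFun φ
  set M := LinearMap.toMatrix b' b' u with hM
  have hinter : ∀ w : (Fin (d - 1) ⊕ Fin (d - 1)) ⊕ Fin 2 → F,
      φ.symm (Matrix.toLin' M w) = u (φ.symm w) := by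
    intro w
    apply φ.injective
    rw [LinearEquiv.apply_symm_apply, Matrix.toLin'_apply]
    have h1 := LinearMap.toMatrix_mulVec_repr b' b' u (φ.symm w)
    have h3 : (b'.repr (φ.symm w) : (Fin (d - 1) ⊕ Fin (d - 1)) ⊕ Fin 2 → F) = w := by
      have := φ.apply_symm_apply w
      exact this
    rw [h3] at h1
    rw [← hM] at h1
    rw [h1]
    rfl
  have hform : ∀ v w : (Fin (d - 1) ⊕ Fin (d - 1)) ⊕ Fin 2 → F,
      B (φ.symm v) (φ.symm w) = QuadraticMap.polar (Cfsg.quadFormMinus (d - 1) F a b) v w := by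
    intro v w
    rw [← hpolar]
    unfold QuadraticMap.polar
    rw [← hφ, ← hφ, ← hφ, map_add, LinearEquiv.apply_symm_apply, LinearEquiv.apply_symm_apply]
  have hMQ : ∀ w : (Fin (d - 1) ⊕ Fin (d - 1)) ⊕ Fin 2 → F,
      Cfsg.quadFormMinus (d - 1) F a b (M *ᵥ w) = Cfsg.quadFormMinus (d - 1) F a b w := by
    intro w
    have h1 : M *ᵥ w = φ (u (φ.symm w)) := by
      rw [← hinter, LinearEquiv.apply_symm_apply, Matrix.toLin'_apply]
    rw [h1, hφ, hQ, hiso, ← hQ, ← hφ, LinearEquiv.apply_symm_apply]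
  have hMp : M ^ p = 1 := by
    rw [hM, LinearMap.toMatrix_pow, hu, LinearMap.toMatrix_one]
  have hp1 : 1 ≤ p := hp.pos
  have hMM : M * M ^ (p - 1) = 1 := by
    rw [← pow_succ', Nat.sub_add_cancel hp1, hMp]
  have hMM' : M ^ (p - 1) * M = 1 := by
    rw [← pow_succ, Nat.sub_add_cancel hp1, hMp]
  let x₀ : GL ((Fin (d - 1) ⊕ Fin (d - 1)) ⊕ Fin 2) F := ⟨M, M ^ (p - 1), hMM, hMM'⟩
  have hcoe : (⇑(Cfsg.Agent.Lib.Helper50.QMinus (d - 1) F a b) :
      ((Fin (d - 1) ⊕ Fin (d - 1)) ⊕ Fin 2 → F) → F) = Cfsg.quadFormMinus (d - 1) F a b := rfl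
  have hx₀iso : x₀ ∈ Cfsg.isometryGroup F (⇑(Cfsg.Agent.Lib.Helper50.QMinus (d - 1) F a b)) := by
    rw [hcoe, Cfsg.Agent.Lib.Helper19.mem_isometryGroup_iff]
    exact hMQ
  let g : ↥(Cfsg.isometryGroup F (⇑(Cfsg.Agent.Lib.Helper50.QMinus (d - 1) F a b))) :=
    ⟨x₀, hx₀iso⟩
  have hx₀p : x₀ ^ p = 1 := by
    apply Units.ext
    rw [Units.val_pow_eq_pow_val]
    exact hMp
  have hgp : g ^ p = 1 := by
    apply Subtype.ext
    rw [SubmonoidClass.coe_pow]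
    exact hx₀p
  obtain ⟨k, hk⟩ := hp
  have hgsq : g = g ^ (k + 1) * g ^ (k + 1) := by
    rw [← pow_add]
    have : k + 1 + (k + 1) = p + 1 := by omega
    rw [this, pow_succ, hgp, one_mul]
  have hgΩ : g ∈ Cfsg.Omega F (⇑(Cfsg.Agent.Lib.Helper50.QMinus (d - 1) F a b)) := by
    rw [hgsq]
    exact Cfsg.Agent.Lib.Helper08.sq_mem_Omega h2 (Cfsg.Agent.Lib.Helper50.QMinus (d - 1) F a b)
      (Cfsg.Agent.Lib.Helper50.QMinus_nondeg_of_anis (d - 1) a b hab) (g ^ (k + 1))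
  have hmem : x₀ ∈ Cfsg.Geo.omegaGL (Cfsg.quadFormMinus (d - 1) F a b) := by
    have h1 := Cfsg.Agent.Lib.Helper50.coe_mem_omegaGL
      (⇑(Cfsg.Agent.Lib.Helper50.QMinus (d - 1) F a b)) g hgΩ
    exact h1
  refine ⟨x₀, hmem, ?_, ?_, φ.symm, hinter, hform⟩
  · rw [hx₀p, one_smul]
    rfl
  · intro z hz
    change M = z • 1 at hz
    apply hns z
    apply (LinearMap.toMatrix b' b').injective
    rw [← hM, hz, map_smul, LinearMap.toMatrix_one]

end Cfsg.Agent.Lib.Helper32.Om
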