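import Cfsg.Agent.Lib.Helper98.Os3
import Cfsg.Agent.Lib.Helper98.Oh4
import Cfsg.Agent.Lib.Helper26.OsD
import Cfsg.Agent.Lib.Helper32.OmT
import Cfsg.Agent.Lib.Helper02.NdB
import Cfsg.Agent.Lib.Helper80.NdE
import Cfsg.Agent.Lib.Helper85.NdI
import Cfsg.Agent.Lib.Helper14.OmS
import Cfsg.Agent.Lib.Helper26.OmE

/-!
# K-OMb-0b (keystone 599100, row S5991, architect helper32): unipotent elements of `Ω⁻` of prescribed Jordan type
(refactor of the proof of `Cfsg.Agent.S5994.result`), with the kernel chain in the concrete space, the types of the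
invariant nondegenerate subspaces and a fixed vector of prescribed norm.
-/

set_option autoImplicit false
set_option linter.unusedSimpArgs false
set_option linter.unusedSectionVars false
set_option linter.unusedVariables false
set_option linter.style.haveILetI false
set_option maxHeartbeats 1600000

namespace Cfsg.Agent.Lib.Helper32.OMb

open Module Cfsg.Agent.Lib.Helper98.Elus Cfsg.Agent.Lib.Helper98.Sy
open scoped Matrix MatrixGroups

universe u
variable {F : Type u} [Field F] {V : Type u} [AddCommGroup V] [Module F V]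

theorem nondegenerate_of_nonDeg (B : LinearMap.BilinForm F V) (h : NonDeg B ⊤)
    (hS : ∀ a b, B a b = B b a) : B.Nondegenerate := by
  refine ⟨?_, ?_⟩
  · intro m hm
    exact h m Submodule.mem_top (fun v _ => hm v)
  · intro m hm
    exact h m Submodule.mem_top (fun v _ => by rw [hS]; exact hm v)

/-- if `im N ⟂ ker N` and `2 dim ker N ≠ dim ker N²`, some vector of `ker N` is not isotropic. -/
theorem exists_ker_nonisotropic (h2 : (2 : F) ≠ 0) [FiniteDimensional F V]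
    (B : LinearMap.BilinForm F V) (hS : ∀ a b, B a b = B b a) (hV : NonDeg B ⊤)
    (N : V →ₗ[F] V) (hN : ∀ x y, N y = 0 → B (N x) y = 0)
    (hk : 2 * finrank F (LinearMap.ker N) ≠ finrank F (LinearMap.ker (N ^ 2))) :
    ∃ w, N w = 0 ∧ B w w ≠ 0 := by
  by_contra hcon
  push Not at hcon
  apply hk
  have hKiso : ∀ x y, N x = 0 → N y = 0 → B x y = 0 := by
    intro x y hx hy
    have h1 := hcon (x + y) (by rw [map_add, hx, hy, add_zero])
    simp only [map_add, LinearMap.add_apply] at h1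
    rw [hcon x hx, hcon y hy, hS y x] at h1
    have h3 : (2 : F) * B x y = 0 := by linear_combination h1
    rcases mul_eq_zero.mp h3 with h | h
    · exact absurd h h2
    · exact h
  have hKle : LinearMap.ker N ≤ B.orthogonal (LinearMap.ker N) := by
    intro x hx
    rw [LinearMap.BilinForm.mem_orthogonal_iff]
    intro n hn
    exact hKiso n x (LinearMap.mem_ker.mp hn) (LinearMap.mem_ker.mp hx)
  have hRle : LinearMap.range N ≤ B.orthogonal (LinearMap.ker N) := by
    rintro _ ⟨x, rfl⟩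
    rw [LinearMap.BilinForm.mem_orthogonal_iff]
    intro n hn
    show B n (N x) = 0
    rw [hS]
    exact hN x n (LinearMap.mem_ker.mp hn)
  have hfo := LinearMap.BilinForm.finrank_orthogonal (nondegenerate_of_nonDeg B hV hS)
    (LinearMap.ker N)
  have hrn := LinearMap.finrank_range_add_finrank_ker N
  have hReq : LinearMap.range N = B.orthogonal (LinearMap.ker N) :=
    Submodule.eq_of_le_of_finrank_eq hRle (by omega)
  have hKR : LinearMap.ker N ≤ LinearMap.range N := by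
    rw [hReq]; exact hKle
  have hK2 : LinearMap.ker N ≤ LinearMap.ker (N ^ 2) := by
    intro w hw
    rw [LinearMap.mem_ker] at hw ⊢
    rw [pow_two, Module.End.mul_apply, hw, map_zero]
  set g : ↥(LinearMap.ker (N ^ 2)) →ₗ[F] V := N.comp (LinearMap.ker (N ^ 2)).subtype with hg
  have hrg : LinearMap.range g = LinearMap.ker N := by
    apply le_antisymm
    · rintro _ ⟨⟨x, hx⟩, rfl⟩
      rw [LinearMap.mem_ker] at hx ⊢
      rw [pow_two, Module.End.mul_apply] at hx
      exact hx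
    · intro k hk'
      obtain ⟨x, rfl⟩ := hKR hk'
      have hx : x ∈ LinearMap.ker (N ^ 2) := by
        rw [LinearMap.mem_ker, pow_two, Module.End.mul_apply]
        exact LinearMap.mem_ker.mp hk'
      exact ⟨⟨x, hx⟩, rfl⟩
  have hkg : LinearMap.ker g =
      Submodule.comap (LinearMap.ker (N ^ 2)).subtype (LinearMap.ker N) := by
    ext ⟨x, hx⟩
    simp [hg, LinearMap.mem_ker]
  have h4 := LinearMap.finrank_range_add_finrank_ker g
  rw [hrg, hkg, (Submodule.comapSubtypeEquivOfLe hK2).finrank_eq] at h4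
  omega

/-- LEAF `exists_unipotent_minus`. -/
theorem exists_unipotent_minus [Fintype F] {p : ℕ} [Fact p.Prime] [CharP F p] (hp2 : p ≠ 2) (d : ℕ)
    (a b : F) (hab : ∀ x y : F, x ^ 2 + a * x * y + b * y ^ 2 = 0 → x = 0 ∧ y = 0)
    (μ' : Multiset ℕ) (k k' : ℕ) (hμ'1 : ∀ e ∈ μ', 0 < e ∧ e ≤ p)
    (hμ'2 : ∀ e : ℕ, Even e → Even (μ'.count e))
    (hk : 2 * k + 1 ≤ p) (hk' : 2 * k' + 1 ≤ p) (hsum : μ'.sum + (2 * k + 1) + (2 * k' + 1) = 2 * d)
    (hne : ∃ e ∈ (2 * k + 1) ::ₘ (2 * k' + 1) ::ₘ μ', e ≠ 1) (τ : F) (hτ : τ ≠ 0) :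
    ∃ x : GL ((Fin (d - 1) ⊕ Fin (d - 1)) ⊕ Fin 2) F,
      x ∈ Cfsg.Geo.omegaGL (Cfsg.quadFormMinus (d - 1) F a b) ∧
      ((x ^ p : GL ((Fin (d - 1) ⊕ Fin (d - 1)) ⊕ Fin 2) F) :
        Matrix ((Fin (d - 1) ⊕ Fin (d - 1)) ⊕ Fin 2) ((Fin (d - 1) ⊕ Fin (d - 1)) ⊕ Fin 2) F) =
        (1 : F) • (1 : Matrix ((Fin (d - 1) ⊕ Fin (d - 1)) ⊕ Fin 2)
          ((Fin (d - 1) ⊕ Fin (d - 1)) ⊕ Fin 2) F) ∧
      (∀ z : F, (x : Matrix ((Fin (d - 1) ⊕ Fin (d - 1)) ⊕ Fin 2)
          ((Fin (d - 1) ⊕ Fin (d - 1)) ⊕ Fin 2) F) ≠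
        z • (1 : Matrix ((Fin (d - 1) ⊕ Fin (d - 1)) ⊕ Fin 2)
          ((Fin (d - 1) ⊕ Fin (d - 1)) ⊕ Fin 2) F)) ∧
      (∀ j : ℕ, finrank F (LinearMap.ker ((Matrix.toLin' (x : Matrix ((Fin (d - 1) ⊕ Fin (d - 1)) ⊕ Fin 2)
          ((Fin (d - 1) ⊕ Fin (d - 1)) ⊕ Fin 2) F) - 1) ^ j)) =
        (((2 * k + 1) ::ₘ (2 * k' + 1) ::ₘ μ').map (fun e => min e j)).sum) ∧
      (∀ W : Submodule F ((Fin (d - 1) ⊕ Fin (d - 1)) ⊕ Fin 2 → F),
        Cfsg.Geo.IsNondegenerateOn (QuadraticMap.polar (Cfsg.quadFormMinus (d - 1) F a b)) W →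
        W.map (Matrix.toLin' (x : Matrix ((Fin (d - 1) ⊕ Fin (d - 1)) ⊕ Fin 2)
          ((Fin (d - 1) ⊕ Fin (d - 1)) ⊕ Fin 2) F)) ≤ W →
        ∃ ν : Multiset ℕ, ν ≤ (2 * k + 1) ::ₘ (2 * k' + 1) ::ₘ μ' ∧ ν.sum = finrank F W ∧
          (∀ e : ℕ, Even e → Even (ν.count e)) ∧
          ∀ j : ℕ, finrank F ↥(W ⊓ LinearMap.ker ((Matrix.toLin'
            (x : Matrix ((Fin (d - 1) ⊕ Fin (d - 1)) ⊕ Fin 2)
              ((Fin (d - 1) ⊕ Fin (d - 1)) ⊕ Fin 2) F) - 1) ^ j)) =
            (ν.map (fun e => min e j)).sum) ∧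
      (k = 0 → 0 < k' → (∀ e ∈ μ', e ≠ 1) →
        ∃ v : (Fin (d - 1) ⊕ Fin (d - 1)) ⊕ Fin 2 → F,
          Matrix.toLin' (x : Matrix ((Fin (d - 1) ⊕ Fin (d - 1)) ⊕ Fin 2)
            ((Fin (d - 1) ⊕ Fin (d - 1)) ⊕ Fin 2) F) v = v ∧
          QuadraticMap.polar (Cfsg.quadFormMinus (d - 1) F a b) v v = τ) := by
  classical
  have hpr : p.Prime := Fact.out
  have h2F : (2 : F) ≠ 0 := by
    intro h
    have h' : ((2 : ℕ) : F) = 0 := by exact_mod_cast h
    rw [CharP.cast_eq_zero_iff F p] at h'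
    exact hp2 ((Nat.prime_dvd_prime_iff_eq hpr Nat.prime_two).mp h')
  have hpodd : Odd p := hpr.odd_of_ne_two hp2
  have huniq : Cfsg.Agent.Lib.Helper98.Nd.UniqStatement := fun μ μ' h1 h2 h3 =>
    Cfsg.Agent.Lib.Helper02.Nd.eq_of_sum_min_eq μ μ' h1 h2 h3
  set μ : Multiset ℕ := (2 * k + 1) ::ₘ (2 * k' + 1) ::ₘ μ' with hμeq
  have hμ1 : ∀ e ∈ μ, 0 < e ∧ e ≤ p := by
    intro e he
    rw [hμeq, Multiset.mem_cons, Multiset.mem_cons] at he
    rcases he with rfl | rfl | he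
    · exact ⟨by omega, hk⟩
    · exact ⟨by omega, hk'⟩
    · exact hμ'1 e he
  have hμs : μ.sum = 2 * d := by
    rw [hμeq, Multiset.sum_cons, Multiset.sum_cons]
    omega
  obtain ⟨a0, ha0μ, ha01⟩ := hne
  -- the two models
  obtain ⟨V₁, i1, i2, i3, B₁, M₁, X₁, hS₁, hnd₁, hskew₁, hMp₁, hker₁, hX₁, hX₁d⟩ :=
    Cfsg.Agent.Lib.Helper26.Os.exists_skew_model_symm (F := F) (p := p) h2F μ' hμ'1 hμ'2
  obtain ⟨ζ, hζ⟩ := Cfsg.Agent.Lib.Helper50.exists_nonsquare_of_two_ne_zero h2F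
  obtain ⟨V₂, j1, j2, j3, B₂, M₂, X₂, hS₂, hnd₂, hskew₂, hMp₂, hker₂, hX₂, hX₂d, hX₂max⟩ :=
    Cfsg.Agent.Lib.Helper26.Om.exists_elliptic_pair_model (F := F) (p := p) ζ hζ k k' hk hk'
  have hV₁ : Module.finrank F V₁ = μ'.sum := by
    have h3 := hker₁ p
    rw [hMp₁, LinearMap.ker_zero, finrank_top] at h3
    rw [h3]
    congr 1
    conv_rhs => rw [← Multiset.map_id μ']
    apply Multiset.map_congr rfl
    intro e he
    simp only [id]
    exact min_eq_left (hμ'1 e he).2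
  have hX₁d' : 2 * Module.finrank F X₁ = Module.finrank F V₁ := by
    rw [hV₁]
    omega
  -- the product model
  set B' : LinearMap.BilinForm F (V₁ × V₂) := Cfsg.Agent.Lib.Helper75.Nd.prodForm B₁ B₂ with hB'
  set M : (V₁ × V₂) →ₗ[F] (V₁ × V₂) := M₁.prodMap M₂ with hM
  have hS : ∀ x y, B' x y = B' y x := by
    intro x y
    rw [hB', Cfsg.Agent.Lib.Helper75.Nd.prodForm_apply, Cfsg.Agent.Lib.Helper75.Nd.prodForm_apply,
      hS₁, hS₂]
  have hnd' : NonDeg B' ⊤ := by
    intro x _ hx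
    have h3 : x.1 = 0 := hnd₁ x.1 Submodule.mem_top (fun y _ => by
      have := hx (y, 0) Submodule.mem_top
      simpa [hB', Cfsg.Agent.Lib.Helper75.Nd.prodForm_apply] using this)
    have h4 : x.2 = 0 := hnd₂ x.2 Submodule.mem_top (fun y _ => by
      have := hx (0, y) Submodule.mem_top
      simpa [hB', Cfsg.Agent.Lib.Helper75.Nd.prodForm_apply] using this)
    exact Prod.ext h3 h4
  have hskew : ∀ x y, B' (M x) y = - B' x (M y) := by
    intro x y
    simp only [hB', hM, Cfsg.Agent.Lib.Helper75.Nd.prodForm_apply, LinearMap.prodMap_apply]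
    rw [hskew₁, hskew₂]
    ring
  have hMp : M ^ p = 0 := by
    rw [hM, Cfsg.Agent.Lib.Helper75.Nd.prodMap_pow', hMp₁, hMp₂, LinearMap.prodMap_zero]
  have hkerM : ∀ j : ℕ, Module.finrank F (LinearMap.ker (M ^ j)) =
      (μ.map (fun e => min e j)).sum := by
    intro j
    rw [hM, Cfsg.Agent.Lib.Helper75.Nd.prodMap_pow', Cfsg.Agent.Lib.Helper75.Nd.finrank_ker_prodMap,
      hker₁, hker₂, hμeq, Multiset.map_cons, Multiset.sum_cons, Multiset.map_cons, Multiset.sum_cons]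
    ring
  have hminus : ∀ X : Submodule F (V₁ × V₂), (∀ x ∈ X, B' x x = 0) →
      Module.finrank F X < d := by
    intro X hX
    have h3 := Cfsg.Agent.Lib.Helper14.Om.finrank_le_of_prod h2F B₁ B₂ hS₁ hS₂ hnd₁ hnd₂ X₁ hX₁
      hX₁d' X₂ hX₂ hX₂max X hX
    omega
  have hdim' : Module.finrank F (V₁ × V₂) = 2 * d := by
    have h3 := hkerM p
    rw [hMp, LinearMap.ker_zero, finrank_top] at h3
    rw [h3, ← hμs]
    congr 1
    conv_rhs => rw [← Multiset.map_id μ]
    apply Multiset.map_congr rfl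
    intro e he
    simp only [id]
    exact min_eq_left (hμ1 e he).2
  -- the scaling factor and the witness
  obtain ⟨s, hs0, hwit⟩ : ∃ s : F, s ≠ 0 ∧ (k = 0 → 0 < k' → (∀ e ∈ μ', e ≠ 1) →
      ∃ w : V₁ × V₂, M w = 0 ∧ s * B' w w = τ) := by
    by_cases hcc : k = 0 ∧ 0 < k' ∧ ∀ e ∈ μ', e ≠ 1
    · obtain ⟨hk0, hk'0, hμ'n1⟩ := hcc
      have hc1 : (μ.map (fun e => min e 1)).sum = 2 + Multiset.card μ' := by
        rw [hμeq, Multiset.map_cons, Multiset.sum_cons, Multiset.map_cons, Multiset.sum_cons]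
        have : μ'.map (fun e => min e 1) = μ'.map (fun _ => 1) := by
          apply Multiset.map_congr rfl
          intro e he
          exact min_eq_right (hμ'1 e he).1
        rw [this, Multiset.map_const', Multiset.sum_replicate, smul_eq_mul, mul_one]
        have h1 : min (2 * k + 1) 1 = 1 := by omega
        have h2 : min (2 * k' + 1) 1 = 1 := by omega
        omega
      have hc2 : (μ.map (fun e => min e 2)).sum = 3 + 2 * Multiset.card μ' := by
        rw [hμeq, Multiset.map_cons, Multiset.sum_cons, Multiset.map_cons, Multiset.sum_cons]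
        have : μ'.map (fun e => min e 2) = μ'.map (fun _ => 2) := by
          apply Multiset.map_congr rfl
          intro e he
          have h1 := (hμ'1 e he).1
          have h2 := hμ'n1 e he
          omega
        rw [this, Multiset.map_const', Multiset.sum_replicate, smul_eq_mul]
        have h1 : min (2 * k + 1) 2 = 1 := by omega
        have h2 : min (2 * k' + 1) 2 = 2 := by omega
        omega
      have hne' : 2 * finrank F (LinearMap.ker M) ≠ finrank F (LinearMap.ker (M ^ 2)) := by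
        have h1 := hkerM 1
        rw [pow_one] at h1
        rw [h1, hkerM 2, hc1, hc2]
        omega
      obtain ⟨w, hw0, hww⟩ := exists_ker_nonisotropic h2F B' hS hnd' M
        (fun x y hy => by rw [hskew, hy, map_zero, neg_zero]) hne'
      refine ⟨τ / B' w w, div_ne_zero hτ hww, fun _ _ _ => ⟨w, hw0, ?_⟩⟩
      field_simp
    · refine ⟨1, one_ne_zero, fun h1 h2 h3 => absurd ⟨h1, h2, h3⟩ hcc⟩
  set B'' : LinearMap.BilinForm F (V₁ × V₂) := s • B' with hB''
  have hB''a : ∀ x y, B'' x y = s * B' x y := by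
    intro x y
    rw [hB'', LinearMap.smul_apply, LinearMap.smul_apply, smul_eq_mul]
  have hS'' : ∀ x y, B'' x y = B'' y x := by
    intro x y
    rw [hB''a, hB''a, hS]
  have hnd'' : NonDeg B'' ⊤ := by
    intro x hx h
    apply hnd' x hx
    intro y hy
    have := h y hy
    rw [hB''a] at this
    rcases mul_eq_zero.mp this with h | h
    · exact absurd h hs0
    · exact h
  have hskew'' : ∀ x y, B'' (M x) y = - B'' x (M y) := by
    intro x y
    rw [hB''a, hB''a, hskew]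
    ring
  have hminus'' : ∀ X : Submodule F (V₁ × V₂), (∀ x ∈ X, B'' x x = 0) →
      Module.finrank F X < d := by
    intro X hX
    apply hminus X
    intro x hx
    have := hX x hx
    rw [hB''a] at this
    rcases mul_eq_zero.mp this with h | h
    · exact absurd h hs0
    · exact h
  -- the Cayley transform
  obtain ⟨u', hiso', hu'p, hkeru⟩ := Cfsg.Agent.Lib.Helper80.Nd.exists_cayley hp2 B'' M hskew'' hMp
  have hker : ∀ j, Module.finrank F (LinearMap.ker ((u' - 1) ^ j)) =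
      (μ.map (fun e => min e j)).sum := by
    intro j
    rw [hkeru j]
    exact hkerM j
  have hNp' : (u' - 1) ^ p = 0 := by
    rw [← LinearMap.ker_eq_top, hkeru p, hMp]
    exact LinearMap.ker_zero
  have ha02 : 2 ≤ a0 := by
    have := (hμ1 a0 ha0μ).1
    omega
  have hcardlt : Multiset.card μ < μ.sum := by
    have h3 : μ = a0 ::ₘ μ.erase a0 := (Multiset.cons_erase ha0μ).symm
    have h4 : Multiset.card (μ.erase a0) • 1 ≤ (μ.erase a0).sum :=
      Multiset.card_nsmul_le_sum (fun e he => (hμ1 e (Multiset.mem_of_mem_erase he)).1)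
    rw [h3, Multiset.card_cons, Multiset.sum_cons]
    simp only [smul_eq_mul, mul_one] at h4
    omega
  have hk1 : Module.finrank F (LinearMap.ker (u' - 1)) = Multiset.card μ := by
    have h3 := hker 1
    rw [pow_one] at h3
    rw [h3]
    have : μ.map (fun e => min e 1) = μ.map (fun _ => 1) := by
      apply Multiset.map_congr rfl
      intro e he
      exact min_eq_right (hμ1 e he).1
    rw [this, Multiset.map_const', Multiset.sum_replicate]
    simp
  have hns' : ∀ z : F, u' ≠ z • 1 := by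
    intro z hz
    by_cases hz1 : z = 1
    · have : LinearMap.ker (u' - 1) = ⊤ := by
        rw [LinearMap.ker_eq_top, hz, hz1, one_smul, sub_self]
      rw [this, finrank_top, hdim'] at hk1
      omega
    · have : LinearMap.ker (u' - 1) = ⊥ := by
        rw [LinearMap.ker_eq_bot']
        intro v hv
        rw [hz, LinearMap.sub_apply, LinearMap.smul_apply, Module.End.one_apply] at hv
        have h' : (z - 1) • v = 0 := by rw [sub_smul, one_smul]; exact hv
        rcases smul_eq_zero.mp h' with h | h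
        · exact absurd (sub_eq_zero.mp h) hz1
        · exact h
      rw [this, finrank_bot] at hk1
      have hcpos : 0 < Multiset.card μ := Multiset.card_pos_iff_exists_mem.mpr ⟨a0, ha0μ⟩
      omega
  -- transport to `Ω⁻`
  obtain ⟨x, hxΩ, hxp, hxns, E, hE1, hE2⟩ := Cfsg.Agent.Lib.Helper32.Om.transport_minus h2F p hpodd
    d a b hab B'' hS'' hnd'' hdim' hminus'' u' hiso' hu'p hns'
  set Xl : ((Fin (d - 1) ⊕ Fin (d - 1)) ⊕ Fin 2 → F) →ₗ[F] ((Fin (d - 1) ⊕ Fin (d - 1)) ⊕ Fin 2 → F) :=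
    Matrix.toLin' (x : Matrix ((Fin (d - 1) ⊕ Fin (d - 1)) ⊕ Fin 2)
      ((Fin (d - 1) ⊕ Fin (d - 1)) ⊕ Fin 2) F) with hXl
  have hconj : ∀ (j : ℕ) (w : (Fin (d - 1) ⊕ Fin (d - 1)) ⊕ Fin 2 → F),
      E (((Xl - 1) ^ j) w) = ((u' - 1) ^ j) (E w) := by
    intro j
    induction j with
    | zero => intro w; simp
    | succ j ih =>
      intro w
      rw [pow_succ, Module.End.mul_apply, ih, pow_succ, Module.End.mul_apply]
      congr 1
      rw [LinearMap.sub_apply, LinearMap.sub_apply, Module.End.one_apply, Module.End.one_apply,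
        map_sub, hE1]
  have hkerEq : ∀ j : ℕ, (LinearMap.ker ((Xl - 1) ^ j)).map
      (E : ((Fin (d - 1) ⊕ Fin (d - 1)) ⊕ Fin 2 → F) →ₗ[F] (V₁ × V₂)) =
      LinearMap.ker ((u' - 1) ^ j) := by
    intro j
    ext v
    constructor
    · rintro ⟨w, hw, rfl⟩
      rw [LinearMap.mem_ker]
      show ((u' - 1) ^ j) (E w) = 0
      rw [← hconj, LinearMap.mem_ker.mp hw, map_zero]
    · intro hv
      refine ⟨E.symm v, ?_, by simp⟩
      show E.symm v ∈ LinearMap.ker ((Xl - 1) ^ j)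
      rw [LinearMap.mem_ker]
      apply E.injective
      rw [hconj, LinearEquiv.apply_symm_apply, map_zero]
      exact LinearMap.mem_ker.mp hv
  have hchain' : Cfsg.Agent.Lib.Helper98.Nd.ChainStatement F (V₁ × V₂) := fun N e a v hN hli k =>
    Cfsg.Agent.Lib.Helper85.Nd.finrank_inf_ker_of_chains N e a v hN hli k
  refine ⟨x, hxΩ, hxp, hxns, ?_, ?_, ?_⟩
  · intro j
    rw [← hker j, ← hkerEq j, LinearEquiv.finrank_map_eq]
  · intro W hWnd hWinv
    set W' : Submodule F (V₁ × V₂) :=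
      W.map (E : ((Fin (d - 1) ⊕ Fin (d - 1)) ⊕ Fin 2 → F) →ₗ[F] (V₁ × V₂)) with hW'
    have hW'inv : Inv u' W' := by
      rintro _ ⟨w, hw, rfl⟩
      show u' (E w) ∈ _
      rw [← hE1]
      exact ⟨_, hWinv ⟨w, hw, rfl⟩, rfl⟩
    have hW'nd : NonDeg B'' W' := by
      rintro _ ⟨w, hw, rfl⟩ h
      by_contra hne
      have hw0 : w ≠ 0 := by
        rintro rfl
        exact hne (by simp)
      obtain ⟨-, ⟨y, hy, hy'⟩⟩ := hWnd w hw hw0
      apply hy'
      rw [← hE2]
      exact h _ ⟨y, hy, rfl⟩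
    obtain ⟨ν, n1, n2, n3, n4⟩ := Cfsg.Agent.Lib.Helper98.Oh.exists_sub_type_symm' hchain' huniq hS''
      hnd'' h2F p hpr.pos u' hu'p hNp' hiso' μ (fun e he => (hμ1 e he).1) hker W' hW'inv hW'nd
    refine ⟨ν, n1, ?_, n3, ?_⟩
    · rw [n2, hW', LinearEquiv.finrank_map_eq]
    · intro j
      rw [← n4 j, ← hkerEq j, hW']
      have h3 : (W ⊓ LinearMap.ker ((Xl - 1) ^ j)).map
          (E : ((Fin (d - 1) ⊕ Fin (d - 1)) ⊕ Fin 2 → F) →ₗ[F] (V₁ × V₂)) =
          W.map (E : ((Fin (d - 1) ⊕ Fin (d - 1)) ⊕ Fin 2 → F) →ₗ[F] (V₁ × V₂)) ⊓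
            (LinearMap.ker ((Xl - 1) ^ j)).map
              (E : ((Fin (d - 1) ⊕ Fin (d - 1)) ⊕ Fin 2 → F) →ₗ[F] (V₁ × V₂)) :=
        Submodule.map_inf _ E.injective
      rw [← h3, LinearEquiv.finrank_map_eq]
  · intro hk0 hk'0 hμ'n1
    obtain ⟨w, hw0, hww⟩ := hwit hk0 hk'0 hμ'n1
    have hwfix : u' w = w := by
      have h1 : w ∈ LinearMap.ker ((u' - 1) ^ 1) := by
        rw [hkeru 1, pow_one]
        exact LinearMap.mem_ker.mpr hw0
      rw [pow_one, LinearMap.mem_ker, LinearMap.sub_apply, Module.End.one_apply, sub_eq_zero] at h1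
      exact h1
    refine ⟨E.symm w, ?_, ?_⟩
    · apply E.injective
      rw [hE1, LinearEquiv.apply_symm_apply, hwfix]
    · rw [← hE2, LinearEquiv.apply_symm_apply, hB''a]
      exact hww

end Cfsg.Agent.Lib.Helper32.OMb
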