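import Cfsg.Agent.Lib.Helper32.OMb0b
import Cfsg.Agent.Lib.Helper87.OMb11
import Cfsg.Agent.Lib.Helper78.OMb14
import Cfsg.Agent.Lib.Helper13.OPb15
import Cfsg.Agent.Lib.Helper63.OPb0
import Cfsg.Agent.Lib.Helper63.OhA
import Cfsg.Agent.Lib.Helper50.GeoBridge

/-!
# K-OMb-15 (keystone 599115, row S5991, architect helper32; parallel hand): `d` even, the unipotent derangement by isometry class,
in HYPOTHESIS form: `H12`, `H13` are the statements of LEAVES 12, 13 for the concrete space.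
-/

set_option autoImplicit false
set_option linter.unusedVariables false
set_option linter.unusedSimpArgs false
set_option linter.unusedSectionVars false
set_option linter.style.haveILetI false
set_option maxHeartbeats 1600000

namespace Cfsg.Agent.Lib.Helper32.OMb

open Module Cfsg.Agent.Lib.Helper98.Elus Cfsg.Agent.Lib.Helper98.Sy Cfsg.Agent.Lib.Helper98.Oh
  Cfsg.Agent.Lib.Helper69.OPb
open scoped MatrixGroups

universe u
variable {F : Type u} [Field F]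

/-- the statement of LEAF 12 for a fixed space and form -/
def GramStmt {V : Type u} [AddCommGroup V] [Module F V] (B : LinearMap.BilinForm F V) : Prop :=
  ∀ (u : V →ₗ[F] V), Iso B u → ∀ (W : Submodule F V), Inv u W → NonDeg B W → ∀ j : ℕ,
    finrank F W = 4 * j + 1 → finrank F ↥(W ⊓ LinearMap.ker (u - 1)) = 2 * j + 1 →
    finrank F ↥(W ⊓ LinearMap.ker ((u - 1) ^ 2)) = 4 * j + 1 →
    ∀ w : V, w ∈ W → u w = w → B w w ≠ 0 → ∀ (n : ℕ) (b : Basis (Fin n) F W),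
      IsSquare ((Matrix.of fun i j => B (b i : V) (b j : V)).det * B w w)

/-- the statement of LEAF 13 for a fixed space and form -/
def OrthStmt {V : Type u} [AddCommGroup V] [Module F V] (B : LinearMap.BilinForm F V) : Prop :=
  ∀ W W' : Submodule F V, IsoCls B W W' → IsoCls B (B.orthogonal W) (B.orthogonal W')

/-- the core: a derangement for the class of a nondegenerate `Wz` of dimension `≡ 1 (mod 4)` -/
theorem case_p_minus_even_core [Fintype F] {p : ℕ} [Fact p.Prime] [CharP F p] (hodd : Odd (Fintype.card F))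
    (d : ℕ) (hd : 4 ≤ d) (hde : Even d) (a b : F) (hab : ∀ x y : F, x ^ 2 + a * x * y + b * y ^ 2 = 0 → x = 0 ∧ y = 0)
    (H12 : GramStmt (QuadraticMap.polarBilin (Cfsg.Agent.Lib.Helper50.QMinus (d - 1) F a b)))
    (Wz : Submodule F (((Fin (d - 1) ⊕ Fin (d - 1)) ⊕ Fin 2) → F)) (hWz : NonDeg (QuadraticMap.polarBilin (Cfsg.Agent.Lib.Helper50.QMinus (d - 1) F a b)) Wz)
    (hmod : finrank F Wz % 4 = 1) :
    ∃ x : GL ((Fin (d - 1) ⊕ Fin (d - 1)) ⊕ Fin 2) F, x ∈ Cfsg.Geo.omegaGL (Cfsg.quadFormMinus (d - 1) F a b) ∧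
      ((x ^ p : GL ((Fin (d - 1) ⊕ Fin (d - 1)) ⊕ Fin 2) F) : Matrix ((Fin (d - 1) ⊕ Fin (d - 1)) ⊕ Fin 2) ((Fin (d - 1) ⊕ Fin (d - 1)) ⊕ Fin 2) F) = (1 : F) • (1 : Matrix ((Fin (d - 1) ⊕ Fin (d - 1)) ⊕ Fin 2) ((Fin (d - 1) ⊕ Fin (d - 1)) ⊕ Fin 2) F) ∧
      (∀ z : F, (x : Matrix ((Fin (d - 1) ⊕ Fin (d - 1)) ⊕ Fin 2) ((Fin (d - 1) ⊕ Fin (d - 1)) ⊕ Fin 2) F) ≠ z • (1 : Matrix ((Fin (d - 1) ⊕ Fin (d - 1)) ⊕ Fin 2) ((Fin (d - 1) ⊕ Fin (d - 1)) ⊕ Fin 2) F)) ∧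
      Iso (QuadraticMap.polarBilin (Cfsg.Agent.Lib.Helper50.QMinus (d - 1) F a b)) (Matrix.toLin' (x : Matrix ((Fin (d - 1) ⊕ Fin (d - 1)) ⊕ Fin 2) ((Fin (d - 1) ⊕ Fin (d - 1)) ⊕ Fin 2) F)) ∧
      ∀ W₁ : Submodule F (((Fin (d - 1) ⊕ Fin (d - 1)) ⊕ Fin 2) → F), Inv (Matrix.toLin' (x : Matrix ((Fin (d - 1) ⊕ Fin (d - 1)) ⊕ Fin 2) ((Fin (d - 1) ⊕ Fin (d - 1)) ⊕ Fin 2) F)) W₁ →
        NonDeg (QuadraticMap.polarBilin (Cfsg.Agent.Lib.Helper50.QMinus (d - 1) F a b)) W₁ →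
        IsoCls (QuadraticMap.polarBilin (Cfsg.Agent.Lib.Helper50.QMinus (d - 1) F a b)) W₁ Wz → False := by
  classical
  have hpr : p.Prime := Fact.out
  have h2F : (2 : F) ≠ 0 := Cfsg.Agent.Lib.Helper50.two_ne_zero_of_odd_card rfl hodd
  have hp2 : p ≠ 2 := by
    intro h
    apply h2F
    have := CharP.cast_eq_zero F p
    rw [h] at this
    exact_mod_cast this
  have hp3 : 3 ≤ p := by
    have := hpr.two_le
    omega
  set B := QuadraticMap.polarBilin (Cfsg.Agent.Lib.Helper50.QMinus (d - 1) F a b) with hB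
  have hS : ∀ v w, B v w = B w v := Cfsg.Agent.Lib.Helper13.OPb.polarBilin_symm _
  have hV : NonDeg B ⊤ := Cfsg.Agent.Lib.Helper13.OPb.nonDeg_top_of_nondegenerate _
    (Cfsg.Agent.Lib.Helper50.QMinus_nondeg_of_anis (d - 1) a b hab)
  have hBpolar : ∀ v w, B v w = QuadraticMap.polar (Cfsg.quadFormMinus (d - 1) F a b) v w := fun v w => rfl
  -- the class of `Wz`
  let b₀ : Basis (Fin (finrank F Wz)) F Wz := Module.finBasis F Wz
  set g₀ : F := (Matrix.of fun i j => B (b₀ i : (((Fin (d - 1) ⊕ Fin (d - 1)) ⊕ Fin 2) → F)) (b₀ j : (((Fin (d - 1) ⊕ Fin (d - 1)) ⊕ Fin 2) → F))).det with hg₀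
  have hg₀0 : g₀ ≠ 0 := Cfsg.Agent.Lib.Helper63.Oh.gram_det_ne_zero B hS Wz hWz b₀
  obtain ⟨ζ, hζ⟩ := Cfsg.Agent.Lib.Helper50.exists_nonsquare_of_two_ne_zero h2F
  have hζ0 : ζ ≠ 0 := by
    rintro rfl
    exact hζ ⟨0, by simp⟩
  set τ : F := ζ * g₀ with hτ
  have hτ0 : τ ≠ 0 := mul_ne_zero hζ0 hg₀0
  -- the unipotent element
  have hd2 : Even (d - 2) := by
    obtain ⟨c, hc⟩ := hde
    exact ⟨c - 1, by omega⟩
  obtain ⟨x, hxΩ, hxp, hxns, hchain, htype, hwit⟩ :=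
    exists_unipotent_minus (F := F) (p := p) hp2 d a b hab (Multiset.replicate (d - 2) 2) 0 1
      (fun e he => by rw [Multiset.eq_of_mem_replicate he]; omega)
      (fun e he => by
        rw [Multiset.count_replicate]
        split_ifs
        · exact hd2
        · exact Even.zero)
      (by omega) (by omega)
      (by rw [Multiset.sum_replicate, smul_eq_mul]; omega)
      ⟨3, by simp, by omega⟩ τ hτ0
  obtain ⟨v₀, hv₀fix, hv₀τ⟩ := hwit rfl (by omega)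
    (fun e he => by rw [Multiset.eq_of_mem_replicate he]; omega)
  set u : (((Fin (d - 1) ⊕ Fin (d - 1)) ⊕ Fin 2) → F) →ₗ[F] (((Fin (d - 1) ⊕ Fin (d - 1)) ⊕ Fin 2) → F) := Matrix.toLin' (x : Matrix ((Fin (d - 1) ⊕ Fin (d - 1)) ⊕ Fin 2) ((Fin (d - 1) ⊕ Fin (d - 1)) ⊕ Fin 2) F) with hu
  have hxiso : x ∈ Cfsg.isometryGroup F ⇑(Cfsg.Agent.Lib.Helper50.QMinus (d - 1) F a b) := by
    obtain ⟨h, -⟩ := (Cfsg.Agent.Lib.Helper50.mem_omegaGL_iff _ x).mp hxΩ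
    exact h
  have hiso : Iso B u := Cfsg.Agent.Lib.Helper13.OPb.iso_toLin'_of_mem _ x hxiso
  set N : (((Fin (d - 1) ⊕ Fin (d - 1)) ⊕ Fin 2) → F) →ₗ[F] (((Fin (d - 1) ⊕ Fin (d - 1)) ⊕ Fin 2) → F) := u - 1 with hN
  have hNap : ∀ v, N v = u v - v := fun v => by
    rw [hN, LinearMap.sub_apply, Module.End.one_apply]
  have hNort : ∀ v w, N w = 0 → B (N v) w = 0 := by
    intro v w hw
    have hw' : u w = w := by
      rw [hNap] at hw
      exact sub_eq_zero.mp hw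
    rw [hNap, map_sub, LinearMap.sub_apply]
    nth_rewrite 1 [← hw']
    rw [hiso, sub_self]
  -- the kernel chain of the whole space
  have hc1 : finrank F (LinearMap.ker N) = d := by
    have h := hchain 1
    rw [pow_one] at h
    rw [h]
    simp only [Multiset.map_cons, Multiset.sum_cons, Multiset.map_replicate, Multiset.sum_replicate,
      smul_eq_mul, show min 2 1 = 1 from rfl, show min 2 2 = 2 from rfl, mul_one]
    omega
  have hc2 : finrank F (LinearMap.ker (N ^ 2)) = 2 * d - 1 := by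
    rw [hchain 2]
    simp only [Multiset.map_cons, Multiset.sum_cons, Multiset.map_replicate, Multiset.sum_replicate,
      smul_eq_mul, show min 2 1 = 1 from rfl, show min 2 2 = 2 from rfl, mul_one]
    omega
  obtain ⟨w, -, hw0, hww, hwall⟩ := Cfsg.Agent.Lib.Helper87.OMb.exists_fixed_norm h2F B hS N hNort ⊤
    (fun _ _ => Submodule.mem_top) hV (by rw [top_inf_eq, top_inf_eq, hc1, hc2]; omega)
  obtain ⟨α₀, hα₀⟩ := hwall v₀ Submodule.mem_top (by rw [hNap, hv₀fix, sub_self])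
  have hv₀τ' : B v₀ v₀ = τ := hv₀τ
  rw [hv₀τ'] at hα₀
  refine ⟨x, hxΩ, hxp, hxns, hiso, ?_⟩
  intro W₁ hW₁inv hW₁nd hW₁iso
  have hfr : finrank F W₁ = finrank F Wz := Cfsg.Agent.Lib.Helper63.OPb.isoCls_finrank hW₁iso
  -- the type of `W₁`
  obtain ⟨ν, hνle, hνs, hνe, hνch⟩ := htype W₁
    ((Cfsg.Agent.Lib.Helper13.OPb.nonDeg_polarBilin_iff _ W₁).mp hW₁nd)
    ((Cfsg.Agent.Lib.Helper13.OPb.inv_toLin'_iff _ W₁).mp hW₁inv)
  obtain ⟨j, hj⟩ := Cfsg.Agent.Lib.Helper78.OMb.type_of_mod_four d ν hνle hνe (by rw [hνs, hfr]; exact hmod)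
  have hdW : finrank F W₁ = 4 * j + 1 := by
    rw [← hνs, hj, Multiset.sum_cons, Multiset.sum_replicate, smul_eq_mul]
    omega
  have hk1 : finrank F ↥(W₁ ⊓ LinearMap.ker N) = 2 * j + 1 := by
    have h := hνch 1
    rw [pow_one] at h
    rw [h, hj]
    simp only [Multiset.map_cons, Multiset.sum_cons, Multiset.map_replicate, Multiset.sum_replicate,
      smul_eq_mul, show min 2 1 = 1 from rfl, show min 2 2 = 2 from rfl, mul_one]
    omega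
  have hk2 : finrank F ↥(W₁ ⊓ LinearMap.ker (N ^ 2)) = 4 * j + 1 := by
    rw [hνch 2, hj]
    simp only [Multiset.map_cons, Multiset.sum_cons, Multiset.map_replicate, Multiset.sum_replicate,
      smul_eq_mul, show min 2 1 = 1 from rfl, show min 2 2 = 2 from rfl, mul_one]
    omega
  obtain ⟨w₁, hw₁W, hw₁0, hw₁w₁, -⟩ := Cfsg.Agent.Lib.Helper87.OMb.exists_fixed_norm h2F B hS N hNort W₁
    (fun v hv => by rw [hNap]; exact W₁.sub_mem (hW₁inv v hv) hv) hW₁nd (by rw [hk1, hk2]; omega)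
  obtain ⟨α₁, hα₁⟩ := hwall w₁ Submodule.mem_top hw₁0
  have hw₁fix : u w₁ = w₁ := by
    rw [hNap] at hw₁0
    exact sub_eq_zero.mp hw₁0
  -- the transported basis
  obtain ⟨e, he⟩ := Cfsg.Agent.Lib.Helper63.OPb.isoCls_polar h2F hS hW₁iso
  let bW : Basis (Fin (finrank F Wz)) F W₁ := b₀.map e.symm
  have hGram : (Matrix.of fun i j => B (bW i : (((Fin (d - 1) ⊕ Fin (d - 1)) ⊕ Fin 2) → F)) (bW j : (((Fin (d - 1) ⊕ Fin (d - 1)) ⊕ Fin 2) → F))) =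
      (Matrix.of fun i j => B (b₀ i : (((Fin (d - 1) ⊕ Fin (d - 1)) ⊕ Fin 2) → F)) (b₀ j : (((Fin (d - 1) ⊕ Fin (d - 1)) ⊕ Fin 2) → F))) := by
    ext i j
    simp only [Matrix.of_apply]
    have h1 := he (e.symm (b₀ i)) (e.symm (b₀ j))
    rw [LinearEquiv.apply_symm_apply, LinearEquiv.apply_symm_apply] at h1
    show B ((b₀.map e.symm i : W₁) : (((Fin (d - 1) ⊕ Fin (d - 1)) ⊕ Fin 2) → F)) ((b₀.map e.symm j : W₁) : (((Fin (d - 1) ⊕ Fin (d - 1)) ⊕ Fin 2) → F)) = _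
    rw [Basis.map_apply, Basis.map_apply]
    exact h1.symm
  have hsq := H12 u hiso W₁ hW₁inv hW₁nd j hdW hk1 hk2 w₁ hw₁W hw₁fix hw₁w₁ _ bW
  rw [hGram, ← hg₀] at hsq
  obtain ⟨s, hs⟩ := hsq
  have hα₁0 : α₁ ≠ 0 := by
    rintro rfl
    apply hw₁w₁
    rw [hα₁]
    ring
  have hα₀0 : α₀ ≠ 0 := by
    rintro rfl
    apply hτ0
    rw [hα₀]
    ring
  apply hζ
  refine ⟨s * α₀ / (g₀ * α₁), ?_⟩
  have h1 : B w w = ζ * g₀ / α₀ ^ 2 := by
    rw [eq_div_iff (pow_ne_zero 2 hα₀0), ← hτ, hα₀]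
    ring
  rw [hα₁, h1] at hs
  field_simp
  field_simp at hs
  linear_combination hs

/-- **LEAF 15 (599115)** in hypothesis form: `H12`, `H13` = LEAVES 12, 13 on the concrete space. -/
theorem case_p_minus_even_of [Fintype F] {p : ℕ} [Fact p.Prime] [CharP F p] (hodd : Odd (Fintype.card F))
    (d m : ℕ) (hd : 4 ≤ d) (hde : Even d) (hm : Odd m) (hmd : m < d) (a b : F) (hab : ∀ x y : F, x ^ 2 + a * x * y + b * y ^ 2 = 0 → x = 0 ∧ y = 0)
    (H12 : GramStmt (QuadraticMap.polarBilin (Cfsg.Agent.Lib.Helper50.QMinus (d - 1) F a b)))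
    (H13 : OrthStmt (QuadraticMap.polarBilin (Cfsg.Agent.Lib.Helper50.QMinus (d - 1) F a b)))
    (W₀ : Submodule F (((Fin (d - 1) ⊕ Fin (d - 1)) ⊕ Fin 2) → F))
    (hW₀ : Module.finrank F ↥W₀ = m ∧ Cfsg.Geo.IsNondegenerateOn (QuadraticMap.polar (Cfsg.quadFormMinus (d - 1) F a b)) W₀) :
    ∃ x : GL ((Fin (d - 1) ⊕ Fin (d - 1)) ⊕ Fin 2) F, x ∈ Cfsg.Geo.omegaGL (Cfsg.quadFormMinus (d - 1) F a b) ∧
      ((x ^ p : GL ((Fin (d - 1) ⊕ Fin (d - 1)) ⊕ Fin 2) F) : Matrix ((Fin (d - 1) ⊕ Fin (d - 1)) ⊕ Fin 2) ((Fin (d - 1) ⊕ Fin (d - 1)) ⊕ Fin 2) F) = (1 : F) • (1 : Matrix ((Fin (d - 1) ⊕ Fin (d - 1)) ⊕ Fin 2) ((Fin (d - 1) ⊕ Fin (d - 1)) ⊕ Fin 2) F) ∧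
      (∀ z : F, (x : Matrix ((Fin (d - 1) ⊕ Fin (d - 1)) ⊕ Fin 2) ((Fin (d - 1) ⊕ Fin (d - 1)) ⊕ Fin 2) F) ≠ z • (1 : Matrix ((Fin (d - 1) ⊕ Fin (d - 1)) ⊕ Fin 2) ((Fin (d - 1) ⊕ Fin (d - 1)) ⊕ Fin 2) F)) ∧
      ∀ W : Submodule F (((Fin (d - 1) ⊕ Fin (d - 1)) ⊕ Fin 2) → F), Module.finrank F ↥W = m →
        Cfsg.Geo.IsNondegenerateOn (QuadraticMap.polar (Cfsg.quadFormMinus (d - 1) F a b)) W →
        Cfsg.Geo.AreIsometricFor (Cfsg.quadFormMinus (d - 1) F a b) W W₀ →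
        ¬ W.map (Matrix.toLin' (x : Matrix ((Fin (d - 1) ⊕ Fin (d - 1)) ⊕ Fin 2) ((Fin (d - 1) ⊕ Fin (d - 1)) ⊕ Fin 2) F)) ≤ W := by
  classical
  have hpr : p.Prime := Fact.out
  have h2F : (2 : F) ≠ 0 := Cfsg.Agent.Lib.Helper50.two_ne_zero_of_odd_card rfl hodd
  set B := QuadraticMap.polarBilin (Cfsg.Agent.Lib.Helper50.QMinus (d - 1) F a b) with hB
  have hS : ∀ v w, B v w = B w v := Cfsg.Agent.Lib.Helper13.OPb.polarBilin_symm _
  have hV : NonDeg B ⊤ := Cfsg.Agent.Lib.Helper13.OPb.nonDeg_top_of_nondegenerate _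
    (Cfsg.Agent.Lib.Helper50.QMinus_nondeg_of_anis (d - 1) a b hab)
  have hR := Cfsg.Agent.Lib.Helper98.Os.isRefl_of_symm hS
  have hW₀nd : NonDeg B W₀ := (Cfsg.Agent.Lib.Helper13.OPb.nonDeg_polarBilin_iff _ W₀).mpr hW₀.2
  have hdimV : finrank F (((Fin (d - 1) ⊕ Fin (d - 1)) ⊕ Fin 2) → F) = 2 * d := by
    rw [Module.finrank_fintype_fun_eq_card]
    simp only [Fintype.card_sum, Fintype.card_fin]
    omega
  obtain ⟨m', hm'⟩ := hm
  rcases Nat.even_or_odd m' with hme | hmo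
  · -- `m ≡ 1 (mod 4)`
    have hmod : finrank F W₀ % 4 = 1 := by
      obtain ⟨c, hc⟩ := hme
      rw [hW₀.1]; omega
    obtain ⟨x, hxΩ, hxp, hxns, hiso, hcore⟩ := case_p_minus_even_core (p := p) hodd d hd hde a b hab H12 W₀
      hW₀nd hmod
    refine ⟨x, hxΩ, hxp, hxns, ?_⟩
    intro W hWd hWnd hWiso hWinv
    exact hcore W ((Cfsg.Agent.Lib.Helper13.OPb.inv_toLin'_iff _ W).mpr hWinv)
      ((Cfsg.Agent.Lib.Helper13.OPb.nonDeg_polarBilin_iff _ W).mpr hWnd)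
      ((Cfsg.Agent.Lib.Helper13.OPb.isoCls_polarBilin_iff h2F _ W W₀).mpr hWiso)
  · -- `m ≡ 3 (mod 4)`: pass to the orthogonal complements
    obtain ⟨c1, c2, c3, c4⟩ := Cfsg.Agent.Lib.Helper98.Os.compl_props hR W₀ ⊤ hW₀nd le_top hV
    rw [inf_top_eq] at c3 c4
    have hmod : finrank F ↥(LinearMap.BilinForm.orthogonal B W₀) % 4 = 1 := by
      rw [finrank_top, hdimV, hW₀.1] at c4
      obtain ⟨c, hc⟩ := hmo
      obtain ⟨e, he⟩ := hde
      omega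
    obtain ⟨x, hxΩ, hxp, hxns, hiso, hcore⟩ := case_p_minus_even_core (p := p) hodd d hd hde a b hab H12
      (LinearMap.BilinForm.orthogonal B W₀) c3 hmod
    refine ⟨x, hxΩ, hxp, hxns, ?_⟩
    intro W hWd hWnd hWiso hWinv
    have hWinv' : Inv (Matrix.toLin' (x : Matrix ((Fin (d - 1) ⊕ Fin (d - 1)) ⊕ Fin 2) ((Fin (d - 1) ⊕ Fin (d - 1)) ⊕ Fin 2) F)) W :=
      (Cfsg.Agent.Lib.Helper13.OPb.inv_toLin'_iff _ W).mpr hWinv
    have hWnd' : NonDeg B W := (Cfsg.Agent.Lib.Helper13.OPb.nonDeg_polarBilin_iff _ W).mpr hWnd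
    have hup : (Matrix.toLin' (x : Matrix ((Fin (d - 1) ⊕ Fin (d - 1)) ⊕ Fin 2) ((Fin (d - 1) ⊕ Fin (d - 1)) ⊕ Fin 2) F)) ^ p = 1 := by
      rw [← Matrix.toLin'_pow, ← Units.val_pow_eq_pow_val, hxp, one_smul, Matrix.toLin'_one]
      rfl
    obtain ⟨e1, e2, e3, e4⟩ := Cfsg.Agent.Lib.Helper98.Os.compl_props hR W ⊤ hWnd' le_top hV
    rw [inf_top_eq] at e3
    exact hcore (LinearMap.BilinForm.orthogonal B W)
      (Cfsg.Agent.Lib.Helper98.Sy.inv_orth p hpr.pos _ hup hiso W hWinv') e3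
      (H13 W W₀ ((Cfsg.Agent.Lib.Helper13.OPb.isoCls_polarBilin_iff h2F _ W W₀).mpr hWiso))

end Cfsg.Agent.Lib.Helper32.OMb
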