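import Cfsg.Agent.Lib.Helper32.OMb0a
import Cfsg.Agent.Lib.Helper32.OMb0b
import Cfsg.Agent.Lib.Helper42.OMb2
import Cfsg.Agent.Lib.Helper54.OMb10
import Cfsg.Agent.Lib.Helper50.GeoBridge
import Cfsg.Agent.Lib.Helper32.OMb15
import Cfsg.Agent.Lib.Helper14.OMb5
import Cfsg.Agent.Lib.Helper40.OMb6Final
import Cfsg.Agent.Lib.Helper69.OMb7
import Cfsg.Agent.Lib.Helper69.OMb8
import Cfsg.Agent.Lib.Helper59.OMb12
import Cfsg.Agent.Lib.Helper51.OMb13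
import Cfsg.Agent.Lib.Helper62.OMb4
import Cfsg.Agent.Lib.Helper01.OMb3

/-!
# K-OMb hub (row S5991, architect helper32): the hypothesis-form leaves wired to helper32's own leaves.
-/

set_option autoImplicit false
set_option linter.unusedVariables false

namespace Cfsg.Agent.Lib.Helper32.OMbHub

open Module Cfsg.Agent.Lib.Helper98.Elus Cfsg.Agent.Lib.Helper98.Sy
open scoped MatrixGroups

universe u
variable {F : Type u} [Field F]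

/-- LEAF 2 (helper42's `exists_sq_neg_one_minus_of` + `transport_minus_sq`). -/
theorem exists_sq_neg_one_minus [Fintype F] (hq : Fintype.card F % 8 = 7) (d : ℕ) (hd : Odd d) (a b : F) (hab : ∀ x y : F, x ^ 2 + a * x * y + b * y ^ 2 = 0 → x = 0 ∧ y = 0) :
    ∃ x : GL ((Fin (d - 1) ⊕ Fin (d - 1)) ⊕ Fin 2) F, x ∈ Cfsg.Geo.omegaGL (Cfsg.quadFormMinus (d - 1) F a b) ∧ (x : Matrix ((Fin (d - 1) ⊕ Fin (d - 1)) ⊕ Fin 2) ((Fin (d - 1) ⊕ Fin (d - 1)) ⊕ Fin 2) F) * (x : Matrix ((Fin (d - 1) ⊕ Fin (d - 1)) ⊕ Fin 2) ((Fin (d - 1) ⊕ Fin (d - 1)) ⊕ Fin 2) F) = -1 := by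
  have hoddq : Odd (Fintype.card F) := by
    rw [Nat.odd_iff]; omega
  have h2 : (2 : F) ≠ 0 := Cfsg.Agent.Lib.Helper50.two_ne_zero_of_odd_card rfl hoddq
  exact Cfsg.Agent.Lib.Helper42.OMb.exists_sq_neg_one_minus_of hq d hd a b
    (fun B hs hnd hV hm y hy =>
      Cfsg.Agent.Lib.Helper32.OMb.transport_minus_sq h2 d a b hab B hs hnd hV hm y hy)

/-- LEAF 10 (helper54's `case_p_minus_odd_of` + `exists_unipotent_minus`). -/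
theorem case_p_minus_odd [Fintype F] {p : ℕ} [Fact p.Prime] [CharP F p] (hodd : Odd (Fintype.card F))
    (d m : ℕ) (hd : 4 ≤ d) (hdo : Odd d) (hm : Odd m) (hmd : m < d) (a b : F) (hab : ∀ x y : F, x ^ 2 + a * x * y + b * y ^ 2 = 0 → x = 0 ∧ y = 0) :
    ∃ x : GL ((Fin (d - 1) ⊕ Fin (d - 1)) ⊕ Fin 2) F, x ∈ Cfsg.Geo.omegaGL (Cfsg.quadFormMinus (d - 1) F a b) ∧
      ((x ^ p : GL ((Fin (d - 1) ⊕ Fin (d - 1)) ⊕ Fin 2) F) : Matrix ((Fin (d - 1) ⊕ Fin (d - 1)) ⊕ Fin 2) ((Fin (d - 1) ⊕ Fin (d - 1)) ⊕ Fin 2) F) = (1 : F) • (1 : Matrix ((Fin (d - 1) ⊕ Fin (d - 1)) ⊕ Fin 2) ((Fin (d - 1) ⊕ Fin (d - 1)) ⊕ Fin 2) F) ∧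
      (∀ z : F, (x : Matrix ((Fin (d - 1) ⊕ Fin (d - 1)) ⊕ Fin 2) ((Fin (d - 1) ⊕ Fin (d - 1)) ⊕ Fin 2) F) ≠ z • (1 : Matrix ((Fin (d - 1) ⊕ Fin (d - 1)) ⊕ Fin 2) ((Fin (d - 1) ⊕ Fin (d - 1)) ⊕ Fin 2) F)) ∧
      ∀ W : Submodule F (((Fin (d - 1) ⊕ Fin (d - 1)) ⊕ Fin 2) → F), Module.finrank F ↥W = m →
        Cfsg.Geo.IsNondegenerateOn (QuadraticMap.polar (Cfsg.quadFormMinus (d - 1) F a b)) W →
        ¬ W.map (Matrix.toLin' (x : Matrix ((Fin (d - 1) ⊕ Fin (d - 1)) ⊕ Fin 2) ((Fin (d - 1) ⊕ Fin (d - 1)) ⊕ Fin 2) F)) ≤ W := by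
  have h2F : (2 : F) ≠ 0 := Cfsg.Agent.Lib.Helper50.two_ne_zero_of_odd_card rfl hodd
  have hp2 : p ≠ 2 := by
    intro h
    apply h2F
    have := CharP.cast_eq_zero F p
    rw [h] at this
    exact_mod_cast this
  exact Cfsg.Agent.Lib.Helper54.OMb.case_p_minus_odd_of hodd d m hd hdo hm hmd a b
    (fun μ' k k' h1 h2 hk hk' hsum hne τ hτ =>
      Cfsg.Agent.Lib.Helper32.OMb.exists_unipotent_minus hp2 d a b hab μ' k k' h1 h2 hk hk' hsum hne τ hτ)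

/-- LEAF 5 (helper14's `case_two_minus_of` + LEAVES 2, 3, 4). -/
theorem case_two_minus [Fintype F] (hodd : Odd (Fintype.card F)) (d m : ℕ) (hd : 4 ≤ d) (hm : Odd m) (hmd : m < d) (a b : F) (hab : ∀ x y : F, x ^ 2 + a * x * y + b * y ^ 2 = 0 → x = 0 ∧ y = 0)
    (W₀ : Submodule F (((Fin (d - 1) ⊕ Fin (d - 1)) ⊕ Fin 2) → F))
    (hW₀ : Module.finrank F ↥W₀ = m ∧ Cfsg.Geo.IsNondegenerateOn (QuadraticMap.polar (Cfsg.quadFormMinus (d - 1) F a b)) W₀) :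
    (∀ x : GL ((Fin (d - 1) ⊕ Fin (d - 1)) ⊕ Fin 2) F, x ∈ Cfsg.Geo.omegaGL (Cfsg.quadFormMinus (d - 1) F a b) →
      (∃ z : F, ((x ^ 2 : GL ((Fin (d - 1) ⊕ Fin (d - 1)) ⊕ Fin 2) F) : Matrix ((Fin (d - 1) ⊕ Fin (d - 1)) ⊕ Fin 2) ((Fin (d - 1) ⊕ Fin (d - 1)) ⊕ Fin 2) F) = z • (1 : Matrix ((Fin (d - 1) ⊕ Fin (d - 1)) ⊕ Fin 2) ((Fin (d - 1) ⊕ Fin (d - 1)) ⊕ Fin 2) F)) →
      (∀ z : F, (x : Matrix ((Fin (d - 1) ⊕ Fin (d - 1)) ⊕ Fin 2) ((Fin (d - 1) ⊕ Fin (d - 1)) ⊕ Fin 2) F) ≠ z • (1 : Matrix ((Fin (d - 1) ⊕ Fin (d - 1)) ⊕ Fin 2) ((Fin (d - 1) ⊕ Fin (d - 1)) ⊕ Fin 2) F)) →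
      ∃ W : Submodule F (((Fin (d - 1) ⊕ Fin (d - 1)) ⊕ Fin 2) → F), (Module.finrank F ↥W = m ∧ Cfsg.Geo.IsNondegenerateOn (QuadraticMap.polar (Cfsg.quadFormMinus (d - 1) F a b)) W ∧ Cfsg.Geo.AreIsometricFor (Cfsg.quadFormMinus (d - 1) F a b) W W₀) ∧ W.map (Matrix.toLin' (x : Matrix ((Fin (d - 1) ⊕ Fin (d - 1)) ⊕ Fin 2) ((Fin (d - 1) ⊕ Fin (d - 1)) ⊕ Fin 2) F)) ≤ W) ↔
    (Even d ∨ Fintype.card F % 8 ≠ 7) := by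
  refine Cfsg.Agent.Lib.Helper14.OMb.case_two_minus_of hodd d m hd hm hmd a b hab W₀ hW₀
    (fun h8 hdo => exists_sq_neg_one_minus h8 d hdo a b hab)
    (fun x hxΩ hx => Cfsg.Agent.Lib.Helper01.OMb.odd_and_mod_four_of_sq_neg_one_minus hodd d (by omega) a b hab x hxΩ hx)
    (fun hdo g hg hsq => Cfsg.Agent.Lib.Helper62.OMb.isSquare_two_of_sq_neg_one
      (Cfsg.Agent.Lib.Helper14.OMb.omb5_two_ne_zero hodd)
      (Cfsg.Agent.Lib.Helper50.QMinus (d - 1) F a b)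
      (Cfsg.Agent.Lib.Helper50.QMinus_nondeg_of_anis (d - 1) a b hab) d hdo
      (by rw [Cfsg.Agent.Lib.Helper50.card_minus_index]; omega) g hg hsq)

/-- LEAF 15 (`case_p_minus_even_of` + LEAVES 12, 13). -/
theorem case_p_minus_even [Fintype F] {p : ℕ} [Fact p.Prime] [CharP F p] (hodd : Odd (Fintype.card F))
    (d m : ℕ) (hd : 4 ≤ d) (hde : Even d) (hm : Odd m) (hmd : m < d) (a b : F) (hab : ∀ x y : F, x ^ 2 + a * x * y + b * y ^ 2 = 0 → x = 0 ∧ y = 0)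
    (W₀ : Submodule F (((Fin (d - 1) ⊕ Fin (d - 1)) ⊕ Fin 2) → F))
    (hW₀ : Module.finrank F ↥W₀ = m ∧ Cfsg.Geo.IsNondegenerateOn (QuadraticMap.polar (Cfsg.quadFormMinus (d - 1) F a b)) W₀) :
    ∃ x : GL ((Fin (d - 1) ⊕ Fin (d - 1)) ⊕ Fin 2) F, x ∈ Cfsg.Geo.omegaGL (Cfsg.quadFormMinus (d - 1) F a b) ∧
      ((x ^ p : GL ((Fin (d - 1) ⊕ Fin (d - 1)) ⊕ Fin 2) F) : Matrix ((Fin (d - 1) ⊕ Fin (d - 1)) ⊕ Fin 2) ((Fin (d - 1) ⊕ Fin (d - 1)) ⊕ Fin 2) F) = (1 : F) • (1 : Matrix ((Fin (d - 1) ⊕ Fin (d - 1)) ⊕ Fin 2) ((Fin (d - 1) ⊕ Fin (d - 1)) ⊕ Fin 2) F) ∧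
      (∀ z : F, (x : Matrix ((Fin (d - 1) ⊕ Fin (d - 1)) ⊕ Fin 2) ((Fin (d - 1) ⊕ Fin (d - 1)) ⊕ Fin 2) F) ≠ z • (1 : Matrix ((Fin (d - 1) ⊕ Fin (d - 1)) ⊕ Fin 2) ((Fin (d - 1) ⊕ Fin (d - 1)) ⊕ Fin 2) F)) ∧
      ∀ W : Submodule F (((Fin (d - 1) ⊕ Fin (d - 1)) ⊕ Fin 2) → F), Module.finrank F ↥W = m →
        Cfsg.Geo.IsNondegenerateOn (QuadraticMap.polar (Cfsg.quadFormMinus (d - 1) F a b)) W →
        Cfsg.Geo.AreIsometricFor (Cfsg.quadFormMinus (d - 1) F a b) W W₀ →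
        ¬ W.map (Matrix.toLin' (x : Matrix ((Fin (d - 1) ⊕ Fin (d - 1)) ⊕ Fin 2) ((Fin (d - 1) ⊕ Fin (d - 1)) ⊕ Fin 2) F)) ≤ W := by
  have h2F : (2 : F) ≠ 0 := Cfsg.Agent.Lib.Helper50.two_ne_zero_of_odd_card rfl hodd
  have hS : ∀ v w, QuadraticMap.polarBilin (Cfsg.Agent.Lib.Helper50.QMinus (d - 1) F a b) v w = QuadraticMap.polarBilin (Cfsg.Agent.Lib.Helper50.QMinus (d - 1) F a b) w v :=
    Cfsg.Agent.Lib.Helper13.OPb.polarBilin_symm _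
  have hV : NonDeg (QuadraticMap.polarBilin (Cfsg.Agent.Lib.Helper50.QMinus (d - 1) F a b)) ⊤ :=
    Cfsg.Agent.Lib.Helper13.OPb.nonDeg_top_of_nondegenerate _
      (Cfsg.Agent.Lib.Helper50.QMinus_nondeg_of_anis (d - 1) a b hab)
  exact Cfsg.Agent.Lib.Helper32.OMb.case_p_minus_even_of hodd d m hd hde hm hmd a b hab
    (fun u hiso W hW hWnd j hdW hk1 hk2 w hwW hw hww n bW =>
      Cfsg.Agent.Lib.Helper59.OMb.gram_isSquare_of_type_one_two h2F _ hS u hiso W hW hWnd j hdW hk1 hk2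
        w hwW hw hww bW)
    (fun W W' h => Cfsg.Agent.Lib.Helper51.OMb.isoCls_orthogonal h2F _ hS hV W W' h)
    W₀ hW₀

end Cfsg.Agent.Lib.Helper32.OMbHub
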