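import Mathlib

/-!
# K-Om-C (keystone 599405, row S5994, architect helper32): the swap lemma for partitions with all parts even.
-/

set_option autoImplicit false
set_option linter.unusedVariables false

namespace Cfsg.Agent.Lib.Helper32.Om

/-- a sub-multiset of `a ::ₘ μ` either avoids `a` or contains it -/
theorem le_cons_cases' (μ ν : Multiset ℕ) (a : ℕ) (h : ν ≤ a ::ₘ μ) :
    ν ≤ μ ∨ (a ∈ ν ∧ ν.erase a ≤ μ) := by
  by_cases ha : a ∈ ν
  · right
    refine ⟨ha, ?_⟩
    rw [← Multiset.cons_erase ha] at h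
    exact (Multiset.cons_le_cons_iff a).mp h
  · left
    exact (Multiset.le_cons_of_notMem ha).mp h

/-- the sum of a multiset of even numbers is even -/
theorem even_sum_of_all_even (ν : Multiset ℕ) (h : ∀ e ∈ ν, Even e) : Even ν.sum := by
  rw [even_iff_two_dvd]
  exact Multiset.dvd_sum (fun e he => (h e he).two_dvd)

/-- LEAF OmC (PURE multiset): the swap `(2e, 2e) -> (2e+1, 2e-1)`. -/
theorem sub_of_all_even (p m : ℕ) (hp : Odd p) (hme : Even m) (μ : Multiset ℕ)
    (hμ1 : ∀ e ∈ μ, 0 < e ∧ e ≤ p) (hμ2 : ∀ e : ℕ, Even e → Even (μ.count e))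
    (hall : ∀ e ∈ μ, Even e) (hne : μ ≠ 0)
    (h : ∀ μ' : Multiset ℕ, (∀ e ∈ μ', 0 < e ∧ e ≤ p) → (∀ e : ℕ, Even e → Even (μ'.count e)) →
      μ'.sum = μ.sum → (∃ e ∈ μ', Odd e) →
      ∃ ν : Multiset ℕ, ν ≤ μ' ∧ ν.sum = m ∧ ∀ e : ℕ, Even e → Even (ν.count e)) :
    ∃ ν : Multiset ℕ, ν ≤ μ ∧ ν.sum = m ∧ ∀ e : ℕ, Even e → Even (ν.count e) := by
  classical
  obtain ⟨a, haμ⟩ := Multiset.exists_mem_of_ne_zero hne
  have hae : Even a := hall a haμ
  obtain ⟨ha0, hap⟩ := hμ1 a haμ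
  have ha2 : 2 ≤ a := by
    obtain ⟨c, hc⟩ := hae
    omega
  have hap1 : a + 1 ≤ p := by
    obtain ⟨c, hc⟩ := hae
    obtain ⟨c', hc'⟩ := hp
    omega
  -- `a` occurs at least twice
  have hcnt : 2 ≤ μ.count a := by
    have h1 : 0 < μ.count a := Multiset.count_pos.mpr haμ
    obtain ⟨c, hc⟩ := hμ2 a hae
    omega
  have haμ' : a ∈ μ.erase a := by
    rw [← Multiset.count_pos, Multiset.count_erase_self]
    omega
  set μ₀ := (μ.erase a).erase a with hμ₀
  have hμeq : μ = a ::ₘ a ::ₘ μ₀ := by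
    rw [hμ₀, Multiset.cons_erase haμ', Multiset.cons_erase haμ]
  have hμ₀le : μ₀ ≤ μ := by
    rw [hμeq]
    exact le_trans (Multiset.le_cons_self _ a) (Multiset.le_cons_self _ a)
  have hcount : ∀ e : ℕ, μ.count e = (if e = a then 2 else 0) + μ₀.count e := by
    intro e
    rw [hμeq]
    by_cases hea : e = a
    · subst hea
      rw [Multiset.count_cons_self, Multiset.count_cons_self, if_pos rfl]
      omega
    · rw [Multiset.count_cons_of_ne hea, Multiset.count_cons_of_ne hea, if_neg hea, zero_add]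
  have hμ₀2 : ∀ e : ℕ, Even e → Even (μ₀.count e) := by
    intro e he
    have h1 := hμ2 e he
    rw [hcount e] at h1
    split_ifs at h1 with hea
    · obtain ⟨c, hc⟩ := h1
      exact ⟨c - 1, by omega⟩
    · rwa [zero_add] at h1
  have hoddp : Odd (a + 1) := hae.add_one
  have hoddm : Odd (a - 1) := by
    obtain ⟨c, hc⟩ := hae
    exact ⟨c - 1, by omega⟩
  -- the modified partition
  have hμ'1 : ∀ e ∈ ((a + 1) ::ₘ (a - 1) ::ₘ μ₀ : Multiset ℕ), 0 < e ∧ e ≤ p := by
    intro e he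
    rcases Multiset.mem_cons.mp he with h1 | he
    · omega
    rcases Multiset.mem_cons.mp he with h1 | he
    · omega
    · exact hμ1 e (Multiset.mem_of_le hμ₀le he)
  have hne_of_even : ∀ e : ℕ, Even e → e ≠ a + 1 ∧ e ≠ a - 1 := by
    intro e he
    constructor
    · rintro rfl
      exact (Nat.not_even_iff_odd.mpr hoddp) he
    · rintro rfl
      exact (Nat.not_even_iff_odd.mpr hoddm) he
  have hμ'2 : ∀ e : ℕ, Even e → Even (((a + 1) ::ₘ (a - 1) ::ₘ μ₀ : Multiset ℕ).count e) := by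
    intro e he
    obtain ⟨h1, h2⟩ := hne_of_even e he
    rw [Multiset.count_cons_of_ne h1, Multiset.count_cons_of_ne h2]
    exact hμ₀2 e he
  have hμ's : ((a + 1) ::ₘ (a - 1) ::ₘ μ₀ : Multiset ℕ).sum = μ.sum := by
    rw [hμeq, Multiset.sum_cons, Multiset.sum_cons, Multiset.sum_cons, Multiset.sum_cons]
    omega
  obtain ⟨ν', hν'le, hν's, hν'2⟩ := h _ hμ'1 hμ'2 hμ's ⟨a + 1, Multiset.mem_cons_self _ _, hoddp⟩
  have hall₀ : ∀ ν₀ : Multiset ℕ, ν₀ ≤ μ₀ → Even ν₀.sum := fun ν₀ hν₀ =>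
    even_sum_of_all_even ν₀ (fun e he => hall e (Multiset.mem_of_le hμ₀le (Multiset.mem_of_le hν₀ he)))
  rcases le_cons_cases' _ ν' (a + 1) hν'le with h1 | ⟨hmem1, h1⟩
  · rcases le_cons_cases' _ ν' (a - 1) h1 with h2 | ⟨hmem2, h2⟩
    · -- none of the two odd parts
      exact ⟨ν', le_trans h2 hμ₀le, hν's, hν'2⟩
    · -- only `a - 1`: parity contradiction
      exfalso
      have h3 := hall₀ _ h2
      have h4 : ν'.sum = (a - 1) + (ν'.erase (a - 1)).sum := by
        rw [← Multiset.sum_cons, Multiset.cons_erase hmem2]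
      obtain ⟨c, hc⟩ := h3
      obtain ⟨c', hc'⟩ := hme
      obtain ⟨c'', hc''⟩ := hoddm
      omega
  · rcases le_cons_cases' _ (ν'.erase (a + 1)) (a - 1) h1 with h2 | ⟨hmem2, h2⟩
    · -- only `a + 1`: parity contradiction
      exfalso
      have h3 := hall₀ _ h2
      have h4 : ν'.sum = (a + 1) + (ν'.erase (a + 1)).sum := by
        rw [← Multiset.sum_cons, Multiset.cons_erase hmem1]
      obtain ⟨c, hc⟩ := h3
      obtain ⟨c', hc'⟩ := hme
      obtain ⟨c'', hc''⟩ := hae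
      omega
    · -- both odd parts: swap back
      set ν₀ := (ν'.erase (a + 1)).erase (a - 1) with hν₀
      have hν'eq : ν' = (a + 1) ::ₘ (a - 1) ::ₘ ν₀ := by
        rw [hν₀, Multiset.cons_erase hmem2, Multiset.cons_erase hmem1]
      refine ⟨a ::ₘ a ::ₘ ν₀, ?_, ?_, ?_⟩
      · rw [hμeq]
        exact (Multiset.cons_le_cons_iff a).mpr ((Multiset.cons_le_cons_iff a).mpr h2)
      · rw [← hν's, hν'eq, Multiset.sum_cons, Multiset.sum_cons, Multiset.sum_cons,
          Multiset.sum_cons]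
        omega
      · intro e he
        obtain ⟨hn1, hn2⟩ := hne_of_even e he
        have h3 := hν'2 e he
        rw [hν'eq, Multiset.count_cons_of_ne hn1, Multiset.count_cons_of_ne hn2] at h3
        by_cases hea : e = a
        · subst hea
          rw [Multiset.count_cons_self, Multiset.count_cons_self]
          obtain ⟨c, hc⟩ := h3
          exact ⟨c + 1, by omega⟩
        · rw [Multiset.count_cons_of_ne hea, Multiset.count_cons_of_ne hea]
          exact h3

end Cfsg.Agent.Lib.Helper32.Om
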