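import Mathlib
import Cfsg.Agent.Lib.Helper39.HyperplaneGen
import Cfsg.Agent.Lib.Helper32.Coprime

set_option autoImplicit false

/-!
# Noncyclic abelian `p`-groups acting on `2`-groups with few fixed involutions (ambient form)
-/

namespace Cfsg.Agent.Lib.Helper32.OneInv

variable {Γ : Type*} [Group Γ]

/-- if `a ^ 2` commutes with `t` and `a ^ m = 1` with `m` odd, then `a` commutes with `t` -/
theorem commute_of_sq_commute {a t : Γ} {m : ℕ} (hm : Odd m) (ham : a ^ m = 1)
    (h : a ^ 2 * t = t * a ^ 2) : a * t = t * a := by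
  obtain ⟨k, rfl⟩ := hm
  have e : a = (a ^ 2) ^ (k + 1) := by
    rw [← pow_mul]
    have : 2 * (k + 1) = (2 * k + 1) + 1 := by ring
    rw [this, pow_succ, ham, one_mul]
  have hc : Commute (a ^ 2) t := h
  have := (hc.pow_left (k + 1)).eq
  rw [← e] at this
  exact this

/-- an element of odd order normalizing an abelian subgroup with at most one involution
centralizes its elements of `2`-power order -/
theorem commute_of_abelian_oneInv {a : Γ} {m : ℕ} (hm : Odd m) (ham : a ^ m = 1) (T : Subgroup Γ)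
    (hTc : ∀ x ∈ T, ∀ y ∈ T, x * y = y * x)
    (hinv : ∀ x ∈ T, ∀ y ∈ T, orderOf x = 2 → orderOf y = 2 → x = y)
    (hn : ∀ t ∈ T, a * t * a⁻¹ ∈ T) : ∀ k : ℕ, ∀ t ∈ T, t ^ (2 ^ k) = 1 → a * t = t * a := by
  intro k
  induction k with
  | zero =>
    intro t _ h
    rw [pow_zero, pow_one] at h
    rw [h, mul_one, one_mul]
  | succ k ih =>
    intro t ht h
    have hs : (t ^ 2) ^ (2 ^ k) = 1 := by rw [← pow_mul, ← pow_succ']; exact h
    have hs' : a * t ^ 2 = t ^ 2 * a := ih (t ^ 2) (T.pow_mem ht 2) hs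
    set u := a * t * a⁻¹ with hu
    have huT : u ∈ T := hn t ht
    have hu2 : u ^ 2 = t ^ 2 := by
      have : u ^ 2 = a * t ^ 2 * a⁻¹ := by rw [hu, pow_two, pow_two]; group
      rw [this, hs']; group
    set c := u * t⁻¹ with hc
    have hcT : c ∈ T := T.mul_mem huT (T.inv_mem ht)
    have hc2 : c ^ 2 = 1 := by
      have hcomm : Commute u t⁻¹ := hTc u huT t⁻¹ (T.inv_mem ht)
      rw [hc, hcomm.mul_pow, hu2, inv_pow, mul_inv_cancel]
    -- `a` fixes `c`
    have hac : a * c * a⁻¹ = c := by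
      by_cases hc1 : c = 1
      · rw [hc1]; group
      · have ho : orderOf c = 2 := orderOf_eq_prime hc2 hc1
        have hc'T : a * c * a⁻¹ ∈ T := hn c hcT
        have hc'2 : (a * c * a⁻¹) ^ 2 = 1 := by
          have : (a * c * a⁻¹) ^ 2 = a * c ^ 2 * a⁻¹ := by rw [pow_two, pow_two]; group
          rw [this, hc2]; group
        have hc'1 : a * c * a⁻¹ ≠ 1 := by
          intro h1
          apply hc1
          have : c = a⁻¹ * (a * c * a⁻¹) * a := by group
          rw [this, h1]; group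
        exact hinv _ hc'T _ hcT (orderOf_eq_prime hc'2 hc'1) ho
    have hut : u = c * t := by rw [hc]; group
    have hcc : c * c = 1 := by rw [← pow_two]; exact hc2
    have h2 : a ^ 2 * t = t * a ^ 2 := by
      have e1 : a ^ 2 * t * (a ^ 2)⁻¹ = a * u * a⁻¹ := by rw [hu, pow_two]; group
      have e2 : a * u * a⁻¹ = (a * c * a⁻¹) * (a * t * a⁻¹) := by rw [hut]; group
      have e3 : a ^ 2 * t * (a ^ 2)⁻¹ = t := by
        rw [e1, e2, hac, ← hu, hut, ← mul_assoc, hcc, one_mul]
      calc a ^ 2 * t = (a ^ 2 * t * (a ^ 2)⁻¹) * a ^ 2 := by group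
        _ = t * a ^ 2 := by rw [e3]
    exact commute_of_sq_commute hm ham h2

/-- version for `2`-subgroups -/
theorem commute_of_abelian_oneInv' {a : Γ} {m : ℕ} (hm : Odd m) (ham : a ^ m = 1) (T : Subgroup Γ)
    (hT : IsPGroup 2 T)
    (hTc : ∀ x ∈ T, ∀ y ∈ T, x * y = y * x)
    (hinv : ∀ x ∈ T, ∀ y ∈ T, orderOf x = 2 → orderOf y = 2 → x = y)
    (hn : ∀ t ∈ T, a * t * a⁻¹ ∈ T) : ∀ t ∈ T, a * t = t * a := by
  intro t ht
  obtain ⟨k, hk⟩ := hT ⟨t, ht⟩
  have hk' : t ^ (2 ^ k) = 1 := by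
    have := congrArg Subtype.val hk
    simpa using this
  exact commute_of_abelian_oneInv hm ham T hTc hinv hn k t ht hk'

end Cfsg.Agent.Lib.Helper32.OneInv
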