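import Mathlib
import Cfsg.Agent.Lib.Helper32.OneInvA

set_option autoImplicit false

namespace Cfsg.Agent.Lib.Helper32.OneInv

open Cfsg.Agent.Lib.Helper39

variable {Γ : Type*} [Group Γ]

/-- the ambient configuration: `A` elementary abelian of order at least `p ^ 2` acting faithfully
on the `2`-group `W`, every nonidentity element of `A` fixing at most one involution. -/
structure Setup (Γ : Type*) [Group Γ] (p : ℕ) (W A : Subgroup Γ) : Prop where
  hp : p.Prime
  hp2 : p ≠ 2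
  hW : IsPGroup 2 W
  hAW : A ≤ Subgroup.normalizer (W : Set Γ)
  hAc : ∀ a ∈ A, ∀ b ∈ A, a * b = b * a
  hAp : ∀ a ∈ A, a ^ p = 1
  hA2 : p ^ 2 ≤ Nat.card A
  hinv : ∀ a ∈ A, a ≠ 1 → ∀ x ∈ W, ∀ y ∈ W, orderOf x = 2 → orderOf y = 2 →
    a * x = x * a → a * y = y * a → x = y
  hfaith : ∀ a ∈ A, (∀ w ∈ W, a * w = w * a) → a = 1

variable {p : ℕ} {W A : Subgroup Γ}

theorem Setup.odd (S : Setup Γ p W A) : Odd p := S.hp.odd_of_ne_two S.hp2

theorem Setup.conj_mem (S : Setup Γ p W A) {a w : Γ} (ha : a ∈ A) (hw : w ∈ W) :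
    a * w * a⁻¹ ∈ W := (Subgroup.mem_normalizer_iff.1 (S.hAW ha) w).1 hw

theorem Setup.conj_mem' (S : Setup Γ p W A) {a w : Γ} (ha : a ∈ A) (hw : w ∈ W) :
    a⁻¹ * w * a ∈ W := by
  have := S.conj_mem (A.inv_mem ha) hw
  simpa using this

theorem Setup.coprime_card [Finite Γ] (S : Setup Γ p W A) {Y : Subgroup Γ} (hY : Y ≤ W) :
    (Nat.card Y).Coprime p := by
  haveI : Fact (Nat.Prime 2) := ⟨Nat.prime_two⟩
  obtain ⟨k, hk⟩ := (IsPGroup.iff_card (p := 2)).1 (S.hW.to_le hY)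
  rw [hk]
  exact Nat.Coprime.pow_left k ((Nat.coprime_primes Nat.prime_two S.hp).2 (Ne.symm S.hp2))

theorem Setup.exists_ne_one_of_hyperplane [Finite Γ] (S : Setup Γ p W A) {B : Subgroup Γ}
    (hB : Nat.card A ≤ p * Nat.card B) : ∃ b ∈ B, b ≠ 1 := by
  by_contra hcon
  push Not at hcon
  have hbot : B = ⊥ := (Subgroup.eq_bot_iff_forall B).2 hcon
  rw [hbot, Subgroup.card_bot, mul_one] at hB
  have h1 := S.hA2
  have h2 : p * p ≤ p := by rw [← pow_two]; exact h1.trans hB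
  have h3 := S.hp.two_le
  nlinarith

theorem Setup.exists_ne_one [Finite Γ] (S : Setup Γ p W A) : ∃ a ∈ A, a ≠ 1 := by
  apply S.exists_ne_one_of_hyperplane (B := A)
  have := S.hp.two_le
  have h1 : 0 < Nat.card A := Nat.card_pos
  nlinarith

/-- `A` centralizes every `A`-invariant abelian subgroup of `W` -/
theorem Setup.centralizes_abelian [Finite Γ] (S : Setup Γ p W A) {Y : Subgroup Γ} (hY : Y ≤ W)
    (hYc : ∀ x ∈ Y, ∀ y ∈ Y, x * y = y * x)
    (hAY : A ≤ Subgroup.normalizer (Y : Set Γ)) : ∀ a ∈ A, ∀ y ∈ Y, a * y = y * a := by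
  haveI : Fact p.Prime := ⟨S.hp⟩
  have key : Y ≤ Subgroup.centralizer (A : Set Γ) := by
    refine le_of_hyperplane_centralizers_le (p := p) S.hAc S.hAp (S.coprime_card hY) hAY ?_
    intro B hBA hcard t ht
    obtain ⟨b, hbB, hb1⟩ := S.exists_ne_one_of_hyperplane hcard
    have hAT := normalizes_inf_centralizer S.hAc hAY B hBA
    rw [Subgroup.mem_centralizer_iff]
    intro a ha
    have hTW : Y ⊓ Subgroup.centralizer (B : Set Γ) ≤ W := inf_le_left.trans hY
    refine commute_of_abelian_oneInv' S.odd (S.hAp a ha) _ (S.hW.to_le hTW) ?_ ?_ ?_ t ht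
    · intro x hx y hy
      exact hYc x (Subgroup.mem_inf.1 hx).1 y (Subgroup.mem_inf.1 hy).1
    · intro x hx y hy hox hoy
      have hxb := (Subgroup.mem_centralizer_iff.1 (Subgroup.mem_inf.1 hx).2) b hbB
      have hyb := (Subgroup.mem_centralizer_iff.1 (Subgroup.mem_inf.1 hy).2) b hbB
      exact S.hinv b (hBA hbB) hb1 x (hTW hx) y (hTW hy) hox hoy hxb hyb
    · intro t' ht'
      exact (Subgroup.mem_normalizer_iff.1 (hAT ha) t').1 ht'
  intro a ha y hy
  exact (Subgroup.mem_centralizer_iff.1 (key hy)) a ha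

/-- the central involution `z` -/
theorem Setup.exists_z [Finite Γ] (S : Setup Γ p W A) :
    ∃ z ∈ W, orderOf z = 2 ∧ (∀ w ∈ W, z * w = w * z) ∧ (∀ a ∈ A, a * z = z * a) := by
  haveI : Fact (Nat.Prime 2) := ⟨Nat.prime_two⟩
  obtain ⟨a0, ha0, ha01⟩ := S.exists_ne_one
  -- `W` is nontrivial
  have hWnt : Nontrivial W := by
    by_contra hnt
    rw [not_nontrivial_iff_subsingleton] at hnt
    apply ha01
    apply S.hfaith a0 ha0
    intro w hw
    have : (⟨w, hw⟩ : W) = 1 := Subsingleton.elim _ _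
    have hw1 : w = 1 := congrArg Subtype.val this
    rw [hw1, mul_one, one_mul]
  have hZnt := S.hW.center_nontrivial
  obtain ⟨c, hc1⟩ := exists_ne (1 : Subgroup.center W)
  -- the subgroup `Z = W ⊓ C(W)`
  set Z : Subgroup Γ := W ⊓ Subgroup.centralizer (W : Set Γ) with hZ
  have hcZ : ((c : W) : Γ) ∈ Z := by
    refine Subgroup.mem_inf.2 ⟨(c : W).2, ?_⟩
    rw [Subgroup.mem_centralizer_iff]
    intro w hw
    have := Subgroup.mem_center_iff.1 c.2 ⟨w, hw⟩
    exact congrArg Subtype.val this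
  have hZbot : Z ≠ ⊥ := by
    intro h
    rw [h, Subgroup.mem_bot] at hcZ
    apply hc1
    ext
    exact hcZ
  have hZW : Z ≤ W := inf_le_left
  obtain ⟨k, hk⟩ := (IsPGroup.iff_card (p := 2)).1 (S.hW.to_le hZW)
  have hk0 : k ≠ 0 := by
    intro h
    rw [h, pow_zero] at hk
    exact hZbot (Subgroup.card_eq_one.1 hk)
  have h2 : 2 ∣ Nat.card Z := by rw [hk]; exact dvd_pow_self 2 hk0
  obtain ⟨x, hx⟩ := exists_prime_orderOf_dvd_card' (G := Z) 2 h2
  have hxo : orderOf (x : Γ) = 2 := by rw [Subgroup.orderOf_coe]; exact hx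
  have hZc : ∀ u ∈ Z, ∀ v ∈ Z, u * v = v * u := by
    intro u hu v hv
    exact ((Subgroup.mem_centralizer_iff.1 (Subgroup.mem_inf.1 hv).2) u (hZW hu))
  have hAZ : A ≤ Subgroup.normalizer (Z : Set Γ) := by
    intro a ha
    apply Subgroup.mem_normalizer_fintype
    intro n hn
    have hn' : n ∈ Z := hn
    refine Subgroup.mem_inf.2 ⟨S.conj_mem ha (hZW hn'), ?_⟩
    rw [Subgroup.mem_centralizer_iff]
    intro w hw
    have hw' := S.conj_mem' ha hw
    have hcomm := (Subgroup.mem_centralizer_iff.1 (Subgroup.mem_inf.1 hn').2) _ hw'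
    calc w * (a * n * a⁻¹) = a * ((a⁻¹ * w * a) * n) * a⁻¹ := by group
      _ = a * (n * (a⁻¹ * w * a)) * a⁻¹ := by rw [hcomm]
      _ = a * n * a⁻¹ * w := by group
  have hAcent := S.centralizes_abelian hZW hZc hAZ
  refine ⟨(x : Γ), hZW x.2, hxo, ?_, ?_⟩
  · intro w hw
    exact ((Subgroup.mem_centralizer_iff.1 (Subgroup.mem_inf.1 x.2).2) w hw).symm
  · intro a ha
    exact hAcent a ha _ x.2

end Cfsg.Agent.Lib.Helper32.OneInv
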