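import Mathlib
import Cfsg.Agent.Lib.Helper97.UniqueOrderP

set_option autoImplicit false

/-!
# `2`-groups with a unique involution: two consequences of the cyclic/quaternion classification
-/

namespace Cfsg.Agent.Lib.Helper32.OneInv

open Cfsg.Agent.Lib.Helper97

/-- if `1 = -1` in `ZMod (2 n)` then the quaternion group is commutative -/
theorem quaternion_comm_of_one_eq_neg {n : ℕ} (h : (1 : ZMod (2 * n)) = -1)
    (x y : QuaternionGroup n) : x * y = y * x := by
  have hneg : ∀ j : ZMod (2 * n), -j = j := by
    intro j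
    calc -j = j * (-1) := by ring
      _ = j * 1 := by rw [← h]
      _ = j := by ring
  cases x with
  | a i =>
    cases y with
    | a j => simp [add_comm]
    | xa j =>
      simp only [QuaternionGroup.a_mul_xa, QuaternionGroup.xa_mul_a]
      congr 1
      rw [sub_eq_add_neg, hneg]
  | xa i =>
    cases y with
    | a j =>
      simp only [QuaternionGroup.a_mul_xa, QuaternionGroup.xa_mul_a]
      congr 1
      rw [sub_eq_add_neg, hneg]
    | xa j =>
      simp only [QuaternionGroup.xa_mul_xa]
      congr 1
      have e1 : (n : ZMod (2 * n)) + j - i = n + (j + -i) := by ring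
      have e2 : (n : ZMod (2 * n)) + i - j = n + (-j + i) := by ring
      rw [e1, e2, hneg i, hneg j]

/-- a central element of a quaternion group whose square is nontrivial forces commutativity -/
theorem quaternion_comm_of_central {n : ℕ} (q : QuaternionGroup n) (hq : ∀ x, q * x = x * q)
    (hq2 : q * q ≠ 1) (x y : QuaternionGroup n) : x * y = y * x := by
  cases q with
  | a k =>
    exfalso
    apply hq2
    have h1 := hq (QuaternionGroup.xa 0)
    simp only [QuaternionGroup.a_mul_xa, QuaternionGroup.xa_mul_a] at h1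
    have h2 : (0 : ZMod (2 * n)) - k = 0 + k := by
      injection h1
    have h3 : k + k = 0 := by
      linear_combination (-1 : ZMod (2 * n)) * h2
    rw [QuaternionGroup.a_mul_a, h3]
    rfl
  | xa k =>
    have h1 := hq (QuaternionGroup.a 1)
    simp only [QuaternionGroup.a_mul_xa, QuaternionGroup.xa_mul_a] at h1
    have h2 : k + 1 = k - 1 := by
      injection h1
    have h3 : (1 : ZMod (2 * n)) = -1 := by
      linear_combination h2
    exact quaternion_comm_of_one_eq_neg h3 x y

variable {G : Type*} [Group G] [Finite G]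

/-- a `2`-group with a unique involution and a central element of order at least `4`
is commutative -/
theorem comm_of_unique_involution_of_central (hG : IsPGroup 2 G) (hU : UniqueOrderP 2 G)
    (i : G) (hi : ∀ x : G, i * x = x * i) (hi2 : i * i ≠ 1) (x y : G) : x * y = y * x := by
  by_cases hc : IsCyclic G
  · exact isMulCommutative_iff.1 (IsCyclic.isMulCommutative (α := G)) x y
  · obtain ⟨n, ⟨φ⟩⟩ := quaternion_of_uniqueOrderP_two hG hU hc
    have hq : ∀ u, φ i * u = u * φ i := by
      intro u
      obtain ⟨v, rfl⟩ := φ.surjective u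
      rw [← map_mul, ← map_mul, hi v]
    have hq2 : φ i * φ i ≠ 1 := by
      intro h
      apply hi2
      apply φ.injective
      rw [map_mul, h, map_one]
    apply φ.injective
    rw [map_mul, map_mul]
    exact quaternion_comm_of_central (φ i) hq hq2 (φ x) (φ y)

/-- a `2`-group of exponent dividing `4` with a unique involution has order at most `8` -/
theorem card_le_eight_of_unique_involution (hG : IsPGroup 2 G) (hU : UniqueOrderP 2 G)
    (h4 : ∀ x : G, x ^ 4 = 1) : Nat.card G ≤ 8 := by
  by_cases hc : IsCyclic G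
  · obtain ⟨g, hg⟩ := hc.exists_generator
    have h1 : Nat.card G = orderOf g := by
      rw [← Nat.card_zpowers]
      have : Subgroup.zpowers g = ⊤ := (Subgroup.eq_top_iff' _).2 hg
      rw [this, Subgroup.card_top]
    have h2 : orderOf g ∣ 4 := orderOf_dvd_of_pow_eq_one (h4 g)
    have h3 := Nat.le_of_dvd (by norm_num) h2
    omega
  · obtain ⟨n, ⟨φ⟩⟩ := quaternion_of_uniqueOrderP_two hG hU hc
    have h1 : Nat.card G = 4 * 2 ^ n := by
      rw [Nat.card_congr φ.toEquiv, Nat.card_eq_fintype_card, QuaternionGroup.card]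
    have h2 : (QuaternionGroup.a 1 : QuaternionGroup (2 ^ n)) ^ 4 = 1 := by
      have := h4 (φ.symm (QuaternionGroup.a 1))
      rw [← map_pow] at this
      have h := congrArg φ this
      simpa using h
    have h3 : 2 * 2 ^ n ∣ 4 := by
      rw [← QuaternionGroup.orderOf_a_one]
      exact orderOf_dvd_of_pow_eq_one h2
    have h4' := Nat.le_of_dvd (by norm_num) h3
    omega

/-- subgroup form: unique involution in element form -/
theorem uniqueOrderP_of_forall {Γ : Type*} [Group Γ] (T : Subgroup Γ)
    (hinv : ∀ x ∈ T, ∀ y ∈ T, orderOf x = 2 → orderOf y = 2 → x = y) : UniqueOrderP 2 T := by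
  intro x y hx hy
  have hx' : orderOf (x : Γ) = 2 := by rw [Subgroup.orderOf_coe]; exact hx
  have hy' : orderOf (y : Γ) = 2 := by rw [Subgroup.orderOf_coe]; exact hy
  have : x = y := Subtype.ext (hinv x x.2 y y.2 hx' hy')
  rw [this]
  exact Subgroup.mem_zpowers y

/-- subgroup form of `comm_of_unique_involution_of_central` -/
theorem comm_of_central_subgroup {Γ : Type*} [Group Γ] (T : Subgroup Γ) [Finite T]
    (hT : IsPGroup 2 T)
    (hinv : ∀ x ∈ T, ∀ y ∈ T, orderOf x = 2 → orderOf y = 2 → x = y)
    {i : Γ} (hiT : i ∈ T) (hi : ∀ t ∈ T, i * t = t * i) (hi2 : i * i ≠ 1) :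
    ∀ x ∈ T, ∀ y ∈ T, x * y = y * x := by
  intro x hx y hy
  have key := comm_of_unique_involution_of_central (G := T) hT (uniqueOrderP_of_forall T hinv)
    ⟨i, hiT⟩ (fun t => Subtype.ext (hi t t.2))
    (fun h => hi2 (by simpa using congrArg Subtype.val h)) ⟨x, hx⟩ ⟨y, hy⟩
  exact congrArg Subtype.val key

/-- subgroup form of `card_le_eight_of_unique_involution` -/
theorem card_le_eight_subgroup {Γ : Type*} [Group Γ] (T : Subgroup Γ) [Finite T]
    (hT : IsPGroup 2 T)
    (hinv : ∀ x ∈ T, ∀ y ∈ T, orderOf x = 2 → orderOf y = 2 → x = y)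
    (h4 : ∀ t ∈ T, t ^ 4 = 1) : Nat.card T ≤ 8 := by
  apply card_le_eight_of_unique_involution (G := T) hT (uniqueOrderP_of_forall T hinv)
  intro t
  exact Subtype.ext (by simpa using h4 t t.2)

end Cfsg.Agent.Lib.Helper32.OneInv
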