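import Mathlib
import Cfsg.Agent.Lib.Helper32.OneInvB
import Cfsg.Agent.Lib.Helper32.OneInvQ
import Cfsg.Agent.Lib.Helper30.Generation

set_option autoImplicit false

namespace Cfsg.Agent.Lib.Helper32.OneInv

open Cfsg.Agent.Lib.Helper39 Cfsg.Agent.Lib.Helper30
open scoped commutatorElement

variable {Γ : Type*} [Group Γ] {p : ℕ} {W A : Subgroup Γ}

/-- the distinguished central involution -/
structure IsZ (W A : Subgroup Γ) (z : Γ) : Prop where
  mem : z ∈ W
  ord : orderOf z = 2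
  cW : ∀ w ∈ W, z * w = w * z
  cA : ∀ a ∈ A, a * z = z * a

variable {z : Γ}

theorem IsZ.ne_one (hz : IsZ W A z) : z ≠ 1 := by
  intro h
  have := hz.ord
  rw [h, orderOf_one] at this
  omega

theorem IsZ.sq (hz : IsZ W A z) : z ^ 2 = 1 := by
  rw [← hz.ord]; exact pow_orderOf_eq_one z

theorem IsZ.mul_self (hz : IsZ W A z) : z * z = 1 := by
  rw [← pow_two]; exact hz.sq

theorem IsZ.inv_eq (hz : IsZ W A z) : z⁻¹ = z := inv_eq_of_mul_eq_one_right hz.mul_self

theorem Setup.exists_isZ [Finite Γ] (S : Setup Γ p W A) : ∃ z, IsZ W A z := by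
  obtain ⟨z, h1, h2, h3, h4⟩ := S.exists_z
  exact ⟨z, ⟨h1, h2, h3, h4⟩⟩

theorem Setup.isPGroup_A (S : Setup Γ p W A) : IsPGroup p A := by
  intro g
  refine ⟨1, ?_⟩
  rw [pow_one]
  exact Subtype.ext (by simpa using S.hAp g g.2)

theorem Setup.coprime_AW [Finite Γ] (S : Setup Γ p W A) {Y : Subgroup Γ} (hY : Y ≤ W) :
    (Nat.card A).Coprime (Nat.card Y) := by
  haveI : Fact p.Prime := ⟨S.hp⟩
  obtain ⟨n, hn⟩ := (IsPGroup.iff_card (p := p)).1 S.isPGroup_A
  rw [hn]
  exact Nat.Coprime.pow_left n (S.coprime_card hY).symm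

theorem Setup.eq_z (S : Setup Γ p W A) (hz : IsZ W A z) {a x : Γ} (ha : a ∈ A) (ha1 : a ≠ 1)
    (hx : x ∈ W) (hxo : orderOf x = 2) (hax : a * x = x * a) : x = z :=
  S.hinv a ha ha1 x hx z hz.mem hxo hz.ord hax (hz.cA a ha)

theorem Setup.eq_one_or_z_of_sq (S : Setup Γ p W A) (hz : IsZ W A z) {a x : Γ} (ha : a ∈ A)
    (ha1 : a ≠ 1) (hx : x ∈ W) (hx2 : x ^ 2 = 1) (hax : a * x = x * a) : x = 1 ∨ x = z := by
  by_cases h1 : x = 1
  · left; exact h1
  · right
    have : orderOf x = 2 := orderOf_eq_prime hx2 h1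
    exact S.eq_z hz ha ha1 hx this hax

/-- the subgroup `{1, z}` -/
def Zsub (z : Γ) (hz : z * z = 1) : Subgroup Γ where
  carrier := {x | x = 1 ∨ x = z}
  mul_mem' := by
    intro a b ha hb
    rcases ha with ha | ha <;> rcases hb with hb | hb
    · left; rw [ha, hb, one_mul]
    · right; rw [ha, hb, one_mul]
    · right; rw [ha, hb, mul_one]
    · left; rw [ha, hb]; exact hz
  one_mem' := Or.inl rfl
  inv_mem' := by
    intro a ha
    rcases ha with ha | ha
    · left; rw [ha, inv_one]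
    · right; rw [ha]; exact inv_eq_of_mul_eq_one_right hz

theorem mem_Zsub {hz : z * z = 1} {x : Γ} : x ∈ Zsub z hz ↔ x = 1 ∨ x = z := Iff.rfl

theorem exists_sq_eq_z {Y : Subgroup Γ} (hinvY : ∀ y ∈ Y, y ^ 2 = 1 → y = 1 ∨ y = z) :
    ∀ k : ℕ, ∀ y ∈ Y, y ^ (2 ^ k) = 1 → y ≠ 1 → y ≠ z → ∃ i ∈ Y, i ^ 2 = z := by
  intro k
  induction k with
  | zero =>
    intro y _ h hy1 _
    rw [pow_zero, pow_one] at h
    exact absurd h hy1
  | succ k ih =>
    intro y hy h hy1 hyz
    have hs : (y ^ 2) ^ (2 ^ k) = 1 := by rw [← pow_mul, ← pow_succ']; exact h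
    by_cases h1 : y ^ 2 = 1
    · rcases hinvY y hy h1 with h' | h'
      · exact absurd h' hy1
      · exact absurd h' hyz
    · by_cases h2 : y ^ 2 = z
      · exact ⟨y, hy, h2⟩
      · exact ih (y ^ 2) (Y.pow_mem hy 2) hs h1 h2

/-- **Key lemma**: an abelian subgroup of `W` normalized by `W` and `A` lies in `{1, z}`. -/
theorem Setup.abelian_normal_le [Finite Γ] (S : Setup Γ p W A) (hz : IsZ W A z)
    {Y : Subgroup Γ} (hY : Y ≤ W) (hYc : ∀ x ∈ Y, ∀ y ∈ Y, x * y = y * x)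
    (hWY : W ≤ Subgroup.normalizer (Y : Set Γ)) (hAY : A ≤ Subgroup.normalizer (Y : Set Γ)) :
    ∀ y ∈ Y, y = 1 ∨ y = z := by
  have hcent := S.centralizes_abelian hY hYc hAY
  obtain ⟨a0, ha0, ha01⟩ := S.exists_ne_one
  have hinvY : ∀ y ∈ Y, y ^ 2 = 1 → y = 1 ∨ y = z := fun y hy h =>
    S.eq_one_or_z_of_sq hz ha0 ha01 (hY hy) h (hcent a0 ha0 y hy)
  by_contra hcon
  push Not at hcon
  obtain ⟨y, hy, hy1, hyz⟩ := hcon
  obtain ⟨k, hk⟩ := (S.hW.to_le hY) ⟨y, hy⟩
  have hk' : y ^ (2 ^ k) = 1 := by simpa using congrArg Subtype.val hk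
  obtain ⟨i, hiY, hii⟩ := exists_sq_eq_z hinvY k y hy hk' hy1 hyz
  have hiW : i ∈ W := hY hiY
  have hiA : ∀ a ∈ A, a * i = i * a := fun a ha => hcent a ha i hiY
  have hconj : ∀ g ∈ W, g * i * g⁻¹ = i ∨ g * i * g⁻¹ = z * i := by
    intro g hg
    have h1 : g * i * g⁻¹ ∈ Y := (Subgroup.mem_normalizer_iff.1 (hWY hg) i).1 hiY
    set u := g * i * g⁻¹ with hu
    have hu2 : u ^ 2 = z := by
      have : u ^ 2 = g * i ^ 2 * g⁻¹ := by rw [hu, pow_two, pow_two]; group
      rw [this, hii, ← hz.cW g hg]; group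
    set c := u * i⁻¹ with hc
    have hcY : c ∈ Y := Y.mul_mem h1 (Y.inv_mem hiY)
    have hc2 : c ^ 2 = 1 := by
      have hcomm : Commute u i⁻¹ := hYc u h1 i⁻¹ (Y.inv_mem hiY)
      rw [hc, hcomm.mul_pow, hu2, inv_pow, hii, mul_inv_cancel]
    have hui : u = c * i := by rw [hc]; group
    rcases hinvY c hcY hc2 with h | h
    · left; rw [hui, h, one_mul]
    · right; rw [hui, h]
  set D : Subgroup Γ := W ⊓ Subgroup.centralizer {i} with hD
  have hDW : D ≤ W := inf_le_left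
  have hAD : A ≤ Subgroup.normalizer (D : Set Γ) := fun a ha =>
    gen_mem_normalizer_inf_centralizer (S.hAW ha) (hiA a ha)
  have hDA : D ≤ Subgroup.centralizer (A : Set Γ) := by
    haveI : Fact p.Prime := ⟨S.hp⟩
    refine le_of_hyperplane_centralizers_le (p := p) S.hAc S.hAp (S.coprime_card hDW) hAD ?_
    intro B hBA hcard t ht
    obtain ⟨b, hbB, hb1⟩ := S.exists_ne_one_of_hyperplane hcard
    have hAT := normalizes_inf_centralizer S.hAc hAD B hBA
    set T : Subgroup Γ := D ⊓ Subgroup.centralizer (B : Set Γ) with hT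
    have hTW : T ≤ W := inf_le_left.trans hDW
    have hTinv : ∀ x ∈ T, ∀ y ∈ T, orderOf x = 2 → orderOf y = 2 → x = y := by
      intro x hx y hy hox hoy
      have hxb := (Subgroup.mem_centralizer_iff.1 (Subgroup.mem_inf.1 hx).2) b hbB
      have hyb := (Subgroup.mem_centralizer_iff.1 (Subgroup.mem_inf.1 hy).2) b hbB
      exact S.hinv b (hBA hbB) hb1 x (hTW hx) y (hTW hy) hox hoy hxb hyb
    have hiT : i ∈ T := by
      refine Subgroup.mem_inf.2 ⟨Subgroup.mem_inf.2 ⟨hiW, ?_⟩, ?_⟩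
      · rw [Subgroup.mem_centralizer_iff]
        intro c hc
        rw [Set.mem_singleton_iff] at hc
        rw [hc]
      · rw [Subgroup.mem_centralizer_iff]
        intro c hc
        exact hiA c (hBA hc)
    have hiTc : ∀ t ∈ T, i * t = t * i := by
      intro t ht
      exact (Subgroup.mem_centralizer_iff.1 (Subgroup.mem_inf.1 (Subgroup.mem_inf.1 ht).1).2) i rfl
    have hi2 : i * i ≠ 1 := by rw [← pow_two, hii]; exact hz.ne_one
    have hTc := comm_of_central_subgroup T (S.hW.to_le hTW) hTinv hiT hiTc hi2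
    rw [Subgroup.mem_centralizer_iff]
    intro a ha
    exact commute_of_abelian_oneInv' S.odd (S.hAp a ha) T (S.hW.to_le hTW) hTc hTinv
      (fun t' ht' => (Subgroup.mem_normalizer_iff.1 (hAT ha) t').1 ht') t ht
  have hWA : W ≤ Subgroup.centralizer (A : Set Γ) := by
    refine le_centralizer_of_stable W D A ?_ hDA hDW (S.coprime_AW le_rfl)
    rw [Subgroup.commutator_le]
    intro w hw a ha
    refine Subgroup.mem_inf.2 ⟨?_, ?_⟩
    · rw [commutatorElement_def]
      have := S.conj_mem ha (W.inv_mem hw)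
      have e : w * a * w⁻¹ * a⁻¹ = w * (a * w⁻¹ * a⁻¹) := by group
      rw [e]
      exact W.mul_mem hw this
    · rw [Subgroup.mem_centralizer_iff]
      intro c hc
      rw [Set.mem_singleton_iff] at hc
      rw [hc, commutatorElement_def]
      have hv := hconj w⁻¹ (W.inv_mem hw)
      rw [inv_inv] at hv
      have hza : a * (z * i) = (z * i) * a := by
        rw [← mul_assoc, hz.cA a ha, mul_assoc, hiA a ha, ← mul_assoc]
      have hj : a * (w⁻¹ * i * w) = (w⁻¹ * i * w) * a := by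
        rcases hv with h | h
        · rw [h]; exact hiA a ha
        · rw [h]; exact hza
      have hia' : i * a⁻¹ = a⁻¹ * i := by
        have := hiA a ha
        calc i * a⁻¹ = a⁻¹ * (a * i) * a⁻¹ := by group
          _ = a⁻¹ * (i * a) * a⁻¹ := by rw [this]
          _ = a⁻¹ * i := by group
      calc i * (w * a * w⁻¹ * a⁻¹) = w * ((w⁻¹ * i * w) * a) * w⁻¹ * a⁻¹ := by group
        _ = w * (a * (w⁻¹ * i * w)) * w⁻¹ * a⁻¹ := by rw [hj]
        _ = w * a * w⁻¹ * (i * a⁻¹) := by group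
        _ = w * a * w⁻¹ * (a⁻¹ * i) := by rw [hia']
        _ = w * a * w⁻¹ * a⁻¹ * i := by group
  apply ha01
  apply S.hfaith a0 ha0
  intro w hw
  exact (Subgroup.mem_centralizer_iff.1 (hWA hw)) a0 ha0

/-- the centre of `W` is `{1, z}` -/
theorem Setup.center_le [Finite Γ] (S : Setup Γ p W A) (hz : IsZ W A z) :
    ∀ c ∈ W, (∀ w ∈ W, c * w = w * c) → c = 1 ∨ c = z := by
  intro c hcW hc
  set Z : Subgroup Γ := W ⊓ Subgroup.centralizer (W : Set Γ) with hZ
  have hZW : Z ≤ W := inf_le_left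
  have hcZ : c ∈ Z := by
    refine Subgroup.mem_inf.2 ⟨hcW, ?_⟩
    rw [Subgroup.mem_centralizer_iff]
    intro w hw
    exact (hc w hw).symm
  have hZc : ∀ u ∈ Z, ∀ v ∈ Z, u * v = v * u := by
    intro u hu v hv
    exact ((Subgroup.mem_centralizer_iff.1 (Subgroup.mem_inf.1 hv).2) u (hZW hu))
  have hAZ : A ≤ Subgroup.normalizer (Z : Set Γ) := by
    intro a ha
    apply Subgroup.mem_normalizer_fintype
    intro n hn
    have hn' : n ∈ Z := hn
    refine Subgroup.mem_inf.2 ⟨S.conj_mem ha (hZW hn'), ?_⟩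
    rw [Subgroup.mem_centralizer_iff]
    intro w hw
    have hw' := S.conj_mem' ha hw
    have hcomm := (Subgroup.mem_centralizer_iff.1 (Subgroup.mem_inf.1 hn').2) _ hw'
    calc w * (a * n * a⁻¹) = a * ((a⁻¹ * w * a) * n) * a⁻¹ := by group
      _ = a * (n * (a⁻¹ * w * a)) * a⁻¹ := by rw [hcomm]
      _ = a * n * a⁻¹ * w := by group
  have hWZ : W ≤ Subgroup.normalizer (Z : Set Γ) := by
    intro g hg
    apply Subgroup.mem_normalizer_fintype
    intro n hn
    have hn' : n ∈ Z := hn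
    have hcomm := (Subgroup.mem_centralizer_iff.1 (Subgroup.mem_inf.1 hn').2) g hg
    have : g * n * g⁻¹ = n := by rw [hcomm]; group
    rw [this]
    exact hn
  exact S.abelian_normal_le hz hZW hZc hWZ hAZ c hcZ

end Cfsg.Agent.Lib.Helper32.OneInv
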