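import Mathlib
import Cfsg.Agent.Lib.Helper32.OneInvC
import Cfsg.Agent.Lib.Helper03.PGroupNormal

set_option autoImplicit false

namespace Cfsg.Agent.Lib.Helper32.OneInv

open Cfsg.Agent.Lib.Helper39 Cfsg.Agent.Lib.Helper30
open scoped commutatorElement

variable {Γ : Type*} [Group Γ] {p : ℕ} {W A : Subgroup Γ} {z : Γ}

/-- in a finite `q`-group `W`, a subgroup `N` normalized by `W` and not inside `K` (also normalized
by `W`) has an element outside `K` which is central modulo `K`. -/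
theorem exists_central_mod {q : ℕ} [Fact q.Prime] {W N K : Subgroup Γ} [Finite W]
    (hW : IsPGroup q W) (hNW : N ≤ W) (hWN : W ≤ Subgroup.normalizer (N : Set Γ))
    (hWK : W ≤ Subgroup.normalizer (K : Set Γ)) (hNK : ¬ N ≤ K) :
    ∃ n ∈ N, n ∉ K ∧ ∀ w ∈ W, ⁅n, w⁆ ∈ K := by
  have hN' : (N.subgroupOf W).Normal := by
    constructor
    intro n hn g
    rw [Subgroup.mem_subgroupOf] at hn ⊢
    have := (Subgroup.mem_normalizer_iff.1 (hWN g.2) n.1).1 hn
    simpa using this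
  have hK' : (K.subgroupOf W).Normal := by
    constructor
    intro n hn g
    rw [Subgroup.mem_subgroupOf] at hn ⊢
    have := (Subgroup.mem_normalizer_iff.1 (hWK g.2) n.1).1 hn
    simpa using this
  have hM : ((N.subgroupOf W).map (QuotientGroup.mk' (K.subgroupOf W))).Normal :=
    hN'.map _ (QuotientGroup.mk'_surjective _)
  have hMne : (N.subgroupOf W).map (QuotientGroup.mk' (K.subgroupOf W)) ≠ ⊥ := by
    intro h
    apply hNK
    intro n hn
    have h1 : (⟨n, hNW hn⟩ : W) ∈ N.subgroupOf W := by rw [Subgroup.mem_subgroupOf]; exact hn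
    have h2 : QuotientGroup.mk' (K.subgroupOf W) ⟨n, hNW hn⟩ ∈
        (N.subgroupOf W).map (QuotientGroup.mk' (K.subgroupOf W)) :=
      Subgroup.mem_map_of_mem _ h1
    rw [h, Subgroup.mem_bot] at h2
    have h3 : (⟨n, hNW hn⟩ : W) ∈ K.subgroupOf W := (QuotientGroup.eq_one_iff _).1 h2
    exact Subgroup.mem_subgroupOf.1 h3
  obtain ⟨c, hcM, hcZ, hc1⟩ := Cfsg.Agent.Lib.Helper03.exists_mem_center_of_normal_ne_bot
    (hW.to_quotient (K.subgroupOf W)) _ hMne
  obtain ⟨n', hn', rfl⟩ := hcM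
  refine ⟨n'.1, Subgroup.mem_subgroupOf.1 hn', ?_, ?_⟩
  · intro h
    apply hc1
    exact (QuotientGroup.eq_one_iff _).2 (Subgroup.mem_subgroupOf.2 h)
  · intro w hw
    have h1 := Subgroup.mem_center_iff.1 hcZ (QuotientGroup.mk' (K.subgroupOf W) ⟨w, hw⟩)
    have h2 : QuotientGroup.mk' (K.subgroupOf W) ⁅n', ⟨w, hw⟩⁆ = 1 := by
      rw [map_commutatorElement, commutatorElement_eq_one_iff_commute]
      exact h1.symm
    have h3 := (QuotientGroup.eq_one_iff _).1 h2
    have h4 := Subgroup.mem_subgroupOf.1 h3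
    simpa [commutatorElement_def] using h4

/-- the preimage of the centre of `W / {1, z}` -/
def Usub (W : Subgroup Γ) (z : Γ) (hzz : z * z = 1) (hzc : ∀ w ∈ W, z * w = w * z) :
    Subgroup Γ where
  carrier := {u | u ∈ W ∧ ∀ g ∈ W, ⁅u, g⁆ = 1 ∨ ⁅u, g⁆ = z}
  one_mem' := ⟨W.one_mem, fun g _ => Or.inl (commutatorElement_one_left g)⟩
  mul_mem' := by
    rintro u v ⟨hu, hu'⟩ ⟨hv, hv'⟩
    refine ⟨W.mul_mem hu hv, fun g hg => ?_⟩
    have e : ⁅u * v, g⁆ = u * ⁅v, g⁆ * u⁻¹ * ⁅u, g⁆ := by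
      simp only [commutatorElement_def]; group
    rcases hv' g hg with h | h
    · rw [e, h, mul_one, mul_inv_cancel, one_mul]; exact hu' g hg
    · have h' : u * z * u⁻¹ = z := by rw [← hzc u hu]; group
      rw [e, h, h']
      rcases hu' g hg with h'' | h''
      · right; rw [h'', mul_one]
      · left; rw [h'']; exact hzz
  inv_mem' := by
    rintro u ⟨hu, hu'⟩
    refine ⟨W.inv_mem hu, fun g hg => ?_⟩
    have e : ⁅u⁻¹, g⁆ = u⁻¹ * ⁅u, g⁆⁻¹ * u := by
      simp only [commutatorElement_def]; group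
    rcases hu' g hg with h | h
    · left; rw [e, h]; group
    · right
      rw [e, h]
      have hzi : z⁻¹ = z := inv_eq_of_mul_eq_one_right hzz
      rw [hzi]
      have := hzc u hu
      calc u⁻¹ * z * u = u⁻¹ * (z * u) := by group
        _ = u⁻¹ * (u * z) := by rw [this]
        _ = z := by group

theorem mem_Usub {hzz : z * z = 1} {hzc : ∀ w ∈ W, z * w = w * z} {u : Γ} :
    u ∈ Usub W z hzz hzc ↔ u ∈ W ∧ ∀ g ∈ W, ⁅u, g⁆ = 1 ∨ ⁅u, g⁆ = z := Iff.rfl

/-- an element normalizing `W` and centralizing `z` normalizes `Usub` -/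
theorem mem_normalizer_Usub [Finite Γ] {hzz : z * z = 1} {hzc : ∀ w ∈ W, z * w = w * z} {n : Γ}
    (hn : n ∈ Subgroup.normalizer (W : Set Γ)) (hnz : n * z = z * n) :
    n ∈ Subgroup.normalizer ((Usub W z hzz hzc : Subgroup Γ) : Set Γ) := by
  apply Subgroup.mem_normalizer_fintype
  intro u hu
  have hu' : u ∈ Usub W z hzz hzc := hu
  obtain ⟨huW, hug⟩ := hu'
  refine ⟨(Subgroup.mem_normalizer_iff.1 hn u).1 huW, fun g hg => ?_⟩
  have hg' : n⁻¹ * g * n ∈ W := by
    have := (Subgroup.mem_normalizer_iff.1 ((Subgroup.normalizer (W : Set Γ)).inv_mem hn) g).1 hg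
    simpa using this
  have e : ⁅n * u * n⁻¹, g⁆ = n * ⁅u, n⁻¹ * g * n⁆ * n⁻¹ := by
    simp only [commutatorElement_def]; group
  rcases hug _ hg' with h | h
  · left; rw [e, h]; group
  · right; rw [e, h, hnz]; group

/-- an element normalizing `X` and `U` normalizes `X ⊓ C(U)` -/
theorem mem_normalizer_inf_centralizer' [Finite Γ] {X U : Subgroup Γ} {n : Γ}
    (hX : n ∈ Subgroup.normalizer (X : Set Γ)) (hU : n ∈ Subgroup.normalizer (U : Set Γ)) :
    n ∈ Subgroup.normalizer ((X ⊓ Subgroup.centralizer (U : Set Γ) : Subgroup Γ) : Set Γ) := by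
  apply Subgroup.mem_normalizer_fintype
  intro y hy
  have hy' : y ∈ X ⊓ Subgroup.centralizer (U : Set Γ) := hy
  refine Subgroup.mem_inf.2 ⟨(Subgroup.mem_normalizer_iff.1 hX y).1 (Subgroup.mem_inf.1 hy').1, ?_⟩
  rw [Subgroup.mem_centralizer_iff]
  intro u hu
  have hu' : n⁻¹ * u * n ∈ U := by
    have := (Subgroup.mem_normalizer_iff.1 ((Subgroup.normalizer (U : Set Γ)).inv_mem hU) u).1 hu
    simpa using this
  have hcomm := (Subgroup.mem_centralizer_iff.1 (Subgroup.mem_inf.1 hy').2) _ hu'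
  calc u * (n * y * n⁻¹) = n * ((n⁻¹ * u * n) * y) * n⁻¹ := by group
    _ = n * (y * (n⁻¹ * u * n)) * n⁻¹ := by rw [hcomm]
    _ = n * y * n⁻¹ * u := by group

/-- commutators of `W` lie in `{1, z}` -/
theorem Setup.commutator_mem [Finite Γ] (S : Setup Γ p W A) (hz : IsZ W A z) :
    ∀ u ∈ W, ∀ v ∈ W, ⁅u, v⁆ = 1 ∨ ⁅u, v⁆ = z := by
  set U : Subgroup Γ := Usub W z hz.mul_self hz.cW with hU
  set Zs : Subgroup Γ := Zsub z hz.mul_self with hZs
  have hUW : U ≤ W := fun u hu => hu.1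
  have hWU : W ≤ Subgroup.normalizer (U : Set Γ) := fun w hw =>
    mem_normalizer_Usub (Subgroup.le_normalizer hw) (hz.cW w hw).symm
  have hAU : A ≤ Subgroup.normalizer (U : Set Γ) := fun a ha =>
    mem_normalizer_Usub (S.hAW ha) (hz.cA a ha)
  set Y : Subgroup Γ := W ⊓ Subgroup.centralizer (U : Set Γ) with hY
  have hYW : Y ≤ W := inf_le_left
  have hWY : W ≤ Subgroup.normalizer (Y : Set Γ) := fun w hw =>
    mem_normalizer_inf_centralizer' (Subgroup.le_normalizer hw) (hWU hw)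
  have hAY : A ≤ Subgroup.normalizer (Y : Set Γ) := fun a ha =>
    mem_normalizer_inf_centralizer' (S.hAW ha) (hAU ha)
  -- `Y ⊓ U` is abelian, normalized by `W` and `A`
  have hYU : ∀ y ∈ Y ⊓ U, y = 1 ∨ y = z := by
    apply S.abelian_normal_le hz (inf_le_left.trans hYW)
    · intro x hx y hy
      have h1 := (Subgroup.mem_inf.1 (Subgroup.mem_inf.1 hx).1).2
      exact ((Subgroup.mem_centralizer_iff.1 h1) y (Subgroup.mem_inf.1 hy).2).symm
    · intro w hw
      apply Subgroup.mem_normalizer_fintype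
      intro y hy
      have hy' : y ∈ Y ⊓ U := hy
      exact Subgroup.mem_inf.2
        ⟨(Subgroup.mem_normalizer_iff.1 (hWY hw) y).1 (Subgroup.mem_inf.1 hy').1,
          (Subgroup.mem_normalizer_iff.1 (hWU hw) y).1 (Subgroup.mem_inf.1 hy').2⟩
    · intro a ha
      apply Subgroup.mem_normalizer_fintype
      intro y hy
      have hy' : y ∈ Y ⊓ U := hy
      exact Subgroup.mem_inf.2
        ⟨(Subgroup.mem_normalizer_iff.1 (hAY ha) y).1 (Subgroup.mem_inf.1 hy').1,
          (Subgroup.mem_normalizer_iff.1 (hAU ha) y).1 (Subgroup.mem_inf.1 hy').2⟩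
  have hWZs : W ≤ Subgroup.normalizer (Zs : Set Γ) := by
    intro w hw
    apply Subgroup.mem_normalizer_fintype
    intro y hy
    have hy' : y = 1 ∨ y = z := hy
    rcases hy' with h | h
    · left; rw [h]; group
    · right; rw [h, ← hz.cW w hw]; group
  have hYle : Y ≤ Zs := by
    by_contra hcon
    haveI : Fact (Nat.Prime 2) := ⟨Nat.prime_two⟩
    obtain ⟨n, hnY, hnZ, hn⟩ := exists_central_mod (q := 2) S.hW hYW hWY hWZs hcon
    have hnU : n ∈ U := ⟨hYW hnY, fun g hg => hn g hg⟩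
    exact hnZ (hYU n (Subgroup.mem_inf.2 ⟨hnY, hnU⟩))
  -- three subgroups lemma
  have h1 : ⁅U, W⁆ ≤ Zs := Subgroup.commutator_le.2 (fun u hu g hg => hu.2 g hg)
  have h2 : ⁅Zs, W⁆ = ⊥ := by
    rw [Subgroup.commutator_eq_bot_iff_le_centralizer]
    intro x hx
    have hx' : x = 1 ∨ x = z := hx
    rw [Subgroup.mem_centralizer_iff]
    intro w hw
    rcases hx' with h | h
    · rw [h, mul_one, one_mul]
    · rw [h]; exact (hz.cW w hw).symm
  have h3 : ⁅⁅U, W⁆, W⁆ = ⊥ := le_bot_iff.1 (h2 ▸ Subgroup.commutator_mono h1 le_rfl)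
  have h4 : ⁅⁅W, U⁆, W⁆ = ⊥ := by rw [Subgroup.commutator_comm W U]; exact h3
  have h5 := Subgroup.commutator_commutator_eq_bot_of_rotate h4 h3
  rw [Subgroup.commutator_eq_bot_iff_le_centralizer] at h5
  intro u hu v hv
  have h6 : ⁅u, v⁆ ∈ Y := by
    refine Subgroup.mem_inf.2 ⟨?_, h5 (Subgroup.commutator_mem_commutator hu hv)⟩
    rw [commutatorElement_def]
    exact W.mul_mem (W.mul_mem (W.mul_mem hu hv) (W.inv_mem hu)) (W.inv_mem hv)
  exact hYle h6

/-- squares of `W` lie in `{1, z}` -/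
theorem Setup.sq_mem [Finite Γ] (S : Setup Γ p W A) (hz : IsZ W A z) :
    ∀ w ∈ W, w ^ 2 = 1 ∨ w ^ 2 = z := by
  intro w hw
  apply S.center_le hz (w ^ 2) (W.pow_mem hw 2)
  intro g hg
  have hc := S.commutator_mem hz w hw g hg
  have e1 : w * g * w⁻¹ = ⁅w, g⁆ * g := by rw [commutatorElement_def]; group
  have hcw : w * ⁅w, g⁆ * w⁻¹ = ⁅w, g⁆ := by
    rcases hc with h | h
    · rw [h]; group
    · rw [h, ← hz.cW w hw]; group
  have hcc : ⁅w, g⁆ * ⁅w, g⁆ = 1 := by
    rcases hc with h | h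
    · rw [h, one_mul]
    · rw [h]; exact hz.mul_self
  have e2 : w ^ 2 * g * (w ^ 2)⁻¹ = g := by
    calc w ^ 2 * g * (w ^ 2)⁻¹ = w * (w * g * w⁻¹) * w⁻¹ := by rw [pow_two]; group
      _ = w * (⁅w, g⁆ * g) * w⁻¹ := by rw [e1]
      _ = (w * ⁅w, g⁆ * w⁻¹) * (w * g * w⁻¹) := by group
      _ = ⁅w, g⁆ * (⁅w, g⁆ * g) := by rw [hcw, e1]
      _ = (⁅w, g⁆ * ⁅w, g⁆) * g := by group
      _ = g := by rw [hcc, one_mul]
  calc w ^ 2 * g = (w ^ 2 * g * (w ^ 2)⁻¹) * w ^ 2 := by group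
    _ = g * w ^ 2 := by rw [e2]

/-- the fixed points of `A` on `W` lie in `{1, z}` -/
theorem Setup.fixed_le [Finite Γ] (S : Setup Γ p W A) (hz : IsZ W A z) :
    ∀ x ∈ W, (∀ a ∈ A, a * x = x * a) → x = 1 ∨ x = z := by
  intro x hx hax
  obtain ⟨a0, ha0, ha01⟩ := S.exists_ne_one
  rcases S.sq_mem hz x hx with h2 | h2
  · exact S.eq_one_or_z_of_sq hz ha0 ha01 hx h2 (hax a0 ha0)
  · set Y : Subgroup Γ := Subgroup.zpowers x with hY
    have hYW : Y ≤ W := (Subgroup.zpowers_le).2 hx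
    have hxY : x ∈ Y := Subgroup.mem_zpowers x
    have hzY : z ∈ Y := by rw [← h2]; exact Y.pow_mem hxY 2
    apply S.abelian_normal_le hz hYW ?_ ?_ ?_ x hxY
    · intro u hu v hv
      obtain ⟨m, rfl⟩ := Subgroup.mem_zpowers_iff.1 hu
      obtain ⟨n, rfl⟩ := Subgroup.mem_zpowers_iff.1 hv
      exact zpow_mul_comm x m n
    · intro g hg
      apply Subgroup.mem_normalizer_fintype
      intro y hy
      have hy' : y ∈ Y := hy
      obtain ⟨m, rfl⟩ := Subgroup.mem_zpowers_iff.1 hy'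
      have e1 : g * x * g⁻¹ = ⁅g, x⁆ * x := by rw [commutatorElement_def]; group
      have h3 : g * x * g⁻¹ ∈ Y := by
        rw [e1]
        rcases S.commutator_mem hz g hg x hx with h | h
        · rw [h, one_mul]; exact hxY
        · rw [h]; exact Y.mul_mem hzY hxY
      have e2 : g * x ^ m * g⁻¹ = (g * x * g⁻¹) ^ m := (conj_zpow).symm
      show g * x ^ m * g⁻¹ ∈ Y
      rw [e2]
      exact Y.zpow_mem h3 m
    · intro a ha
      apply Subgroup.mem_normalizer_fintype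
      intro y hy
      have hy' : y ∈ Y := hy
      obtain ⟨m, rfl⟩ := Subgroup.mem_zpowers_iff.1 hy'
      have hc : Commute a x := hax a ha
      have := (hc.zpow_right m).eq
      show a * x ^ m * a⁻¹ ∈ Y
      rw [this]
      have e : x ^ m * a * a⁻¹ = x ^ m := by group
      rw [e]
      exact hy'

/-- centralizers in `W` of nonidentity elements of `A` have order at most `8` -/
theorem Setup.card_centralizer_le [Finite Γ] (S : Setup Γ p W A) (hz : IsZ W A z) {a : Γ}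
    (ha : a ∈ A) (ha1 : a ≠ 1) :
    Nat.card (W ⊓ Subgroup.centralizer {a} : Subgroup Γ) ≤ 8 := by
  have hTW : W ⊓ Subgroup.centralizer {a} ≤ W := inf_le_left
  apply card_le_eight_subgroup _ (S.hW.to_le hTW)
  · intro x hx y hy hox hoy
    have hxa := (Subgroup.mem_centralizer_iff.1 (Subgroup.mem_inf.1 hx).2) a rfl
    have hya := (Subgroup.mem_centralizer_iff.1 (Subgroup.mem_inf.1 hy).2) a rfl
    exact S.hinv a ha ha1 x (hTW hx) y (hTW hy) hox hoy hxa hya
  · intro t ht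
    have e : t ^ 4 = (t ^ 2) ^ 2 := by rw [← pow_mul]
    rw [e]
    rcases S.sq_mem hz t (hTW ht) with h | h
    · rw [h, one_pow]
    · rw [h]; exact hz.sq

end Cfsg.Agent.Lib.Helper32.OneInv
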