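import Mathlib
import Cfsg.Agent.Lib.Helper32.OneInvD
import Cfsg.Agent.Lib.Helper58.ProductFormula

set_option autoImplicit false

namespace Cfsg.Agent.Lib.Helper32.OneInv

open Cfsg.Agent.Lib.Helper39 Cfsg.Agent.Lib.Helper30
open scoped commutatorElement

variable {Γ : Type*} [Group Γ] {p : ℕ} {W A : Subgroup Γ} {z : Γ}

/-- maximality of hyperplanes: an element centralized by a hyperplane `B` of `A` and by an element
of `A` outside `B` is centralized by `A` -/
theorem Setup.comm_of_hyperplane [Finite Γ] (S : Setup Γ p W A) {B : Subgroup Γ} (hBA : B ≤ A)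
    (hcard : Nat.card A ≤ p * Nat.card B) {a x : Γ} (ha : a ∈ A) (haB : a ∉ B)
    (hxB : ∀ b ∈ B, b * x = x * b) (hxa : a * x = x * a) : ∀ c ∈ A, c * x = x * c := by
  haveI : Fact p.Prime := ⟨S.hp⟩
  set C : Subgroup Γ := A ⊓ Subgroup.centralizer {x} with hC
  have hmemC : ∀ c ∈ A, c * x = x * c → c ∈ C := by
    intro c hc hcx
    refine Subgroup.mem_inf.2 ⟨hc, ?_⟩
    rw [Subgroup.mem_centralizer_iff]
    intro y hy
    rw [Set.mem_singleton_iff] at hy
    rw [hy]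
    exact hcx.symm
  have hBC : B ≤ C := fun b hb => hmemC b (hBA hb) (hxB b hb)
  have haC : a ∈ C := hmemC a ha hxa
  have hCA : C ≤ A := inf_le_left
  have hCeq : C = A := by
    apply Subgroup.eq_of_le_of_card_ge hCA
    obtain ⟨n, hn⟩ := (IsPGroup.iff_card (p := p)).1 S.isPGroup_A
    have h1 : Nat.card C ∣ p ^ n := hn ▸ Subgroup.card_dvd_of_le hCA
    obtain ⟨k, hkn, hk⟩ := (Nat.dvd_prime_pow S.hp).1 h1
    have h2 : Nat.card B ∣ p ^ k := hk ▸ Subgroup.card_dvd_of_le hBC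
    obtain ⟨m, hmk, hm⟩ := (Nat.dvd_prime_pow S.hp).1 h2
    have hmk' : m ≠ k := by
      intro h
      have hle : Nat.card C ≤ Nat.card B := by rw [hk, hm, h]
      have heq := Subgroup.eq_of_le_of_card_ge hBC hle
      exact haB (heq ▸ haC)
    have hnm : n ≤ m + 1 := by
      rw [hn, hm, ← pow_succ'] at hcard
      exact (Nat.pow_le_pow_iff_right S.hp.one_lt).1 hcard
    have hkn' : k = n := by omega
    rw [hn, hk, hkn']
  intro c hc
  have hcC : c ∈ C := hCeq ▸ hc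
  exact ((Subgroup.mem_centralizer_iff.1 (Subgroup.mem_inf.1 hcC).2) x rfl).symm

/-- conjugation by an element normalizing `Q`, as a permutation of `Q` -/
def conjPerm (Q : Subgroup Γ) (a : Γ) (h : ∀ q ∈ Q, a * q * a⁻¹ ∈ Q)
    (h' : ∀ q ∈ Q, a⁻¹ * q * a ∈ Q) : Equiv.Perm Q where
  toFun q := ⟨a * q * a⁻¹, h q q.2⟩
  invFun q := ⟨a⁻¹ * q * a, h' q q.2⟩
  left_inv q := by
    apply Subtype.ext
    show a⁻¹ * (a * (q : Γ) * a⁻¹) * a = q
    group
  right_inv q := by
    apply Subtype.ext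
    show a * (a⁻¹ * (q : Γ) * a) * a⁻¹ = q
    group

theorem conjPerm_apply (Q : Subgroup Γ) (a : Γ) (h : ∀ q ∈ Q, a * q * a⁻¹ ∈ Q)
    (h' : ∀ q ∈ Q, a⁻¹ * q * a ∈ Q) (q : Q) :
    ((conjPerm Q a h h' q : Q) : Γ) = a * q * a⁻¹ := rfl

theorem conjPerm_pow (Q : Subgroup Γ) (a : Γ) (h : ∀ q ∈ Q, a * q * a⁻¹ ∈ Q)
    (h' : ∀ q ∈ Q, a⁻¹ * q * a ∈ Q) (n : ℕ) (q : Q) :
    (((conjPerm Q a h h' ^ n) q : Q) : Γ) = a ^ n * q * (a ^ n)⁻¹ := by
  induction n with
  | zero => simp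
  | succ n ih =>
    rw [pow_succ', Equiv.Perm.mul_apply, conjPerm_apply, ih, pow_succ']
    group

/-- a hyperplane `B` of `A` with `C_W(B)` not inside `{1, z}`: then `p = 3` and `|C_W(B)| = 8` -/
theorem Setup.hyperplane_card [Finite Γ] (S : Setup Γ p W A) (hz : IsZ W A z) {B : Subgroup Γ}
    (hBA : B ≤ A) (hcard : Nat.card A ≤ p * Nat.card B)
    (hQ : ¬ (W ⊓ Subgroup.centralizer (B : Set Γ) ≤ Zsub z hz.mul_self)) :
    p = 3 ∧ Nat.card (W ⊓ Subgroup.centralizer (B : Set Γ) : Subgroup Γ) = 8 := by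
  classical
  haveI : Fact p.Prime := ⟨S.hp⟩
  set Q : Subgroup Γ := W ⊓ Subgroup.centralizer (B : Set Γ) with hQdef
  have hQW : Q ≤ W := inf_le_left
  have hex : ∃ a ∈ A, a ∉ B := by
    by_contra hcon
    push Not at hcon
    apply hQ
    intro x hx
    apply S.fixed_le hz x (hQW hx)
    intro a ha
    exact (Subgroup.mem_centralizer_iff.1 (Subgroup.mem_inf.1 hx).2) a (hcon a ha)
  obtain ⟨a, ha, haB⟩ := hex
  have hAQ := normalizes_inf_centralizer S.hAc S.hAW B hBA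
  have hfix : ∀ x ∈ Q, a * x = x * a → x = 1 ∨ x = z := by
    intro x hx hax
    apply S.fixed_le hz x (hQW hx)
    exact S.comm_of_hyperplane hBA hcard ha haB
      (fun b hb => (Subgroup.mem_centralizer_iff.1 (Subgroup.mem_inf.1 hx).2) b hb) hax
  have h1Q : (1 : Γ) ∈ Q := Q.one_mem
  have hzQ : z ∈ Q := by
    refine Subgroup.mem_inf.2 ⟨hz.mem, ?_⟩
    rw [Subgroup.mem_centralizer_iff]
    intro b hb
    exact hz.cA b (hBA hb)
  obtain ⟨b, hbB, hb1⟩ := S.exists_ne_one_of_hyperplane hcard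
  have hcard8 : Nat.card Q ≤ 8 := by
    refine (Subgroup.card_le_of_le ?_).trans (S.card_centralizer_le hz (hBA hbB) hb1)
    intro x hx
    refine Subgroup.mem_inf.2 ⟨hQW hx, ?_⟩
    rw [Subgroup.mem_centralizer_iff]
    intro y hy
    rw [Set.mem_singleton_iff] at hy
    rw [hy]
    exact (Subgroup.mem_centralizer_iff.1 (Subgroup.mem_inf.1 hx).2) b hbB
  have hn1 : ∀ q ∈ Q, a * q * a⁻¹ ∈ Q := fun q hq =>
    (Subgroup.mem_normalizer_iff.1 (hAQ ha) q).1 hq
  have hn2 : ∀ q ∈ Q, a⁻¹ * q * a ∈ Q := fun q hq => by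
    have := (Subgroup.mem_normalizer_iff.1 (hAQ (A.inv_mem ha)) q).1 hq
    rw [inv_inv] at this
    exact this
  set σ := conjPerm Q a hn1 hn2 with hσ
  have hσp : σ ^ p ^ 1 = 1 := by
    rw [pow_one]
    ext q
    rw [conjPerm_pow, S.hAp a ha]
    simp
  letI : Fintype Q := Fintype.ofFinite Q
  have hmod := Equiv.Perm.card_compl_support_modEq hσp
  have hsupp : σ.supportᶜ = {⟨1, h1Q⟩, ⟨z, hzQ⟩} := by
    ext q
    rw [Finset.mem_compl, Equiv.Perm.mem_support, not_not, Finset.mem_insert,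
      Finset.mem_singleton]
    constructor
    · intro h
      have h' : a * (q : Γ) * a⁻¹ = q := congrArg Subtype.val h
      have h'' : a * (q : Γ) = q * a := by
        calc a * (q : Γ) = (a * q * a⁻¹) * a := by group
          _ = q * a := by rw [h']
      rcases hfix q q.2 h'' with h1 | h1
      · left; exact Subtype.ext h1
      · right; exact Subtype.ext h1
    · rintro (h | h)
      · rw [h]
        apply Subtype.ext
        show a * 1 * a⁻¹ = 1
        group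
      · rw [h]
        apply Subtype.ext
        show a * z * a⁻¹ = z
        rw [hz.cA a ha]
        group
  have hcard2 : σ.supportᶜ.card = 2 := by
    rw [hsupp, Finset.card_pair]
    intro h
    exact hz.ne_one (congrArg Subtype.val h).symm
  rw [hcard2] at hmod
  have hNF : Fintype.card Q = Nat.card Q := (Nat.card_eq_fintype_card).symm
  obtain ⟨k, hk⟩ := (IsPGroup.iff_card (p := 2)).1 (S.hW.to_le hQW)
  have hne2 : Fintype.card Q ≠ 2 := by
    intro h
    apply hQ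
    have hun : σ.supportᶜ = Finset.univ := (Finset.card_eq_iff_eq_univ _).1 (by rw [hcard2, h])
    intro x hx
    have hx' : (⟨x, hx⟩ : Q) ∈ σ.supportᶜ := by rw [hun]; exact Finset.mem_univ _
    rw [hsupp, Finset.mem_insert, Finset.mem_singleton] at hx'
    rcases hx' with h1 | h1
    · left; exact congrArg Subtype.val h1
    · right; exact congrArg Subtype.val h1
  rw [hNF, hk] at hmod hne2
  rw [hk] at hcard8
  have hk3 : k ≤ 3 := by
    by_contra h
    push Not at h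
    have : 2 ^ 4 ≤ 2 ^ k := Nat.pow_le_pow_right (by norm_num) h
    omega
  have hcases : k = 0 ∨ k = 1 ∨ k = 2 ∨ k = 3 := by omega
  rcases hcases with rfl | rfl | rfl | rfl
  · exfalso
    have h0 : 1 ≡ 2 [MOD p] := hmod.symm
    have h := (Nat.modEq_iff_dvd' (by norm_num : 1 ≤ 2)).1 h0
    have h' : p ∣ 1 := h
    exact S.hp.one_lt.ne' (Nat.dvd_one.1 h')
  · exfalso
    exact hne2 rfl
  · exfalso
    have h0 : 2 ≡ 4 [MOD p] := hmod
    have h := (Nat.modEq_iff_dvd' (by norm_num : 2 ≤ 4)).1 h0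
    have h' : p ∣ 2 := h
    exact S.hp2 ((Nat.prime_dvd_prime_iff_eq S.hp Nat.prime_two).1 h')
  · have h0 : 2 ≡ 8 [MOD p] := hmod
    have h := (Nat.modEq_iff_dvd' (by norm_num : 2 ≤ 8)).1 h0
    have h' : p ∣ 2 * 3 := h
    rcases (Nat.Prime.dvd_mul S.hp).1 h' with h2 | h3
    · exact absurd ((Nat.prime_dvd_prime_iff_eq S.hp Nat.prime_two).1 h2) S.hp2
    · exact ⟨(Nat.prime_dvd_prime_iff_eq S.hp Nat.prime_three).1 h3, hk⟩

/-- hyperplane generation: if `W` is not inside `T`, some hyperplane centralizer is not -/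
theorem Setup.exists_hyperplane [Finite Γ] (S : Setup Γ p W A) (T : Subgroup Γ) (hT : ¬ W ≤ T) :
    ∃ B : Subgroup Γ, B ≤ A ∧ Nat.card A ≤ p * Nat.card B ∧
      ¬ (W ⊓ Subgroup.centralizer (B : Set Γ) ≤ T) := by
  haveI : Fact p.Prime := ⟨S.hp⟩
  by_contra hcon
  push Not at hcon
  exact hT (le_of_hyperplane_centralizers_le (p := p) S.hAc S.hAp (S.coprime_card le_rfl) S.hAW
    (fun B hBA hc => hcon B hBA hc))

theorem Setup.not_le_Zsub [Finite Γ] (S : Setup Γ p W A) (hz : IsZ W A z) :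
    ¬ W ≤ Zsub z hz.mul_self := by
  intro h
  obtain ⟨a0, ha0, ha01⟩ := S.exists_ne_one
  apply ha01
  apply S.hfaith a0 ha0
  intro w hw
  rcases h hw with h1 | h1
  · rw [h1, mul_one, one_mul]
  · rw [h1]; exact hz.cA a0 ha0

theorem Setup.Zsub_le_centralizer (hz : IsZ W A z) {B : Subgroup Γ} (hBA : B ≤ A) :
    Zsub z hz.mul_self ≤ W ⊓ Subgroup.centralizer (B : Set Γ) := by
  intro x hx
  have hx' : x = 1 ∨ x = z := hx
  rcases hx' with h | h
  · rw [h]; exact Subgroup.one_mem _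
  · rw [h]
    refine Subgroup.mem_inf.2 ⟨hz.mem, ?_⟩
    rw [Subgroup.mem_centralizer_iff]
    intro b hb
    exact hz.cA b (hBA hb)

/-- two hyperplanes with big centralizers and trivial intersection -/
theorem Setup.exists_two_hyperplanes [Finite Γ] (S : Setup Γ p W A) (hz : IsZ W A z) :
    ∃ B B' : Subgroup Γ, B ≤ A ∧ B' ≤ A ∧ Nat.card A ≤ p * Nat.card B ∧
      Nat.card A ≤ p * Nat.card B' ∧
      ¬ (W ⊓ Subgroup.centralizer (B : Set Γ) ≤ Zsub z hz.mul_self) ∧
      ¬ (W ⊓ Subgroup.centralizer (B' : Set Γ) ≤ Zsub z hz.mul_self) ∧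
      ∀ c, c ∈ B → c ∈ B' → c = 1 := by
  obtain ⟨B, hBA, hBc, hBQ⟩ := S.exists_hyperplane (Zsub z hz.mul_self) (S.not_le_Zsub hz)
  obtain ⟨-, hB8⟩ := S.hyperplane_card hz hBA hBc hBQ
  have hWQ : ¬ W ≤ W ⊓ Subgroup.centralizer (B : Set Γ) := by
    intro h
    obtain ⟨b, hbB, hb1⟩ := S.exists_ne_one_of_hyperplane hBc
    apply hb1
    apply S.hfaith b (hBA hbB)
    intro w hw
    exact (Subgroup.mem_centralizer_iff.1 (Subgroup.mem_inf.1 (h hw)).2) b hbB
  obtain ⟨B', hB'A, hB'c, hB'Q⟩ := S.exists_hyperplane _ hWQ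
  refine ⟨B, B', hBA, hB'A, hBc, hB'c, hBQ, ?_, ?_⟩
  · intro h
    exact hB'Q (h.trans (Setup.Zsub_le_centralizer hz hBA))
  · intro c hcB hcB'
    by_contra hc1
    have hle : ∀ B₀ : Subgroup Γ, c ∈ B₀ →
        W ⊓ Subgroup.centralizer (B₀ : Set Γ) ≤ W ⊓ Subgroup.centralizer {c} := by
      intro B₀ hc x hx
      refine Subgroup.mem_inf.2 ⟨(Subgroup.mem_inf.1 hx).1, ?_⟩
      rw [Subgroup.mem_centralizer_iff]
      intro y hy
      rw [Set.mem_singleton_iff] at hy
      rw [hy]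
      exact (Subgroup.mem_centralizer_iff.1 (Subgroup.mem_inf.1 hx).2) c hc
    have h8 := S.card_centralizer_le hz (hBA hcB) hc1
    have heq : W ⊓ Subgroup.centralizer (B : Set Γ) = W ⊓ Subgroup.centralizer {c} :=
      Subgroup.eq_of_le_of_card_ge (hle B hcB) (by rw [hB8]; exact h8)
    apply hB'Q
    rw [heq]
    exact hle B' hcB'

/-- `A` has order `p ^ 2` -/
theorem Setup.card_A [Finite Γ] (S : Setup Γ p W A) (hz : IsZ W A z) : Nat.card A = p ^ 2 := by
  obtain ⟨B, B', hBA, hB'A, hBc, hB'c, -, -, hint⟩ := S.exists_two_hyperplanes hz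
  apply le_antisymm _ S.hA2
  have hLE : B ≤ Subgroup.normalizer (B' : Set Γ) := by
    intro b hb
    apply Subgroup.mem_normalizer_fintype
    intro n hn
    have hn' : n ∈ B' := hn
    have : b * n * b⁻¹ = n := by rw [S.hAc b (hBA hb) n (hB'A hn')]; group
    rw [this]
    exact hn
  have hprod := Cfsg.Agent.Lib.Helper58.card_sup_mul_card_inf B B' hLE
  have hbot : B ⊓ B' = ⊥ := by
    rw [Subgroup.eq_bot_iff_forall]
    intro c hc
    exact hint c (Subgroup.mem_inf.1 hc).1 (Subgroup.mem_inf.1 hc).2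
  rw [hbot, Subgroup.card_bot, mul_one] at hprod
  have hsup : Nat.card (B ⊔ B' : Subgroup Γ) ≤ Nat.card A :=
    Subgroup.card_le_of_le (sup_le hBA hB'A)
  have hpos : 0 < Nat.card A := Nat.card_pos
  have h1 : Nat.card A * Nat.card A ≤ (p * Nat.card B) * (p * Nat.card B') :=
    Nat.mul_le_mul hBc hB'c
  have h2 : (p * Nat.card B) * (p * Nat.card B') = p ^ 2 * (Nat.card B * Nat.card B') := by ring
  have h3 : Nat.card A * Nat.card A ≤ p ^ 2 * Nat.card A := by
    rw [h2, ← hprod] at h1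
    exact h1.trans (Nat.mul_le_mul_left _ hsup)
  exact Nat.le_of_mul_le_mul_right h3 hpos

end Cfsg.Agent.Lib.Helper32.OneInv
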