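import Mathlib
import Cfsg.Agent.Lib.Helper32.OneInvE

set_option autoImplicit false

namespace Cfsg.Agent.Lib.Helper32.OneInv

open Cfsg.Agent.Lib.Helper39 Cfsg.Agent.Lib.Helper30
open scoped commutatorElement

variable {Γ : Type*} [Group Γ] {p : ℕ} {W A : Subgroup Γ} {z : Γ}

/-- subgroups of `W` containing `z` are normalized by `W` -/
theorem Setup.normalizes_of_z_mem [Finite Γ] (S : Setup Γ p W A) (hz : IsZ W A z)
    {X : Subgroup Γ} (hXW : X ≤ W) (hzX : z ∈ X) : W ≤ Subgroup.normalizer (X : Set Γ) := by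
  intro g hg
  apply Subgroup.mem_normalizer_fintype
  intro x hx
  have hx' : x ∈ X := hx
  have e1 : g * x * g⁻¹ = ⁅g, x⁆ * x := by rw [commutatorElement_def]; group
  show g * x * g⁻¹ ∈ X
  rw [e1]
  rcases S.commutator_mem hz g hg x (hXW hx') with h | h
  · rw [h, one_mul]; exact hx'
  · rw [h]; exact X.mul_mem hzX hx'

theorem card_sup_le_of_z [Finite Γ] {H K : Subgroup Γ} {z : Γ} (hz1 : z ≠ 1) (hzH : z ∈ H)
    (hzK : z ∈ K) (hHK : H ≤ Subgroup.normalizer (K : Set Γ)) :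
    2 * Nat.card (H ⊔ K : Subgroup Γ) ≤ Nat.card H * Nat.card K := by
  have hprod := Cfsg.Agent.Lib.Helper58.card_sup_mul_card_inf H K hHK
  have h2 : 2 ≤ Nat.card (H ⊓ K : Subgroup Γ) := by
    have h1 : 1 < Nat.card (H ⊓ K : Subgroup Γ) := by
      rw [Subgroup.one_lt_card_iff_ne_bot]
      intro h
      have hmem : z ∈ (H ⊓ K : Subgroup Γ) := Subgroup.mem_inf.2 ⟨hzH, hzK⟩
      rw [h, Subgroup.mem_bot] at hmem
      exact hz1 hmem
    omega
  calc 2 * Nat.card (H ⊔ K : Subgroup Γ) = Nat.card (H ⊔ K : Subgroup Γ) * 2 := by ring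
    _ ≤ Nat.card (H ⊔ K : Subgroup Γ) * Nat.card (H ⊓ K : Subgroup Γ) :=
        Nat.mul_le_mul_left _ h2
    _ = _ := hprod

theorem Setup.p_eq_three [Finite Γ] (S : Setup Γ p W A) (hz : IsZ W A z) : p = 3 := by
  obtain ⟨B, -, hBA, -, hBc, -, hBQ, -, -⟩ := S.exists_two_hyperplanes hz
  exact (S.hyperplane_card hz hBA hBc hBQ).1

/-- `|W| ≤ 2 ^ 9` -/
theorem Setup.card_W_le [Finite Γ] (S : Setup Γ p W A) (hz : IsZ W A z) : Nat.card W ≤ 512 := by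
  have hp3 := S.p_eq_three hz
  have hA9 : Nat.card A = 9 := by rw [S.card_A hz, hp3]; norm_num
  subst hp3
  haveI : Fact (Nat.Prime 3) := ⟨Nat.prime_three⟩
  obtain ⟨a, ha, ha1⟩ := S.exists_ne_one
  have hex : ∃ b ∈ A, b ∉ Subgroup.zpowers a := by
    by_contra hcon
    push Not at hcon
    have hle : A ≤ Subgroup.zpowers a := hcon
    have h1 := Subgroup.card_le_of_le hle
    have h2 : Nat.card (Subgroup.zpowers a) = orderOf a := Nat.card_zpowers a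
    have h3 : orderOf a ∣ 3 := orderOf_dvd_of_pow_eq_one (S.hAp a ha)
    have h4 := Nat.le_of_dvd (by norm_num) h3
    omega
  obtain ⟨b, hb, hbz⟩ := hex
  have hne : ∀ n : ℕ, a ^ n * b ≠ 1 := by
    intro n h
    apply hbz
    have hb' : b = (a ^ n)⁻¹ := eq_inv_of_mul_eq_one_right h
    rw [hb']
    exact (Subgroup.zpowers a).inv_mem ((Subgroup.zpowers a).pow_mem (Subgroup.mem_zpowers a) n)
  set R : ℕ → Subgroup Γ := fun n => W ⊓ Subgroup.centralizer {a ^ n * b} with hR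
  set Q0 : Subgroup Γ := W ⊓ Subgroup.centralizer {a} with hQ0
  have hmemA : ∀ n : ℕ, a ^ n * b ∈ A := fun n => A.mul_mem (A.pow_mem ha n) hb
  have hR8 : ∀ n, Nat.card (R n) ≤ 8 := fun n => S.card_centralizer_le hz (hmemA n) (hne n)
  have hQ8 : Nat.card Q0 ≤ 8 := S.card_centralizer_le hz ha ha1
  have hzc : ∀ c ∈ A, z ∈ W ⊓ Subgroup.centralizer {c} := by
    intro c hc
    refine Subgroup.mem_inf.2 ⟨hz.mem, ?_⟩
    rw [Subgroup.mem_centralizer_iff]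
    intro y hy
    rw [Set.mem_singleton_iff] at hy
    rw [hy]
    exact hz.cA c hc
  have hpX : ¬ 3 ∣ Nat.card W :=
    (Nat.Prime.coprime_iff_not_dvd Nat.prime_three).1 (S.coprime_card le_rfl).symm
  have hgen := gen_ab 3 A S.hAc S.hAp ha hb W S.hAW hpX
  set T : Subgroup Γ := (Q0 ⊔ R 0) ⊔ (R 1 ⊔ R 2) with hT
  have hle : genAB 3 W a b ≤ T := by
    unfold genAB
    refine sup_le (le_sup_left.trans le_sup_left) (iSup_le fun i => ?_)
    have hi : i.val < 3 := ZMod.val_lt i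
    obtain ⟨n, hn⟩ : ∃ n, i.val = n := ⟨_, rfl⟩
    rw [hn] at hi ⊢
    interval_cases n
    · exact (le_sup_right : R 0 ≤ Q0 ⊔ R 0).trans le_sup_left
    · exact (le_sup_left : R 1 ≤ R 1 ⊔ R 2).trans le_sup_right
    · exact (le_sup_right : R 2 ≤ R 1 ⊔ R 2).trans le_sup_right
  have hQ0W : Q0 ≤ W := inf_le_left
  have hRW : ∀ n, R n ≤ W := fun n => inf_le_left
  have hzQ0 : z ∈ Q0 := hzc a ha
  have hzR : ∀ n, z ∈ R n := fun n => hzc _ (hmemA n)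
  have h1 : 2 * Nat.card (Q0 ⊔ R 0 : Subgroup Γ) ≤ Nat.card Q0 * Nat.card (R 0) :=
    card_sup_le_of_z hz.ne_one hzQ0 (hzR 0)
      (hQ0W.trans (S.normalizes_of_z_mem hz (hRW 0) (hzR 0)))
  have h2 : 2 * Nat.card (R 1 ⊔ R 2 : Subgroup Γ) ≤ Nat.card (R 1) * Nat.card (R 2) :=
    card_sup_le_of_z hz.ne_one (hzR 1) (hzR 2)
      ((hRW 1).trans (S.normalizes_of_z_mem hz (hRW 2) (hzR 2)))
  have h3 : 2 * Nat.card T ≤ Nat.card (Q0 ⊔ R 0 : Subgroup Γ) * Nat.card (R 1 ⊔ R 2 : Subgroup Γ) :=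
    card_sup_le_of_z hz.ne_one (Subgroup.mem_sup_left hzQ0) (Subgroup.mem_sup_left (hzR 1))
      ((sup_le hQ0W (hRW 0)).trans
        (S.normalizes_of_z_mem hz (sup_le (hRW 1) (hRW 2)) (Subgroup.mem_sup_left (hzR 1))))
  have h4 : Nat.card Q0 * Nat.card (R 0) ≤ 8 * 8 := Nat.mul_le_mul hQ8 (hR8 0)
  have h5 : Nat.card (R 1) * Nat.card (R 2) ≤ 8 * 8 := Nat.mul_le_mul (hR8 1) (hR8 2)
  have h6 : Nat.card (Q0 ⊔ R 0 : Subgroup Γ) ≤ 32 := by omega
  have h7 : Nat.card (R 1 ⊔ R 2 : Subgroup Γ) ≤ 32 := by omega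
  have h8 : Nat.card (Q0 ⊔ R 0 : Subgroup Γ) * Nat.card (R 1 ⊔ R 2 : Subgroup Γ) ≤ 32 * 32 :=
    Nat.mul_le_mul h6 h7
  have h9 : Nat.card T ≤ 512 := by omega
  exact (Subgroup.card_le_of_le (hgen.trans hle)).trans h9

/-- `8 < |W|` -/
theorem Setup.card_W_gt [Finite Γ] (S : Setup Γ p W A) (hz : IsZ W A z) : 8 < Nat.card W := by
  obtain ⟨B, -, hBA, -, hBc, -, hBQ, -, -⟩ := S.exists_two_hyperplanes hz
  obtain ⟨-, h8⟩ := S.hyperplane_card hz hBA hBc hBQ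
  by_contra hcon
  push Not at hcon
  have heq : W ⊓ Subgroup.centralizer (B : Set Γ) = W :=
    Subgroup.eq_of_le_of_card_ge inf_le_left (by rw [h8]; exact hcon)
  obtain ⟨b, hbB, hb1⟩ := S.exists_ne_one_of_hyperplane hBc
  apply hb1
  apply S.hfaith b (hBA hbB)
  intro w hw
  have hw' : w ∈ W ⊓ Subgroup.centralizer (B : Set Γ) := by rw [heq]; exact hw
  exact (Subgroup.mem_centralizer_iff.1 (Subgroup.mem_inf.1 hw').2) b hbB

/-- `W` is not abelian -/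
theorem Setup.exists_commutator_ne_one [Finite Γ] (S : Setup Γ p W A) :
    ∃ u ∈ W, ∃ v ∈ W, ⁅u, v⁆ ≠ 1 := by
  by_contra hcon
  push Not at hcon
  obtain ⟨a0, ha0, ha01⟩ := S.exists_ne_one
  apply ha01
  apply S.hfaith a0 ha0
  have hWc : ∀ x ∈ W, ∀ y ∈ W, x * y = y * x := fun x hx y hy =>
    commutatorElement_eq_one_iff_mul_comm.1 (hcon x hx y hy)
  exact fun w hw => S.centralizes_abelian le_rfl hWc S.hAW a0 ha0 w hw

theorem pow_three_commute {f x : Γ} (h9 : f ^ 9 = 1) {d : ℕ} (hd1 : 1 ≤ d) (hd8 : d ≤ 8)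
    (hc : Commute (f ^ d) x) : Commute (f ^ 3) x := by
  have key : ∀ m, Commute (f ^ (d * m)) x := fun m => by rw [pow_mul]; exact hc.pow_left m
  have red : ∀ n, f ^ n = f ^ (n % 9) := fun n => pow_eq_pow_mod n h9
  interval_cases d
  · have h := key 3; rw [red] at h; exact h
  · have h := key 6; rw [red] at h; exact h
  · have h := key 1; rw [red] at h; exact h
  · have h := key 3; rw [red] at h; exact h
  · have h := key 6; rw [red] at h; exact h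
  · have h := key 2; rw [red] at h; exact h
  · have h := key 3; rw [red] at h; exact h
  · have h := key 6; rw [red] at h; exact h

/-- an element of order dividing `9` normalizing `W`, centralizing `A`, with cube in `A`,
has trivial cube -/
theorem Setup.exp_three [Finite Γ] (S : Setup Γ p W A) (hz : IsZ W A z) {f : Γ}
    (hfW : f ∈ Subgroup.normalizer (W : Set Γ)) (hfA : ∀ a ∈ A, f * a = a * f)
    (h9 : f ^ 9 = 1) (h3A : f ^ 3 ∈ A) : f ^ 3 = 1 := by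
  classical
  by_contra h31
  obtain ⟨B, B', hBA, hB'A, hBc, hB'c, hBQ, hB'Q, hint⟩ := S.exists_two_hyperplanes hz
  have hL : ∃ L : Subgroup Γ, L ≤ A ∧ Nat.card A ≤ p * Nat.card L ∧
      ¬ (W ⊓ Subgroup.centralizer (L : Set Γ) ≤ Zsub z hz.mul_self) ∧ f ^ 3 ∉ L := by
    by_cases h : f ^ 3 ∈ B
    · exact ⟨B', hB'A, hB'c, hB'Q, fun h' => h31 (hint _ h h')⟩
    · exact ⟨B, hBA, hBc, hBQ, h⟩
  obtain ⟨L, hLA, hLc, hLQ, haL⟩ := hL
  obtain ⟨-, h8⟩ := S.hyperplane_card hz hLA hLc hLQ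
  set Q : Subgroup Γ := W ⊓ Subgroup.centralizer (L : Set Γ) with hQ
  apply hLQ
  intro x hx
  have hfj : ∀ j : ℕ, ∀ q ∈ Q, f ^ j * q * (f ^ j)⁻¹ ∈ Q := by
    intro j q hq
    have hfjW : f ^ j ∈ Subgroup.normalizer (W : Set Γ) := Subgroup.pow_mem _ hfW j
    refine Subgroup.mem_inf.2
      ⟨(Subgroup.mem_normalizer_iff.1 hfjW q).1 (Subgroup.mem_inf.1 hq).1, ?_⟩
    rw [Subgroup.mem_centralizer_iff]
    intro l hl
    have hc : Commute (f ^ j) l := (show Commute f l from hfA l (hLA hl)).pow_left j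
    have hql := (Subgroup.mem_centralizer_iff.1 (Subgroup.mem_inf.1 hq).2) l hl
    calc l * (f ^ j * q * (f ^ j)⁻¹) = (l * f ^ j) * q * (f ^ j)⁻¹ := by group
      _ = (f ^ j * l) * q * (f ^ j)⁻¹ := by rw [hc.eq]
      _ = f ^ j * (l * q) * (f ^ j)⁻¹ := by group
      _ = f ^ j * (q * l) * (f ^ j)⁻¹ := by rw [hql]
      _ = f ^ j * q * (l * (f ^ j)⁻¹) := by group
      _ = f ^ j * q * ((f ^ j)⁻¹ * l) := by rw [hc.inv_left.eq]
      _ = f ^ j * q * (f ^ j)⁻¹ * l := by group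
  letI : Fintype Q := Fintype.ofFinite Q
  let g : Fin 9 → Q := fun j => ⟨f ^ (j : ℕ) * x * (f ^ (j : ℕ))⁻¹, hfj j x hx⟩
  have hcard : Fintype.card Q < Fintype.card (Fin 9) := by
    rw [← Nat.card_eq_fintype_card, h8, Fintype.card_fin]
    norm_num
  obtain ⟨j, k, hjk, hg⟩ := Fintype.exists_ne_map_eq_of_card_lt g hcard
  have key : ∀ j k : Fin 9, j < k → g j = g k → Commute (f ^ 3) x := by
    intro j k hlt hg
    have hg' : f ^ (j : ℕ) * x * (f ^ (j : ℕ))⁻¹ = f ^ (k : ℕ) * x * (f ^ (k : ℕ))⁻¹ :=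
      congrArg Subtype.val hg
    have hlt' : (j : ℕ) < (k : ℕ) := hlt
    have hk9 : (k : ℕ) < 9 := k.2
    obtain ⟨d, hd⟩ : ∃ d, (k : ℕ) = (j : ℕ) + d := ⟨(k : ℕ) - (j : ℕ), by omega⟩
    have hc : Commute (f ^ d) x := by
      rw [hd, pow_add] at hg'
      have hx' : x = f ^ d * x * (f ^ d)⁻¹ := by
        calc x = (f ^ (j : ℕ))⁻¹ * (f ^ (j : ℕ) * x * (f ^ (j : ℕ))⁻¹) * f ^ (j : ℕ) := by group
          _ = (f ^ (j : ℕ))⁻¹ * (f ^ (j : ℕ) * f ^ d * x * (f ^ (j : ℕ) * f ^ d)⁻¹) *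
              f ^ (j : ℕ) := by rw [hg']
          _ = f ^ d * x * (f ^ d)⁻¹ := by group
      show f ^ d * x = x * f ^ d
      calc f ^ d * x = (f ^ d * x * (f ^ d)⁻¹) * f ^ d := by group
        _ = x * f ^ d := by rw [← hx']
    exact pow_three_commute h9 (by omega) (by omega) hc
  have hcomm : Commute (f ^ 3) x := by
    rcases lt_or_gt_of_ne hjk with h | h
    · exact key j k h hg
    · exact key k j h hg.symm
  show x = 1 ∨ x = z
  apply S.fixed_le hz x (Subgroup.mem_inf.1 hx).1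
  exact S.comm_of_hyperplane hLA hLc h3A haL
    (fun l hl => (Subgroup.mem_centralizer_iff.1 (Subgroup.mem_inf.1 hx).2) l hl) hcomm.eq

/-- summary of the ambient analysis -/
theorem Setup.main [Finite Γ] (S : Setup Γ p W A) : ∃ z, IsZ W A z ∧ p = 3 ∧ Nat.card A = 9 ∧
    (∀ c ∈ W, (∀ w ∈ W, c * w = w * c) → c = 1 ∨ c = z) ∧
    (∀ u ∈ W, ∀ v ∈ W, ⁅u, v⁆ = 1 ∨ ⁅u, v⁆ = z) ∧
    (∃ u ∈ W, ∃ v ∈ W, ⁅u, v⁆ = z) ∧
    (∀ w ∈ W, w ^ 2 = 1 ∨ w ^ 2 = z) ∧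
    (∀ x ∈ W, (∀ a ∈ A, a * x = x * a) → x = 1 ∨ x = z) ∧
    8 < Nat.card W ∧ Nat.card W ≤ 512 ∧
    (∀ f, f ∈ Subgroup.normalizer (W : Set Γ) → (∀ a ∈ A, f * a = a * f) → f ^ 9 = 1 →
      f ^ 3 ∈ A → f ^ 3 = 1) := by
  obtain ⟨z, hz⟩ := S.exists_isZ
  have hp3 := S.p_eq_three hz
  refine ⟨z, hz, hp3, by rw [S.card_A hz, hp3]; norm_num, S.center_le hz, S.commutator_mem hz, ?_,
    S.sq_mem hz, S.fixed_le hz, S.card_W_gt hz, S.card_W_le hz,
    fun f h1 h2 h3 h4 => S.exp_three hz h1 h2 h3 h4⟩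
  obtain ⟨u, hu, v, hv, huv⟩ := S.exists_commutator_ne_one
  refine ⟨u, hu, v, hv, ?_⟩
  rcases S.commutator_mem hz u hu v hv with h | h
  · exact absurd h huv
  · exact h

end Cfsg.Agent.Lib.Helper32.OneInv
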