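import Mathlib
import Cfsg.Agent.Lib.Helper32.OneInvF
import Cfsg.Agent.Lib.Helper32.XSTwoMain
import Cfsg.Agent.Lib.Helper03.PGroupFrattini
import Cfsg.Agent.Lib.Helper03.PGroupNormal

set_option autoImplicit false

/-!
# Noncyclic abelian `p`-groups of automorphisms of a `2`-group fixing at most one involution:
transport from the ambient (semidirect product) form to the type-level statement
-/

namespace Cfsg.Agent.Lib.Helper32.OneInv

open scoped commutatorElement

variable {W : Type*} [Group W] [Finite W]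

/-- `Ω₁` of a commutative group of automorphisms -/
def omegaOne (p : ℕ) (E : Subgroup (MulAut W)) (hab : ∀ a b : E, a * b = b * a) : Subgroup E where
  carrier := {e | e ^ p = 1}
  one_mem' := one_pow p
  mul_mem' := by
    intro a b ha hb
    show (a * b) ^ p = 1
    have hc : Commute a b := hab a b
    have ha' : a ^ p = 1 := ha
    have hb' : b ^ p = 1 := hb
    rw [hc.mul_pow, ha', hb', one_mul]
  inv_mem' := by
    intro a ha
    show a⁻¹ ^ p = 1
    have ha' : a ^ p = 1 := ha
    rw [inv_pow, ha', inv_one]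

theorem mem_omegaOne {p : ℕ} {E : Subgroup (MulAut W)} {hab : ∀ a b : E, a * b = b * a} {e : E} :
    e ∈ omegaOne p E hab ↔ e ^ p = 1 := Iff.rfl

theorem sq_le_card_omegaOne {p : ℕ} [hp : Fact p.Prime] (E : Subgroup (MulAut W))
    (hE : IsPGroup p E) (hab : ∀ a b : E, a * b = b * a) (hnc : ¬ IsCyclic E) :
    p ^ 2 ≤ Nat.card (omegaOne p E hab) := by
  by_contra hlt
  push Not at hlt
  apply hnc
  have hΩp : IsPGroup p (omegaOne p E hab) := hE.to_subgroup _
  obtain ⟨n, hn⟩ := (IsPGroup.iff_card).1 hΩp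
  have hn1 : n ≤ 1 := by
    by_contra h
    push Not at h
    have : p ^ 2 ≤ p ^ n := Nat.pow_le_pow_right hp.out.pos h
    omega
  apply Cfsg.Agent.Lib.Helper97.isCyclic_of_comm_of_uniqueOrderP hE hab
  intro x y hx hy
  have hxΩ : x ∈ omegaOne p E hab := by
    show x ^ p = 1
    rw [← hx]; exact pow_orderOf_eq_one x
  have hyΩ : y ∈ omegaOne p E hab := by
    show y ^ p = 1
    rw [← hy]; exact pow_orderOf_eq_one y
  have hle : Subgroup.zpowers x ≤ omegaOne p E hab := Subgroup.zpowers_le.2 hxΩ
  have hcard : Nat.card (omegaOne p E hab) ≤ Nat.card (Subgroup.zpowers x) := by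
    rw [Nat.card_zpowers, hx, hn]
    calc p ^ n ≤ p ^ 1 := Nat.pow_le_pow_right hp.out.pos hn1
      _ = p := pow_one p
  have heq := Subgroup.eq_of_le_of_card_ge hle hcard
  rw [heq]
  exact hyΩ

section Semidirect

variable (E : Subgroup (MulAut W))

/-- the ambient semidirect product -/
abbrev Gam : Type _ := W ⋊[E.subtype] E

instance : Finite (Gam E) := Finite.of_equiv _ SemidirectProduct.equivProd.symm

theorem conj_inr_inl (e : E) (w : W) :
    (SemidirectProduct.inr e : Gam E) * SemidirectProduct.inl w * (SemidirectProduct.inr e)⁻¹ =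
      SemidirectProduct.inl ((e : MulAut W) w) := by
  rw [← map_inv, ← SemidirectProduct.inl_aut]
  rfl

theorem inr_mem_normalizer (e : E) : (SemidirectProduct.inr e : Gam E) ∈
    Subgroup.normalizer (((SemidirectProduct.inl : W →* Gam E).range : Subgroup (Gam E)) :
      Set (Gam E)) := by
  apply Subgroup.mem_normalizer_fintype
  rintro n ⟨w, rfl⟩
  exact ⟨(e : MulAut W) w, (conj_inr_inl E e w).symm⟩

theorem inr_comm_inl_iff (e : E) (w : W) :
    (SemidirectProduct.inr e : Gam E) * SemidirectProduct.inl w =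
      SemidirectProduct.inl w * SemidirectProduct.inr e ↔ (e : MulAut W) w = w := by
  constructor
  · intro h
    apply SemidirectProduct.inl_injective (φ := E.subtype)
    rw [← conj_inr_inl, h]
    group
  · intro h
    have h1 := conj_inr_inl E e w
    rw [h] at h1
    calc (SemidirectProduct.inr e : Gam E) * SemidirectProduct.inl w
        = (SemidirectProduct.inr e * SemidirectProduct.inl w * (SemidirectProduct.inr e)⁻¹) *
          SemidirectProduct.inr e := by group
      _ = SemidirectProduct.inl w * SemidirectProduct.inr e := by rw [h1]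

variable {p : ℕ} [hp : Fact p.Prime]

theorem setup_of (hW : IsPGroup 2 W) (hp2 : p ≠ 2) (hE : IsPGroup p E)
    (hab : ∀ a b : E, a * b = b * a) (hnc : ¬ IsCyclic E)
    (hfix : ∀ e ∈ E, e ≠ 1 → ∀ x y : W, orderOf x = 2 → orderOf y = 2 → e x = x → e y = y →
      x = y) :
    Setup (Gam E) p (SemidirectProduct.inl : W →* Gam E).range
      ((omegaOne p E hab).map (SemidirectProduct.inr : E →* Gam E)) where
  hp := hp.out
  hp2 := hp2
  hW := by
    rintro ⟨g, w, rfl⟩
    obtain ⟨k, hk⟩ := hW w
    refine ⟨k, ?_⟩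
    apply Subtype.ext
    show (SemidirectProduct.inl w : Gam E) ^ 2 ^ k = 1
    rw [← map_pow, hk, map_one]
  hAW := by
    rintro a ⟨e, -, rfl⟩
    exact inr_mem_normalizer E e
  hAc := by
    rintro a ⟨e, -, rfl⟩ b ⟨e', -, rfl⟩
    rw [← map_mul, ← map_mul, hab e e']
  hAp := by
    rintro a ⟨e, he, rfl⟩
    have he' : e ^ p = 1 := he
    rw [← map_pow, he', map_one]
  hA2 := by
    rw [Subgroup.card_map_of_injective SemidirectProduct.inr_injective]
    exact sq_le_card_omegaOne E hE hab hnc
  hinv := by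
    rintro a ⟨e, -, rfl⟩ ha1 x ⟨x', rfl⟩ y ⟨y', rfl⟩ hox hoy hax hay
    have hox' : orderOf x' = 2 := by
      rw [← hox]; exact (orderOf_injective _ SemidirectProduct.inl_injective x').symm
    have hoy' : orderOf y' = 2 := by
      rw [← hoy]; exact (orderOf_injective _ SemidirectProduct.inl_injective y').symm
    have he1 : (e : MulAut W) ≠ 1 := by
      intro h
      apply ha1
      have : e = 1 := Subtype.ext h
      rw [this, map_one]
    have := hfix (e : MulAut W) e.2 he1 x' y' hox' hoy' ((inr_comm_inl_iff E e x').1 hax)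
      ((inr_comm_inl_iff E e y').1 hay)
    rw [this]
  hfaith := by
    rintro a ⟨e, -, rfl⟩ h
    have he1 : (e : MulAut W) = 1 := by
      ext w
      exact (inr_comm_inl_iff E e w).1 (h _ ⟨w, rfl⟩)
    have : e = 1 := Subtype.ext he1
    rw [this, map_one]

/-- type-level summary -/
theorem type_level (hW : IsPGroup 2 W) (hp2 : p ≠ 2) (hE : IsPGroup p E)
    (hab : ∀ a b : E, a * b = b * a) (hnc : ¬ IsCyclic E)
    (hfix : ∀ e ∈ E, e ≠ 1 → ∀ x y : W, orderOf x = 2 → orderOf y = 2 → e x = x → e y = y →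
      x = y) :
    ∃ z : W, orderOf z = 2 ∧ p = 3 ∧ Nat.card (omegaOne p E hab) = 9 ∧
      (∀ c : W, (∀ w, c * w = w * c) → c = 1 ∨ c = z) ∧ (∀ w, z * w = w * z) ∧
      (∀ u v : W, ⁅u, v⁆ = 1 ∨ ⁅u, v⁆ = z) ∧ (∃ u v : W, ⁅u, v⁆ = z) ∧
      (∀ w : W, w ^ 2 = 1 ∨ w ^ 2 = z) ∧
      (∀ x : W, (∀ e ∈ omegaOne p E hab, (e : MulAut W) x = x) → x = 1 ∨ x = z) ∧
      8 < Nat.card W ∧ Nat.card W ≤ 512 ∧
      (∀ e : E, e ^ 9 = 1 → e ^ 3 = 1) := by
  have S := setup_of E hW hp2 hE hab hnc hfix
  obtain ⟨z₀, hz, hp3, hA9, hcen, hcomm, ⟨u₀, hu₀, v₀, hv₀, huv⟩, hsq, hfixA, h8, h512, hexp⟩ :=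
    S.main
  obtain ⟨z, rfl⟩ := hz.mem
  have hinj : Function.Injective (SemidirectProduct.inl : W →* Gam E) :=
    SemidirectProduct.inl_injective
  have hone : ∀ c : W, (SemidirectProduct.inl c : Gam E) = 1 → c = 1 := by
    intro c h
    apply hinj
    rw [h, map_one]
  have hcardW : Nat.card (SemidirectProduct.inl : W →* Gam E).range = Nat.card W :=
    (Nat.card_congr (MonoidHom.ofInjective hinj).toEquiv).symm
  refine ⟨z, ?_, hp3, ?_, ?_, ?_, ?_, ?_, ?_, ?_, ?_, ?_, ?_⟩
  · rw [← hz.ord]; exact (orderOf_injective _ hinj z).symm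
  · rw [← hA9, Subgroup.card_map_of_injective SemidirectProduct.inr_injective]
  · intro c hc
    rcases hcen _ ⟨c, rfl⟩ (by
      rintro w ⟨w', rfl⟩
      rw [← map_mul, ← map_mul, hc w']) with h | h
    · left; exact hone c h
    · right; exact hinj h
  · intro w
    apply hinj
    rw [map_mul, map_mul]
    exact hz.cW _ ⟨w, rfl⟩
  · intro u v
    rcases hcomm _ ⟨u, rfl⟩ _ ⟨v, rfl⟩ with h | h
    · left
      apply hone
      rw [map_commutatorElement]; exact h
    · right
      apply hinj
      rw [map_commutatorElement]; exact h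
  · obtain ⟨u, rfl⟩ := hu₀
    obtain ⟨v, rfl⟩ := hv₀
    refine ⟨u, v, ?_⟩
    apply hinj
    rw [map_commutatorElement]; exact huv
  · intro w
    rcases hsq _ ⟨w, rfl⟩ with h | h
    · left
      apply hone
      rw [map_pow]; exact h
    · right
      apply hinj
      rw [map_pow]; exact h
  · intro x hx
    rcases hfixA _ ⟨x, rfl⟩ (by
      rintro a ⟨e, he, rfl⟩
      exact (inr_comm_inl_iff E e x).2 (hx e he)) with h | h
    · left; exact hone x h
    · right; exact hinj h
  · rw [← hcardW]; exact h8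
  · rw [← hcardW]; exact h512
  · intro e he9
    have h1 := hexp (SemidirectProduct.inr e) (inr_mem_normalizer E e) (by
        rintro a ⟨e', -, rfl⟩
        rw [← map_mul, ← map_mul, hab e e']) (by rw [← map_pow, he9, map_one]) (by
        rw [← map_pow]
        refine ⟨e ^ 3, ?_, rfl⟩
        show (e ^ 3) ^ p = 1
        rw [hp3, ← pow_mul]
        exact he9)
    rw [← map_pow] at h1
    apply SemidirectProduct.inr_injective (φ := E.subtype)
    rw [h1, map_one]

end Semidirect

/-- the final statement -/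
theorem final {p : ℕ} [hp : Fact p.Prime] (hW : IsPGroup 2 W) (hp2 : p ≠ 2)
    (E : Subgroup (MulAut W)) (hE : IsPGroup p E)
    (hab : ∀ a b : E, a * b = b * a) (hnc : ¬ IsCyclic E)
    (hfix : ∀ e ∈ E, e ≠ 1 → ∀ x y : W, orderOf x = 2 → orderOf y = 2 → e x = x → e y = y →
      x = y) :
    Nat.card E = 9 ∧ Cfsg.IsExtraspecial 2 W ∧
      (Nat.card W = 2 ^ 5 ∨ Nat.card W = 2 ^ 7 ∨ Nat.card W = 2 ^ 9) ∧
      {x : W | ∀ e ∈ E, e x = x} = (Subgroup.center W : Set W) := by
  obtain ⟨z, hzo, hp3, hΩ9, hcen, hzc, hcomm, ⟨u, v, huv⟩, hsq, hfixΩ, h8, h512, hexp⟩ :=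
    type_level E hW hp2 hE hab hnc hfix
  subst hp3
  haveI : Fact (Nat.Prime 2) := ⟨Nat.prime_two⟩
  have hz1 : z ≠ 1 := by
    intro h
    rw [h, orderOf_one] at hzo
    omega
  have hexp3 : ∀ e : E, e ^ 3 = 1 := by
    intro e
    obtain ⟨k, hk⟩ := (IsPGroup.iff_orderOf.1 hE) e
    by_contra hne
    have hk2 : 2 ≤ k := by
      by_contra h
      push Not at h
      apply hne
      have h1 : orderOf e ∣ 3 ^ 1 := by
        rw [hk]
        exact pow_dvd_pow 3 (by omega)
      rw [pow_one] at h1
      exact orderOf_dvd_iff_pow_eq_one.1 h1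
    obtain ⟨m, rfl⟩ : ∃ m, k = m + 2 := ⟨k - 2, by omega⟩
    have h1 : (e ^ (3 ^ m)) ^ 9 = 1 := by
      rw [← pow_mul, show 3 ^ m * 9 = 3 ^ (m + 2) by ring, ← hk]
      exact pow_orderOf_eq_one e
    have h2 := hexp _ h1
    rw [← pow_mul] at h2
    have h3 : orderOf e ∣ 3 ^ m * 3 := orderOf_dvd_of_pow_eq_one h2
    rw [hk, show 3 ^ m * 3 = 3 ^ (m + 1) by ring] at h3
    have := (Nat.pow_dvd_pow_iff_le_right (by norm_num : 1 < 3)).1 h3
    omega
  have hΩtop : omegaOne 3 E hab = ⊤ := by
    rw [Subgroup.eq_top_iff']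
    intro e
    exact hexp3 e
  have hE9 : Nat.card E = 9 := by rw [← hΩ9, hΩtop, Subgroup.card_top]
  have hcenter : ∀ c : W, c ∈ Subgroup.center W ↔ (c = 1 ∨ c = z) := by
    intro c
    constructor
    · intro hc
      apply hcen c
      intro w
      exact ((Subgroup.mem_center_iff.1 hc) w).symm
    · rintro (rfl | rfl)
      · exact Subgroup.one_mem _
      · rw [Subgroup.mem_center_iff]
        intro g
        exact (hzc g).symm
  have hcz : Subgroup.center W = Subgroup.zpowers z := by
    ext c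
    rw [hcenter]
    constructor
    · rintro (h | h)
      · rw [h]; exact Subgroup.one_mem _
      · rw [h]; exact Subgroup.mem_zpowers z
    · intro hc
      obtain ⟨n, rfl⟩ := Subgroup.mem_zpowers_iff.1 hc
      have e : z ^ n = z ^ (n % 2) := by
        have := zpow_mod_orderOf z n
        rw [hzo] at this
        exact_mod_cast this.symm
      rcases Int.emod_two_eq_zero_or_one n with h | h
      · left; rw [e, h, zpow_zero]
      · right; rw [e, h, zpow_one]
  have hcardcenter : Nat.card (Subgroup.center W) = 2 := by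
    rw [hcz, Nat.card_zpowers, hzo]
  have hcomm_le : commutator W ≤ Subgroup.center W := by
    rw [commutator_def, Subgroup.commutator_le]
    intro a _ b _
    rw [hcenter]
    exact hcomm a b
  have hle : Subgroup.center W ≤ commutator W := by
    rw [hcz, Subgroup.zpowers_le, commutator_def, ← huv]
    exact Subgroup.commutator_mem_commutator (Subgroup.mem_top u) (Subgroup.mem_top v)
  have hfr_le : frattini W ≤ Subgroup.center W :=
    Cfsg.Agent.Lib.Helper03.frattini_le_of_elementary_abelian_quotient (p := 2)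
      (Subgroup.center W) (fun x => (hcenter _).2 (hsq x)) hcomm_le
  have hfr_ge : Subgroup.center W ≤ frattini W :=
    hle.trans (Cfsg.Agent.Lib.Helper03.commutator_le_frattini_of_isPGroup hW)
  have hXS : Cfsg.IsExtraspecial 2 W :=
    ⟨⟨hW, le_antisymm hfr_le hfr_ge, le_antisymm hcomm_le hle⟩, hcardcenter⟩
  refine ⟨hE9, hXS, ?_, ?_⟩
  · obtain ⟨m, hm1, hm, -⟩ := Cfsg.Agent.Lib.Helper32.extraspecial_two_card_count hXS
    rw [hm] at h8 h512
    have h1 : 3 < 2 * m + 1 :=
      (Nat.pow_lt_pow_iff_right (by norm_num : 1 < 2)).1 (by norm_num at h8 ⊢; exact h8)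
    have h2 : 2 * m + 1 ≤ 9 :=
      (Nat.pow_le_pow_iff_right (by norm_num : 1 < 2)).1 (by norm_num at h512 ⊢; exact h512)
    have hm' : m = 2 ∨ m = 3 ∨ m = 4 := by omega
    rcases hm' with rfl | rfl | rfl
    · left; exact hm
    · right; left; exact hm
    · right; right; exact hm
  · ext x
    simp only [Set.mem_ofPred_eq, SetLike.mem_coe]
    rw [hcenter]
    constructor
    · intro hx
      apply hfixΩ x
      intro e _
      exact hx (e : MulAut W) e.2
    · rintro (hx | hx) e he
      · rw [hx]; exact map_one e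
      · rw [hx]
        have h1 : e z ∈ Subgroup.center W := by
          rw [Subgroup.mem_center_iff]
          intro g
          have hg : g = e (e.symm g) := (e.apply_symm_apply g).symm
          rw [hg, ← map_mul, ← map_mul, hzc]
        rcases (hcenter _).1 h1 with h | h
        · exfalso
          apply hz1
          exact e.injective (h.trans (map_one e).symm)
        · exact h

end Cfsg.Agent.Lib.Helper32.OneInv
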