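import Mathlib
import Cfsg.Agent.Lib.Helper32.XSRank
import Cfsg.Agent.Lib.Helper66.ConjFixed
import Cfsg.Agent.Lib.Helper01.Coprime

set_option autoImplicit false

/-!
# Groups of order `320` with an extraspecial radical of order `32`: first part

Fixed points of elements of order `5` on the radical, and the subgroups `DSub g` of elements of the
radical centralized by `g` modulo the centre.
-/

namespace Cfsg.Agent.Lib.Helper32.Ord320

open Subgroup
open scoped commutatorElement Pointwise

variable {G : Type*} [Group G]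

/-- divisors of `32`. -/
theorem dvd_32_cases {n : ℕ} (h : n ∣ 32) :
    n = 1 ∨ n = 2 ∨ n = 4 ∨ n = 8 ∨ n = 16 ∨ n = 32 := by
  have hle : n ≤ 32 := Nat.le_of_dvd (by norm_num) h
  have hpos : 0 < n := Nat.pos_of_dvd_of_pos h (by norm_num)
  interval_cases n <;> omega

/-- the standing hypotheses. -/
structure Setup (H : Subgroup G) (z : G) : Prop where
  xs : IsXS 2 H z
  nrm : H.Normal
  cardG : Nat.card G = 320
  cardH : Nat.card H = 32
  cent : centralizer (H : Set G) ≤ H

namespace Setup

variable {H : Subgroup G} {z : G}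

/-- the central involution of the radical is central in the whole group. -/
theorem z_comm (S : Setup H z) (g : G) : g * z = z * g := by
  have hn := S.nrm
  have h1 : g * z * g⁻¹ ∈ H := hn.conj_mem z S.xs.z_mem g
  have h2 : g * z * g⁻¹ ∈ zpowers z := by
    apply S.xs.center _ h1
    intro b hb
    have hb' : g⁻¹ * b * g ∈ H := by simpa using hn.conj_mem b hb g⁻¹
    have := S.xs.z_comm _ hb'
    calc g * z * g⁻¹ * b = g * (z * (g⁻¹ * b * g)) * g⁻¹ := by group
      _ = g * ((g⁻¹ * b * g) * z) * g⁻¹ := by rw [this]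
      _ = b * (g * z * g⁻¹) := by group
  rcases S.xs.mem_zpowers_two h2 with h | h
  · exfalso
    apply S.xs.z_ne
    have : z = g⁻¹ * (g * z * g⁻¹) * g := by group
    rw [this, h]; group
  · calc g * z = (g * z * g⁻¹) * g := by group
      _ = z * g := by rw [h]

/-- elements of the centre of the radical are central in the whole group. -/
theorem central (S : Setup H z) {c : G} (hc : c ∈ zpowers z) (g : G) : g * c = c * g := by
  rcases S.xs.mem_zpowers_two hc with rfl | rfl
  · rw [mul_one, one_mul]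
  · exact S.z_comm g

theorem conj_central (S : Setup H z) {c : G} (hc : c ∈ zpowers z) (g : G) : g * c * g⁻¹ = c := by
  rw [S.central hc g, mul_inv_cancel_right]

theorem conj_central' (S : Setup H z) {c : G} (hc : c ∈ zpowers z) (g : G) : g⁻¹ * c * g = c := by
  have := S.conj_central hc g⁻¹
  rwa [inv_inv] at this

theorem card_zs (S : Setup H z) : Nat.card (zpowers z) = 2 := by
  have : Fact (Nat.Prime 2) := ⟨Nat.prime_two⟩
  exact S.xs.card_zpowers

theorem zs_le_centralizer (S : Setup H z) (y : G) : zpowers z ≤ centralizer ({y} : Set G) := by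
  intro c hc
  rw [mem_centralizer_iff]
  intro h hh
  rw [Set.mem_singleton_iff] at hh
  subst hh
  exact S.central hc h

theorem isPGroup_five {y : G} (hy : orderOf y = 5) : IsPGroup 5 (zpowers y) := by
  have : Fact (Nat.Prime 5) := ⟨by norm_num⟩
  exact IsPGroup.of_card (n := 1) (by rw [Nat.card_zpowers, hy, pow_one])

/-- an element of order `5` has centralizer `⟨z⟩` in the radical. -/
theorem cent_five [Finite G] (S : Setup H z) {y : G} (hy : orderOf y = 5) :
    H ⊓ centralizer ({y} : Set G) = zpowers z := by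
  have : Fact (Nat.Prime 5) := ⟨by norm_num⟩
  have hn := S.nrm
  have hyN : y ∈ normalizer (H : Set G) := by
    rw [normalizer_eq_top]; exact mem_top y
  have hmod := Cfsg.Agent.Lib.Helper66.card_modEq_card_inf_centralizer_singleton y H
    (isPGroup_five hy) hyN
  rw [S.cardH] at hmod
  have hdvd : Nat.card (H ⊓ centralizer ({y} : Set G) : Subgroup G) ∣ 32 := by
    rw [← S.cardH]; exact card_dvd_of_le inf_le_left
  have hZC : zpowers z ≤ H ⊓ centralizer ({y} : Set G) :=
    le_inf S.xs.zpowers_le (S.zs_le_centralizer y)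
  have hcases : Nat.card (H ⊓ centralizer ({y} : Set G) : Subgroup G) = 2 ∨
      Nat.card (H ⊓ centralizer ({y} : Set G) : Subgroup G) = 32 := by
    have hm : 32 % 5 = Nat.card (H ⊓ centralizer ({y} : Set G) : Subgroup G) % 5 := hmod
    rcases dvd_32_cases hdvd with h | h | h | h | h | h <;> rw [h] at hm <;> omega
  rcases hcases with h2 | h32
  · symm
    apply eq_of_le_of_card_ge hZC
    rw [h2, S.card_zs]
  · exfalso
    have hCH : H ⊓ centralizer ({y} : Set G) = H :=
      eq_of_le_of_card_ge inf_le_left (by rw [h32, S.cardH])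
    have hyc : y ∈ centralizer (H : Set G) := by
      rw [mem_centralizer_iff]
      intro h hh
      have h1 : h ∈ H ⊓ centralizer ({y} : Set G) := by rw [hCH]; exact hh
      have h2 := (mem_inf.mp h1).2
      rw [mem_centralizer_iff] at h2
      exact (h2 y rfl).symm
    have hyH : y ∈ H := S.cent hyc
    have h3 : orderOf (⟨y, hyH⟩ : H) ∣ Nat.card H := orderOf_dvd_natCard _
    rw [Subgroup.orderOf_mk, hy, S.cardH] at h3
    omega

/-- an element of order `5` acts without fixed points on the radical modulo its centre. -/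
theorem mem_zs_of_comm_five [Finite G] (S : Setup H z) {y : G} (hy : orderOf y = 5) {h : G}
    (hh : h ∈ H) (hc : ⁅y, h⁆ ∈ zpowers z) : h ∈ zpowers z := by
  have hconj : y * h * y⁻¹ = ⁅y, h⁆ * h := by rw [commutatorElement_def]; group
  have hk : ∀ k : ℕ, y ^ k * h * (y ^ k)⁻¹ = ⁅y, h⁆ ^ k * h := by
    intro k
    induction k with
    | zero => simp
    | succ k ih =>
      have hck : ⁅y, h⁆ ^ k ∈ zpowers z := Subgroup.pow_mem _ hc k
      calc y ^ (k + 1) * h * (y ^ (k + 1))⁻¹ = y * (y ^ k * h * (y ^ k)⁻¹) * y⁻¹ := by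
            rw [pow_succ']; group
        _ = y * (⁅y, h⁆ ^ k * h) * y⁻¹ := by rw [ih]
        _ = (y * ⁅y, h⁆ ^ k) * h * y⁻¹ := by group
        _ = (⁅y, h⁆ ^ k * y) * h * y⁻¹ := by rw [S.central hck y]
        _ = ⁅y, h⁆ ^ k * (y * h * y⁻¹) := by group
        _ = ⁅y, h⁆ ^ (k + 1) * h := by rw [hconj, pow_succ]; group
  have y5 : y ^ 5 = 1 := by rw [← hy]; exact pow_orderOf_eq_one y
  have h5 := hk 5
  rw [y5, one_mul, inv_one, mul_one] at h5
  have hc5 : ⁅y, h⁆ ^ 5 = 1 := by
    have : ⁅y, h⁆ ^ 5 * h = 1 * h := by rw [← h5, one_mul]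
    exact mul_right_cancel this
  have hcc : ⁅y, h⁆ * ⁅y, h⁆ = 1 := S.xs.sq_of_mem_zpowers hc
  have hc1 : ⁅y, h⁆ = 1 := by
    have e : ⁅y, h⁆ ^ 5 = (⁅y, h⁆ * ⁅y, h⁆) * (⁅y, h⁆ * ⁅y, h⁆) * ⁅y, h⁆ := by
      simp only [pow_succ, pow_zero, one_mul, mul_assoc]
    rw [e, hcc, one_mul, one_mul] at hc5
    exact hc5
  rw [commutatorElement_eq_one_iff_mul_comm] at hc1
  rw [← S.cent_five hy]
  refine mem_inf.mpr ⟨hh, ?_⟩
  rw [mem_centralizer_iff]
  intro w hw
  rw [Set.mem_singleton_iff] at hw
  subst hw
  exact hc1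

/-- invariant subgroups of the radical containing `z` under an element of order `5`. -/
theorem card_of_invariant [Finite G] (S : Setup H z) {x : G} (hx : orderOf x = 5)
    {M : Subgroup G} (hMH : M ≤ H) (hzM : z ∈ M) (hxM : x ∈ normalizer (M : Set G)) :
    Nat.card M = 2 ∨ Nat.card M = 32 := by
  have : Fact (Nat.Prime 5) := ⟨by norm_num⟩
  have hmod := Cfsg.Agent.Lib.Helper66.card_modEq_card_inf_centralizer_singleton x M
    (isPGroup_five hx) hxM
  have hfix : M ⊓ centralizer ({x} : Set G) = zpowers z := by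
    apply le_antisymm
    · rw [← S.cent_five hx]; exact inf_le_inf_right _ hMH
    · exact le_inf ((zpowers_le).mpr hzM) (S.zs_le_centralizer x)
  rw [hfix, S.card_zs] at hmod
  have hdvd : Nat.card M ∣ 32 := by rw [← S.cardH]; exact card_dvd_of_le hMH
  have hm : Nat.card M % 5 = 2 % 5 := hmod
  rcases dvd_32_cases hdvd with h | h | h | h | h | h <;> rw [h] at hm <;> omega

end Setup

end Cfsg.Agent.Lib.Helper32.Ord320
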