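import Mathlib
import Cfsg.Agent.Lib.Helper32.Ord320A

set_option autoImplicit false

/-!
# Groups of order `320` with an extraspecial radical of order `32`: second part

The subgroups `DSub g` and the bound `|DSub T| ≤ 8` for `T` outside the radical.
-/

namespace Cfsg.Agent.Lib.Helper32.Ord320

open Subgroup
open scoped commutatorElement Pointwise

variable {G : Type*} [Group G]

/-- a counting lemma: two cosets of a small subgroup do not cover. -/
theorem exists_not_mem_union_smul [Finite G] (H D : Subgroup G) (a : G)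
    (h : 2 * Nat.card D < Nat.card H) : ∃ b ∈ H, b ∉ D ∧ a⁻¹ * b ∉ D := by
  have h1 : ((D : Set G) ∪ a • (D : Set G)).ncard < (H : Set G).ncard := by
    calc ((D : Set G) ∪ a • (D : Set G)).ncard ≤ (D : Set G).ncard + (a • (D : Set G)).ncard :=
          Set.ncard_union_le _ _
      _ = 2 * Nat.card D := by
          rw [Set.ncard_smul_set, ← Nat.card_coe_set_eq, two_mul]; rfl
      _ < Nat.card H := h
      _ = (H : Set G).ncard := by rw [← Nat.card_coe_set_eq]; rfl
  obtain ⟨b, hbH, hb⟩ := Set.exists_mem_notMem_of_ncard_lt_ncard h1 (Set.toFinite _)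
  refine ⟨b, hbH, fun hbD => hb (Or.inl hbD), fun hbD => hb (Or.inr ?_)⟩
  rw [Set.mem_smul_set]
  exact ⟨a⁻¹ * b, hbD, by rw [smul_eq_mul, mul_inv_cancel_left]⟩

namespace Setup

variable {H : Subgroup G} {z : G}

/-- the elements of the radical centralized by `g` modulo the centre. -/
def DSub (S : Setup H z) (g : G) : Subgroup G where
  carrier := {h | h ∈ H ∧ ⁅g, h⁆ ∈ zpowers z}
  one_mem' := ⟨H.one_mem, by rw [commutatorElement_one_right]; exact one_mem _⟩
  mul_mem' := by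
    rintro a b ⟨ha, hca⟩ ⟨hb, hcb⟩
    refine ⟨H.mul_mem ha hb, ?_⟩
    have e : ⁅g, a * b⁆ = ⁅g, a⁆ * (a * ⁅g, b⁆ * a⁻¹) := by
      simp only [commutatorElement_def]; group
    rw [e, S.conj_central hcb a]
    exact mul_mem hca hcb
  inv_mem' := by
    rintro a ⟨ha, hca⟩
    refine ⟨H.inv_mem ha, ?_⟩
    have e : ⁅g, a⁻¹⁆ = a⁻¹ * ⁅g, a⁆⁻¹ * a := by
      simp only [commutatorElement_def]; group
    rw [e, S.conj_central' (inv_mem hca) a]
    exact inv_mem hca

theorem mem_DSub (S : Setup H z) {g h : G} : h ∈ S.DSub g ↔ h ∈ H ∧ ⁅g, h⁆ ∈ zpowers z :=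
  Iff.rfl

theorem DSub_le (S : Setup H z) (g : G) : S.DSub g ≤ H := fun _ hh => hh.1

theorem z_mem_DSub (S : Setup H z) (g : G) : z ∈ S.DSub g := by
  refine ⟨S.xs.z_mem, ?_⟩
  have : ⁅g, z⁆ = 1 := by
    rw [commutatorElement_eq_one_iff_mul_comm]; exact S.z_comm g
  rw [this]; exact one_mem _

theorem zs_le_DSub (S : Setup H z) (g : G) : zpowers z ≤ S.DSub g :=
  (zpowers_le).mpr (S.z_mem_DSub g)

theorem cent_le_DSub (S : Setup H z) (g : G) : H ⊓ centralizer ({g} : Set G) ≤ S.DSub g := by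
  intro h hhc
  obtain ⟨hh, hc⟩ := mem_inf.mp hhc
  refine ⟨hh, ?_⟩
  rw [mem_centralizer_iff] at hc
  have : ⁅g, h⁆ = 1 := by
    rw [commutatorElement_eq_one_iff_mul_comm]; exact hc g rfl
  rw [this]; exact one_mem _

theorem mem_DSub_mul (S : Setup H z) {a b h : G} (ha : h ∈ S.DSub a) (hb : h ∈ S.DSub b) :
    h ∈ S.DSub (a * b) := by
  refine ⟨ha.1, ?_⟩
  have e : ⁅a * b, h⁆ = a * ⁅b, h⁆ * a⁻¹ * ⁅a, h⁆ := by
    simp only [commutatorElement_def]; group
  rw [e, S.conj_central hb.2 a]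
  exact mul_mem hb.2 ha.2

theorem mem_DSub_inv (S : Setup H z) {b h : G} (hb : h ∈ S.DSub b) : h ∈ S.DSub b⁻¹ := by
  refine ⟨hb.1, ?_⟩
  have e : ⁅b⁻¹, h⁆ = b⁻¹ * ⁅b, h⁆⁻¹ * b := by
    simp only [commutatorElement_def]; group
  rw [e, S.conj_central' (inv_mem hb.2) b]
  exact inv_mem hb.2

theorem mem_DSub_of_mem (S : Setup H z) {n h : G} (hn : n ∈ H) (hh : h ∈ H) : h ∈ S.DSub n :=
  ⟨hh, S.xs.comm_mem n hn h hh⟩

theorem mem_DSub_conj (S : Setup H z) {g d : G} (x : G) (hd : d ∈ S.DSub g) :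
    x * d * x⁻¹ ∈ S.DSub (x * g * x⁻¹) := by
  have hn := S.nrm
  refine ⟨hn.conj_mem d hd.1 x, ?_⟩
  have e : ⁅x * g * x⁻¹, x * d * x⁻¹⁆ = x * ⁅g, d⁆ * x⁻¹ := by
    simp only [commutatorElement_def]; group
  rw [e, S.conj_central hd.2 x]
  exact hd.2

/-- translating `g` by an element of the radical does not change `DSub g`. -/
theorem DSub_mul_left (S : Setup H z) {n : G} (hn : n ∈ H) (g : G) : S.DSub (n * g) = S.DSub g := by
  have key : ∀ (m : G), m ∈ H → ∀ k : G, S.DSub k ≤ S.DSub (m * k) := by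
    intro m hm k h hh
    exact S.mem_DSub_mul (S.mem_DSub_of_mem hm hh.1) hh
  apply le_antisymm
  · have := key n⁻¹ (H.inv_mem hn) (n * g)
    rwa [inv_mul_cancel_left] at this
  · exact key n hn g

/-- `DSub` of an element of order `5` is the centre. -/
theorem DSub_five [Finite G] (S : Setup H z) {y : G} (hy : orderOf y = 5) :
    S.DSub y = zpowers z :=
  le_antisymm (fun _ hh => S.mem_zs_of_comm_five hy hh.1 hh.2) (S.zs_le_DSub y)

/-- an element commuting with `g` normalizes `DSub g`. -/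
theorem mem_normalizer_DSub (S : Setup H z) {g w : G} (hw : w * g = g * w) :
    w ∈ normalizer (S.DSub g : Set G) := by
  have key : ∀ v : G, v * g = g * v → ∀ h ∈ S.DSub g, v * h * v⁻¹ ∈ S.DSub g := by
    intro v hv h hh
    have := S.mem_DSub_conj v hh
    have e : v * g * v⁻¹ = g := by rw [hv, mul_inv_cancel_right]
    rwa [e] at this
  rw [mem_normalizer_iff]
  intro h
  constructor
  · exact key w hw h
  · intro hh
    have hw' : w⁻¹ * g = g * w⁻¹ := by
      calc w⁻¹ * g = w⁻¹ * (g * w) * w⁻¹ := by group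
        _ = w⁻¹ * (w * g) * w⁻¹ := by rw [hw]
        _ = g * w⁻¹ := by group
    have := key w⁻¹ hw' _ hh
    have e : w⁻¹ * (w * h * w⁻¹) * w⁻¹⁻¹ = h := by group
    rwa [e] at this

/-- an element commuting with `g` normalizes `C_H(g)`. -/
theorem mem_normalizer_cent (S : Setup H z) {g w : G} (hw : w * g = g * w) :
    w ∈ normalizer ((H ⊓ centralizer ({g} : Set G) : Subgroup G) : Set G) := by
  have hn := S.nrm
  have key : ∀ v : G, v * g = g * v → ∀ h ∈ H ⊓ centralizer ({g} : Set G),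
      v * h * v⁻¹ ∈ H ⊓ centralizer ({g} : Set G) := by
    intro v hv h hhc
    obtain ⟨hh, hc⟩ := mem_inf.mp hhc
    refine mem_inf.mpr ⟨hn.conj_mem h hh v, ?_⟩
    rw [mem_centralizer_iff] at hc ⊢
    intro k hk
    rw [Set.mem_singleton_iff] at hk
    subst hk
    have h1 : k * h = h * k := hc k rfl
    have hv' : k * v⁻¹ = v⁻¹ * k := by
      calc k * v⁻¹ = v⁻¹ * (v * k) * v⁻¹ := by group
        _ = v⁻¹ * (k * v) * v⁻¹ := by rw [hv]
        _ = v⁻¹ * k := by group
    calc k * (v * h * v⁻¹) = (k * v) * h * v⁻¹ := by group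
      _ = (v * k) * h * v⁻¹ := by rw [hv]
      _ = v * (k * h) * v⁻¹ := by group
      _ = v * (h * k) * v⁻¹ := by rw [h1]
      _ = v * h * (k * v⁻¹) := by group
      _ = v * h * (v⁻¹ * k) := by rw [hv']
      _ = v * h * v⁻¹ * k := by group
  rw [mem_normalizer_iff]
  intro h
  constructor
  · exact key w hw h
  · intro hh
    have hw' : w⁻¹ * g = g * w⁻¹ := by
      calc w⁻¹ * g = w⁻¹ * (g * w) * w⁻¹ := by group
        _ = w⁻¹ * (w * g) * w⁻¹ := by rw [hw]
        _ = g * w⁻¹ := by group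
    have := key w⁻¹ hw' _ hh
    have e : w⁻¹ * (w * h * w⁻¹) * w⁻¹⁻¹ = h := by group
    rwa [e] at this

/-- if `g` centralizes the radical modulo the centre, its centralizer there has index at most `2`. -/
theorem card_le_two_mul_cent [Finite G] (S : Setup H z) {g : G}
    (hall : ∀ h ∈ H, ⁅g, h⁆ ∈ zpowers z) :
    Nat.card H ≤ 2 * Nat.card (H ⊓ centralizer ({g} : Set G) : Subgroup G) := by
  by_contra hlt
  push Not at hlt
  have hmemM : ∀ h ∈ H, ⁅g, h⁆ = 1 → h ∈ H ⊓ centralizer ({g} : Set G) := by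
    intro h hh h1
    refine mem_inf.mpr ⟨hh, ?_⟩
    rw [mem_centralizer_iff]
    intro k hk
    rw [Set.mem_singleton_iff] at hk
    subst hk
    exact commutatorElement_eq_one_iff_mul_comm.mp h1
  obtain ⟨a, haH, haM, -⟩ := exists_not_mem_union_smul H (H ⊓ centralizer ({g} : Set G)) 1 hlt
  obtain ⟨b, hbH, hbM, habM⟩ := exists_not_mem_union_smul H (H ⊓ centralizer ({g} : Set G)) a hlt
  have ha : ⁅g, a⁆ = z := by
    rcases S.xs.mem_zpowers_two (hall a haH) with h | h
    · exact absurd (hmemM a haH h) haM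
    · exact h
  have hb : ⁅g, b⁆ = z := by
    rcases S.xs.mem_zpowers_two (hall b hbH) with h | h
    · exact absurd (hmemM b hbH h) hbM
    · exact h
  apply habM
  apply hmemM _ (H.mul_mem (H.inv_mem haH) hbH)
  have e : ⁅g, a⁻¹ * b⁆ = a⁻¹ * (⁅g, a⁆⁻¹ * ⁅g, b⁆) * a := by
    simp only [commutatorElement_def]; group
  rw [e, ha, hb, inv_mul_cancel, mul_one, inv_mul_cancel]

/-- Case A: an element outside the radical commuting with an element of order `5` has small
`DSub`. -/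
theorem caseA [Finite G] (S : Setup H z) {x τ : G} (hx : orderOf x = 5) (hτ : τ ∉ H)
    (hcomm : x * τ = τ * x) (h4 : 4 ≤ Nat.card (S.DSub τ)) : False := by
  have h1 := S.card_of_invariant hx (S.DSub_le τ) (S.z_mem_DSub τ) (S.mem_normalizer_DSub hcomm)
  have h32 : Nat.card (S.DSub τ) = 32 := by omega
  have hDH : S.DSub τ = H := eq_of_le_of_card_ge (S.DSub_le τ) (by rw [h32, S.cardH])
  have hall : ∀ h ∈ H, ⁅τ, h⁆ ∈ zpowers z := by
    intro h hh
    have : h ∈ S.DSub τ := by rw [hDH]; exact hh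
    exact this.2
  have h2 := S.card_le_two_mul_cent hall
  rw [S.cardH] at h2
  have hzM : z ∈ H ⊓ centralizer ({τ} : Set G) :=
    mem_inf.mpr ⟨S.xs.z_mem, S.zs_le_centralizer τ (mem_zpowers z)⟩
  have h3 := S.card_of_invariant hx (inf_le_left : H ⊓ centralizer ({τ} : Set G) ≤ H) hzM
    (S.mem_normalizer_cent hcomm)
  have hM32 : Nat.card (H ⊓ centralizer ({τ} : Set G) : Subgroup G) = 32 := by omega
  have hMH : H ⊓ centralizer ({τ} : Set G) = H :=
    eq_of_le_of_card_ge inf_le_left (by rw [hM32, S.cardH])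
  apply hτ
  apply S.cent
  rw [mem_centralizer_iff]
  intro h hh
  have h5 : h ∈ H ⊓ centralizer ({τ} : Set G) := by rw [hMH]; exact hh
  have h6 := (mem_inf.mp h5).2
  rw [mem_centralizer_iff] at h6
  exact (h6 τ rfl).symm

/-- Case B: an element inverting (or at least moving) an element of order `5` inside its cyclic
group has `DSub` of order at most `8`. -/
theorem caseB [Finite G] (S : Setup H z) {x τ : G} (hx : orderOf x = 5)
    (hmem : τ * x * τ⁻¹ ∈ zpowers x) (hne : τ * x * τ⁻¹ ≠ x) : Nat.card (S.DSub τ) ≤ 8 := by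
  have hn := S.nrm
  -- the element `w = τ x τ⁻¹ x⁻¹` has order `5`
  have hw_mem : τ * x * τ⁻¹ * x⁻¹ ∈ zpowers x := mul_mem hmem (inv_mem (mem_zpowers x))
  have hw1 : τ * x * τ⁻¹ * x⁻¹ ≠ 1 := by
    intro h
    apply hne
    calc τ * x * τ⁻¹ = (τ * x * τ⁻¹ * x⁻¹) * x := by group
      _ = x := by rw [h, one_mul]
  have hw5 : orderOf (τ * x * τ⁻¹ * x⁻¹) = 5 := by
    have hd : orderOf (τ * x * τ⁻¹ * x⁻¹) ∣ 5 := by
      rw [← hx]; exact orderOf_dvd_of_mem_zpowers hw_mem
    rcases (Nat.dvd_prime (by norm_num : Nat.Prime 5)).mp hd with h | h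
    · exact absurd (orderOf_eq_one_iff.mp h) hw1
    · exact h
  -- the intersection of `D` with its `x`-conjugate
  have hint : S.DSub τ ⊓ (MulAut.conj x • S.DSub τ) ≤ zpowers z := by
    intro h h12
    obtain ⟨h1, h2⟩ := mem_inf.mp h12
    rw [mem_smul_pointwise_iff_exists] at h2
    obtain ⟨d, hd, rfl⟩ := h2
    rw [MulAut.smul_def, MulAut.conj_apply] at h1 ⊢
    have h3 := S.mem_DSub_conj x hd
    have h4 := S.mem_DSub_mul h1 (S.mem_DSub_inv h3)
    have e : τ * (x * τ * x⁻¹)⁻¹ = τ * x * τ⁻¹ * x⁻¹ := by group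
    rw [e, S.DSub_five hw5] at h4
    exact h4
  have hcard1 : Nat.card (MulAut.conj x • S.DSub τ : Subgroup G) = Nat.card (S.DSub τ) :=
    Cfsg.Agent.Lib.Helper01.card_conj_smul x _
  have hle1 : (MulAut.conj x • S.DSub τ : Subgroup G) ≤ H := by
    intro h hh
    rw [mem_smul_pointwise_iff_exists] at hh
    obtain ⟨d, hd, rfl⟩ := hh
    rw [MulAut.smul_def, MulAut.conj_apply]
    exact hn.conj_mem d hd.1 x
  have hint2 : Nat.card (S.DSub τ ⊓ (MulAut.conj x • S.DSub τ) : Subgroup G) ≤ 2 := by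
    rw [← S.card_zs]; exact card_le_of_le hint
  have r1 := relIndex_mul_relIndex ⊥ (S.DSub τ) H bot_le (S.DSub_le τ)
  have r2 := relIndex_mul_relIndex ⊥ (MulAut.conj x • S.DSub τ) H bot_le hle1
  have r3 := relIndex_mul_relIndex ⊥ (S.DSub τ ⊓ (MulAut.conj x • S.DSub τ)) H bot_le
    (inf_le_left.trans (S.DSub_le τ))
  have r4 := relIndex_inf_le (H := S.DSub τ) (K := MulAut.conj x • S.DSub τ) (L := H)
  rw [relIndex_bot_left, relIndex_bot_left, S.cardH] at r1 r2 r3
  rw [hcard1] at r2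
  have hdvd : Nat.card (S.DSub τ) ∣ 32 := Dvd.intro _ r1
  generalize Nat.card (S.DSub τ) = d at *
  generalize (S.DSub τ).relIndex H = a at *
  generalize (MulAut.conj x • S.DSub τ).relIndex H = a₁ at *
  generalize (S.DSub τ ⊓ MulAut.conj x • S.DSub τ).relIndex H = b at *
  generalize Nat.card (S.DSub τ ⊓ (MulAut.conj x • S.DSub τ) : Subgroup G) = e at *
  rcases dvd_32_cases hdvd with h | h | h | h | h | h <;> subst h
  · omega
  · omega
  · omega
  · omega
  · have ha : a = 2 := by omega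
    have ha₁ : a₁ = 2 := by omega
    subst ha ha₁
    have : e * b ≤ 2 * 4 := Nat.mul_le_mul hint2 r4
    omega
  · have ha : a = 1 := by omega
    have ha₁ : a₁ = 1 := by omega
    subst ha ha₁
    have : e * b ≤ 2 * 1 := Nat.mul_le_mul hint2 r4
    omega

end Setup

end Cfsg.Agent.Lib.Helper32.Ord320
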