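import Mathlib
import Cfsg.Agent.Lib.Helper32.Ord320B

set_option autoImplicit false

/-!
# Groups of order `320` with an extraspecial radical of order `32`: third part

The centralizer in the radical of an involution outside the radical.
-/

namespace Cfsg.Agent.Lib.Helper32.Ord320

open Subgroup
open scoped commutatorElement Pointwise

variable {G : Type*} [Group G]

/-- transport of `IsXS` from a subgroup regarded as a group to the ambient group. -/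
theorem isXS_of_top {p : ℕ} {H : Subgroup G} {z0 : H} (h : IsXS p (⊤ : Subgroup H) z0) :
    IsXS p H (z0 : G) where
  z_mem := z0.2
  z_ne := fun e => h.z_ne (Subtype.ext e)
  z_pow := by
    have := congrArg Subtype.val h.z_pow
    simpa using this
  z_comm := fun a ha => by
    have := congrArg Subtype.val (h.z_comm ⟨a, ha⟩ (mem_top _))
    simpa using this
  comm_mem := fun a ha b hb => by
    have := h.comm_mem ⟨a, ha⟩ (mem_top _) ⟨b, hb⟩ (mem_top _)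
    obtain ⟨k, hk⟩ := mem_zpowers_iff.mp this
    rw [mem_zpowers_iff]
    refine ⟨k, ?_⟩
    have := congrArg Subtype.val hk
    simpa [commutatorElement_def] using this
  pow_mem := fun a ha => by
    have := h.pow_mem ⟨a, ha⟩ (mem_top _)
    obtain ⟨k, hk⟩ := mem_zpowers_iff.mp this
    rw [mem_zpowers_iff]
    refine ⟨k, ?_⟩
    have := congrArg Subtype.val hk
    simpa using this
  center := fun a ha hab => by
    have := h.center ⟨a, ha⟩ (mem_top _) (fun b _ => Subtype.ext (hab b b.2))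
    obtain ⟨k, hk⟩ := mem_zpowers_iff.mp this
    rw [mem_zpowers_iff]
    refine ⟨k, ?_⟩
    have := congrArg Subtype.val hk
    simpa using this

/-- powers of an involution. -/
theorem mem_zpowers_of_sq {x c : G} (hxx : x * x = 1) (hc : c ∈ zpowers x) : c = 1 ∨ c = x := by
  obtain ⟨k, rfl⟩ := Subgroup.mem_zpowers_iff.mp hc
  rcases Int.even_or_odd k with ⟨j, rfl⟩ | ⟨j, rfl⟩
  · left
    rw [← two_mul, zpow_mul, zpow_ofNat, pow_two, hxx, one_zpow]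
  · right
    rw [zpow_add, zpow_one, zpow_mul, zpow_ofNat, pow_two, hxx, one_zpow, one_mul]

namespace Setup

variable {H : Subgroup G} {z : G}

/-- some translate of `T` by an element of the radical normalizes a subgroup of order `5`. -/
theorem exists_normalizing [Finite G] (S : Setup H z) (T : G) :
    ∃ x : G, orderOf x = 5 ∧ ∃ n ∈ H, (n * T) * x * (n * T)⁻¹ ∈ zpowers x := by
  have : Fact (Nat.Prime 5) := ⟨by norm_num⟩
  have hn := S.nrm
  obtain ⟨x, hx⟩ := exists_prime_orderOf_dvd_card' (G := G) 5 (by rw [S.cardG]; norm_num)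
  refine ⟨x, hx, ?_⟩
  have hPcard : Nat.card (zpowers x) = 5 := by rw [Nat.card_zpowers, hx]
  have hPN : zpowers x ≤ normalizer (H : Set G) := by rw [normalizer_eq_top]; exact le_top
  have hcop : (Nat.card H).Coprime (Nat.card (zpowers x)) := by
    rw [S.cardH, hPcard]; norm_num
  have hLcard := Cfsg.Agent.Lib.Helper01.card_sup_of_coprime_of_le_normalizer H (zpowers x) hPN hcop
  rw [S.cardH, hPcard] at hLcard
  have hLidx : (zpowers x ⊔ H).index = 2 := by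
    have := (zpowers x ⊔ H).card_mul_index
    rw [hLcard, S.cardG] at this
    omega
  have hLn : (zpowers x ⊔ H).Normal := normal_of_index_eq_two hLidx
  have hB : MulAut.conj T • zpowers x ≤ zpowers x ⊔ H := by
    intro b hb
    rw [mem_smul_pointwise_iff_exists] at hb
    obtain ⟨q, hq, rfl⟩ := hb
    rw [MulAut.smul_def, MulAut.conj_apply]
    exact hLn.conj_mem q (mem_sup_left hq) T
  have hBcard : Nat.card (MulAut.conj T • zpowers x : Subgroup G) = Nat.card (zpowers x) :=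
    Cfsg.Agent.Lib.Helper01.card_conj_smul T _
  have hsolv : Group.IsSolvable (zpowers x) := inferInstance
  obtain ⟨n, hnH, hconj⟩ := Cfsg.Agent.Lib.Helper01.conj_by_normal_of_card_eq hPN hcop
    (Or.inr hsolv) hB hBcard
  refine ⟨n, hnH, ?_⟩
  have h1 : MulAut.conj n • (MulAut.conj T • x) ∈ MulAut.conj n • (MulAut.conj T • zpowers x) :=
    smul_mem_pointwise_smul _ _ _ (smul_mem_pointwise_smul _ _ _ (mem_zpowers x))
  rw [hconj] at h1
  have e : MulAut.conj n • (MulAut.conj T • x) = (n * T) * x * (n * T)⁻¹ := by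
    simp only [MulAut.smul_def, MulAut.conj_apply]; group
  rwa [e] at h1

/-- the bound `|DSub T| ≤ 8` for `T` outside the radical. -/
theorem card_DSub_le [Finite G] (S : Setup H z) {T : G} (hT : T ∉ H)
    (h4 : 4 ≤ Nat.card (S.DSub T)) : Nat.card (S.DSub T) ≤ 8 := by
  obtain ⟨x, hx, n, hn, hmem⟩ := S.exists_normalizing T
  have hτ : n * T ∉ H := fun h => hT (by
    have := H.mul_mem (H.inv_mem hn) h
    rwa [inv_mul_cancel_left] at this)
  rw [← S.DSub_mul_left hn T] at h4 ⊢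
  by_cases hc : (n * T) * x * (n * T)⁻¹ = x
  · exfalso
    refine S.caseA hx hτ ?_ h4
    calc x * (n * T) = ((n * T) * x * (n * T)⁻¹) * (n * T) := by rw [hc]
      _ = (n * T) * x := by group
  · exact S.caseB hx hmem hc

/-- if `DSub T` is centralized by the involution `T`, the radical contains an elementary abelian
subgroup of order `8`. -/
theorem exists_E8 [Finite G] (S : Setup H z) {T : G} (hTT : T * T = 1)
    (hDK : S.DSub T ≤ centralizer ({T} : Set G)) (h8 : Nat.card (S.DSub T) ≤ 8) :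
    ∃ A : Subgroup G, A ≤ H ∧ (∀ a ∈ A, ∀ b ∈ A, a * b = b * a) ∧ (∀ a ∈ A, a * a = 1) ∧
      Nat.card A = 8 := by
  have hn := S.nrm
  have hu : ∀ h ∈ H, ⁅T, h⁆ ∈ H ∧ ⁅T, h⁆ * ⁅T, h⁆ = 1 := by
    intro h hh
    have huH : ⁅T, h⁆ ∈ H := by
      rw [commutatorElement_def]
      exact H.mul_mem (hn.conj_mem h hh T) (H.inv_mem hh)
    have hinv : T * ⁅T, h⁆ * T⁻¹ = ⁅T, h⁆⁻¹ := by
      have e1 : T * ⁅T, h⁆ * T⁻¹ = (T * T) * h * T⁻¹ * h⁻¹ * T⁻¹ := by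
        rw [commutatorElement_def]; group
      have e2 : ⁅T, h⁆⁻¹ = h * (T * T) * T⁻¹ * h⁻¹ * T⁻¹ := by
        rw [commutatorElement_def]; group
      rw [e1, e2, hTT, one_mul, mul_one]
    have huD : ⁅T, h⁆ ∈ S.DSub T := by
      refine ⟨huH, ?_⟩
      have e : ⁅T, ⁅T, h⁆⁆ = ⁅T, h⁆⁻¹ * ⁅T, h⁆⁻¹ := by
        conv_lhs => rw [commutatorElement_def, hinv]
      rw [e]
      have := S.xs.pow_mem _ (H.inv_mem huH)
      rwa [pow_two] at this
    have hcent := hDK huD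
    rw [mem_centralizer_iff] at hcent
    have h1 : T * ⁅T, h⁆ = ⁅T, h⁆ * T := hcent T rfl
    have h2 : ⁅T, h⁆⁻¹ = ⁅T, h⁆ := by rw [← hinv, h1, mul_inv_cancel_right]
    refine ⟨huH, ?_⟩
    calc ⁅T, h⁆ * ⁅T, h⁆ = ⁅T, h⁆⁻¹ * ⁅T, h⁆ := by rw [h2]
      _ = 1 := inv_mul_cancel _
  have hlt : 2 * Nat.card (S.DSub T) < Nat.card H := by rw [S.cardH]; omega
  obtain ⟨h1, h1H, h1D, -⟩ := exists_not_mem_union_smul H (S.DSub T) 1 hlt
  obtain ⟨h2, h2H, h2D, h12D⟩ := exists_not_mem_union_smul H (S.DSub T) h1 hlt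
  obtain ⟨hu1H, hu1s⟩ := hu h1 h1H
  obtain ⟨hu2H, hu2s⟩ := hu h2 h2H
  have hu1Z : ⁅T, h1⁆ ∉ zpowers z := fun h => h1D ⟨h1H, h⟩
  have hA0c : ∀ a ∈ zpowers z, ∀ b ∈ zpowers z, a * b = b * a := fun a _ b hb => S.central hb a
  have hA0s : ∀ a ∈ zpowers z, a * a = 1 := fun a ha => S.xs.sq_of_mem_zpowers ha
  obtain ⟨A1, hA1, hA1c, hA1s, hA1card⟩ := exists_adjoin_involution hA0c hA0s
    (x := ⁅T, h1⁆) (fun a ha => S.central ha _) hu1s hu1Z
  -- elements of `A1`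
  have hZN : zpowers z ≤ normalizer (zpowers ⁅T, h1⁆ : Set G) := by
    intro c hc
    rw [mem_normalizer_iff]
    intro h
    rw [← S.central hc h, mul_inv_cancel_right]
  have hA1mem : ∀ a ∈ A1, ∃ c ∈ zpowers z, a = c ∨ a = c * ⁅T, h1⁆ := by
    intro a ha
    rw [hA1] at ha
    obtain ⟨c, hc, k, hk, rfl⟩ := Cfsg.Agent.Lib.Helper01.exists_mul_of_mem_sup hZN ha
    refine ⟨c, hc, ?_⟩
    rcases mem_zpowers_of_sq hu1s hk with rfl | rfl
    · left; rw [mul_one]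
    · right; rfl
  have hu2A1 : ⁅T, h2⁆ ∉ A1 := by
    intro hmem
    obtain ⟨c, hc, e | e⟩ := hA1mem _ hmem
    · exact h2D ⟨h2H, by rw [e]; exact hc⟩
    · apply h12D
      refine ⟨H.mul_mem (H.inv_mem h1H) h2H, ?_⟩
      have e' : ⁅T, h1⁻¹ * h2⁆ = h1⁻¹ * (⁅T, h1⁆⁻¹ * ⁅T, h2⁆) * h1 := by
        simp only [commutatorElement_def]; group
      have e'' : ⁅T, h1⁆⁻¹ * ⁅T, h2⁆ = c := by
        rw [e, ← S.central hc ⁅T, h1⁆, inv_mul_cancel_left]
      rw [e', e'', S.conj_central' hc h1]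
      exact hc
  have hu1inv : ⁅T, h1⁆⁻¹ = ⁅T, h1⁆ := inv_eq_of_mul_eq_one_left hu1s
  have hu2inv : ⁅T, h2⁆⁻¹ = ⁅T, h2⁆ := inv_eq_of_mul_eq_one_left hu2s
  have hu12 : ⁅T, h1⁆ * ⁅T, h2⁆ = ⁅T, h2⁆ * ⁅T, h1⁆ := by
    obtain ⟨-, hws⟩ := hu (h1 * h2) (H.mul_mem h1H h2H)
    have hcZ : ⁅h1, ⁅T, h2⁆⁆ ∈ zpowers z := S.xs.comm_mem h1 h1H _ hu2H
    have e : ⁅T, h1 * h2⁆ = ⁅T, h1⁆ * ⁅h1, ⁅T, h2⁆⁆ * ⁅T, h2⁆ := by
      simp only [commutatorElement_def]; group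
    have e2 : ⁅T, h1⁆ * ⁅T, h2⁆ = ⁅h1, ⁅T, h2⁆⁆⁻¹ * ⁅T, h1 * h2⁆ := by
      rw [e, S.central hcZ ⁅T, h1⁆]; group
    have e3 : (⁅T, h1⁆ * ⁅T, h2⁆) * (⁅T, h1⁆ * ⁅T, h2⁆) = 1 := by
      rw [e2]
      calc ⁅h1, ⁅T, h2⁆⁆⁻¹ * ⁅T, h1 * h2⁆ * (⁅h1, ⁅T, h2⁆⁆⁻¹ * ⁅T, h1 * h2⁆)
          = ⁅h1, ⁅T, h2⁆⁆⁻¹ * (⁅T, h1 * h2⁆ * ⁅h1, ⁅T, h2⁆⁆⁻¹) * ⁅T, h1 * h2⁆ := by group
        _ = ⁅h1, ⁅T, h2⁆⁆⁻¹ * (⁅h1, ⁅T, h2⁆⁆⁻¹ * ⁅T, h1 * h2⁆) * ⁅T, h1 * h2⁆ := by
            rw [S.central (inv_mem hcZ) ⁅T, h1 * h2⁆]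
        _ = (⁅h1, ⁅T, h2⁆⁆⁻¹ * ⁅h1, ⁅T, h2⁆⁆⁻¹) * (⁅T, h1 * h2⁆ * ⁅T, h1 * h2⁆) := by group
        _ = 1 := by rw [hws, S.xs.sq_of_mem_zpowers (inv_mem hcZ), one_mul]
    calc ⁅T, h1⁆ * ⁅T, h2⁆
        = ((⁅T, h1⁆ * ⁅T, h2⁆) * (⁅T, h1⁆ * ⁅T, h2⁆)) * (⁅T, h2⁆⁻¹ * ⁅T, h1⁆⁻¹) := by group
      _ = ⁅T, h2⁆⁻¹ * ⁅T, h1⁆⁻¹ := by rw [e3, one_mul]
      _ = ⁅T, h2⁆ * ⁅T, h1⁆ := by rw [hu1inv, hu2inv]
  have hu2comm : ∀ a ∈ A1, ⁅T, h2⁆ * a = a * ⁅T, h2⁆ := by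
    intro a ha
    obtain ⟨c, hc, rfl | rfl⟩ := hA1mem a ha
    · exact S.central hc _
    · rw [← mul_assoc, S.central hc ⁅T, h2⁆, mul_assoc, mul_assoc, hu12]
  obtain ⟨A2, hA2, hA2c, hA2s, hA2card⟩ := exists_adjoin_involution hA1c hA1s
    (x := ⁅T, h2⁆) hu2comm hu2s hu2A1
  refine ⟨A2, ?_, hA2c, hA2s, ?_⟩
  · rw [hA2, hA1]
    refine sup_le (sup_le S.xs.zpowers_le ?_) ?_
    · exact (zpowers_le).mpr hu1H
    · exact (zpowers_le).mpr hu2H
  · rw [hA2card, hA1card, S.card_zs]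

/-- **Main lemma.** The centralizer in the radical of an involution outside the radical is a
four-group as soon as it contains one. -/
theorem main [Finite G] (S : Setup H z)
    (hminus : ∀ A : Subgroup G, A ≤ H → (∀ a ∈ A, ∀ b ∈ A, a * b = b * a) →
      (∀ a ∈ A, a * a = 1) → Nat.card A ≤ 4)
    {T : G} (hT : orderOf T = 2) (hTH : T ∉ H) {V : Subgroup G}
    (hV : V ≤ H ⊓ centralizer ({T} : Set G)) (hV4 : Nat.card V = 4) :
    V = H ⊓ centralizer ({T} : Set G) := by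
  have hTT : T * T = 1 := by
    have := pow_orderOf_eq_one T
    rwa [hT, pow_two] at this
  have hKD : H ⊓ centralizer ({T} : Set G) ≤ S.DSub T := S.cent_le_DSub T
  have c1 : Nat.card V ≤ Nat.card (H ⊓ centralizer ({T} : Set G) : Subgroup G) := card_le_of_le hV
  have c2 : Nat.card (H ⊓ centralizer ({T} : Set G) : Subgroup G) ≤ Nat.card (S.DSub T) :=
    card_le_of_le hKD
  have c3 : Nat.card (S.DSub T) ≤ 8 := S.card_DSub_le hTH (by omega)
  have hdvd : Nat.card (H ⊓ centralizer ({T} : Set G) : Subgroup G) ∣ 32 := by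
    rw [← S.cardH]; exact card_dvd_of_le inf_le_left
  have hK4 : Nat.card (H ⊓ centralizer ({T} : Set G) : Subgroup G) = 4 := by
    rcases dvd_32_cases hdvd with h | h | h | h | h | h
    · omega
    · omega
    · exact h
    · exfalso
      have hKeq : H ⊓ centralizer ({T} : Set G) = S.DSub T :=
        eq_of_le_of_card_ge hKD (by omega)
      have hDK : S.DSub T ≤ centralizer ({T} : Set G) := by
        rw [← hKeq]; exact inf_le_right
      obtain ⟨A, hAH, hAc, hAs, hA8⟩ := S.exists_E8 hTT hDK c3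
      have := hminus A hAH hAc hAs
      omega
    · omega
    · omega
  exact eq_of_le_of_card_ge hV (by rw [hK4, hV4])

end Setup

end Cfsg.Agent.Lib.Helper32.Ord320
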