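import Cfsg.Agent.Lib.Helper08.OsElA
import Cfsg.Agent.Lib.Helper98.Ti4
import Cfsg.Agent.Lib.Helper98.Sy4

/-!
# K-OsEl-D (keystone 597204, row S5972, architect helper8): existence of invariant totally singular subspaces
when `V1 = ⊤`, by twisting the symmetric form into an alternating one and using helper98's theorems.
-/

set_option autoImplicit false
set_option linter.unusedSectionVars false
set_option linter.unusedVariables false

namespace Cfsg.Agent.Lib.Helper32.OsEl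

open Module Cfsg.Agent.Lib.Helper98.Elus Cfsg.Agent.Lib.Helper98.Sy Cfsg.Agent.Lib.Helper08.OsEl

universe u
variable {F : Type u} [Field F] {V : Type u} [AddCommGroup V] [Module F V]

/-- LEAF D: existence when `V1 = ⊤` (twist + helper98). -/
theorem exists_ts_V1top [Fintype F] [FiniteDimensional F V] {B : LinearMap.BilinForm F V}
    (hS : ∀ x y, B x y = B y x) (hV : NonDeg B ⊤) (p f : ℕ) [Fact p.Prime]
    (hF : Fintype.card F = p ^ f) (r : ℕ) [Fact r.Prime] (hpr : p ≠ r) (hr2 : r ≠ 2)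
    (hrF : (r : F) ≠ 0) (y : V →ₗ[F] V) (hy : y ^ r = 1) (hiso : Iso B y)
    (hV1 : ∀ v, gsum r y v = 0) :
    cOf (orderOf ((Fintype.card F : ℕ) : ZMod r)) ∣ finrank F V ∧
    (Odd (orderOf ((Fintype.card F : ℕ) : ZMod r)) → ∀ b : ℕ,
      2 * (orderOf ((Fintype.card F : ℕ) : ZMod r) * b) ≤ finrank F V →
      ∃ Z : Submodule F V, Inv y Z ∧ Ort B Z Z ∧
        finrank F Z = orderOf ((Fintype.card F : ℕ) : ZMod r) * b) ∧
    (Even (orderOf ((Fintype.card F : ℕ) : ZMod r)) → ∀ b : ℕ,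
      (b = 0 ∨ orderOf ((Fintype.card F : ℕ) : ZMod r) *
        (2 * b + (r - 1) / orderOf ((Fintype.card F : ℕ) : ZMod r)) ≤
        finrank F V + orderOf ((Fintype.card F : ℕ) : ZMod r)) →
      ∃ Z : Submodule F V, Inv y Z ∧ Ort B Z Z ∧
        finrank F Z = orderOf ((Fintype.card F : ℕ) : ZMod r) * b) := by
  have hr : r.Prime := Fact.out
  have hodd : Odd r := hr.odd_of_ne_two hr2
  have htop : (⊤ : Submodule F V) ≤ V1 r y := fun v _ => LinearMap.mem_ker.mpr (hV1 v)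
  have hinvtop : Inv y (⊤ : Submodule F V) := fun _ _ => Submodule.mem_top
  have hA : (tw B r y).IsAlt := tw_alt B hS r hr.pos y hy hiso
  have hAnd : NonDeg (tw B r y) ⊤ := (tw_nonDeg_iff B r hodd hrF y hy ⊤ hinvtop htop).mpr hV
  have hAiso : Iso (tw B r y) y := tw_iso B r y hiso
  refine ⟨?_, ?_, ?_⟩
  · have h := Cfsg.Agent.Lib.Helper98.Sy.cOf_dvd_finrank hA hAnd p f hF r hpr hr2 hrF y hy hAiso ⊤
      htop hinvtop hAnd
    rwa [finrank_top] at h
  · intro hio b hb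
    obtain ⟨Z, -, hZinv, hZort, hZd⟩ := Cfsg.Agent.Lib.Helper98.Ti.exists_ti_odd hA hAnd p f hF r hpr
      hr2 hrF y hy hAiso hio b ⊤ htop hinvtop hAnd (by rwa [finrank_top])
    exact ⟨Z, hZinv, (tw_ort_iff B r hodd hrF y hy Z hZinv (le_trans le_top htop)).mp hZort, hZd⟩
  · intro hie b hb
    obtain ⟨Z, -, hZinv, hZort, hZd⟩ := Cfsg.Agent.Lib.Helper98.Ti.exists_ti_even hA hAnd p f hF r hpr
      hr2 hrF y hy hAiso hie b ⊤ htop hinvtop hAnd (by rwa [finrank_top])
    exact ⟨Z, hZinv, (tw_ort_iff B r hodd hrF y hy Z hZinv (le_trans le_top htop)).mp hZort, hZd⟩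

end Cfsg.Agent.Lib.Helper32.OsEl
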