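import Mathlib
import Cfsg.Prelude.Def_Characters
import Cfsg.Prelude.Def_Blocks
import Cfsg.Agent.Lib.Helper34.PFaithDefs
import Cfsg.Agent.Lib.Helper80.GaloisChar
import Cfsg.Agent.Lib.Helper80.GaloisValues
import Cfsg.Agent.Lib.Helper05.CharValues

/-!
# K-S4489-A: the degree of the field of values of a character of a `p`-group is the number of its
Galois twists `g ↦ χ (g ^ k)`, `p ∤ k`.
-/

set_option autoImplicit false

namespace Cfsg.Agent.Lib.Helper32.PFaith

open Cfsg Cfsg.Agent.Lib.Helper34.PFaith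

universe u

/-- **K-S4489-A** (Galois theory). -/
theorem finrank_adjoin_range_eq_pN {G : Type u} [Group G] [Finite G] (p a : ℕ) (hp : p.Prime) (ha : 0 < a)
    (hG : Nat.card G = p ^ a) {χ : G → ℂ} (hχ : IsCharacter G χ) :
    Module.finrank ℚ (IntermediateField.adjoin ℚ (Set.range χ)) = pN p χ := by
  classical
  have hn0 : 0 < p ^ a := pos_of_ne_zero (pow_ne_zero _ hp.ne_zero)
  have : NeZero (p ^ a) := ⟨hn0.ne'⟩
  -- a primitive root of unity
  obtain ⟨ζ, hζ⟩ : ∃ ζ : ℂ, IsPrimitiveRoot ζ (p ^ a) :=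
    ⟨_, Complex.isPrimitiveRoot_exp (p ^ a) hn0.ne'⟩
  have hζint : IsIntegral ℚ ζ := (hζ.isIntegral hn0).tower_top
  -- values lie in `ℚ(ζ)`
  have hval : ∀ g : G, χ g ∈ IntermediateField.adjoin ℚ ({ζ} : Set ℂ) := by
    intro g
    obtain ⟨d, ρ, rfl⟩ := hχ
    obtain ⟨b, μ, hμ, -, hk, -⟩ :=
      Cfsg.Agent.Lib.Helper05.exists_eigenvalues ρ g (isOfFinOrder_of_finite g)
    have h1 := hk 1
    rw [pow_one] at h1
    rw [h1]
    apply sum_mem
    intro i _
    rw [pow_one]
    have hμn : μ i ^ (p ^ a) = 1 := by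
      obtain ⟨c, hc⟩ : orderOf g ∣ p ^ a := hG ▸ orderOf_dvd_natCard g
      rw [hc, pow_mul, hμ i, one_pow]
    obtain ⟨j, -, hj⟩ := hζ.eq_pow_of_pow_eq_one hμn
    rw [← hj]
    exact pow_mem (IntermediateField.mem_adjoin_simple_self ℚ ζ) j
  have hFle : IntermediateField.adjoin ℚ (Set.range χ) ≤ IntermediateField.adjoin ℚ ({ζ} : Set ℂ) := by
    rw [IntermediateField.adjoin_le_iff]
    rintro x ⟨g, rfl⟩
    exact hval g
  have : FiniteDimensional ℚ (IntermediateField.adjoin ℚ ({ζ} : Set ℂ)) :=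
    IntermediateField.adjoin.finiteDimensional hζint
  have : FiniteDimensional ℚ (IntermediateField.adjoin ℚ (Set.range χ)) :=
    Module.Finite.of_injective (IntermediateField.inclusion hFle).toLinearMap
      (IntermediateField.inclusion hFle).injective
  -- the map from embeddings to twists
  let Φ : (IntermediateField.adjoin ℚ (Set.range χ) →ₐ[ℚ] ℂ) → (G → ℂ) :=
    fun φ g => φ ⟨χ g, IntermediateField.subset_adjoin ℚ _ ⟨g, rfl⟩⟩
  have hΦinj : Function.Injective Φ := by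
    intro φ₁ φ₂ h
    apply IntermediateField.adjoin_algHom_ext ℚ
    rintro x ⟨g, rfl⟩
    exact congrFun h g
  have hcop : ∀ k : ℕ, ¬ p ∣ k ↔ k.Coprime (p ^ a) := by
    intro k
    constructor
    · intro h
      exact Nat.Coprime.pow_right a ((Nat.Prime.coprime_iff_not_dvd hp).2 h).symm
    · intro h hpk
      have h1 : p ∣ Nat.gcd k (p ^ a) := Nat.dvd_gcd hpk (dvd_pow_self p ha.ne')
      rw [h] at h1
      exact hp.one_lt.ne' (Nat.dvd_one.mp h1)
  have hrange : Set.range Φ = porbit p χ := by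
    ext f
    constructor
    · rintro ⟨φ, rfl⟩
      obtain ⟨ψ, hψ⟩ := IntermediateField.exists_algHom_adjoin_of_splits (F := ℚ) (E := ℂ) (K := ℂ)
        (S := ({ζ} : Set ℂ))
        (fun s hs => ⟨by rw [Set.mem_singleton_iff.mp hs]; exact hζint, IsAlgClosed.splits _⟩) φ hFle
      have hζ' : IsPrimitiveRoot
          (⟨ζ, IntermediateField.mem_adjoin_simple_self ℚ ζ⟩ : IntermediateField.adjoin ℚ ({ζ} : Set ℂ))
          (p ^ a) := IsPrimitiveRoot.coe_submonoidClass_iff.mp hζ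
      have hψζ : IsPrimitiveRoot (ψ ⟨ζ, IntermediateField.mem_adjoin_simple_self ℚ ζ⟩) (p ^ a) :=
        hζ'.map_of_injective ψ.toRingHom.injective
      obtain ⟨k, -, hk⟩ := hζ.eq_pow_of_pow_eq_one hψζ.pow_eq_one
      have hkc : k.Coprime (p ^ a) := by
        rw [← hk] at hψζ
        exact (hζ.pow_iff_coprime hn0 k).mp hψζ
      obtain ⟨τ, hτ⟩ := Cfsg.Agent.Lib.Helper80.exists_ringEquiv_pow (p ^ a) hn0 k hkc
      have hψeq : ψ = ((τ : ℂ →+* ℂ).toRatAlgHom).comp (IntermediateField.adjoin ℚ ({ζ} : Set ℂ)).val := by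
        apply IntermediateField.adjoin_algHom_ext ℚ
        intro x hx
        rw [Set.mem_singleton_iff] at hx
        subst hx
        rw [← hk]
        simp only [AlgHom.coe_comp, Function.comp_apply, IntermediateField.coe_val,
          RingHom.toRatAlgHom_apply]  
        exact (hτ x hζ.pow_eq_one).symm
      refine ⟨k, (hcop k).mpr hkc, ?_⟩
      funext g
      show φ ⟨χ g, _⟩ = χ (g ^ k)
      have h1 : φ ⟨χ g, IntermediateField.subset_adjoin ℚ _ ⟨g, rfl⟩⟩ =
          ψ (IntermediateField.inclusion hFle ⟨χ g, IntermediateField.subset_adjoin ℚ _ ⟨g, rfl⟩⟩) := by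
        rw [← hψ]
        rfl
      rw [h1, hψeq]
      have h2 := Cfsg.Agent.Lib.Helper80.char_pow_eq_apply hχ k (τ : ℂ →+* ℂ)
        (by intro z hz; rw [hG] at hz; exact hτ z hz) g
      rw [h2]
      rfl
    · rintro ⟨k, hk, rfl⟩
      have hkc : k.Coprime (p ^ a) := (hcop k).mp hk
      obtain ⟨τ, hτ⟩ := Cfsg.Agent.Lib.Helper80.exists_ringEquiv_pow (p ^ a) hn0 k hkc
      refine ⟨((τ : ℂ →+* ℂ).toRatAlgHom).comp (IntermediateField.adjoin ℚ (Set.range χ)).val, ?_⟩
      funext g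
      have h2 := Cfsg.Agent.Lib.Helper80.char_pow_eq_apply hχ k (τ : ℂ →+* ℂ)
        (by intro z hz; rw [hG] at hz; exact hτ z hz) g
      show _ = χ (g ^ k)
      rw [h2]
      rfl
  rw [pN, ← hrange, ← Nat.card_coe_set_eq, Nat.card_range_of_injective hΦinj,
    AlgHom.natCard_of_splits ℚ _ ℂ (fun _ => IsAlgClosed.splits _)]

end Cfsg.Agent.Lib.Helper32.PFaith
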