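import Mathlib
import Cfsg.Agent.Lib.Helper34.PSLDefs

/-!
# K-S4472-1: three inequalities for Schur's bound `lam p n`
-/

set_option autoImplicit false
set_option linter.unusedVariables false

namespace Cfsg.Agent.Lib.Helper32.PSL

open Cfsg.Agent.Lib.Helper34.PSL

/-- **K-S4472-1a** -/
theorem lam_mono (p : ℕ) (hp : p.Prime) {m n : ℕ} (h : m ≤ n) : lam p m ≤ lam p n := by
  unfold lam
  calc ∑ i ∈ Finset.range (m + 1), m / ((p - 1) * p ^ i)
      ≤ ∑ i ∈ Finset.range (m + 1), n / ((p - 1) * p ^ i) :=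
        Finset.sum_le_sum (fun i _ => Nat.div_le_div_right h)
    _ ≤ ∑ i ∈ Finset.range (n + 1), n / ((p - 1) * p ^ i) :=
        Finset.sum_le_sum_of_subset (Finset.range_mono (by omega))

/-- extending the range of summation can only increase the sum -/
theorem lam_le_sum_range (p m N : ℕ) (h : m + 1 ≤ N) :
    lam p m ≤ ∑ i ∈ Finset.range N, m / ((p - 1) * p ^ i) := by
  unfold lam
  exact Finset.sum_le_sum_of_subset (Finset.range_mono h)

/-- **K-S4472-1b** -/
theorem lam_add (p : ℕ) (hp : p.Prime) (m n : ℕ) : lam p m + lam p n ≤ lam p (m + n) := by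
  have h1 := lam_le_sum_range p m (m + n + 1) (by omega)
  have h2 := lam_le_sum_range p n (m + n + 1) (by omega)
  have h3 : ∑ i ∈ Finset.range (m + n + 1), m / ((p - 1) * p ^ i) +
      ∑ i ∈ Finset.range (m + n + 1), n / ((p - 1) * p ^ i) ≤ lam p (m + n) := by
    unfold lam
    rw [← Finset.sum_add_distrib]
    exact Finset.sum_le_sum (fun i _ => Nat.div_add_div_le_add_div)
  omega

/-- geometric series bound: `(p-1) ∑_{1 ≤ i ≤ N} ⌊u/p^i⌋ + 1 ≤ u` for `u ≥ 1` -/
theorem sum_div_pow_bound (p : ℕ) (hp : p.Prime) :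
    ∀ (N u : ℕ), 1 ≤ u → (p - 1) * ∑ i ∈ Finset.range N, u / p ^ (i + 1) + 1 ≤ u := by
  have hp0 : 0 < p := hp.pos
  intro N
  induction N with
  | zero =>
    intro u hu
    simpa using hu
  | succ N ih =>
    intro u hu
    rw [Finset.sum_range_succ']
    have hterm : ∀ i : ℕ, u / p ^ (i + 1 + 1) = (u / p) / p ^ (i + 1) := by
      intro i
      rw [Nat.div_div_eq_div_mul, pow_succ' p (i + 1)]
    rw [Finset.sum_congr rfl (fun i _ => hterm i)]
    simp only [zero_add, pow_one]
    have hpv : p * (u / p) ≤ u := Nat.mul_div_le u p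
    rcases Nat.eq_zero_or_pos (u / p) with hv | hv
    · rw [hv]
      simp only [Nat.zero_div, Finset.sum_const_zero, add_zero, mul_zero, zero_add]
      exact hu
    · have h1 := ih (u / p) hv
      have h2 : (p - 1) * (∑ i ∈ Finset.range N, u / p / p ^ (i + 1) + u / p) + 1 =
          ((p - 1) * ∑ i ∈ Finset.range N, u / p / p ^ (i + 1) + 1) + (p - 1) * (u / p) := by
        ring
      rw [h2]
      have h3 : (p - 1) * (u / p) + u / p = p * (u / p) := by
        have : p - 1 + 1 = p := by omega
        calc (p - 1) * (u / p) + u / p = (p - 1 + 1) * (u / p) := by ring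
          _ = p * (u / p) := by rw [this]
      omega

/-- **K-S4472-1c** -/
theorem lam_mul_p (p : ℕ) (hp : p.Prime) {m : ℕ} (hm : 1 ≤ m) : p * lam p m + 1 ≤ lam p (p * m) := by
  have hp2 : 2 ≤ p := hp.two_le
  have hp0 : 0 < p := hp.pos
  have hp1 : 0 < p - 1 := by omega
  -- step 1: `lam p (p m) ≥ ⌊p m/(p-1)⌋ + lam p m`
  have hstep1 : (p * m) / (p - 1) + lam p m ≤ lam p (p * m) := by
    have e : lam p (p * m) = ∑ i ∈ Finset.range (p * m), (p * m) / ((p - 1) * p ^ (i + 1)) +
        (p * m) / ((p - 1) * p ^ 0) := by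
      unfold lam
      rw [Finset.sum_range_succ']
    rw [e]
    have hterm : ∀ i : ℕ, (p * m) / ((p - 1) * p ^ (i + 1)) = m / ((p - 1) * p ^ i) := by
      intro i
      have : (p - 1) * p ^ (i + 1) = p * ((p - 1) * p ^ i) := by rw [pow_succ]; ring
      rw [this, Nat.mul_div_mul_left _ _ hp0]
    rw [Finset.sum_congr rfl (fun i _ => hterm i)]
    have hle : m + 1 ≤ p * m := by nlinarith
    have := lam_le_sum_range p m (p * m) hle
    simp only [pow_zero, mul_one]
    omega
  -- step 2: `⌊p m/(p-1)⌋ = m + u`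
  set u := m / (p - 1) with hu
  have hdiv : (p * m) / (p - 1) = m + u := by
    have : p * m = m + (p - 1) * m := by
      have : p = (p - 1) + 1 := by omega
      calc p * m = ((p - 1) + 1) * m := by rw [← this]
        _ = m + (p - 1) * m := by ring
    rw [this, Nat.add_mul_div_left _ _ hp1, add_comm]
  -- step 3: `lam p m = u + ∑_{i < m} ⌊u/p^(i+1)⌋`
  have hlam : lam p m = ∑ i ∈ Finset.range m, u / p ^ (i + 1) + u := by
    unfold lam
    rw [Finset.sum_range_succ']
    simp only [pow_zero, mul_one]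
    congr 1
    apply Finset.sum_congr rfl
    intro i _
    rw [hu, Nat.div_div_eq_div_mul]
  have humul : (p - 1) * u ≤ m := Nat.mul_div_le m (p - 1)
  -- the key bound `(p-1) lam p m + 1 ≤ m + u`
  have hkey : (p - 1) * lam p m + 1 ≤ m + u := by
    rcases Nat.eq_zero_or_pos u with h0 | hpos
    · rw [hlam, h0]
      simp only [Nat.zero_div, Finset.sum_const_zero, add_zero, mul_zero, zero_add]
      omega
    · have hb := sum_div_pow_bound p hp m u hpos
      rw [hlam, mul_add]
      omega
  have hsplit : p * lam p m = (p - 1) * lam p m + lam p m := by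
    have : p = (p - 1) + 1 := by omega
    calc p * lam p m = ((p - 1) + 1) * lam p m := by rw [← this]
      _ = (p - 1) * lam p m + lam p m := by ring
  rw [hdiv] at hstep1
  omega

end Cfsg.Agent.Lib.Helper32.PSL
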