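import Mathlib
import Cfsg.Agent.Lib.Helper01.Hall
import Cfsg.Agent.Lib.Helper81.PSolvable
import Cfsg.Agent.Lib.Helper32.PiNumber

set_option autoImplicit false

namespace Cfsg.Agent.Lib.Helper32

open scoped Pointwise
open Cfsg.Agent.Lib.Helper01

universe u

/-- The three parts of Hall's theorem for one coprime factorisation `|G| = m n`. -/
def HallAt (G : Type u) [Group G] (m n : ℕ) : Prop :=
  (∃ H : Subgroup G, Nat.card H = m) ∧
  (∀ H K : Subgroup G, Nat.card H = m → Nat.card K = m → ∃ g : G, MulAut.conj g • H = K) ∧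
  (∀ K : Subgroup G, (Nat.card K).Coprime n → ∃ H : Subgroup G, Nat.card H = m ∧ K ≤ H)

/-- Lifting `HallAt` through a normal subgroup whose order divides `m`
(adapted from helper1's `hall_case1`). -/
theorem hallAt_case1 {G : Type u} [Group G] [Finite G] (P : Subgroup G) [P.Normal] (m n m' : ℕ)
    (hG : Nat.card G = m * n) (hmn : m.Coprime n) (hm' : m = Nat.card P * m')
    (IH : HallAt (G ⧸ P) m' n) : HallAt G m n := by
  have hcpos : 0 < Nat.card P := Nat.card_pos
  let f : G →* G ⧸ P := QuotientGroup.mk' P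
  have hf : Function.Surjective f := QuotientGroup.mk'_surjective P
  have hker : f.ker = P := QuotientGroup.ker_mk' P
  obtain ⟨hE, hC, hD⟩ := IH
  have hcomap : ∀ B : Subgroup (G ⧸ P), Nat.card B = m' → Nat.card (B.comap f) = m := by
    intro B hB
    rw [card_comap_of_surjective f hf, hB, hker, hm', mul_comm]
  have hmapcard : ∀ X : Subgroup G, Nat.card X = m → Nat.card (X.map f) = m' ∧ P ≤ X := by
    intro X hX
    have hPX : P ≤ X := normal_le_of_card_dvd P X m n hG hmn hX (Dvd.intro _ hm'.symm)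
    refine ⟨?_, hPX⟩
    have h1 := card_map_mul_card_ker_of_le f X (hker.le.trans hPX)
    rw [hker, hX, hm', mul_comm] at h1
    exact Nat.eq_of_mul_eq_mul_left hcpos h1
  refine ⟨?_, ?_, ?_⟩
  · obtain ⟨B, hB⟩ := hE
    exact ⟨B.comap f, hcomap B hB⟩
  · intro H K hH hK
    obtain ⟨hHbar, hPH⟩ := hmapcard H hH
    obtain ⟨hKbar, hPK⟩ := hmapcard K hK
    obtain ⟨q, hq⟩ := hC (H.map f) (K.map f) hHbar hKbar
    obtain ⟨g, hg⟩ := conj_of_conj_map f hf ⟨q, hq⟩
    rw [hker] at hg
    refine ⟨g, ?_⟩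
    have h1 : P ≤ MulAut.conj g • H := by
      have : MulAut.conj g • P ≤ MulAut.conj g • H :=
        Subgroup.pointwise_smul_le_pointwise_smul_iff.mpr hPH
      rwa [conj_smul_normal] at this
    rwa [sup_of_le_left h1, sup_of_le_left hPK] at hg
  · intro K hK
    have hKbar : (Nat.card (K.map f)).Coprime n :=
      Nat.Coprime.coprime_dvd_left (Subgroup.card_map_dvd K f) hK
    obtain ⟨B, hB, hKB⟩ := hD (K.map f) hKbar
    exact ⟨B.comap f, hcomap B hB, Subgroup.map_le_iff_le_comap.mp hKB⟩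

/-- Lifting `HallAt` through a solvable normal subgroup whose order divides `n`
(adapted from helper1's `hall_case2`). -/
theorem hallAt_case2 {G : Type u} [Group G] [Finite G] (P : Subgroup G) [P.Normal] (m n n' : ℕ)
    (hmn : m.Coprime n) (hn' : n = Nat.card P * n')
    (hPsolv : Group.IsSolvable P) (IH : HallAt (G ⧸ P) m n') : HallAt G m n := by
  have hcpos : 0 < Nat.card P := Nat.card_pos
  let f : G →* G ⧸ P := QuotientGroup.mk' P
  have hf : Function.Surjective f := QuotientGroup.mk'_surjective P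
  have hker : f.ker = P := QuotientGroup.ker_mk' P
  have hmc : m.Coprime (Nat.card P) := Nat.Coprime.coprime_dvd_right (Dvd.intro _ hn'.symm) hmn
  obtain ⟨hE, hC, hD⟩ := IH
  have hnormP : ∀ L : Subgroup G, L ≤ Subgroup.normalizer (P : Set G) := by
    intro L; rw [Subgroup.normalizer_eq_top]; exact le_top
  have hPcomap : ∀ B : Subgroup (G ⧸ P), P ≤ B.comap f := by
    intro B x hx
    rw [Subgroup.mem_comap, MonoidHom.mem_ker.mp (hker.ge hx)]
    exact B.one_mem
  have hlift : ∀ B : Subgroup (G ⧸ P), Nat.card B = m →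
      ∃ H : Subgroup G, H ≤ B.comap f ∧ Nat.card H = m := by
    intro B hB
    apply sz_exists_in (B.comap f) P (hPcomap B) (hnormP _) m _ hmc.symm
    rw [card_comap_of_surjective f hf, hB, hker, mul_comm]
  have hmapcard : ∀ X : Subgroup G, (Nat.card X).Coprime (Nat.card P) →
      Nat.card (X.map f) = Nat.card X := by
    intro X hX
    exact card_map_of_coprime f X (hker.symm ▸ hX)
  refine ⟨?_, ?_, ?_⟩
  · obtain ⟨B, hB⟩ := hE
    obtain ⟨H, -, hH⟩ := hlift B hB
    exact ⟨H, hH⟩
  · intro H K hH hK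
    have hHbar : Nat.card (H.map f) = m := by rw [hmapcard H (hH.symm ▸ hmc), hH]
    have hKbar : Nat.card (K.map f) = m := by rw [hmapcard K (hK.symm ▸ hmc), hK]
    obtain ⟨q, hq⟩ := hC (H.map f) (K.map f) hHbar hKbar
    obtain ⟨g, hg⟩ := conj_of_conj_map f hf ⟨q, hq⟩
    rw [hker] at hg
    set H₁ : Subgroup G := MulAut.conj g • H with hH₁def
    have hH₁card : Nat.card H₁ = m := by rw [card_conj_smul, hH]
    have hLcard : Nat.card (K ⊔ P : Subgroup G) = Nat.card P * Nat.card H₁ := by
      rw [card_sup_of_coprime P K (hK.symm ▸ hmc.symm), hK, hH₁card]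
    obtain ⟨g', -, hg'⟩ := sz_conj_in (K ⊔ P) P H₁ K le_sup_right (hg ▸ le_sup_left) le_sup_left
      (hnormP _) hLcard (hH₁card.symm ▸ hmc.symm) (by rw [hK, hH₁card]) (Or.inl hPsolv)
    refine ⟨g' * g, ?_⟩
    rw [← conj_smul_conj_smul, hg']
  · intro K hK
    have hKc : (Nat.card K).Coprime (Nat.card P) :=
      Nat.Coprime.coprime_dvd_right (Dvd.intro _ hn'.symm) hK
    have hKn' : (Nat.card K).Coprime n' :=
      Nat.Coprime.coprime_dvd_right (Dvd.intro_left _ hn'.symm) hK
    have hKbarcard : Nat.card (K.map f) = Nat.card K := hmapcard K hKc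
    obtain ⟨B, hB, hKB⟩ := hD (K.map f) (hKbarcard.symm ▸ hKn')
    obtain ⟨H₀, hH₀L, hH₀⟩ := hlift B hB
    have hH₀map : H₀.map f = B := by
      apply Subgroup.eq_of_le_of_card_ge (Subgroup.map_le_iff_le_comap.mpr hH₀L)
      rw [hmapcard H₀ (hH₀.symm ▸ hmc), hH₀, hB]
    set K' : Subgroup G := H₀ ⊓ (K.map f).comap f with hK'def
    have hK'map : K'.map f = K.map f := by
      rw [hK'def, map_inf_comap_eq, hH₀map, inf_of_le_right hKB]
    have hK'H₀ : K' ≤ H₀ := inf_le_left
    have hK'c : (Nat.card K').Coprime (Nat.card P) :=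
      Nat.Coprime.coprime_dvd_left (Subgroup.card_dvd_of_le hK'H₀) (hH₀.symm ▸ hmc)
    have hK'card : Nat.card K' = Nat.card K := by
      rw [← hmapcard K' hK'c, hK'map, hKbarcard]
    have hK'L : K' ≤ K ⊔ P := by
      have : K' ≤ (K.map f).comap f := inf_le_right
      rwa [Subgroup.comap_map_eq, hker] at this
    have hLcard : Nat.card (K ⊔ P : Subgroup G) = Nat.card P * Nat.card K' := by
      rw [card_sup_of_coprime P K hKc.symm, hK'card]
    obtain ⟨x, -, hx⟩ := sz_conj_in (K ⊔ P) P K' K le_sup_right hK'L le_sup_left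
      (hnormP _) hLcard (hK'card.symm ▸ hKc.symm) hK'card.symm (Or.inl hPsolv)
    refine ⟨MulAut.conj x • H₀, by rw [card_conj_smul, hH₀], ?_⟩
    rw [← hx]
    exact Subgroup.pointwise_smul_le_pointwise_smul_iff.mpr hK'H₀


/-- Hall `p'`-subgroups of a finite `p`-solvable group: existence, conjugacy, dominance. -/
theorem hallAt_of_isPSolvable_aux (p : ℕ) (hp : p.Prime) (N : ℕ) : ∀ (G : Type u) [Group G]
    [Finite G], Cfsg.IsPSolvable p G → Nat.card G = N → ∀ m a : ℕ, Nat.card G = m * p ^ a →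
    m.Coprime p → HallAt G m (p ^ a) := by
  induction N using Nat.strong_induction_on with
  | _ N ih =>
  intro G _ _ hG hN m a hmn hcop
  have hpf : Fact p.Prime := ⟨hp⟩
  have hcop' : m.Coprime (p ^ a) := Nat.Coprime.pow_right a hcop
  by_cases htriv : Nat.card G = 1
  · have hm1 : m = 1 := by
      have : m * p ^ a = 1 := by rw [← hmn, htriv]
      exact Nat.eq_one_of_mul_eq_one_right this
    have hsub : ∀ X : Subgroup G, Nat.card X = 1 := by
      intro X
      have := Subgroup.card_le_card_group X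
      rw [htriv] at this
      exact le_antisymm this Nat.card_pos
    refine ⟨⟨⊥, by rw [hm1]; exact hsub ⊥⟩, ?_, ?_⟩
    · intro H K _ _
      refine ⟨1, ?_⟩
      rw [Subgroup.card_eq_one.mp (hsub H), Subgroup.card_eq_one.mp (hsub K), map_one, one_smul]
    · intro K _
      exact ⟨⊤, by rw [hm1]; exact hsub ⊤, le_top⟩
  · have hnontriv : Nontrivial G := by
      rw [← Finite.one_lt_card_iff_nontrivial]
      have : 0 < Nat.card G := Nat.card_pos
      omega
    have hne : (⊥ : Subgroup G) ≠ ⊤ := bot_ne_top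
    obtain ⟨Y, hYn, -, -, hYne, hY⟩ :=
      Cfsg.Agent.Lib.Helper81.IsPSolvable.exists_normal_between hp hG ⊥ ⊤ bot_le hne
    rw [Subgroup.relIndex_bot_left] at hY
    have hYcard1 : 1 < Nat.card Y := by
      rcases Nat.lt_or_ge 1 (Nat.card Y) with h | h
      · exact h
      · exfalso
        have hpos : 0 < Nat.card Y := Nat.card_pos
        exact hYne (Subgroup.card_eq_one.mp (le_antisymm h hpos)).symm
    have hcardQ : Nat.card G = Nat.card (G ⧸ Y) * Nat.card Y :=
      Subgroup.card_eq_card_quotient_mul_card_subgroup Y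
    have hQlt : Nat.card (G ⧸ Y) < N := by
      rw [← hN, hcardQ]
      have hpos : 0 < Nat.card (G ⧸ Y) := Nat.card_pos
      nlinarith
    have hQ : Cfsg.IsPSolvable p (G ⧸ Y) := Cfsg.Agent.Lib.Helper81.IsPSolvable.quotient hp hG Y
    have hdvd : Nat.card Y ∣ m * p ^ a := by
      rw [← hmn]; exact Subgroup.card_subgroup_dvd_card Y
    rcases hY with ⟨j, hj⟩ | hYc
    · -- `Y` is a `p`-group
      have hYm : (Nat.card Y).Coprime m := by
        rw [hj]; exact (Nat.Coprime.pow_right j hcop).symm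
      have hYdvd : Nat.card Y ∣ p ^ a := hYm.dvd_of_dvd_mul_left hdvd
      have hja : j ≤ a := by
        rw [hj] at hYdvd
        exact (Nat.pow_dvd_pow_iff_le_right hp.one_lt).mp hYdvd
      have hn' : p ^ a = Nat.card Y * p ^ (a - j) := by
        rw [hj, ← pow_add, Nat.add_sub_cancel' hja]
      have hQcard : Nat.card (G ⧸ Y) = m * p ^ (a - j) := by
        have : Nat.card (G ⧸ Y) * Nat.card Y = (m * p ^ (a - j)) * Nat.card Y := by
          rw [← hcardQ, hmn, hn']; ring
        exact Nat.eq_of_mul_eq_mul_right (by omega) this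
      have hYp : IsPGroup p Y := IsPGroup.of_card hj
      have hYnil : Group.IsNilpotent Y := hYp.isNilpotent
      have hYsolv : Group.IsSolvable Y := inferInstance
      exact hallAt_case2 Y m (p ^ a) (p ^ (a - j)) hcop' hn' hYsolv
        (ih _ hQlt (G ⧸ Y) hQ rfl m (a - j) hQcard hcop)
    · -- `Y` is a `p'`-group
      have hYpa : (Nat.card Y).Coprime (p ^ a) := Nat.Coprime.pow_right a hYc
      obtain ⟨m', hm'⟩ := hYpa.dvd_of_dvd_mul_right hdvd
      have hQcard : Nat.card (G ⧸ Y) = m' * p ^ a := by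
        have : Nat.card (G ⧸ Y) * Nat.card Y = (m' * p ^ a) * Nat.card Y := by
          rw [← hcardQ, hmn, hm']; ring
        exact Nat.eq_of_mul_eq_mul_right (by omega) this
      have hm'cop : m'.Coprime p := Nat.Coprime.coprime_dvd_left (Dvd.intro_left _ hm'.symm) hcop
      exact hallAt_case1 Y m (p ^ a) m' hmn hcop' hm'
        (ih _ hQlt (G ⧸ Y) hQ rfl m' a hQcard hm'cop)

theorem hallAt_of_isPSolvable {p : ℕ} (hp : p.Prime) {G : Type u} [Group G] [Finite G]
    (hG : Cfsg.IsPSolvable p G) (m a : ℕ) (hmn : Nat.card G = m * p ^ a) (hcop : m.Coprime p) :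
    HallAt G m (p ^ a) :=
  hallAt_of_isPSolvable_aux p hp _ G hG rfl m a hmn hcop

end Cfsg.Agent.Lib.Helper32
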