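import Mathlib

/-!
# K-S2716-G2 (keystone 271602, architect helper7): `D/I` of order 2, `y ∈ D \ I` ⇒ `D ≤ I ⊔ ⟨y⟩`.
-/

set_option autoImplicit false
set_option linter.unusedVariables false

namespace Cfsg.Agent.Lib.Helper32.S2716K

lemma zmod2_eq_of_ne_one : ∀ a b : Multiplicative (ZMod 2), a ≠ 1 → b ≠ 1 → a = b := by
  decide

/-- K-S2716-G2: D/I of order 2, y ∈ D \ I. -/
theorem cover_C2 {A : Type*} [Group A] (I D : Subgroup A) (hID : I ≤ D)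
    (φ : ↥D →* Multiplicative (ZMod 2)) (hφ : Function.Surjective φ)
    (hker : φ.ker = I.subgroupOf D)
    (y : A) (hyD : y ∈ D) (hyI : y ∉ I) : D ≤ I ⊔ Subgroup.zpowers y := by
  intro d hd
  have hy1 : φ ⟨y, hyD⟩ ≠ 1 := by
    intro h
    have hm : (⟨y, hyD⟩ : D) ∈ φ.ker := h
    rw [hker, Subgroup.mem_subgroupOf] at hm
    exact hyI hm
  by_cases hd1 : φ ⟨d, hd⟩ = 1
  · have hm : (⟨d, hd⟩ : D) ∈ φ.ker := hd1
    rw [hker, Subgroup.mem_subgroupOf] at hm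
    exact Subgroup.mem_sup_left hm
  · have heq : φ ⟨d, hd⟩ = φ ⟨y, hyD⟩ := zmod2_eq_of_ne_one _ _ hd1 hy1
    have hm : ((⟨d, hd⟩ : D) * (⟨y, hyD⟩ : D)⁻¹) ∈ φ.ker := by
      rw [MonoidHom.mem_ker, map_mul, map_inv, heq, mul_inv_cancel]
    rw [hker, Subgroup.mem_subgroupOf] at hm
    have hm' : d * y⁻¹ ∈ I := hm
    have hd' : d = (d * y⁻¹) * y := by group
    rw [hd']
    exact Subgroup.mul_mem_sup hm' (Subgroup.mem_zpowers y)

end Cfsg.Agent.Lib.Helper32.S2716K
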