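import Mathlib
import Cfsg.Prelude.Def_Characters
import Cfsg.Agent.Lib.Helper84.Clifford
import Cfsg.Agent.Lib.Helper84.SigmaExt
import Cfsg.Agent.Lib.Helper21.CliffordMid
import Cfsg.Agent.Lib.Helper83.Abelian
import Cfsg.Agent.Lib.Helper83.Linear
import Cfsg.Agent.Lib.Helper83.SecondOrth

/-!
# K-S4751-B: coset Parseval (keystone 47512, architect helper82)

`N ⊴ G` abelian, `χ ∈ Irr(G)` of degree `|N| - 1` whose restriction to `N` contains every
nontrivial `θ ∈ Irr(N)` with multiplicity one.  Then for every `g`: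
`∑_{x ∈ N} |χ(g x)|² = |N| · (#{θ ∈ Irr(N) : θ^g = θ} - 1)`.

Proof: Clifford correspondence (`χ = ψ^G`, `ψ` linear on the inertia group `T` of a nontrivial
`λ ∈ Irr N`), the explicit formula for the induced character on the coset `g N`, and the first
orthogonality relation on `N`.
-/

set_option autoImplicit false
set_option linter.unusedSectionVars false
set_option linter.unusedDecidableInType false
set_option linter.style.haveILetI false

namespace Cfsg.Agent.Lib.Helper32.S4751

open Cfsg Cfsg.Agent.Lib.Helper84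
open scoped ComplexConjugate

universe u

attribute [local instance] Classical.propDecidable

/-- A character all of whose irreducible constituents equal `lam`, with multiplicity one, is
`lam`. -/
theorem char_eq_of_unique_constituent {N : Type u} [Group N] [Fintype N] {A : N → ℂ}
    (hA : IsCharacter N A) (lam : IrrCharacter N)
    (h1 : classInner A (lam : N → ℂ) = 1)
    (h2 : ∀ μ : IrrCharacter N, classInner A (μ : N → ℂ) ≠ 0 → μ = lam) :
    A = (lam : N → ℂ) := by
  haveI : Fintype (IrrCharacter N) := Fintype.ofFinite _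
  have hdec := Cfsg.Agent.Lib.Helper83.char_eq_sum_irrMult hA
  refine hdec.trans ?_
  rw [Finset.sum_eq_single lam]
  · rw [Cfsg.Agent.Lib.Helper83.irrMult_cast hA, h1, one_smul]
  · intro μ _ hμ
    rw [Cfsg.Agent.Lib.Helper83.irrMult_cast hA]
    have : classInner A (μ : N → ℂ) = 0 := by
      by_contra h
      exact hμ (h2 μ h)
    rw [this, zero_smul]
  · intro h
    exact absurd (Finset.mem_univ _) h

section Core

variable {G : Type u} [Group G] [Fintype G] (N : Subgroup G) [hN : N.Normal] [Fintype N]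
  (T : Subgroup G) [Fintype T] (hNT : N ≤ T)

/-- Pointwise formula for a character induced from a linear character of `T ≥ N` on a coset of
`N`. -/
theorem indFun_coset_apply {lam : N → ℂ} {ψ : T → ℂ}
    (hmul : ∀ a b : T, ψ (a * b) = ψ a * ψ b)
    (hres : ∀ n : N, lam n = ψ ⟨(n : G), hNT n.2⟩) (g : G) (x : N) :
    indFun T ψ (g * x) = (Nat.card T : ℂ)⁻¹ *
      ∑ h : G, extendByZero T ψ (h * g * h⁻¹) * Helper84.conjFun N h lam x := by
  rw [Cfsg.Agent.Lib.Helper34.indFun_apply]
  congr 1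
  rw [← Equiv.sum_comp (Equiv.inv G)]
  refine Finset.sum_congr rfl fun h _ => ?_
  simp only [Equiv.inv_apply, inv_inv]
  have e : h * (g * x) * h⁻¹ = (h * g * h⁻¹) * (h * x * h⁻¹) := by group
  have hx : h * x * h⁻¹ ∈ T := hNT (hN.conj_mem x x.2 h)
  by_cases hm : h * g * h⁻¹ ∈ T
  · rw [e, Cfsg.Agent.Lib.Helper34.extendByZero_apply_mem T ψ (T.mul_mem hm hx),
      Cfsg.Agent.Lib.Helper34.extendByZero_apply_mem T ψ hm, conjFun_apply, hres]
    exact hmul ⟨_, hm⟩ ⟨_, hx⟩
  · have hm' : h * (g * x) * h⁻¹ ∉ T := by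
      intro hc
      apply hm
      have := T.mul_mem hc (T.inv_mem hx)
      rwa [e, mul_inv_cancel_right] at this
    rw [Cfsg.Agent.Lib.Helper34.extendByZero_apply_not_mem T ψ hm',
      Cfsg.Agent.Lib.Helper34.extendByZero_apply_not_mem T ψ hm, zero_mul]

/-- First orthogonality for the conjugates of an irreducible character of `N`. -/
theorem sum_conjFun_orth {lam : N → ℂ} (hlam : IsIrrCharacter N lam) (h k : G) :
    ∑ x : N, Helper84.conjFun N h lam x * conj (Helper84.conjFun N k lam x) =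
      if Helper84.conjFun N h lam = Helper84.conjFun N k lam then (Nat.card N : ℂ) else 0 := by
  have h1 := classInner_irr_irr (isIrrCharacter_conjFun N h hlam)
    (isIrrCharacter_conjFun N k hlam)
  rw [classInner] at h1
  have hne : (Nat.card N : ℂ) ≠ 0 := by exact_mod_cast (Nat.card_pos (α := N)).ne'
  have h2 : ∑ x : N, Helper84.conjFun N h lam x * conj (Helper84.conjFun N k lam x) =
      (Nat.card N : ℂ) * (if Helper84.conjFun N h lam = Helper84.conjFun N k lam then 1 else 0) := by
    rw [← h1, ← mul_assoc, mul_inv_cancel₀ hne, one_mul]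
  rw [h2]
  split_ifs <;> simp

/-- The fibres of `h ↦ λ^h` have `|T|` elements, `T` the inertia group. -/
theorem card_fibre {lam : N → ℂ} (hT : ∀ h : G, h ∈ T ↔ Helper84.conjFun N h lam = lam) (h : G) :
    ∑ k : G, (if Helper84.conjFun N h lam = Helper84.conjFun N k lam then (1 : ℂ) else 0) = (Nat.card T : ℂ) := by
  have h1 : ∀ k : G, (Helper84.conjFun N h lam = Helper84.conjFun N k lam) ↔ k * h⁻¹ ∈ T := by
    intro k
    rw [hT, conjFun_mul]
    constructor
    · intro hh
      rw [← hh, conjFun_inv_conjFun]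
    · intro hh
      have := congrArg (Helper84.conjFun N h) hh
      rw [conjFun_conjFun_inv] at this
      exact this.symm
  simp_rw [h1]
  rw [← Equiv.sum_comp (Equiv.mulRight h)]
  simp only [Equiv.coe_mulRight, mul_inv_cancel_right]
  rw [Finset.sum_ite, Finset.sum_const_zero, add_zero, Finset.sum_const, nsmul_eq_mul, mul_one,
    Nat.card_eq_fintype_card, Fintype.card_subtype]


/-- The coset sum of `|ψ^G|²` for a linear `ψ` on the inertia group `T` of `λ = ψ|_N`. -/
theorem core_sum {lam : N → ℂ} (hlam : IsIrrCharacter N lam) {ψ : T → ℂ}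
    (hmul : ∀ a b : T, ψ (a * b) = ψ a * ψ b)
    (hnorm : ∀ a : T, ψ a * conj (ψ a) = 1)
    (hcl : IsClassFunction T ψ)
    (hres : ∀ n : N, lam n = ψ ⟨(n : G), hNT n.2⟩)
    (hT : ∀ h : G, h ∈ T ↔ Helper84.conjFun N h lam = lam) (g : G) :
    ∑ x : N, indFun T ψ (g * x) * conj (indFun T ψ (g * x)) =
      (Nat.card N : ℂ) * (Nat.card T : ℂ)⁻¹ * (Nat.card {h : G // h * g * h⁻¹ ∈ T} : ℂ) := by
  obtain ⟨a, ha⟩ : ∃ a : ℂ, a = (Nat.card T : ℂ)⁻¹ := ⟨_, rfl⟩
  obtain ⟨c, hc⟩ : ∃ c : G → ℂ, ∀ h, c h = extendByZero T ψ (h * g * h⁻¹) := ⟨_, fun _ => rfl⟩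
  have hconja : conj a = a := by rw [ha, map_inv₀, Complex.conj_natCast]
  have hTne : (Nat.card T : ℂ) ≠ 0 := by exact_mod_cast (Nat.card_pos (α := T)).ne'
  have hc_norm : ∀ h, c h * conj (c h) = if h * g * h⁻¹ ∈ T then 1 else 0 := by
    intro h
    by_cases hm : h * g * h⁻¹ ∈ T
    · rw [if_pos hm, hc, Cfsg.Agent.Lib.Helper34.extendByZero_apply_mem T ψ hm]
      exact hnorm _
    · rw [if_neg hm, hc, Cfsg.Agent.Lib.Helper34.extendByZero_apply_not_mem T ψ hm, zero_mul]
  have hc_eq : ∀ h k, Helper84.conjFun N h lam = Helper84.conjFun N k lam → c k = c h := by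
    intro h k hhk
    have ht : k * h⁻¹ ∈ T := by
      rw [hT, conjFun_mul, ← hhk, conjFun_inv_conjFun]
    have hk : k * g * k⁻¹ = (k * h⁻¹) * (h * g * h⁻¹) * (k * h⁻¹)⁻¹ := by group
    rw [hc, hc]
    by_cases hm : h * g * h⁻¹ ∈ T
    · have hm' : k * g * k⁻¹ ∈ T := by
        rw [hk]
        exact T.mul_mem (T.mul_mem ht hm) (T.inv_mem ht)
      rw [Cfsg.Agent.Lib.Helper34.extendByZero_apply_mem T ψ hm',
        Cfsg.Agent.Lib.Helper34.extendByZero_apply_mem T ψ hm]
      have := hcl ⟨_, hm⟩ ⟨_, ht⟩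
      rw [← this]
      congr 1
      exact Subtype.ext hk
    · have hm' : k * g * k⁻¹ ∉ T := by
        intro hc'
        apply hm
        have e : h * g * h⁻¹ = (k * h⁻¹)⁻¹ * (k * g * k⁻¹) * (k * h⁻¹) := by group
        rw [e]
        exact T.mul_mem (T.mul_mem (T.inv_mem ht) hc') ht
      rw [Cfsg.Agent.Lib.Helper34.extendByZero_apply_not_mem T ψ hm',
        Cfsg.Agent.Lib.Helper34.extendByZero_apply_not_mem T ψ hm]
  have hF : ∀ x : N, indFun T ψ (g * x) = a * ∑ h : G, c h * Helper84.conjFun N h lam x := by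
    intro x
    rw [indFun_coset_apply N T hNT hmul hres g x, ha]
    congr 1
    exact Finset.sum_congr rfl fun h _ => by rw [hc]
  calc ∑ x : N, indFun T ψ (g * x) * conj (indFun T ψ (g * x))
      = ∑ x : N, (a * a) * ∑ h : G, ∑ k : G, (c h * conj (c k)) *
          (Helper84.conjFun N h lam x * conj (Helper84.conjFun N k lam x)) := by
        refine Finset.sum_congr rfl fun x _ => ?_
        rw [hF x, map_mul, hconja, map_sum, mul_mul_mul_comm, Finset.sum_mul_sum]
        congr 1
        refine Finset.sum_congr rfl fun h _ => Finset.sum_congr rfl fun k _ => ?_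
        rw [map_mul]
        ring
    _ = (a * a) * ∑ h : G, ∑ k : G, (c h * conj (c k)) *
          ∑ x : N, (Helper84.conjFun N h lam x * conj (Helper84.conjFun N k lam x)) := by
        rw [← Finset.mul_sum]
        congr 1
        rw [Finset.sum_comm]
        refine Finset.sum_congr rfl fun h _ => ?_
        rw [Finset.sum_comm]
        refine Finset.sum_congr rfl fun k _ => ?_
        rw [Finset.mul_sum]
    _ = (a * a) * ∑ h : G, ∑ k : G, (if h * g * h⁻¹ ∈ T then (1 : ℂ) else 0) * (Nat.card N : ℂ) *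
          (if Helper84.conjFun N h lam = Helper84.conjFun N k lam then (1 : ℂ) else 0) := by
        congr 1
        refine Finset.sum_congr rfl fun h _ => Finset.sum_congr rfl fun k _ => ?_
        rw [sum_conjFun_orth N hlam h k]
        by_cases hhk : Helper84.conjFun N h lam = Helper84.conjFun N k lam
        · rw [if_pos hhk, if_pos hhk, hc_eq h k hhk, hc_norm h]
          ring
        · rw [if_neg hhk, if_neg hhk]
          ring
    _ = (a * a) * ∑ h : G, (if h * g * h⁻¹ ∈ T then (1 : ℂ) else 0) * (Nat.card N : ℂ) *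
          (Nat.card T : ℂ) := by
        congr 1
        refine Finset.sum_congr rfl fun h _ => ?_
        rw [← Finset.mul_sum, card_fibre N T hT h]
    _ = _ := by
        rw [← Finset.sum_mul, ← Finset.sum_mul, Finset.sum_boole,
          Nat.card_eq_fintype_card (α := {h : G // h * g * h⁻¹ ∈ T}), Fintype.card_subtype, ha]
        field_simp


/-- Counting `{h : h g h⁻¹ ∈ T}` through the fibres of `h ↦ λ^h`, when `G` is transitive on the
nontrivial irreducible characters of `N`. -/
theorem count_fixed {lam : N → ℂ} (hlam : IsIrrCharacter N lam) (hlam1 : lam ≠ fun _ => 1)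
    (hT : ∀ h : G, h ∈ T ↔ Helper84.conjFun N h lam = lam)
    (htrans : ∀ θ : N → ℂ, IsIrrCharacter N θ → θ ≠ (fun _ => 1) →
      ∃ h : G, Helper84.conjFun N h lam = θ) (g : G) :
    (Nat.card {h : G // h * g * h⁻¹ ∈ T} : ℂ) = (Nat.card T : ℂ) *
      ((Nat.card {θ : IrrCharacter N //
        Helper84.conjFun N g (θ : N → ℂ) = (θ : N → ℂ)} : ℂ) - 1) := by
  haveI : Fintype (IrrCharacter N) := Fintype.ofFinite _
  have hS : ∀ h : G, h * g * h⁻¹ ∈ T ↔
      Helper84.conjFun N g (Helper84.conjFun N h lam) = Helper84.conjFun N h lam := by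
    intro h
    rw [hT, conjFun_mul, conjFun_mul]
    constructor
    · intro hh
      have := congrArg (Helper84.conjFun N h) hh
      rwa [conjFun_conjFun_inv] at this
    · intro hh
      rw [hh, conjFun_inv_conjFun]
  obtain ⟨Θ, hΘ⟩ : ∃ Θ : G → IrrCharacter N, ∀ h, (Θ h : N → ℂ) = Helper84.conjFun N h lam :=
    ⟨fun h => ⟨Helper84.conjFun N h lam, isIrrCharacter_conjFun N h hlam⟩, fun _ => rfl⟩
  obtain ⟨P, hP⟩ : ∃ P : IrrCharacter N → Prop, ∀ θ, P θ ↔
      Helper84.conjFun N g (θ : N → ℂ) = (θ : N → ℂ) := ⟨_, fun _ => Iff.rfl⟩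
  have htrivfun : ((Cfsg.Agent.Lib.Helper83.trivChar N : IrrCharacter N) : N → ℂ) = fun _ => 1 :=
    rfl
  have hPtriv : P (Cfsg.Agent.Lib.Helper83.trivChar N) := by
    rw [hP, htrivfun]
    rfl
  -- fibre counts
  have hfib : ∀ θ : IrrCharacter N, ∑ h : G, (if θ = Θ h then (1 : ℂ) else 0) =
      if θ = Cfsg.Agent.Lib.Helper83.trivChar N then 0 else (Nat.card T : ℂ) := by
    intro θ
    by_cases hθ : θ = Cfsg.Agent.Lib.Helper83.trivChar N
    · rw [if_pos hθ]
      apply Finset.sum_eq_zero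
      intro h _
      rw [if_neg]
      intro hh
      apply hlam1
      have h1 : Helper84.conjFun N h lam = fun _ => 1 := by
        rw [← hΘ h, ← hh, hθ, htrivfun]
      have h2 := congrArg (Helper84.conjFun N h⁻¹) h1
      rw [conjFun_inv_conjFun] at h2
      rw [h2]
      rfl
    · rw [if_neg hθ]
      have hne : (θ : N → ℂ) ≠ fun _ => 1 := by
        intro hh
        apply hθ
        apply Subtype.ext
        rw [hh, htrivfun]
      obtain ⟨h0, hh0⟩ := htrans θ θ.2 hne
      rw [← card_fibre N T hT h0]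
      refine Finset.sum_congr rfl fun h _ => ?_
      have : θ = Θ h ↔ Helper84.conjFun N h0 lam = Helper84.conjFun N h lam := by
        rw [hh0, ← hΘ h]
        exact Subtype.ext_iff
      rw [if_congr this rfl rfl]
  have hcardS : (Nat.card {h : G // h * g * h⁻¹ ∈ T} : ℂ) =
      ∑ h : G, (if P (Θ h) then (1 : ℂ) else 0) := by
    rw [Nat.card_eq_fintype_card, Fintype.card_subtype, Finset.card_filter, Nat.cast_sum]
    refine Finset.sum_congr rfl fun h _ => ?_
    have : h * g * h⁻¹ ∈ T ↔ P (Θ h) := by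
      rw [hS, hP, hΘ]
    rw [if_congr this rfl rfl]
    simp
  have hcardP : (Nat.card {θ : IrrCharacter N //
      Helper84.conjFun N g (θ : N → ℂ) = (θ : N → ℂ)} : ℂ) =
      ∑ θ : IrrCharacter N, (if P θ then (1 : ℂ) else 0) := by
    rw [Nat.card_eq_fintype_card, Fintype.card_subtype, Finset.card_filter, Nat.cast_sum]
    refine Finset.sum_congr rfl fun θ _ => ?_
    rw [if_congr (hP θ).symm rfl rfl]
    simp
  rw [hcardS, hcardP]
  calc ∑ h : G, (if P (Θ h) then (1 : ℂ) else 0)
      = ∑ h : G, ∑ θ : IrrCharacter N, (if θ = Θ h then (if P θ then (1 : ℂ) else 0) else 0) := by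
        refine Finset.sum_congr rfl fun h _ => ?_
        rw [Finset.sum_ite_eq' Finset.univ (Θ h) (fun θ => if P θ then (1 : ℂ) else 0),
          if_pos (Finset.mem_univ _)]
    _ = ∑ θ : IrrCharacter N, (if P θ then (1 : ℂ) else 0) *
          ∑ h : G, (if θ = Θ h then (1 : ℂ) else 0) := by
        rw [Finset.sum_comm]
        refine Finset.sum_congr rfl fun θ _ => ?_
        rw [Finset.mul_sum]
        refine Finset.sum_congr rfl fun h _ => ?_
        split_ifs <;> simp
    _ = ∑ θ : IrrCharacter N, (Nat.card T : ℂ) * ((if P θ then (1 : ℂ) else 0) -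
          (if θ = Cfsg.Agent.Lib.Helper83.trivChar N then (1 : ℂ) else 0)) := by
        refine Finset.sum_congr rfl fun θ _ => ?_
        rw [hfib θ]
        by_cases hθ : θ = Cfsg.Agent.Lib.Helper83.trivChar N
        · rw [if_pos hθ, if_pos hθ, if_pos (hθ ▸ hPtriv)]
          ring
        · rw [if_neg hθ, if_neg hθ]
          ring
    _ = _ := by
        rw [← Finset.mul_sum, Finset.sum_sub_distrib,
          Finset.sum_ite_eq' Finset.univ (Cfsg.Agent.Lib.Helper83.trivChar N) (fun _ => (1 : ℂ)),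
          if_pos (Finset.mem_univ _)]

end Core

/-- **K-S4751-B** (coset Parseval). -/
theorem sum_normSq_coset {G : Type u} [Group G] [Fintype G] (N : Subgroup G) [N.Normal] [Fintype N]
    (hcomm : ∀ a b : N, a * b = b * a) {χ : G → ℂ} (hχ : IsIrrCharacter G χ)
    (hdeg : χ 1 = (Nat.card N : ℂ) - 1)
    (hmult : ∀ θ : N → ℂ, IsIrrCharacter N θ → θ ≠ (fun _ => 1) →
      classInner (fun n : N => χ n) θ = 1) (g : G) :
    ∑ x : N, Complex.normSq (χ (g * x)) =
      (Nat.card N : ℝ) *
        ((Nat.card {θ : IrrCharacter N //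
          Cfsg.Agent.Lib.Helper84.conjFun N g (θ : N → ℂ) = (θ : N → ℂ)} : ℝ) - 1) := by
  haveI : Fintype (IrrCharacter N) := Fintype.ofFinite _
  -- `|N| ≠ 1`
  have hχ1 : χ 1 ≠ 0 := Cfsg.Agent.Lib.Helper83.irr_degree_ne_zero ⟨χ, hχ⟩
  have hN1 : Nat.card N ≠ 1 := by
    intro h
    apply hχ1
    rw [hdeg, h]
    simp
  -- `#Irr N = |N|`
  have hcardIrr : Fintype.card (IrrCharacter N) = Nat.card N := by
    have h := Cfsg.Agent.Lib.Helper83.sum_irr_degree_sq (G := N)
    have h' : ∑ θ : IrrCharacter N, ((θ : N → ℂ) 1) ^ 2 = (Fintype.card (IrrCharacter N) : ℂ) := by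
      rw [Finset.sum_congr rfl (fun θ _ => by
        rw [Cfsg.Agent.Lib.Helper83.irr_degree_one_of_comm hcomm θ, one_pow])]
      simp
    rw [h'] at h
    exact_mod_cast h
  have hlt : 1 < Fintype.card (IrrCharacter N) := by
    rw [hcardIrr]
    have := Nat.card_pos (α := N)
    omega
  obtain ⟨lamI, hlamI⟩ :=
    Fintype.exists_ne_of_one_lt_card hlt (Cfsg.Agent.Lib.Helper83.trivChar N)
  obtain ⟨lam, hlam⟩ := lamI
  have hlam1 : lam ≠ fun _ => 1 := by
    intro h
    apply hlamI
    apply Subtype.ext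
    exact h
  have hlamc : IsCharacter N lam := Cfsg.Agent.Lib.Helper83.isCharacter_of_irr hlam
  have hlamcl : IsClassFunction N lam := Cfsg.Agent.Lib.Helper83.char_isClassFunction hlamc
  -- transitivity
  have h1lam : classInner (fun n : N => χ n) lam ≠ 0 := by
    rw [hmult lam hlam hlam1]
    exact one_ne_zero
  have htrans : ∀ θ : N → ℂ, IsIrrCharacter N θ → θ ≠ (fun _ => 1) →
      ∃ h : G, Helper84.conjFun N h lam = θ := by
    intro θ hθ hθ1
    exact clifford_exists_conj N hχ hlam hθ h1lam (by rw [hmult θ hθ hθ1]; exact one_ne_zero)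
  -- the inertia group
  have hNT : N ≤ inertiaSub N lam := le_inertiaSub N hlamcl
  have hT : ∀ h : G, h ∈ inertiaSub N lam ↔ Helper84.conjFun N h lam = lam :=
    fun h => mem_inertiaSub N lam h
  generalize inertiaSub N lam = T at hNT hT
  haveI : Fintype T := Fintype.ofFinite _
  have hI : ∀ h : G, Helper84.conjFun N h lam = lam → h ∈ T := fun h hh => (hT h).2 hh
  obtain ⟨ψ, hψ, hψ1, hψind⟩ :=
    Cfsg.Agent.Lib.Helper21.exists_indFun_mid_eq N T hNT hlam hI hχ h1lam
  have hψc : IsCharacter T ψ := Cfsg.Agent.Lib.Helper83.isCharacter_of_irr hψ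
  have hψcl : IsClassFunction T ψ := Cfsg.Agent.Lib.Helper83.char_isClassFunction hψc
  -- `ψ|_N = λ`
  have hmid := Cfsg.Agent.Lib.Helper21.classInner_indFun_mid N T hNT hlam hI hψ hψ1
  rw [hψind, hmult lam hlam hlam1] at hmid
  have hstab : ∀ t ∈ T, Helper84.conjFun N t lam = lam := fun t ht => (hT t).1 ht
  have hresEq : resFun N T hNT ψ = lam := by
    refine char_eq_of_unique_constituent (isCharacter_resFun N T hNT hψc) ⟨lam, hlam⟩
      hmid.symm ?_
    intro μ hμ
    apply Subtype.ext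
    exact eq_of_constituent_of_stable N T hNT hlam hstab hψ hψ1 μ.2 hμ
  have hres : ∀ n : N, lam n = ψ ⟨(n : G), hNT n.2⟩ := by
    intro n
    rw [← hresEq]
    rfl
  have hψone : ψ 1 = 1 := by
    have h1 : lam 1 = 1 := Cfsg.Agent.Lib.Helper83.irr_degree_one_of_comm hcomm ⟨lam, hlam⟩
    rw [hres 1] at h1
    rw [← h1]
    congr 1
  have hmul := Cfsg.Agent.Lib.Helper83.char_deg_one_mul hψc hψone
  have hnorm := Cfsg.Agent.Lib.Helper83.char_deg_one_conj_mul hψc hψone
  have hcore := core_sum N T hNT hlam hmul hnorm hψcl hres hT g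
  have hcount := count_fixed N T hlam hlam1 hT htrans g
  rw [hψind, hcount] at hcore
  have hTne : (Nat.card T : ℂ) ≠ 0 := by exact_mod_cast (Nat.card_pos (α := T)).ne'
  apply Complex.ofReal_injective
  rw [Complex.ofReal_sum]
  have hns : ∀ x : N, ((Complex.normSq (χ (g * x)) : ℝ) : ℂ) = χ (g * x) * conj (χ (g * x)) :=
    fun x => (Complex.mul_conj _).symm
  rw [Finset.sum_congr rfl (fun x _ => hns x), hcore]
  push_cast
  field_simp

end Cfsg.Agent.Lib.Helper32.S4751
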