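import Mathlib
import Cfsg.Prelude.Def_Classical
import Cfsg.Prelude.Def_GeometricClasses
import Cfsg.Agent.Lib.Helper49.SLODefs
import Cfsg.Agent.Lib.Helper26.SpO1
import Cfsg.Agent.Lib.Helper08.GOPlus
import Cfsg.Agent.Lib.Helper08.GOMinus
import Cfsg.Agent.Lib.Helper08.GOOdd

/-!
# Keystone 598102 (K-SLO-2): the order of `O(Q)` from a model isometry
-/

set_option autoImplicit false
set_option linter.unusedSectionVars false

namespace Cfsg.Agent.Lib.Helper32.SLO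

open Matrix

variable {F : Type*} [Field F] [Fintype F]

/-- scaling a form by a non-zero constant does not change its isometry group -/
theorem isometryGroup_smul {ι : Type} [Fintype ι] [DecidableEq ι] (c : F) (hc : c ≠ 0)
    (Q : (ι → F) → F) :
    Cfsg.isometryGroup F (fun v => c * Q v) = Cfsg.isometryGroup F Q := by
  ext g
  constructor
  · intro h u v
    have := h u v
    exact mul_left_cancel₀ hc this
  · intro h u v
    have := h u v
    show c * Q _ = c * Q _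
    exact congrArg (fun t => c * t) this

theorem card_of_plus_model {q : ℕ} (hq : Fintype.card F = q) (n m : ℕ) (hm : 1 ≤ m)
    (Q : (Fin n → F) → F) (φ : (Fin n → F) ≃ₗ[F] (Fin m ⊕ Fin m → F))
    (hφ : ∀ v, Cfsg.quadFormPlus m F (φ v) = Q v) :
    Nat.card (Cfsg.isometryGroup F Q) =
      2 * q ^ (m * (m - 1)) * (q ^ m - 1) * ∏ j ∈ Finset.range (m - 1), (q ^ (2 * (j + 1)) - 1) := by
  rw [Cfsg.Agent.Lib.Helper26.SpO.card_isometryGroup_congr Q (Cfsg.quadFormPlus m F) φ hφ]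
  exact Cfsg.Agent.Lib.Helper08.card_GOplus hq m hm

theorem card_of_minus_model {q : ℕ} (hq : Fintype.card F = q) (n m : ℕ) (a b : F)
    (hab : ∀ x y : F, x ^ 2 + a * x * y + b * y ^ 2 = 0 → x = 0 ∧ y = 0)
    (Q : (Fin n → F) → F) (φ : (Fin n → F) ≃ₗ[F] ((Fin m ⊕ Fin m) ⊕ Fin 2 → F))
    (hφ : ∀ v, Cfsg.quadFormMinus m F a b (φ v) = Q v) :
    Nat.card (Cfsg.isometryGroup F Q) =
      2 * q ^ ((m + 1) * m) * (q ^ (m + 1) + 1) * ∏ j ∈ Finset.range m, (q ^ (2 * (j + 1)) - 1) := by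
  rw [Cfsg.Agent.Lib.Helper26.SpO.card_isometryGroup_congr Q (Cfsg.quadFormMinus m F a b) φ hφ]
  exact Cfsg.Agent.Lib.Helper08.card_GOminus' hq m a b hab

theorem card_of_odd_model {q : ℕ} (hq : Fintype.card F = q) (hodd : Odd q) (n m : ℕ) (c : F)
    (hc : c ≠ 0) (Q : (Fin n → F) → F) (φ : (Fin n → F) ≃ₗ[F] (Unit ⊕ (Fin m ⊕ Fin m) → F))
    (hφ : ∀ v, c * Cfsg.quadFormOdd m F (φ v) = Q v) :
    Nat.card (Cfsg.isometryGroup F Q) =
      2 * q ^ (m ^ 2) * ∏ j ∈ Finset.range m, (q ^ (2 * (j + 1)) - 1) := by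
  rw [Cfsg.Agent.Lib.Helper26.SpO.card_isometryGroup_congr Q
    (fun w => c * Cfsg.quadFormOdd m F w) φ hφ, isometryGroup_smul c hc]
  exact Cfsg.Agent.Lib.Helper08.card_GOodd hq hodd m

end Cfsg.Agent.Lib.Helper32.SLO
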