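import Mathlib
import Cfsg.Prelude.Def_GeometricClasses
import Cfsg.Agent.Lib.Helper87.SU3Defs

/-!
# Keystone 577806 (K-SU3-C6): `diag(-1,-1,1) ∉ stab InY5`, `t' a t'` not in the Heisenberg group
-/

set_option autoImplicit false
set_option linter.unusedSectionVars false
set_option linter.unusedVariables false
set_option linter.style.haveILetI false

namespace Cfsg.Agent.Lib.Helper32.SU3K

open Cfsg Cfsg.Geo Matrix Cfsg.Agent.Lib.Helper87.SU3

variable {F : Type*} [Field F] [Fintype F]

local notation "M3" => Matrix (Fin 3) (Fin 3) F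
local notation "G3" => GL (Fin 3) F

theorem charP_five (hF : Fintype.card F = 25) : CharP F 5 := by
  obtain ⟨p, hp⟩ := CharP.exists F
  obtain ⟨n, hpp, hn⟩ := FiniteField.card F p
  have h1 : p ∣ 5 ^ 2 := by
    have : p ∣ p ^ (n : ℕ) := dvd_pow_self p n.ne_zero
    rw [← hn, hF] at this
    exact this
  have h2 : p = 5 := (Nat.prime_dvd_prime_iff_eq hpp (by norm_num)).mp (hpp.dvd_of_dvd_pow h1)
  exact h2 ▸ hp

theorem five_eq_zero (hF : Fintype.card F = 25) : (5 : F) = 0 := by
  haveI := charP_five hF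
  have := CharP.cast_eq_zero F 5
  exact_mod_cast this

theorem bM_pow_three : (bM : M3) ^ 3 = 1 := by
  ext i j
  fin_cases i <;> fin_cases j <;>
    simp [bM, pow_succ, Matrix.mul_apply, Fin.sum_univ_three]

theorem bM_pow_row (k : ℕ) : ((bM : M3) ^ k) 0 0 = 0 ∨ ((bM : M3) ^ k) 0 1 = 0 := by
  have hk : (bM : M3) ^ k = bM ^ (k % 3) := by
    conv_lhs => rw [← Nat.div_add_mod k 3, pow_add, pow_mul, bM_pow_three, one_pow, one_mul]
  rw [hk]
  have h3 : k % 3 < 3 := Nat.mod_lt _ (by norm_num)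
  interval_cases (k % 3)
  · right; simp
  · right; simp [bM]
  · left; simp [bM, pow_succ, Matrix.mul_apply, Fin.sum_univ_three]

theorem aM_eq_diagonal (ω : F) : aM ω = Matrix.diagonal ![1, ω, ω ^ 2] := by
  ext i j
  fin_cases i <;> fin_cases j <;> simp [aM]

theorem three_ne_zero' (hF : Fintype.card F = 25) : (3 : F) ≠ 0 := by
  haveI := charP_five hF
  intro h
  have h3 : ((3 : ℕ) : F) = 0 := by exact_mod_cast h
  have := (CharP.cast_eq_zero_iff F 5 3).mp h3
  omega

theorem t5m_sq (hF : Fintype.card F = 25) : (t5m : M3) * t5m = 1 := by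
  have h5 := five_eq_zero hF
  ext i j
  fin_cases i <;> fin_cases j <;>
    simp [t5m, Matrix.mul_apply, Fin.sum_univ_three] <;>
    first
      | linear_combination 5 * h5
      | linear_combination 2 * h5

theorem tat_not_heis (hF : Fintype.card F = 25) (ω : F) (hω : ω ^ 2 + ω + 1 = 0) :
    ¬ ∃ i j k : ℕ, t5m * aM ω * t5m = ω ^ i • (aM ω ^ j * bM ^ k) := by
  rintro ⟨i, j, k, h⟩
  have h5 := five_eq_zero hF
  have e00 : (t5m * aM ω * t5m : M3) 0 0 = 9 + 16 * ω + ω ^ 2 := by
    simp [t5m, aM, Matrix.mul_apply, Fin.sum_univ_three]; ring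
  have e01 : (t5m * aM ω * t5m : M3) 0 1 = 12 + 12 * ω + ω ^ 2 := by
    simp [t5m, aM, Matrix.mul_apply, Fin.sum_univ_three]; ring
  have h00 := congrFun (congrFun h 0) 0
  have h01 := congrFun (congrFun h 0) 1
  rw [e00] at h00
  rw [e01] at h01
  rw [aM_eq_diagonal, Matrix.diagonal_pow] at h00 h01
  simp only [Matrix.smul_apply, Matrix.diagonal_mul, smul_eq_mul] at h00 h01
  rcases bM_pow_row (F := F) k with hb | hb
  · rw [hb, mul_zero, mul_zero] at h00
    have : (3 : F) = 0 := by linear_combination h00 - hω - (3 * ω + 1) * h5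
    exact three_ne_zero' hF this
  · rw [hb, mul_zero, mul_zero] at h01
    have h1 : 1 + ω = 0 := by linear_combination h01 - hω - (2 + 2 * ω) * h5
    have : (1 : F) = 0 := by linear_combination hω - ω * h1
    exact one_ne_zero this

theorem d5m_out (hF : Fintype.card F = 25) (ω : F) (hω : ω ^ 2 + ω + 1 = 0) :
    ∃ s : G3, (s : M3) = d5m ∧ s ∈ SU3 F 5 ∧ s ∉ stab InY5 := by
  have h5 := five_eq_zero hF
  have hsq : (d5m : M3) * d5m = 1 := by
    ext i j
    fin_cases i <;> fin_cases j <;> simp [d5m]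
  refine ⟨⟨d5m, d5m, hsq, hsq⟩, rfl, ⟨?_, ?_⟩, ?_⟩
  · intro u v
    simp only [Units.coeHom_apply]
    simp [hermForm, Fin.sum_univ_three, d5m, Matrix.mulVec, dotProduct]
    ring
  · show Matrix.GeneralLinearGroup.det _ = 1
    apply Units.ext
    rw [Matrix.GeneralLinearGroup.val_det_apply]
    simp [d5m, Matrix.det_fin_three]
  · intro hs
    set lam : F := 1 + 3 * ω with hlam
    have hlam6 : lam ^ 6 = 2 := by
      rw [hlam]
      linear_combination (324 + 54 * ω - 243 * ω ^ 2 + 729 * ω ^ 3 + 729 * ω ^ 4) * hω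
        - (65 + 72 * ω) * h5
    have hv := hs ![lam, lam, -lam]
    have hw : (d5m : M3) *ᵥ ![lam, lam, -lam] = ![-lam, -lam, -lam] := by
      ext i
      fin_cases i <;> simp [d5m, Matrix.mulVec, dotProduct, Fin.sum_univ_three]
    change InY5 ((d5m : M3) *ᵥ ![lam, lam, -lam]) ↔ InY5 ![lam, lam, -lam] at hv
    rw [hw] at hv
    have h1 : InY5 ![lam, lam, -lam] := by
      refine ⟨?_, Or.inr ⟨?_, ?_⟩⟩
      · simp only [nrm, Matrix.cons_val_zero, Matrix.cons_val_one, Matrix.cons_val_two,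
          Matrix.head_cons, Matrix.tail_cons]
        linear_combination 3 * hlam6 + h5
      · simp only [prd, Matrix.cons_val_zero, Matrix.cons_val_one, Matrix.cons_val_two,
          Matrix.head_cons, Matrix.tail_cons]
        linear_combination hlam6
      · simp only [prd, cub, Matrix.cons_val_zero, Matrix.cons_val_one, Matrix.cons_val_two,
          Matrix.head_cons, Matrix.tail_cons]
        linear_combination (-(lam ^ 12 + 2 * lam ^ 6 + 4)) * hlam6 - 2 * h5
    obtain ⟨-, h2 | h2⟩ := hv.mpr h1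
    · have hc := h2.1
      simp only [cub, Matrix.cons_val_zero, Matrix.cons_val_one, Matrix.cons_val_two,
          Matrix.head_cons, Matrix.tail_cons] at hc
      have : (3 : F) = 0 := by linear_combination (-3 * lam ^ 3) * hc - 9 * hlam6 - 3 * h5
      exact three_ne_zero' hF this
    · have hc := h2.2
      simp only [prd, cub, Matrix.cons_val_zero, Matrix.cons_val_one, Matrix.cons_val_two,
          Matrix.head_cons, Matrix.tail_cons] at hc
      have : (1 : F) = 0 := by
        linear_combination (-1) * hc + 27 * (lam ^ 12 + 2 * lam ^ 6 + 4) * hlam6 + 43 * h5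
      exact one_ne_zero this

/-- 577806 K-SU3-C6. -/
theorem m10_out (hF : Fintype.card F = 25) (ω : F) (hω : ω ^ 2 + ω + 1 = 0) :
    (∃ s : G3, (s : M3) = d5m ∧ s ∈ SU3 F 5 ∧ s ∉ stab InY5) ∧
    (¬ ∃ i j k : ℕ, t5m * aM ω * t5m = ω ^ i • (aM ω ^ j * bM ^ k)) ∧ t5m * t5m = (1 : M3) :=
  ⟨d5m_out hF ω hω, tat_not_heis hF ω hω, t5m_sq hF⟩

end Cfsg.Agent.Lib.Helper32.SU3K
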