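import Mathlib
import Cfsg.Prelude.Def_GeometricClasses
import Cfsg.Agent.Lib.Helper51.SUMax1
import Cfsg.Agent.Lib.Helper51.SUMax2

/-!
# K-SUMax-N1 (keystone 581102, architect helper44): `SU_n` stabilises no proper nonzero subspace

Proof: take `0 ≠ w₀ ∈ W`, `x ∉ W`, `u ⟂ W` with `h(x,u) ≠ 0`, an isotropic `z` with `h(z,w₀) ≠ 0`,
`h(z,u) ≠ 0` (so `z ∉ W`), and the unitary transvection with centre `z`: it moves `w₀` out of `W`.
-/

set_option autoImplicit false
set_option linter.unusedVariables false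

namespace Cfsg.Agent.Lib.Helper32.SUMax

open Cfsg Cfsg.Geo Matrix Cfsg.Agent.Lib.Helper08 Cfsg.Agent.Lib.Helper51
open scoped Matrix MatrixGroups

variable {F : Type*} [Field F] [Fintype F] {n q : ℕ}

/-- K-SUMax-N1. -/
theorem su_not_le_subspaceStabilizer (hF : Fintype.card F = q ^ 2) (hn : 3 ≤ n)
    (hex : ¬ (n = 3 ∧ q = 2))
    (W : Submodule F (Fin n → F)) (h0 : W ≠ ⊥) (h1 : W ≠ ⊤) :
    ¬ GU n F q ⊓ specialLinear (Fin n) F ≤ subspaceStabilizer W := by
  intro hle
  -- a nonzero vector of `W`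
  obtain ⟨w0, hw0W, hw0⟩ := (Submodule.ne_bot_iff W).mp h0
  -- a vector outside `W`
  obtain ⟨x, hxW⟩ : ∃ x : Fin n → F, x ∉ W := by
    by_contra hcon
    push Not at hcon
    exact h1 (eq_top_iff.mpr fun v _ => hcon v)
  obtain ⟨u, huW, hxu⟩ := perp_sep (q := q) hF W x hxW
  have hu0 : u ≠ 0 := by
    intro h
    apply hxu
    rw [h]
    exact Cfsg.Agent.Lib.Helper51.hform_zero_right'' hF x
  obtain ⟨z, hzz, hzw, hzu⟩ := exists_isotropic_two (q := q) hF (by omega) w0 u hw0 hu0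
  have hzW : z ∉ W := fun hz => hzu (huW z hz)
  obtain ⟨c, hc0, hc⟩ := exists_skew_ne_zero (F := F) (q := q) hF
  have hiso : IsIsoMat q (qrefl q z c) := qrefl_iso_skew hF z hzz c hc
  have hdet : (qrefl q z c).det = 1 := by
    rw [det_qrefl', hzz, mul_zero, add_zero]
  have hunit : IsUnit (qrefl q z c) := hiso.isUnit hF
  have hmem : hunit.unit ∈ GU n F q ⊓ specialLinear (Fin n) F := by
    rw [mem_GUSL_iff]
    exact ⟨hiso, hdet⟩
  have hst := stab_maps W hunit.unit (hle hmem) w0 hw0W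
  have hval : hunit.unit.1 = qrefl q z c := rfl
  rw [hval, qrefl_mulVec] at hst
  have h2 : (c * hform (Fin n) F q w0 z) • z ∈ W := by
    have := W.sub_mem hst hw0W
    rwa [add_sub_cancel_left] at this
  have hne : c * hform (Fin n) F q w0 z ≠ 0 := by
    apply mul_ne_zero hc0
    intro h
    apply hzw
    rw [← hform_conj hF, h, zero_pow]
    intro hq
    rw [hq, pow_two, mul_zero] at hF
    exact Fintype.card_ne_zero hF
  apply hzW
  have := W.smul_mem (c * hform (Fin n) F q w0 z)⁻¹ h2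
  rwa [smul_smul, inv_mul_cancel₀ hne, one_smul] at this

end Cfsg.Agent.Lib.Helper32.SUMax
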