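import Mathlib
import Cfsg.Agent.Lib.Helper49.SpInvDefs
import Cfsg.Agent.Lib.Helper18.SympWitt

/-!
# K-SpInv-1 (keystone 268001, architect helper49): the number of isotropic `s`-frames of the
standard symplectic space `F^(2m)` is `∏_{i<s} (q^(2m-i) - q^i)`.
-/

set_option autoImplicit false
set_option linter.style.haveILetI false
set_option linter.unusedSectionVars false

namespace Cfsg.Agent.Lib.Helper32.SpInv

open Matrix Cfsg.Agent.Lib.Helper49.SpInv Cfsg.Agent.Lib.Helper18

variable {F : Type*} [Field F] [Fintype F]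

lemma mem_orth_iff {m s : ℕ} (v : Fin s → (Fin m ⊕ Fin m → F)) (w : Fin m ⊕ Fin m → F) :
    w ∈ (sB m F).orthogonal (Submodule.span F (Set.range v)) ↔
      ∀ i, Cfsg.sympForm m F (v i) w = 0 := by
  rw [LinearMap.BilinForm.mem_orthogonal_iff]
  constructor
  · intro h i
    have := h (v i) (Submodule.subset_span (Set.mem_range_self i))
    rw [sB_apply] at this
    exact this
  · intro h n hn
    have hle : Submodule.span F (Set.range v) ≤ LinearMap.ker ((sB m F).flip w) := by
      rw [Submodule.span_le]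
      rintro _ ⟨i, rfl⟩
      rw [SetLike.mem_coe, LinearMap.mem_ker]
      show (sB m F) (v i) w = 0
      rw [sB_apply]; exact h i
    have := hle hn
    rw [LinearMap.mem_ker] at this
    exact this

lemma card_fib {q : ℕ} (hF : Fintype.card F = q) {m s : ℕ} (v : Fin s → (Fin m ⊕ Fin m → F))
    (hv : LinearIndependent F v) (hiso : ∀ i j, Cfsg.sympForm m F (v i) (v j) = 0) :
    Nat.card {w : Fin m ⊕ Fin m → F // (∀ i, Cfsg.sympForm m F (v i) w = 0) ∧
      w ∉ Submodule.span F (Set.range v)} = q ^ (2 * m - s) - q ^ s := by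
  classical
  set S := Submodule.span F (Set.range v) with hS
  set K := (sB m F).orthogonal S with hK
  have hSK : S ≤ K := by
    rw [hS, Submodule.span_le]
    rintro _ ⟨i, rfl⟩
    rw [SetLike.mem_coe, hK, hS, mem_orth_iff]
    intro j; exact hiso j i
  have hfS : Module.finrank F S = s := by
    rw [hS, finrank_span_eq_card hv]; simp
  have hfV : Module.finrank F (Fin m ⊕ Fin m → F) = 2 * m := by
    rw [Module.finrank_fintype_fun_eq_card]; simp [two_mul]
  have hfK : Module.finrank F K = 2 * m - s := by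
    rw [hK, LinearMap.BilinForm.finrank_orthogonal sB_nondegenerate, hfV, hfS]
  have hqF : Nat.card F = q := by rw [Nat.card_eq_fintype_card, hF]
  have hcS : Nat.card S = q ^ s := by
    rw [Module.natCard_eq_pow_finrank (K := F), hqF, hfS]
  have hcK : Nat.card K = q ^ (2 * m - s) := by
    rw [Module.natCard_eq_pow_finrank (K := F), hqF, hfK]
  have e : {w : Fin m ⊕ Fin m → F // (∀ i, Cfsg.sympForm m F (v i) w = 0) ∧ w ∉ S} ≃
      ↥((K : Set (Fin m ⊕ Fin m → F)) \ (S : Set (Fin m ⊕ Fin m → F))) :=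
    Equiv.subtypeEquivRight (fun w => by
      rw [Set.mem_sdiff, SetLike.mem_coe, SetLike.mem_coe, hK, hS, mem_orth_iff])
  rw [Nat.card_congr e, Nat.card_coe_set_eq,
    Set.ncard_sdiff (by exact_mod_cast hSK) (Set.toFinite _),
    ← Nat.card_coe_set_eq, ← Nat.card_coe_set_eq]
  show Nat.card K - Nat.card S = _
  rw [hcK, hcS]

lemma init_li {s : ℕ} {V : Type*} [AddCommGroup V] [Module F V] (u : Fin (s + 1) → V)
    (hu : LinearIndependent F u) :
    LinearIndependent F (Fin.init u : Fin s → V) ∧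
      u (Fin.last s) ∉ Submodule.span F (Set.range (Fin.init u : Fin s → V)) := by
  have := linearIndependent_finSnoc (K := F) (v := (Fin.init u : Fin s → V))
    (x := u (Fin.last s))
  rw [Fin.snoc_init_self] at this
  exact this.mp hu

lemma snoc_iso {m s : ℕ} (v : Fin s → (Fin m ⊕ Fin m → F)) (w : Fin m ⊕ Fin m → F)
    (hv : ∀ i j, Cfsg.sympForm m F (v i) (v j) = 0)
    (hw : ∀ i, Cfsg.sympForm m F (v i) w = 0) :
    ∀ i j, Cfsg.sympForm m F ((Fin.snoc v w : Fin (s + 1) → (Fin m ⊕ Fin m → F)) i)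
      ((Fin.snoc v w : Fin (s + 1) → (Fin m ⊕ Fin m → F)) j) = 0 := by
  intro i j
  induction i using Fin.lastCases with
  | last =>
    induction j using Fin.lastCases with
    | last =>
      rw [Fin.snoc_last, ← sB_apply]; exact sB_isAlt w
    | cast j =>
      rw [Fin.snoc_last, Fin.snoc_castSucc, ← sB_apply]
      apply sB_isAlt.isRefl
      rw [sB_apply]; exact hw j
  | cast i =>
    induction j using Fin.lastCases with
    | last =>
      rw [Fin.snoc_last, Fin.snoc_castSucc]; exact hw i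
    | cast j =>
      rw [Fin.snoc_castSucc, Fin.snoc_castSucc]; exact hv i j

instance instFiniteIsoFrame (m s : ℕ) : Finite (IsoFrame m s F) := by
  unfold IsoFrame; infer_instance

/-- splitting off the last vector of an isotropic frame. -/
noncomputable def succEquiv (m s : ℕ) : IsoFrame m (s + 1) F ≃
    {x : IsoFrame m s F × (Fin m ⊕ Fin m → F) //
      (∀ i, Cfsg.sympForm m F (x.1.1 i) x.2 = 0) ∧
        x.2 ∉ Submodule.span F (Set.range x.1.1)} where
  toFun u := ⟨((Subtype.mk (Fin.init u.1 : Fin s → (Fin m ⊕ Fin m → F))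
      ⟨(init_li u.1 u.2.1).1, fun i j => u.2.2 i.castSucc j.castSucc⟩ : IsoFrame m s F),
      u.1 (Fin.last s)),
    fun i => u.2.2 i.castSucc (Fin.last s), (init_li u.1 u.2.1).2⟩
  invFun x := (Subtype.mk (Fin.snoc x.1.1.1 x.1.2 : Fin (s + 1) → (Fin m ⊕ Fin m → F))
      ⟨linearIndependent_finSnoc.mpr ⟨x.1.1.2.1, x.2.2⟩,
        snoc_iso x.1.1.1 x.1.2 x.1.1.2.2 x.2.1⟩ : IsoFrame m (s + 1) F)
  left_inv u := Subtype.ext (Fin.snoc_init_self u.1)
  right_inv x := by
    apply Subtype.ext
    apply Prod.ext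
    · apply Subtype.ext
      exact Fin.init_snoc (α := fun _ => Fin m ⊕ Fin m → F) x.1.2 x.1.1.1
    · exact Fin.snoc_last (α := fun _ => Fin m ⊕ Fin m → F) x.1.2 x.1.1.1

/-- K-SpInv-1. -/
theorem card_isoFrame {q : ℕ} (hF : Fintype.card F = q) (m s : ℕ) (hs : s ≤ m) :
    Nat.card (IsoFrame m s F) = ∏ i ∈ Finset.range s, (q ^ (2 * m - i) - q ^ i) := by
  induction s with
  | zero =>
    simp only [Finset.range_zero, Finset.prod_empty]
    haveI : Unique (IsoFrame m 0 F) :=
      ⟨⟨(Subtype.mk (fun i => i.elim0) ⟨linearIndependent_empty_type, fun i => i.elim0⟩ :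
        IsoFrame m 0 F)⟩, fun a => Subtype.ext (funext fun i => i.elim0)⟩
    exact Nat.card_unique
  | succ s ih =>
    have ih' := ih (by omega)
    rw [Finset.prod_range_succ, ← ih']
    haveI := Fintype.ofFinite (IsoFrame m s F)
    rw [Nat.card_congr (succEquiv m s),
      Nat.card_congr (Equiv.subtypeProdEquivSigmaSubtype
        (fun (a : IsoFrame m s F) (b : Fin m ⊕ Fin m → F) =>
          (∀ i, Cfsg.sympForm m F (a.1 i) b = 0) ∧ b ∉ Submodule.span F (Set.range a.1))),
      Nat.card_sigma]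
    rw [Finset.sum_congr rfl (fun a _ => card_fib hF a.1 a.2.1 a.2.2)]
    rw [Finset.sum_const, Finset.card_univ, smul_eq_mul, Nat.card_eq_fintype_card]

end Cfsg.Agent.Lib.Helper32.SpInv
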