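import Mathlib
import Cfsg.Prelude.Def_GeometricClasses
import Cfsg.Prelude.Def_ClassicalGeometry
import Cfsg.Agent.Lib.Helper69.SLTDefs
import Cfsg.Agent.Lib.Helper18.Symp

/-!
# K-SpT-3a (keystone 598001, row S5980, architect helper86): a symplectic transvection of order `p`
with fixed space of codimension one.
-/

set_option autoImplicit false
set_option linter.unusedVariables false

namespace Cfsg.Agent.Lib.Helper32.SpT

open Matrix Cfsg.Agent.Lib.Helper69.SLT

variable {F : Type*} [Field F]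

/-- the vector `e = e_(inl 0)` -/
noncomputable def e0 (d : ℕ) (hd : 1 ≤ d) : Fin d ⊕ Fin d → F := Pi.single (Sum.inl ⟨0, hd⟩) 1

/-- the action of the transvection with centre `e0` -/
theorem tv_mulVec (d : ℕ) (hd : 1 ≤ d) (c : F) (x : Fin d ⊕ Fin d → F) :
    Cfsg.sympTransvection d (e0 (F := F) d hd) c *ᵥ x =
      x + (c * x (Sum.inr ⟨0, hd⟩)) • e0 (F := F) d hd := by
  classical
  unfold Cfsg.sympTransvection
  rw [Matrix.add_mulVec, Matrix.one_mulVec, Matrix.smul_mulVec]
  congr 1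
  have h1 : Matrix.J (Fin d) F *ᵥ e0 (F := F) d hd = Pi.single (Sum.inr ⟨0, hd⟩) 1 := by
    funext j
    rcases j with i | i
    · rw [Cfsg.Agent.Lib.Helper18.J_mulVec_inl]
      simp [e0]
    · rw [Cfsg.Agent.Lib.Helper18.J_mulVec_inr]
      by_cases hi : i = ⟨0, hd⟩
      · subst hi
        simp [e0]
      · have h2 : (Sum.inl i : Fin d ⊕ Fin d) ≠ Sum.inl ⟨0, hd⟩ := fun h => hi (Sum.inl_injective h)
        have h3 : (Sum.inr i : Fin d ⊕ Fin d) ≠ Sum.inr ⟨0, hd⟩ := fun h => hi (Sum.inr_injective h)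
        simp [e0, Pi.single_eq_of_ne h2, Pi.single_eq_of_ne h3]
  rw [h1]
  funext j
  simp only [Matrix.mulVec, dotProduct, Matrix.vecMulVec_apply, Pi.smul_apply, smul_eq_mul]
  rw [Finset.sum_eq_single (Sum.inr ⟨0, hd⟩)]
  · simp
    ring
  · intro k _ hk
    rw [Pi.single_eq_of_ne hk]
    ring
  · intro h
    exact absurd (Finset.mem_univ _) h

/-- LEAF 3a: a symplectic transvection. -/
theorem exists_sp_transvection {p : ℕ} [Fact p.Prime] [CharP F p] (d : ℕ) (hd : 1 ≤ d) :
    ∃ x ∈ Cfsg.spGL d F, x ^ p = 1 ∧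
      (∀ z : F, (x : Matrix (Fin d ⊕ Fin d) (Fin d ⊕ Fin d) F) ≠ z • (1 : Matrix (Fin d ⊕ Fin d) (Fin d ⊕ Fin d) F)) ∧
      eigDim (x : Matrix (Fin d ⊕ Fin d) (Fin d ⊕ Fin d) F) 1 + 1 = 2 * d := by
  classical
  set e : Fin d ⊕ Fin d → F := e0 d hd with he
  have hT0 : Cfsg.sympTransvection d e (0 : F) = 1 := by
    unfold Cfsg.sympTransvection
    rw [zero_smul, add_zero]
  have hmul : ∀ c c' : F, Cfsg.sympTransvection d e c * Cfsg.sympTransvection d e c' =
      Cfsg.sympTransvection d e (c + c') := Cfsg.Agent.Lib.Helper18.sympTransvection_mul d e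
  have hpow : ∀ n : ℕ, Cfsg.sympTransvection d e (1 : F) ^ n = Cfsg.sympTransvection d e (n : F) := by
    intro n
    induction n with
    | zero => rw [pow_zero, Nat.cast_zero, hT0]
    | succ n ih => rw [pow_succ, ih, hmul, Nat.cast_succ]
  have h1 : Cfsg.sympTransvection d e (1 : F) * Cfsg.sympTransvection d e (-1 : F) = 1 := by
    rw [hmul, add_neg_cancel, hT0]
  have h2 : Cfsg.sympTransvection d e (-1 : F) * Cfsg.sympTransvection d e (1 : F) = 1 := by
    rw [hmul, neg_add_cancel, hT0]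
  let x : GL (Fin d ⊕ Fin d) F :=
    ⟨Cfsg.sympTransvection d e 1, Cfsg.sympTransvection d e (-1), h1, h2⟩
  have hxval : (x : Matrix (Fin d ⊕ Fin d) (Fin d ⊕ Fin d) F) = Cfsg.sympTransvection d e 1 := rfl
  have hact : ∀ v : Fin d ⊕ Fin d → F,
      (x : Matrix (Fin d ⊕ Fin d) (Fin d ⊕ Fin d) F) *ᵥ v = v + v (Sum.inr ⟨0, hd⟩) • e := by
    intro v
    rw [hxval, he, tv_mulVec, one_mul]
  refine ⟨x, ?_, ?_, ?_, ?_⟩
  · -- membership
    have hmem := Cfsg.Agent.Lib.Helper18.sympTransvection_mem d e (1 : F)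
    have hmemT := SymplecticGroup.transpose_mem hmem
    rw [SymplecticGroup.mem_iff, Matrix.transpose_transpose] at hmemT
    intro u v
    show Cfsg.sympForm d F ((x : Matrix (Fin d ⊕ Fin d) (Fin d ⊕ Fin d) F) *ᵥ u)
      ((x : Matrix (Fin d ⊕ Fin d) (Fin d ⊕ Fin d) F) *ᵥ v) = Cfsg.sympForm d F u v
    rw [hxval]
    have key : Cfsg.sympForm d F (Cfsg.sympTransvection d e 1 *ᵥ u)
        (Cfsg.sympTransvection d e 1 *ᵥ v) =
        u ⬝ᵥ (((Cfsg.sympTransvection d e (1 : F))ᵀ * Matrix.J (Fin d) F *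
          Cfsg.sympTransvection d e 1) *ᵥ v) := by
      unfold Cfsg.sympForm
      rw [← Matrix.mulVec_mulVec, ← Matrix.mulVec_mulVec, Matrix.dotProduct_mulVec u,
        Matrix.vecMul_transpose]
    rw [key, hmemT]
    rfl
  · apply Units.ext
    rw [Units.val_pow_eq_pow_val, hxval, hpow, CharP.cast_eq_zero, hT0]
    rfl
  · intro z hz
    have h3 := hact (Pi.single (Sum.inr ⟨0, hd⟩) 1)
    rw [hz, Matrix.smul_mulVec, Matrix.one_mulVec] at h3
    have h4 := congrFun h3 (Sum.inl ⟨0, hd⟩)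
    simp [he, e0] at h4
  · -- the eigenspace
    have he1 : e (Sum.inl ⟨0, hd⟩) = 1 := by simp [he, e0]
    have heq : Module.End.eigenspace (Matrix.toLin' (x : Matrix (Fin d ⊕ Fin d) (Fin d ⊕ Fin d) F)) 1 =
        LinearMap.ker (LinearMap.proj (R := F) (φ := fun _ : Fin d ⊕ Fin d => F)
          (Sum.inr ⟨0, hd⟩)) := by
      ext v
      rw [mem_eigenspace_toLin', hact, LinearMap.mem_ker, LinearMap.proj_apply, one_smul]
      constructor
      · intro h3
        have h4 : v (Sum.inr ⟨0, hd⟩) • e = 0 := by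
          have := congrArg (fun w => w - v) h3
          simpa using this
        have h5 := congrFun h4 (Sum.inl ⟨0, hd⟩)
        rw [Pi.smul_apply, he1, smul_eq_mul, mul_one, Pi.zero_apply] at h5
        exact h5
      · intro h3
        rw [h3, zero_smul, add_zero]
    unfold eigDim
    rw [heq]
    have hsurj : Function.Surjective (LinearMap.proj (R := F) (φ := fun _ : Fin d ⊕ Fin d => F)
        (Sum.inr ⟨0, hd⟩)) := LinearMap.proj_surjective _
    have h3 := LinearMap.finrank_range_add_finrank_ker (LinearMap.proj (R := F)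
      (φ := fun _ : Fin d ⊕ Fin d => F) (Sum.inr ⟨0, hd⟩))
    rw [LinearMap.range_eq_top.mpr hsurj, finrank_top, Module.finrank_self,
      Module.finrank_fintype_fun_eq_card, Fintype.card_sum, Fintype.card_fin] at h3
    omega

end Cfsg.Agent.Lib.Helper32.SpT
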