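import Mathlib
import Cfsg.Agent.Lib.Helper69.StNDefs

/-!
# K-StN pack (S2401), leaf C4 (240108, helper32): `w_ij(u) = w_ji(-u⁻¹)`.
-/

set_option autoImplicit false

namespace Cfsg.Agent.Lib.Helper32.StN

open Cfsg.Agent.Lib.Helper69.StN Matrix

variable {n : ℕ} {K : Type*} [Field K] {S : Type*} [Group S] {X : Fin n → Fin n → K → S}

/-- **K-StN leaf C4**: conjugate `w X i j u` by itself -/
theorem w_symm (hX : IsSt X) (hA : HasActsW X) {i j : Fin n} (hij : i ≠ j) {u : K} (hu : u ≠ 0) :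
    w X i j u = w X j i (-u⁻¹) := by
  have h := hX.conj_w_of_acts (hA i j hij u hu) hij hu
  have e1 : w X i j u * w X i j u * (w X i j u)⁻¹ = w X i j u := by group
  rw [e1, Equiv.swap_apply_left, Equiv.swap_apply_right] at h
  have e2 : dW i j u i * u * (dW i j u j)⁻¹ = -u⁻¹ := by
    unfold dW
    rw [if_pos rfl, if_neg hij.symm, if_pos rfl]
    field_simp
  rw [e2] at h
  exact h

end Cfsg.Agent.Lib.Helper32.StN
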