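import Mathlib
import Cfsg.Agent.Lib.Helper53.StOmDefs
import Cfsg.Agent.Lib.Helper43.OmegaCount
import Cfsg.Agent.Lib.Helper50.MinusTwoB

/-!
# K-StOm pack (S2549), leaf E1 (254924, helper32, parallel hand): in characteristic two `Ω T = O`.

Route (helper53's shortcut): `Ω` has index two for ALL `m` (`Helper43.reflGenerated_minus`,
`Omega_eq_ker_dickson`, `index_ker_dickson`), and the reflection `Helper50.wIso` in `z_0` lies in `T`
but not in `Ω`.
-/

set_option autoImplicit false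
set_option linter.unusedSectionVars false
set_option linter.unusedVariables false
set_option linter.unusedSimpArgs false

namespace Cfsg.Agent.Lib.Helper32.StOm

open Cfsg Cfsg.Agent.Lib.Helper53.StOm

variable {m : ℕ} {F : Type*} [Field F] {a b : F}

/-- `Ω` has index two, for every `m` -/
theorem e1_index_Omega [Fintype F] [CharP F 2]
    (hab : ∀ z₁ z₂ : F, z₁ ^ 2 + a * z₁ * z₂ + b * z₂ ^ 2 = 0 → z₁ = 0 ∧ z₂ = 0) :
    (Cfsg.Omega F (Cfsg.quadFormMinus m F a b)).index = 2 := by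
  have hc := Cfsg.Agent.Lib.Helper43.middle_ne_zero' a b hab
  have hQ := Cfsg.Agent.Lib.Helper43.qfMinus_nondegenerate m F a b hc
  have hgen := Cfsg.Agent.Lib.Helper43.reflGenerated_minus m a b hc hab
  have h1 : Cfsg.Omega F (Cfsg.quadFormMinus m F a b) = _ :=
    Cfsg.Agent.Lib.Helper43.Omega_eq_ker_dickson (Cfsg.Agent.Lib.Helper43.qfMinus m F a b) hQ hgen
  rw [h1]
  exact Cfsg.Agent.Lib.Helper43.index_ker_dickson (Cfsg.Agent.Lib.Helper43.qfMinus m F a b) hQ hgen

/-- the matrix of the standard reflection -/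
theorem e1_mat_wIso : mat (Cfsg.Agent.Lib.Helper50.wIso m a b) =
    Cfsg.reflectionMatrix (Cfsg.quadFormMinus m F a b) (Cfsg.Agent.Lib.Helper50.vM m) := rfl

/-- the standard reflection is block diagonal -/
theorem e1_wIso_mem_T : Cfsg.Agent.Lib.Helper50.wIso m a b ∈ Tsub m F a b := by
  rw [mem_Tsub_iff]
  intro x y hxy
  have hne : x ≠ y := fun h => hxy (by rw [h])
  rw [e1_mat_wIso]
  unfold Cfsg.reflectionMatrix
  rw [Matrix.sub_apply, Matrix.one_apply_ne hne, Matrix.smul_apply, Matrix.vecMulVec_apply, zero_sub,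
    neg_eq_zero, smul_eq_mul]
  by_cases hx : x = Sum.inr 0
  · -- then `y` is an `e` or an `f`, and the polar form vanishes
    subst hx
    have hy : Cfsg.polarVec (Cfsg.quadFormMinus m F a b) (Cfsg.Agent.Lib.Helper50.vM m) y = 0 := by
      unfold Cfsg.polarVec
      rw [Cfsg.Agent.Lib.Helper50.polar_quadFormMinus]
      rcases y with (i | i) | j
      · simp [Cfsg.Agent.Lib.Helper50.vM, Matrix.toBilin'_apply', Matrix.fromBlocks_mulVec, dotProduct,
          Fintype.sum_sum_type]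
      · simp [Cfsg.Agent.Lib.Helper50.vM, Matrix.toBilin'_apply', Matrix.fromBlocks_mulVec, dotProduct,
          Fintype.sum_sum_type]
      · exact absurd rfl hxy
    rw [hy, mul_zero, mul_zero]
  · have : Cfsg.Agent.Lib.Helper50.vM (F := F) m x = 0 := by
      unfold Cfsg.Agent.Lib.Helper50.vM
      exact Pi.single_eq_of_ne hx _
    rw [this, zero_mul, mul_zero]

/-- **K-StOm leaf E1** -/
theorem omega_sup_T_char_two [Fintype F] [CharP F 2]
    (hab : ∀ z₁ z₂ : F, z₁ ^ 2 + a * z₁ * z₂ + b * z₂ ^ 2 = 0 → z₁ = 0 ∧ z₂ = 0) :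
    Cfsg.Omega F (Cfsg.quadFormMinus m F a b) ⊔ Tsub m F a b = ⊤ := by
  have hidx := e1_index_Omega (m := m) hab
  have hw := Cfsg.Agent.Lib.Helper50.wIso_not_mem_Omega' m a b hab
  have hwT := e1_wIso_mem_T (m := m) (F := F) (a := a) (b := b)
  rw [eq_top_iff]
  intro g _
  by_cases hg : g ∈ Cfsg.Omega F (Cfsg.quadFormMinus m F a b)
  · exact Subgroup.mem_sup_left hg
  · have h3 : g * Cfsg.Agent.Lib.Helper50.wIso m a b ∈ Cfsg.Omega F (Cfsg.quadFormMinus m F a b) :=
      (Subgroup.mul_mem_iff_of_index_two hidx).mpr ⟨fun h => absurd h hg, fun h => absurd h hw⟩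
    have h4 : g = g * Cfsg.Agent.Lib.Helper50.wIso m a b * (Cfsg.Agent.Lib.Helper50.wIso m a b)⁻¹ := by
      group
    rw [h4]
    exact Subgroup.mul_mem _ (Subgroup.mem_sup_left h3)
      (Subgroup.mem_sup_right (Subgroup.inv_mem _ hwT))

end Cfsg.Agent.Lib.Helper32.StOm
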