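import Mathlib
import Cfsg.Agent.Lib.Helper13.SystemNormalizerClosure
import Cfsg.Agent.Lib.Helper13.CoverAvoid
import Cfsg.Agent.Lib.Helper32.CarterMain

set_option autoImplicit false

namespace Cfsg.Agent.Lib.Helper32

open scoped Pointwise
open Cfsg.Agent.Lib.Helper01 Cfsg.Agent.Lib.Helper13

universe u

variable {G : Type*} [Group G]

/-- A family of subgroups indexed by primes reduces into `C`: each `K q ∩ C` has `q`-power index
in `C`. -/
def Reduces (K : Nat.Primes → Subgroup G) (C : Subgroup G) : Prop :=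
  ∀ q : Nat.Primes, ∃ j : ℕ, (K q).relIndex C = (q : ℕ) ^ j

theorem reduces_of_le {K : Nat.Primes → Subgroup G} {C : Subgroup G}
    (h : ∀ q : Nat.Primes, ∃ H : Subgroup G, H ≤ K q ∧ ∃ j : ℕ, H.relIndex C ∣ (q : ℕ) ^ j) :
    Reduces K C := by
  intro q
  obtain ⟨H, hHK, j, hj⟩ := h q
  have h1 : (K q).relIndex C ∣ (q : ℕ) ^ j := (Subgroup.relIndex_dvd_of_le_left C hHK).trans hj
  obtain ⟨i, -, hi⟩ := (Nat.dvd_prime_pow q.2).mp h1
  exact ⟨i, hi⟩

/-- The index of `HN` in `CN` divides the index of `H` in `C`. -/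
theorem relIndex_sup_dvd [Finite G] {H C : Subgroup G} (hHC : H ≤ C) (N : Subgroup G) [N.Normal] :
    (H ⊔ N).relIndex (C ⊔ N) ∣ H.relIndex C := by
  have h1 := card_sup_mul_card_inf N C
  have h2 := card_sup_mul_card_inf N H
  have hHC' : H ⊔ N ≤ C ⊔ N := sup_le_sup_right hHC N
  have h3 := card_mul_relIndex_of_le hHC
  have h4 := card_mul_relIndex_of_le hHC'
  have h5 := card_mul_relIndex_of_le (inf_le_inf_left N hHC)
  set X := (H ⊔ N).relIndex (C ⊔ N)
  set Y := (N ⊓ H).relIndex (N ⊓ C)
  refine ⟨Y, ?_⟩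
  have hpos : 0 < Nat.card N * Nat.card H := Nat.mul_pos Nat.card_pos Nat.card_pos
  apply Nat.eq_of_mul_eq_mul_left hpos
  calc Nat.card N * Nat.card H * H.relIndex C = Nat.card N * Nat.card C := by rw [mul_assoc, h3]
    _ = Nat.card (C ⊔ N : Subgroup G) * Nat.card (N ⊓ C : Subgroup G) := h1.symm
    _ = (Nat.card (H ⊔ N : Subgroup G) * X) * (Nat.card (N ⊓ H : Subgroup G) * Y) := by rw [h4, h5]
    _ = (Nat.card (H ⊔ N : Subgroup G) * Nat.card (N ⊓ H : Subgroup G)) * (X * Y) := by ring
    _ = Nat.card N * Nat.card H * (X * Y) := by rw [h2]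

/-- `|CN : C|` divides `|N|`. -/
theorem relIndex_sup_dvd_card [Finite G] (C N : Subgroup G) [N.Normal] :
    C.relIndex (C ⊔ N) ∣ Nat.card N := by
  have h1 := card_sup_mul_card_inf N C
  have h4 := card_mul_relIndex_of_le (le_sup_left : C ≤ C ⊔ N)
  refine ⟨Nat.card (N ⊓ C : Subgroup G), ?_⟩
  apply Nat.eq_of_mul_eq_mul_left (Nat.card_pos (α := C))
  rw [← mul_assoc, h4, h1, mul_comm]

/-- A complement system that reduces into `L` induces a complement system of `L`. -/
theorem isComplementSystem_subgroupOf [Finite G] {K : Nat.Primes → Subgroup G}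
    (hK : Cfsg.IsComplementSystem K) {L : Subgroup G} (hKL : Reduces K L) :
    Cfsg.IsComplementSystem (fun q => (K q).subgroupOf L) := by
  intro q
  have hq : (q : ℕ).Prime := q.2
  obtain ⟨j, hj⟩ := hKL q
  show ((K q).subgroupOf L).index = _
  have h0 : ((K q).subgroupOf L).index = (K q).relIndex L := rfl
  have h5 := ((K q).subgroupOf L).card_mul_index
  rw [h0, hj] at h5
  have h3 : Nat.card ((K q).subgroupOf L) ∣ Nat.card (K q) := by
    have : Nat.card ((K q).subgroupOf L) = Nat.card ((K q ⊓ L : Subgroup G)) := by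
      rw [← Subgroup.inf_subgroupOf_right]
      exact Nat.card_congr (Subgroup.subgroupOfEquivOfLe inf_le_right).toEquiv
    rw [this]
    exact Subgroup.card_dvd_of_le inf_le_left
  have h4 : ¬ (q : ℕ) ∣ Nat.card ((K q).subgroupOf L) :=
    fun h => IsComplementSystem.not_dvd_card hK q (h.trans h3)
  have h6 : (Nat.card ((K q).subgroupOf L)).factorization q = 0 :=
    Nat.factorization_eq_zero_of_not_dvd h4
  have h7 : ((q : ℕ) ^ j).factorization q = j := by simp [hq.factorization_pow]
  rw [h0, hj, ← h5, Nat.factorization_mul Nat.card_pos.ne' (pow_pos hq.pos j).ne',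
    Finsupp.coe_add, Pi.add_apply, h6, h7, zero_add]

/-- The system normalizer, if contained in `L`, lies in the system normalizer of the induced
system of `L`. -/
theorem systemNormalizer_subgroupOf_le (K : Nat.Primes → Subgroup G) (L : Subgroup G) :
    (Cfsg.systemNormalizer K).subgroupOf L ≤
      Cfsg.systemNormalizer (fun q => (K q).subgroupOf L) := by
  intro d hd
  rw [Subgroup.mem_subgroupOf, mem_systemNormalizer_iff] at hd
  rw [mem_systemNormalizer_iff]
  intro q
  have h := hd q
  rw [Subgroup.mem_normalizer_iff] at h ⊢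
  intro x
  rw [Subgroup.mem_subgroupOf, Subgroup.mem_subgroupOf]
  have := h (x : G)
  simpa using this

/-- Reduction passes to quotients. -/
theorem Reduces.map_mk' [Finite G] {K : Nat.Primes → Subgroup G} {C : Subgroup G}
    (h : Reduces K C) (N : Subgroup G) [N.Normal] :
    Reduces (fun q => (K q).map (QuotientGroup.mk' N)) (C.map (QuotientGroup.mk' N)) := by
  refine reduces_of_le (fun q => ?_)
  obtain ⟨j, hj⟩ := h q
  have h1 : ((K q ⊓ C).map (QuotientGroup.mk' N)).relIndex (C.map (QuotientGroup.mk' N)) ∣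
      (q : ℕ) ^ j := by
    rw [Subgroup.relIndex_map_map, QuotientGroup.ker_mk', ← hj, ← Subgroup.inf_relIndex_right (K q) C]
    exact relIndex_sup_dvd inf_le_right N
  exact ⟨(K q ⊓ C).map (QuotientGroup.mk' N), Subgroup.map_mono inf_le_left, j, h1⟩

end Cfsg.Agent.Lib.Helper32
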