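import Mathlib
import Cfsg.Agent.Lib.Helper32.SysNormBasic

set_option autoImplicit false

namespace Cfsg.Agent.Lib.Helper32

open scoped Pointwise
open Cfsg.Agent.Lib.Helper01 Cfsg.Agent.Lib.Helper13

universe u

/-- If a complement system reduces into a Carter subgroup `C`, then its system normalizer lies
in `C`. -/
theorem systemNormalizer_le_carter_aux (n : ℕ) : ∀ (G : Type u) [Group G] [Finite G]
    [Group.IsSolvable G], Nat.card G = n → ∀ (K : Nat.Primes → Subgroup G) (C : Subgroup G),
    Cfsg.IsComplementSystem K → Cfsg.IsCarterSubgroup C → Reduces K C →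
    Cfsg.systemNormalizer K ≤ C := by
  induction n using Nat.strong_induction_on with
  | _ n IH =>
    intro G _ _ _ hn K C hK hC hred
    by_cases hG : Group.IsNilpotent G
    · rw [IsCarterSubgroup.eq_top_of_isNilpotent hG hC]; exact le_top
    · haveI : Nontrivial G := by
        by_contra h
        rw [not_nontrivial_iff_subsingleton] at h
        exact hG inferInstance
      obtain ⟨N, hN⟩ := exists_isMinNormal (G := G)
      haveI hNn : N.Normal := hN.1
      obtain ⟨p, hp, -, -, hNp⟩ := hN.exists_prime
      haveI : Fact p.Prime := ⟨hp⟩
      have hab : ∀ a ∈ N, ∀ b ∈ N, a * b = b * a := fun a ha b hb => hN.mul_comm_of_mem ha hb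
      obtain ⟨k, hk⟩ := (IsPGroup.iff_card (p := p) (G := N)).mp hNp
      have hconjsub : ∀ L : Subgroup G, L ≠ ⊤ → CarterConj L := fun L _ => carter_theorem.2
      -- quotient step
      have hq : Cfsg.systemNormalizer (fun q => (K q).map (QuotientGroup.mk' N)) ≤
          C.map (QuotientGroup.mk' N) := by
        refine IH (Nat.card (G ⧸ N)) ?_ (G ⧸ N) rfl _ _ (IsComplementSystem.map_mk' hK N)
          (IsCarterSubgroup.map_mk' N hconjsub hC) (hred.map_mk' N)
        rw [← hn, Subgroup.card_eq_card_quotient_mul_card_subgroup N]
        have h1 : 1 < Nat.card N := N.one_lt_card_iff_ne_bot.mpr hN.2.1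
        have h2 : 0 < Nat.card (G ⧸ N) := Nat.card_pos
        nlinarith
      rw [systemNormalizer_map_mk' N hK] at hq
      have hDL : Cfsg.systemNormalizer K ≤ C ⊔ N := by
        have := Subgroup.comap_mono (f := QuotientGroup.mk' N) hq
        rw [Subgroup.comap_map_eq, Subgroup.comap_map_eq, QuotientGroup.ker_mk'] at this
        exact le_sup_left.trans this
      by_cases hL : C ⊔ N = ⊤
      · -- `G = CN`
        have hCNn : (C ⊓ N).Normal := inf_normal_of_sup_eq_top hab hL
        rcases hN.2.2 _ hCNn inf_le_right with hbot | hNC
        · let p' : Nat.Primes := ⟨p, hp⟩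
          obtain ⟨j, hj⟩ := hred p'
          have hj' : (K p').relIndex C = p ^ j := hj
          have hcardG : Nat.card N * Nat.card C = Nat.card G := by
            have h1 := card_sup_mul_card_inf N C
            rw [hL, inf_comm, hbot, Subgroup.card_top, Subgroup.card_bot, mul_one] at h1
            exact h1.symm
          have h2 : Nat.card (K p' ⊓ C : Subgroup G) * p ^ j = Nat.card C := by
            have := card_mul_relIndex_of_le (inf_le_right : K p' ⊓ C ≤ C)
            rwa [Subgroup.inf_relIndex_right, hj'] at this
          have h3 : Nat.card (K p') * p ^ (Nat.card G).factorization p = Nat.card G :=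
            IsComplementSystem.card_mul hK p'
          have hcopQ : (Nat.card (K p')).Coprime p := IsComplementSystem.coprime_card hK p'
          have hQC : K p' ≤ C := by
            have hdvd : Nat.card (K p' ⊓ C : Subgroup G) ∣ Nat.card (K p') :=
              Subgroup.card_dvd_of_le inf_le_left
            have heq : Nat.card (K p' ⊓ C : Subgroup G) = Nat.card (K p') := by
              have e : Nat.card (K p' ⊓ C : Subgroup G) * p ^ (j + k) =
                  Nat.card (K p') * p ^ (Nat.card G).factorization p := by
                rw [h3, ← hcardG, hk, ← h2]; ring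
              have : Nat.card (K p') ∣ Nat.card (K p' ⊓ C : Subgroup G) :=
                Nat.Coprime.dvd_of_dvd_mul_right (hcopQ.pow_right _) (Dvd.intro _ e.symm)
              exact Nat.dvd_antisymm hdvd this
            have := Subgroup.eq_of_le_of_card_ge (inf_le_left : K p' ⊓ C ≤ K p') heq.ge
            rw [← this]; exact inf_le_right
          have hCM : C ≤ Subgroup.normalizer (K p' : Set G) :=
            le_normalizer_of_hall_of_nilpotent hC.1 hQC (by rw [hj']; exact hcopQ.pow_right j)
          have hDM : Cfsg.systemNormalizer K ≤ Subgroup.normalizer (K p' : Set G) :=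
            systemNormalizer_le K p'
          by_cases hM : Subgroup.normalizer (K p' : Set G) = ⊤
          · haveI hQn : (K p').Normal := Subgroup.normalizer_eq_top_iff.mp hM
            have hnilq : Group.IsNilpotent (G ⧸ K p') := by
              apply IsPGroup.isNilpotent (p := p)
              apply IsPGroup.of_card (n := (Nat.card G).factorization p)
              rw [← Subgroup.index_eq_card]
              exact hK p'
            have h1 : C.map (QuotientGroup.mk' (K p')) = ⊤ :=
              IsCarterSubgroup.eq_top_of_isNilpotent hnilq
                (IsCarterSubgroup.map_mk' (K p') hconjsub hC)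
            have h4 : C ⊔ K p' = ⊤ := by
              have := Subgroup.comap_map_eq (QuotientGroup.mk' (K p')) C
              rw [h1, Subgroup.comap_top, QuotientGroup.ker_mk'] at this
              exact this.symm
            have : C = ⊤ := by rw [← h4]; exact (sup_eq_left.mpr hQC).symm
            rw [this]; exact le_top
          · have hMN : Subgroup.normalizer (K p' : Set G) ⊔ N = ⊤ :=
              top_le_iff.mp (hL ▸ sup_le_sup_right hCM N)
            have hMNn : (Subgroup.normalizer (K p' : Set G) ⊓ N).Normal :=
              inf_normal_of_sup_eq_top hab hMN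
            rcases hN.2.2 _ hMNn inf_le_right with hb | hNM
            · have h1 := card_sup_mul_card_inf N (Subgroup.normalizer (K p' : Set G))
              rw [hMN, inf_comm, hb, Subgroup.card_top, Subgroup.card_bot, mul_one] at h1
              have hcard : Nat.card (Subgroup.normalizer (K p' : Set G)) = Nat.card C :=
                Nat.eq_of_mul_eq_mul_left (Nat.card_pos (α := N)) (h1.symm.trans hcardG.symm)
              have hMC : C = Subgroup.normalizer (K p' : Set G) :=
                Subgroup.eq_of_le_of_card_ge hCM hcard.le
              rw [hMC]; exact hDM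
            · exfalso
              apply hM
              have hNM' : N ≤ Subgroup.normalizer (K p' : Set G) := by
                rw [← hNM]; exact inf_le_left
              rw [← hMN]; exact (sup_eq_left.mpr hNM').symm
        · have hNC' : N ≤ C := by rw [← hNC]; exact inf_le_left
          have : C = ⊤ := by rw [← hL]; exact (sup_eq_left.mpr hNC').symm
          rw [this]; exact le_top
      · -- `CN` proper
        have hCL : C ≤ C ⊔ N := le_sup_left
        have hredL : Reduces K (C ⊔ N) := by
          refine reduces_of_le (fun q => ?_)
          obtain ⟨j, hj⟩ := hred q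
          by_cases hqp : (q : ℕ) = p
          · refine ⟨K q ⊓ C, inf_le_left, j + k, ?_⟩
            rw [← Subgroup.relIndex_mul_relIndex (K q ⊓ C) C (C ⊔ N) inf_le_right hCL,
              Subgroup.inf_relIndex_right, hj, pow_add]
            have h1 : C.relIndex (C ⊔ N) ∣ (q : ℕ) ^ k := by
              rw [hqp, ← hk]; exact relIndex_sup_dvd_card C N
            exact Nat.mul_dvd_mul_left _ h1
          · have hNK : N ≤ K q :=
              IsComplementSystem.normal_le hK q N p hp hNp (fun h => hqp h.symm)
            refine ⟨(K q ⊓ C) ⊔ N, sup_le inf_le_left hNK, j, ?_⟩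
            rw [← hj, ← Subgroup.inf_relIndex_right (K q) C]
            exact relIndex_sup_dvd inf_le_right N
        have hKL := isComplementSystem_subgroupOf hK hredL
        have hCL' : Cfsg.IsCarterSubgroup (C.subgroupOf (C ⊔ N)) :=
          IsCarterSubgroup.subgroupOf hC hCL
        have hredCL : Reduces (fun q => (K q).subgroupOf (C ⊔ N)) (C.subgroupOf (C ⊔ N)) := by
          intro q
          obtain ⟨j, hj⟩ := hred q
          refine ⟨j, ?_⟩
          show ((K q).subgroupOf (C ⊔ N)).relIndex (C.subgroupOf (C ⊔ N)) = _
          rw [Subgroup.relIndex_subgroupOf hCL]; exact hj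
        have hlt : Nat.card (C ⊔ N : Subgroup G) < n := by
          rw [← hn]
          refine lt_of_le_of_ne (Subgroup.card_le_card_group _) ?_
          intro h
          exact hL (Subgroup.card_eq_iff_eq_top _ |>.mp h)
        have h1 := IH _ hlt (C ⊔ N : Subgroup G) rfl _ _ hKL hCL' hredCL
        intro d hd
        have hdL : d ∈ C ⊔ N := hDL hd
        have h2 : (⟨d, hdL⟩ : (C ⊔ N : Subgroup G)) ∈
            (Cfsg.systemNormalizer K).subgroupOf (C ⊔ N) := by
          rw [Subgroup.mem_subgroupOf]; exact hd
        have h3 := h1 (systemNormalizer_subgroupOf_le K (C ⊔ N) h2)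
        rw [Subgroup.mem_subgroupOf] at h3
        exact h3

theorem systemNormalizer_le_carter {G : Type u} [Group G] [Finite G] [Group.IsSolvable G]
    {K : Nat.Primes → Subgroup G} {C : Subgroup G} (hK : Cfsg.IsComplementSystem K)
    (hC : Cfsg.IsCarterSubgroup C) (hred : Reduces K C) : Cfsg.systemNormalizer K ≤ C :=
  systemNormalizer_le_carter_aux (Nat.card G) G rfl K C hK hC hred

end Cfsg.Agent.Lib.Helper32
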