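import Mathlib
import Cfsg.Agent.Lib.Helper32.SysNormCarter

set_option autoImplicit false

namespace Cfsg.Agent.Lib.Helper32

open scoped Pointwise
open Cfsg.Agent.Lib.Helper01 Cfsg.Agent.Lib.Helper13

universe u

/-- For every solvable subgroup `C` there is a complement system of `G` reducing into `C`. -/
theorem exists_complementSystem_reduces {G : Type u} [Group G] [Finite G] [Group.IsSolvable G]
    (C : Subgroup G) :
    ∃ K : Nat.Primes → Subgroup G, Cfsg.IsComplementSystem K ∧ Reduces K C := by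
  have key : ∀ q : Nat.Primes, ∃ Kq : Subgroup G,
      Kq.index = (q : ℕ) ^ (Nat.card G).factorization q ∧
      ∃ H : Subgroup G, H ≤ Kq ∧ ∃ j : ℕ, H.relIndex C ∣ (q : ℕ) ^ j := by
    intro q
    have hq : (q : ℕ).Prime := q.2
    set v := (Nat.card G).factorization q with hv
    set m := Nat.card G / (q : ℕ) ^ v with hm
    have hGm : Nat.card G = m * (q : ℕ) ^ v := by
      rw [mul_comm]; exact (Nat.ordProj_mul_ordCompl_eq_self (Nat.card G) q).symm
    have hcopG : m.Coprime ((q : ℕ) ^ v) :=
      (Nat.Coprime.pow_left v (Nat.coprime_ordCompl hq (Nat.card_pos (α := G)).ne')).symm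
    set w := (Nat.card C).factorization q with hw
    set c := Nat.card C / (q : ℕ) ^ w with hc
    have hCc : Nat.card C = c * (q : ℕ) ^ w := by
      rw [mul_comm]; exact (Nat.ordProj_mul_ordCompl_eq_self (Nat.card C) q).symm
    have hcopC : c.Coprime ((q : ℕ) ^ w) :=
      (Nat.Coprime.pow_left w (Nat.coprime_ordCompl hq (Nat.card_pos (α := C)).ne')).symm
    have hcq : c.Coprime q := (Nat.coprime_ordCompl hq (Nat.card_pos (α := C)).ne').symm
    have hcpos : 0 < c := Nat.ordCompl_pos q (Nat.card_pos (α := C)).ne'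
    have hmpos : 0 < m := Nat.ordCompl_pos q (Nat.card_pos (α := G)).ne'
    obtain ⟨H, hHC, hHcard⟩ := hall_exists_in C inferInstance c ((q : ℕ) ^ w) hCc hcopC
    obtain ⟨-, -, hcont⟩ := hallProp (G := G) m ((q : ℕ) ^ v) hGm hcopG
    obtain ⟨Kq, hKq, hHK⟩ := hcont H (by rw [hHcard]; exact hcq.pow_right v)
    refine ⟨Kq, ?_, H, hHK, w, ?_⟩
    · have := Kq.card_mul_index
      rw [hKq, hGm] at this
      exact Nat.eq_of_mul_eq_mul_left hmpos this
    · have := card_mul_relIndex_of_le hHC
      rw [hHcard, hCc] at this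
      rw [Nat.eq_of_mul_eq_mul_left hcpos this]
  choose K hK1 hK2 using key
  exact ⟨K, hK1, reduces_of_le hK2⟩

/-- Every Carter subgroup contains a system normalizer. -/
theorem exists_systemNormalizer_le_carter {G : Type u} [Group G] [Finite G] [Group.IsSolvable G]
    {C : Subgroup G} (hC : Cfsg.IsCarterSubgroup C) :
    ∃ K : Nat.Primes → Subgroup G, Cfsg.IsComplementSystem K ∧ Cfsg.systemNormalizer K ≤ C := by
  obtain ⟨K, hK, hred⟩ := exists_complementSystem_reduces C
  exact ⟨K, hK, systemNormalizer_le_carter hK hC hred⟩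

/-- Every system normalizer lies in a Carter subgroup. -/
theorem exists_carter_ge_systemNormalizer {G : Type u} [Group G] [Finite G] [Group.IsSolvable G]
    {K : Nat.Primes → Subgroup G} (hK : Cfsg.IsComplementSystem K) :
    ∃ C : Subgroup G, Cfsg.IsCarterSubgroup C ∧ Cfsg.systemNormalizer K ≤ C := by
  obtain ⟨C₀, hC₀⟩ := (carter_theorem (G := G)).1
  obtain ⟨K₀, hK₀, hle⟩ := exists_systemNormalizer_le_carter hC₀
  obtain ⟨g, hg⟩ := complementSystems_conj K₀ K hK₀ hK
  refine ⟨MulAut.conj g • C₀, IsCarterSubgroup.conj_smul hC₀ g, ?_⟩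
  intro x hx
  rw [Subgroup.mem_pointwise_smul_iff_inv_smul_mem]
  apply hle
  rw [mem_systemNormalizer_iff] at hx ⊢
  intro q
  have h1 := hx q
  rw [← hg q, normalizer_conj_smul, Subgroup.mem_pointwise_smul_iff_inv_smul_mem] at h1
  exact h1

end Cfsg.Agent.Lib.Helper32
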