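import Mathlib
import Cfsg.Agent.Lib.Helper32.SysNormCarterMain

set_option autoImplicit false

namespace Cfsg.Agent.Lib.Helper32

open scoped Pointwise
open Cfsg.Agent.Lib.Helper01 Cfsg.Agent.Lib.Helper13

universe u

/-- In a nilpotent group the system normalizer of a complement system is the whole group. -/
theorem systemNormalizer_eq_top_of_isNilpotent {G : Type u} [Group G] [Finite G]
    (hG : Group.IsNilpotent G) {K : Nat.Primes → Subgroup G} (hK : Cfsg.IsComplementSystem K) :
    Cfsg.systemNormalizer K = ⊤ := by
  rw [eq_top_iff]
  intro g _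
  rw [mem_systemNormalizer_iff]
  intro q
  have h1 : (⊤ : Subgroup G) ≤ Subgroup.normalizer (K q : Set G) := by
    apply le_normalizer_of_hall_of_nilpotent
      ((Group.isNilpotent_congr Subgroup.topEquiv).mpr hG) le_top
    rw [Subgroup.relIndex_top_right, hK q]
    exact (IsComplementSystem.coprime_card hK q).pow_right _
  exact h1 (Subgroup.mem_top g)

/-- If `G/F` and `F` are nilpotent, system normalizers are self-normalizing. -/
theorem systemNormalizer_selfNormalizing_aux (n : ℕ) : ∀ (G : Type u) [Group G] [Finite G]
    [Group.IsSolvable G], Nat.card G = n → ∀ (F : Subgroup G) [F.Normal],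
    Group.IsNilpotent F → Group.IsNilpotent (G ⧸ F) →
    ∀ K : Nat.Primes → Subgroup G, Cfsg.IsComplementSystem K →
    Subgroup.normalizer ((Cfsg.systemNormalizer K : Subgroup G) : Set G) =
      Cfsg.systemNormalizer K := by
  induction n using Nat.strong_induction_on with
  | _ n IH =>
    intro G _ _ _ hn F hFn hF hGF K hK
    by_cases hG : Group.IsNilpotent G
    · rw [systemNormalizer_eq_top_of_isNilpotent hG hK]
      exact Subgroup.normalizer_eq_top _
    · have hFne : F ≠ ⊥ := by
        intro h
        apply hG
        exact Subgroup.isNilpotent_of_ker_le_center (QuotientGroup.mk' F)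
          (by rw [QuotientGroup.ker_mk', h]; exact bot_le)
      -- the centre of `F`, as a normal subgroup of `G`
      set Z : Subgroup G := F ⊓ Subgroup.centralizer (F : Set G) with hZ
      haveI hZn : Z.Normal := inferInstance
      have hZne : Z ≠ ⊥ := by
        haveI : Nontrivial F := (Subgroup.nontrivial_iff_ne_bot F).mpr hFne
        have h1 := Group.IsNilpotent.center_ne_bot F
        rw [Ne, Subgroup.eq_bot_iff_forall] at h1
        push Not at h1
        obtain ⟨z, hz, hz1⟩ := h1
        intro h
        have h2 : (z : G) ∈ Z := by
          refine ⟨z.2, ?_⟩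
          show (z : G) ∈ Subgroup.centralizer (F : Set G)
          rw [Subgroup.mem_centralizer_iff]
          intro y hy
          have := Subgroup.mem_center_iff.mp hz ⟨y, hy⟩
          exact congrArg Subtype.val this
        rw [h, Subgroup.mem_bot] at h2
        exact hz1 (Subtype.ext h2)
      obtain ⟨N, hNZ, hN⟩ := exists_isMinNormal_le Z hZn hZne
      haveI hNn : N.Normal := hN.1
      have hNF : N ≤ F := hNZ.trans inf_le_left
      have hNcF : N ≤ Subgroup.centralizer (F : Set G) := hNZ.trans inf_le_right
      set D := Cfsg.systemNormalizer K with hD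
      -- the quotient step
      have hFbar : Group.IsNilpotent (F.map (QuotientGroup.mk' N)) := by
        haveI := hF
        exact Group.nilpotent_of_surjective ((QuotientGroup.mk' N).subgroupMap F)
          ((QuotientGroup.mk' N).subgroupMap_surjective F)
      haveI hFbarn : (F.map (QuotientGroup.mk' N)).Normal :=
        hFn.map _ (QuotientGroup.mk'_surjective N)
      have hGFbar : Group.IsNilpotent ((G ⧸ N) ⧸ F.map (QuotientGroup.mk' N)) :=
        (Group.isNilpotent_congr (QuotientGroup.quotientQuotientEquivQuotient N F hNF)).mpr hGF
      have hq := IH (Nat.card (G ⧸ N)) (by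
        rw [← hn, Subgroup.card_eq_card_quotient_mul_card_subgroup N]
        have h1 : 1 < Nat.card N := N.one_lt_card_iff_ne_bot.mpr hN.2.1
        have h2 : 0 < Nat.card (G ⧸ N) := Nat.card_pos
        nlinarith) (G ⧸ N) rfl (F.map (QuotientGroup.mk' N)) hFbar hGFbar _
        (IsComplementSystem.map_mk' hK N)
      rw [systemNormalizer_map_mk' N hK] at hq
      refine le_antisymm ?_ Subgroup.le_normalizer
      intro g hg
      have hgDN : g ∈ D ⊔ N := by
        have h1 : QuotientGroup.mk' N g ∈
            Subgroup.normalizer ((D.map (QuotientGroup.mk' N) : Subgroup (G ⧸ N)) : Set (G ⧸ N)) :=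
          Subgroup.le_normalizer_map _ (Subgroup.mem_map_of_mem _ hg)
        rw [hq] at h1
        have h2 : g ∈ (D.map (QuotientGroup.mk' N)).comap (QuotientGroup.mk' N) := h1
        rwa [Subgroup.comap_map_eq, QuotientGroup.ker_mk'] at h2
      by_cases hnc : N ≤ Subgroup.center G
      · have hND : N ≤ D := by
          intro x hx
          rw [hD, mem_systemNormalizer_iff]
          intro q
          rw [Subgroup.mem_normalizer_iff]
          intro y
          have : x * y * x⁻¹ = y := by
            rw [← (Subgroup.mem_center_iff.mp (hnc hx) y), mul_inv_cancel_right]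
          rw [this]
        rwa [sup_eq_left.mpr hND] at hgDN
      · have hDN : N ⊓ D = ⊥ := inf_systemNormalizer_eq_bot_of_not_central hK N hN hnc
        obtain ⟨d, hd, x, hx, rfl⟩ := Subgroup.mem_sup_of_normal_right.mp hgDN
        have hxD : x ∈ Subgroup.normalizer (D : Set G) := by
          have : x = d⁻¹ * (d * x) := by group
          rw [this]
          exact Subgroup.mul_mem _ (Subgroup.inv_mem _ (Subgroup.le_normalizer hd)) hg
        -- `x` centralizes `D`
        have hxcD : D ≤ Subgroup.centralizer ({x} : Set G) := by
          intro y hy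
          rw [Subgroup.mem_centralizer_singleton_iff]
          have h1 : x * y * x⁻¹ ∈ D := (Subgroup.mem_normalizer_iff.mp hxD y).mp hy
          have h2 : x * y * x⁻¹ * y⁻¹ ∈ D := D.mul_mem h1 (D.inv_mem hy)
          have h3 : x * y * x⁻¹ * y⁻¹ ∈ N := by
            have : x * y * x⁻¹ * y⁻¹ = x * (y * x⁻¹ * y⁻¹) := by group
            rw [this]
            exact N.mul_mem hx (hNn.conj_mem _ (N.inv_mem hx) y)
          have h4 : x * y * x⁻¹ * y⁻¹ ∈ N ⊓ D := ⟨h3, h2⟩
          rw [hDN, Subgroup.mem_bot] at h4
          have h5 : x * y = y * x := by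
            have : x * y = (x * y * x⁻¹ * y⁻¹) * (y * x) := by group
            rw [this, h4, one_mul]
          exact h5.symm
        have hxcF : F ≤ Subgroup.centralizer ({x} : Set G) := by
          intro y hy
          rw [Subgroup.mem_centralizer_singleton_iff]
          exact hNcF hx y hy
        -- `G = DF`
        have hDF : D ⊔ F = ⊤ := by
          have h1 := systemNormalizer_map_mk' F hK
          rw [systemNormalizer_eq_top_of_isNilpotent hGF (IsComplementSystem.map_mk' hK F)] at h1
          have h2 := Subgroup.comap_map_eq (QuotientGroup.mk' F) D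
          rw [← h1, Subgroup.comap_top, QuotientGroup.ker_mk'] at h2
          exact h2.symm
        have hxc : x ∈ Subgroup.center G := by
          rw [Subgroup.mem_center_iff]
          intro y
          have hy : y ∈ Subgroup.centralizer ({x} : Set G) := by
            have : (⊤ : Subgroup G) ≤ Subgroup.centralizer ({x} : Set G) :=
              hDF ▸ sup_le hxcD hxcF
            exact this (Subgroup.mem_top y)
          exact Subgroup.mem_centralizer_singleton_iff.mp hy
        have hx1 : x = 1 := by
          have hn' : (N ⊓ Subgroup.center G).Normal := inferInstance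
          rcases hN.2.2 _ hn' inf_le_left with h | h
          · have : x ∈ N ⊓ Subgroup.center G := ⟨hx, hxc⟩
            rwa [h, Subgroup.mem_bot] at this
          · exfalso
            apply hnc
            rw [← h]; exact inf_le_right
        rw [hx1, mul_one]
        exact hd

theorem systemNormalizer_isCarter {G : Type u} [Group G] [Finite G] [Group.IsSolvable G]
    (F : Subgroup G) [F.Normal] (hF : Group.IsNilpotent F) (hGF : Group.IsNilpotent (G ⧸ F))
    {K : Nat.Primes → Subgroup G} (hK : Cfsg.IsComplementSystem K) :
    Cfsg.IsCarterSubgroup (Cfsg.systemNormalizer K) :=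
  ⟨systemNormalizer_isNilpotent hK,
    systemNormalizer_selfNormalizing_aux (Nat.card G) G rfl F hF hGF K hK⟩

/-- Carter subgroups are exactly the system normalizers when `G/F` and `F` are nilpotent. -/
theorem isCarter_iff_systemNormalizer {G : Type u} [Group G] [Finite G] [Group.IsSolvable G]
    (F : Subgroup G) [F.Normal] (hF : Group.IsNilpotent F) (hGF : Group.IsNilpotent (G ⧸ F))
    (C : Subgroup G) :
    Cfsg.IsCarterSubgroup C ↔
      ∃ K : Nat.Primes → Subgroup G, Cfsg.IsComplementSystem K ∧ C = Cfsg.systemNormalizer K := by
  constructor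
  · intro hC
    obtain ⟨K, hK, hle⟩ := exists_systemNormalizer_le_carter hC
    refine ⟨K, hK, ?_⟩
    have hD := systemNormalizer_isCarter F hF hGF hK
    exact (eq_of_normalizer_inf_le hC.1 hle (by rw [hD.2]; exact inf_le_left)).symm
  · rintro ⟨K, hK, rfl⟩
    exact systemNormalizer_isCarter F hF hGF hK

end Cfsg.Agent.Lib.Helper32
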