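import Mathlib
import Cfsg.Agent.Lib.Helper40.T1904Defs

/-!
# S1904 keystone K4 (`eamodz_of_max`): the critical-subgroup argument

If `Z(X)` is maximal among the `A`-invariant normal abelian subgroups of the finite `2`-group `X`
then `X / Z(X)` is elementary abelian.
-/

set_option autoImplicit false

namespace Cfsg.Agent.Lib.Helper32.T1904

open Cfsg.Agent.Lib.Helper40.T1904
open scoped commutatorElement

universe u_1

variable {X : Type u_1} [Group X]

/-- a nontrivial normal subgroup of a finite `p`-group meets the centre nontrivially -/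
theorem crit_normal_meets_center {P : Type*} [Group P] [Finite P] (p : ℕ) [Fact p.Prime]
    (hP : IsPGroup p P) (N : Subgroup P) [N.Normal] (hN : N ≠ ⊥) :
    ∃ x : P, x ∈ N ∧ x ∈ Subgroup.center P ∧ x ≠ 1 := by
  have hNp : IsPGroup p ↥N := hP.to_subgroup N
  have hnt : Nontrivial ↥N := (Subgroup.nontrivial_iff_ne_bot N).mpr hN
  have dvd : p ∣ Nat.card ↥N := by
    obtain ⟨n, hn0, hn⟩ := hNp.nontrivial_iff_card.mp hnt
    exact hn.symm ▸ dvd_pow_self _ (ne_of_gt hn0)
  have hone : (1 : ↥N) ∈ MulAction.fixedPoints (ConjAct P) ↥N := by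
    intro g
    apply Subtype.ext
    rw [ConjAct.Subgroup.val_conj_smul]
    simp
  obtain ⟨b, hb, hb1⟩ :=
    (hP.of_equiv ConjAct.toConjAct).exists_fixed_point_of_prime_dvd_card_of_fixed_point
      (α := ↥N) dvd hone
  refine ⟨b, b.2, ?_, ?_⟩
  · rw [Subgroup.mem_center_iff]
    intro g
    have := hb (ConjAct.toConjAct g)
    have h2 := congrArg Subtype.val this
    rw [ConjAct.Subgroup.val_conj_smul, ConjAct.toConjAct_smul] at h2
    have h3 := congrArg (· * g) h2
    simpa [mul_assoc] using h3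
  · intro h
    apply hb1
    apply Subtype.ext
    exact h.symm

theorem crit_conj_center {z : X} (hz : z ∈ Subgroup.center X) (g : X) : g * z * g⁻¹ = z := by
  rw [Subgroup.mem_center_iff] at hz
  rw [hz g, mul_inv_cancel_right]

theorem crit_comm_mul_left (t s x : X) : ⁅t * s, x⁆ = t * ⁅s, x⁆ * t⁻¹ * ⁅t, x⁆ := by
  simp only [commutatorElement_def]; group

theorem crit_comm_mul_right (t x y : X) : ⁅t, x * y⁆ = ⁅t, x⁆ * (x * ⁅t, y⁆ * x⁻¹) := by
  simp only [commutatorElement_def]; group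

/-- the critical subgroup: the preimage in `X` of `Ω₁(Z(X/Z(X)))` -/
def critT (X : Type u_1) [Group X] : Subgroup X where
  carrier := {t | t * t ∈ Subgroup.center X ∧ ∀ x : X, ⁅t, x⁆ ∈ Subgroup.center X}
  one_mem' := by
    refine ⟨by simp, fun x => by simp⟩
  mul_mem' := by
    rintro t s ⟨ht2, htc⟩ ⟨hs2, hsc⟩
    refine ⟨?_, fun x => ?_⟩
    · have h1 : t * s * (t * s) = ⁅s, t⁆ * (t * t) * (s * s) := by
        have hcz := hsc t
        rw [Subgroup.mem_center_iff] at hcz
        have e1 : s * t = ⁅s, t⁆ * (t * s) := by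
          simp only [commutatorElement_def]; group
        calc t * s * (t * s) = t * (s * t) * s := by group
          _ = t * (⁅s, t⁆ * (t * s)) * s := by rw [← e1]
          _ = (t * ⁅s, t⁆) * (t * s) * s := by simp only [mul_assoc]
          _ = (⁅s, t⁆ * t) * (t * s) * s := by rw [hcz t]
          _ = ⁅s, t⁆ * (t * t) * (s * s) := by simp only [mul_assoc]
      rw [h1]
      exact Subgroup.mul_mem _ (Subgroup.mul_mem _ (hsc t) ht2) hs2
    · rw [crit_comm_mul_left, crit_conj_center (hsc x)]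
      exact Subgroup.mul_mem _ (hsc x) (htc x)
  inv_mem' := by
    rintro t ⟨ht2, htc⟩
    refine ⟨?_, fun x => ?_⟩
    · have : t⁻¹ * t⁻¹ = (t * t)⁻¹ := by group
      rw [this]; exact Subgroup.inv_mem _ ht2
    · have : ⁅t⁻¹, x⁆ = t⁻¹ * (⁅t, x⁆)⁻¹ * t⁻¹⁻¹ := by
        simp only [commutatorElement_def]; group
      rw [this, crit_conj_center (Subgroup.inv_mem _ (htc x))]
      exact Subgroup.inv_mem _ (htc x)

theorem mem_critT (t : X) :
    t ∈ critT X ↔ (t * t ∈ Subgroup.center X ∧ ∀ x : X, ⁅t, x⁆ ∈ Subgroup.center X) := Iff.rfl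

/-- A normal subgroup of a finite `2`-group not contained in the centre contains a non-central
element whose image in `X / Z(X)` is a central involution. -/
theorem exists_crit_elt [Finite X] (hX : IsPGroup 2 X) (C : Subgroup X) [hC : C.Normal]
    (hCZ : ¬ C ≤ Subgroup.center X) :
    ∃ c ∈ C, c ∉ Subgroup.center X ∧ c * c ∈ Subgroup.center X ∧
      ∀ x : X, ⁅c, x⁆ ∈ Subgroup.center X := by
  classical
  have : Fact (Nat.Prime 2) := ⟨Nat.prime_two⟩
  let π : X →* X ⧸ Subgroup.center X := QuotientGroup.mk' (Subgroup.center X)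
  have hπs : Function.Surjective π := QuotientGroup.mk'_surjective _
  have hker : ∀ x : X, π x = 1 ↔ x ∈ Subgroup.center X := fun x => QuotientGroup.eq_one_iff x
  have hC' : (C.map π).Normal := hC.map π hπs
  have hG : IsPGroup 2 (X ⧸ Subgroup.center X) := hX.to_quotient _
  have hne : C.map π ≠ ⊥ := by
    intro h
    apply hCZ
    intro c hc
    have : π c ∈ C.map π := Subgroup.mem_map_of_mem π hc
    rw [h, Subgroup.mem_bot] at this
    exact (hker c).mp this
  obtain ⟨g, hgC, hgZ, hg1⟩ := crit_normal_meets_center 2 hG (C.map π) hne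
  obtain ⟨k, hk⟩ := (IsPGroup.iff_orderOf.mp hG) g
  have hk0 : k ≠ 0 := by
    rintro rfl
    rw [pow_zero, orderOf_eq_one_iff] at hk
    exact hg1 hk
  obtain ⟨j, rfl⟩ := Nat.exists_eq_succ_of_ne_zero hk0
  have hg'2 : g ^ (2 ^ j) * g ^ (2 ^ j) = 1 := by
    rw [← pow_add, ← two_mul, ← pow_succ', ← hk, pow_orderOf_eq_one]
  have hg'1 : g ^ (2 ^ j) ≠ 1 := by
    apply pow_ne_one_of_lt_orderOf (by positivity)
    rw [hk]; exact Nat.pow_lt_pow_right (by norm_num) (Nat.lt_succ_self j)
  have hg'C : g ^ (2 ^ j) ∈ C.map π := Subgroup.pow_mem _ hgC _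
  have hg'Z : g ^ (2 ^ j) ∈ Subgroup.center (X ⧸ Subgroup.center X) := Subgroup.pow_mem _ hgZ _
  obtain ⟨c, hcC, hc⟩ := Subgroup.mem_map.mp hg'C
  refine ⟨c, hcC, ?_, ?_, ?_⟩
  · intro h; exact hg'1 (hc ▸ (hker c).mpr h)
  · rw [← hker, map_mul, hc, hg'2]
  · intro x
    rw [← hker, map_commutatorElement, hc, commutatorElement_eq_one_iff_mul_comm]
    exact ((Subgroup.mem_center_iff.mp hg'Z) (π x)).symm

/-- K4.  If `Z(X)` is maximal among `A`-invariant normal abelian subgroups then `X/Z(X)` is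
elementary abelian. -/
theorem eamodz_of_max [Finite X] (hX : IsPGroup 2 X) (A : Subgroup (MulAut X))
    (hmax : MaxInv A (Subgroup.center X)) : EAmodZ X := by
  classical
  obtain ⟨hZn, hZab, hZinv, hmaxZ⟩ := hmax
  have hZT : Subgroup.center X ≤ critT X := by
    intro z hz
    refine ⟨Subgroup.mul_mem _ hz hz, fun x => ?_⟩
    have : ⁅z, x⁆ = 1 := by
      rw [commutatorElement_eq_one_iff_mul_comm]
      exact ((Subgroup.mem_center_iff.mp hz) x).symm
    rw [this]; exact Subgroup.one_mem _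
  have hTn : (critT X).Normal := by
    constructor
    intro t ht g
    obtain ⟨ht2, htc⟩ := ht
    refine ⟨?_, fun x => ?_⟩
    · have : g * t * g⁻¹ * (g * t * g⁻¹) = g * (t * t) * g⁻¹ := by group
      rw [this, crit_conj_center ht2]; exact ht2
    · have : ⁅g * t * g⁻¹, x⁆ = g * ⁅t, g⁻¹ * x * g⁆ * g⁻¹ := by
        simp only [commutatorElement_def]; group
      rw [this, crit_conj_center (htc _)]; exact htc _
  have hTinv : Inv A (critT X) := by
    intro φ hφ t ht
    obtain ⟨ht2, htc⟩ := ht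
    refine ⟨?_, fun x => ?_⟩
    · rw [← map_mul]; exact hZinv φ hφ _ ht2
    · have : ⁅φ t, x⁆ = φ ⁅t, φ⁻¹ x⁆ := by
        rw [map_commutatorElement]; simp
      rw [this]; exact hZinv φ hφ _ (htc _)
  have hCT : ∀ c, c ∈ Subgroup.centralizer (critT X : Set X) ↔ ∀ t ∈ critT X, t * c = c * t :=
    fun c => Subgroup.mem_centralizer_iff
  have hCTn : (Subgroup.centralizer (critT X : Set X)).Normal := by
    constructor
    intro c hc g
    rw [hCT] at hc ⊢
    intro t ht
    have h1 : g⁻¹ * t * g ∈ critT X := by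
      have := hTn.conj_mem t ht g⁻¹
      simpa using this
    have h2 := hc _ h1
    calc t * (g * c * g⁻¹) = g * ((g⁻¹ * t * g) * c) * g⁻¹ := by group
      _ = g * (c * (g⁻¹ * t * g)) * g⁻¹ := by rw [h2]
      _ = g * c * g⁻¹ * t := by group
  have hCTinv : Inv A (Subgroup.centralizer (critT X : Set X)) := by
    intro φ hφ c hc
    rw [hCT] at hc ⊢
    intro t ht
    have h1 : φ⁻¹ t ∈ critT X := hTinv φ⁻¹ (Subgroup.inv_mem _ hφ) t ht
    have h2 := hc _ h1
    have := congrArg φ h2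
    simpa using this
  have hZCT : Subgroup.center X ≤ Subgroup.centralizer (critT X : Set X) := by
    intro z hz
    rw [hCT]
    intro t _
    exact (Subgroup.mem_center_iff.mp hz) t
  have hZTeq : critT X ⊓ Subgroup.centralizer (critT X : Set X) = Subgroup.center X := by
    apply hmaxZ
    · exact Subgroup.normal_inf_normal _ _
    · intro a ha b hb
      exact ((hCT b).mp hb.2 a ha.1)
    · intro φ hφ n hn
      exact ⟨hTinv φ hφ n hn.1, hCTinv φ hφ n hn.2⟩
    · exact le_inf hZT hZCT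
  have hCTZ : Subgroup.centralizer (critT X : Set X) ≤ Subgroup.center X := by
    by_contra hnot
    obtain ⟨c, hcC, hcZ, hc2, hcc⟩ := exists_crit_elt hX _ hnot
    apply hcZ
    rw [← hZTeq]
    exact ⟨⟨hc2, hcc⟩, hcC⟩
  have key : ∀ t ∈ critT X, ∀ x y : X, ⁅t, x * y⁆ = ⁅t, x⁆ * ⁅t, y⁆ := by
    intro t ht x y
    rw [crit_comm_mul_right, crit_conj_center (ht.2 y)]
  have hsq : ∀ t ∈ critT X, ∀ x : X, ⁅t, x⁆ * ⁅t, x⁆ = 1 := by
    intro t ht x
    have h1 : ⁅t * t, x⁆ = ⁅t, x⁆ * ⁅t, x⁆ := by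
      rw [crit_comm_mul_left, crit_conj_center (ht.2 x)]
    rw [← h1, commutatorElement_eq_one_iff_mul_comm]
    exact ((Subgroup.mem_center_iff.mp ht.1) x).symm
  refine ⟨fun x => ?_, fun x y => ?_⟩
  · apply hCTZ
    rw [hCT]
    intro t ht
    have : ⁅t, x * x⁆ = 1 := by rw [key t ht, hsq t ht]
    exact commutatorElement_eq_one_iff_mul_comm.mp this
  · apply hCTZ
    rw [hCT]
    intro t ht
    let f : X →* Subgroup.center X :=
      { toFun := fun x => ⟨⁅t, x⁆, ht.2 x⟩
        map_one' := by ext; simp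
        map_mul' := fun a b => by ext; simp [key t ht a b] }
    have h1 : f ⁅x, y⁆ = 1 := by
      rw [map_commutatorElement, commutatorElement_eq_one_iff_mul_comm]
      apply Subtype.ext
      show ⁅t, x⁆ * ⁅t, y⁆ = ⁅t, y⁆ * ⁅t, x⁆
      exact (Subgroup.mem_center_iff.mp (ht.2 y)) _
    have h2 : ⁅t, ⁅x, y⁆⁆ = 1 := congrArg Subtype.val h1
    exact commutatorElement_eq_one_iff_mul_comm.mp h2

end Cfsg.Agent.Lib.Helper32.T1904
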