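import Mathlib

set_option autoImplicit false

namespace Cfsg.Agent.Lib.Helper32.TwCount

/-- For a third root of unity, the six twisted-Frobenius conditions on `![ζ,1,ζ²,1,ζ,ζ²]`
are equivalent to `ζ ^ (q+1) = 1`. -/
theorem conds_iff {M : Type*} [CommGroup M] (q : ℕ) (ζ : M) (hζ : ζ ^ 3 = 1) :
    ((ζ ^ 2) ^ q = ζ ∧ (1 : M) ^ q = 1 ∧ ζ ^ q = ζ ^ 2 ∧ (1 : M) ^ q = 1 ∧ (ζ ^ 2) ^ q = ζ ∧
      ζ ^ q = ζ ^ 2) ↔ ζ ^ (q + 1) = 1 := by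
  constructor
  · rintro ⟨-, -, h, -, -, -⟩
    rw [pow_succ, h, ← pow_succ]; exact hζ
  · intro h
    have h1 : ζ ^ q = ζ ^ 2 := by
      have : ζ ^ q * ζ = ζ ^ 2 * ζ := by
        rw [← pow_succ, h, ← pow_succ]; exact hζ.symm
      exact mul_right_cancel this
    have h2 : (ζ ^ 2) ^ q = ζ := by
      rw [← pow_mul, mul_comm, pow_mul, h1, ← pow_mul]
      calc ζ ^ (2 * 2) = ζ ^ 3 * ζ := by rw [← pow_succ]
        _ = ζ := by rw [hζ, one_mul]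
    exact ⟨h2, one_pow _, h1, one_pow _, h2, h1⟩

theorem card_fix_center_E6 {K : Type*} [Field K] [Fintype K] (q : ℕ) (hK : Fintype.card K = q ^ 2) :
    Nat.card {c : Fin 6 → Kˣ // (c 5 ^ q = c 0 ∧ c 1 ^ q = c 1 ∧ c 4 ^ q = c 2 ∧ c 3 ^ q = c 3 ∧
        c 2 ^ q = c 4 ∧ c 0 ^ q = c 5) ∧
        ∃ ζ : Kˣ, ζ ^ 3 = 1 ∧ c = ![ζ, 1, ζ ^ 2, 1, ζ, ζ ^ 2]} = Nat.gcd 3 (q + 1) := by
  classical
  set g := Nat.gcd 3 (q + 1) with hg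
  -- q ≥ 2
  have hq2 : 2 ≤ q := by
    have h1 : 1 < Fintype.card K := Fintype.one_lt_card
    rw [hK] at h1
    by_contra hlt
    push Not at hlt
    interval_cases q <;> simp at h1
  -- card of units
  have hcardU : Nat.card Kˣ = q ^ 2 - 1 := by
    rw [Nat.card_eq_fintype_card, Fintype.card_units, hK]
  have hdvd : g ∣ q ^ 2 - 1 := by
    have h1 : g ∣ q + 1 := Nat.gcd_dvd_right 3 (q + 1)
    have h2 : q ^ 2 - 1 = (q + 1) * (q - 1) := by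
      obtain ⟨k, rfl⟩ : ∃ k, q = k + 1 := ⟨q - 1, by omega⟩
      simp only [Nat.add_sub_cancel]
      have : (k + 1) ^ 2 = (k + 1 + 1) * k + 1 := by ring
      rw [this, Nat.add_sub_cancel]
    rw [h2]; exact Dvd.dvd.mul_right h1 _
  have hker : Nat.card (powMonoidHom g : Kˣ →* Kˣ).ker = g := by
    rw [IsCyclic.card_powMonoidHom_ker, hcardU]
    exact Nat.gcd_eq_right hdvd
  rw [← hker]
  symm
  -- the bijection
  have key : ∀ ζ : Kˣ, ζ ^ g = 1 ↔ (ζ ^ 3 = 1 ∧ ζ ^ (q + 1) = 1) := by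
    intro ζ
    rw [hg]
    exact pow_gcd_eq_one
  refine Nat.card_congr (Equiv.ofBijective
    (fun ζ : (powMonoidHom g : Kˣ →* Kˣ).ker =>
      (⟨![(ζ : Kˣ), 1, (ζ : Kˣ) ^ 2, 1, (ζ : Kˣ), (ζ : Kˣ) ^ 2], by
        have hζ : (ζ : Kˣ) ^ g = 1 := by
          have := ζ.2
          rwa [MonoidHom.mem_ker, powMonoidHom_apply] at this
        obtain ⟨h3, hq⟩ := (key _).1 hζ
        refine ⟨?_, ζ, h3, rfl⟩
        have := (conds_iff q (ζ : Kˣ) h3).2 hq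
        simpa using this⟩ :
        {c : Fin 6 → Kˣ // (c 5 ^ q = c 0 ∧ c 1 ^ q = c 1 ∧ c 4 ^ q = c 2 ∧ c 3 ^ q = c 3 ∧
          c 2 ^ q = c 4 ∧ c 0 ^ q = c 5) ∧
          ∃ ζ : Kˣ, ζ ^ 3 = 1 ∧ c = ![ζ, 1, ζ ^ 2, 1, ζ, ζ ^ 2]})) ⟨?_, ?_⟩)
  · intro ζ₁ ζ₂ h
    have h' := congrArg (fun c => c.1 0) h
    simp only [Matrix.cons_val_zero] at h'
    exact Subtype.ext h'
  · rintro ⟨c, hc, ζ, h3, rfl⟩
    have hq : ζ ^ (q + 1) = 1 := by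
      apply (conds_iff q ζ h3).1
      simpa using hc
    have hζ : ζ ∈ (powMonoidHom g : Kˣ →* Kˣ).ker := by
      rw [MonoidHom.mem_ker, powMonoidHom_apply]
      exact (key ζ).2 ⟨h3, hq⟩
    exact ⟨⟨ζ, hζ⟩, rfl⟩

end Cfsg.Agent.Lib.Helper32.TwCount
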