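import Cfsg.Agent.Lib.Helper73.UCDefs

/-!
# K-UC-K3 (264603): `FormsInv` only depends on the conjugacy class (and reindexing)
-/

set_option autoImplicit false
set_option linter.unusedSectionVars false
set_option linter.unusedVariables false

namespace Cfsg.Agent.Lib.Helper32.UC

open Matrix Cfsg.Agent.Lib.Helper73.UC

variable {K : Type*} [Field K]

section general

variable {ι : Type*} [Fintype ι] [DecidableEq ι]

theorem hadj_mul (φ : K →+* K) (M N : Matrix ι ι K) :
    hadj φ (M * N) = hadj φ N * hadj φ M := by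
  unfold hadj
  rw [Matrix.map_mul, Matrix.transpose_mul]

theorem hadj_hadj (φ : K →+* K) (hφφ : ∀ x, φ (φ x) = x) (M : Matrix ι ι K) :
    hadj φ (hadj φ M) = M := by
  unfold hadj
  ext i j
  simp [Matrix.transpose_apply, Matrix.map_apply, hφφ]

theorem det_hadj (φ : K →+* K) (M : Matrix ι ι K) : (hadj φ M).det = φ M.det := by
  unfold hadj
  rw [Matrix.det_transpose]
  exact (RingHom.map_det φ M).symm

theorem isUnit_det_hadj (φ : K →+* K) {M : Matrix ι ι K} (h : IsUnit M.det) :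
    IsUnit (hadj φ M).det := by
  rw [det_hadj]
  exact h.map φ

theorem hadj_one (φ : K →+* K) : hadj φ (1 : Matrix ι ι K) = 1 := by
  unfold hadj
  rw [Matrix.map_one φ (map_zero φ) (map_one φ), Matrix.transpose_one]

/-- the map `M ↦ c* M c` sends `FormsInv A` into `FormsInv B` when `c * B = A * c`. -/
theorem mem_formsInv_conj (φ : K →+* K) (hφφ : ∀ x, φ (φ x) = x) {A B c : Matrix ι ι K}
    (hc : IsUnit c.det) (h : c * B = A * c) {M : Matrix ι ι K} (hM : M ∈ FormsInv φ A) :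
    hadj φ c * M * c ∈ FormsInv φ B := by
  obtain ⟨h1, h2, h3⟩ := hM
  refine ⟨?_, ?_, ?_⟩
  · rw [hadj_mul, hadj_mul, hadj_hadj φ hφφ, h1, Matrix.mul_assoc]
  · rw [Matrix.det_mul, Matrix.det_mul]
    exact ((isUnit_det_hadj φ hc).mul h2).mul hc
  · calc hadj φ B * (hadj φ c * M * c) * B
        = (hadj φ B * hadj φ c) * M * (c * B) := by simp only [Matrix.mul_assoc]
      _ = hadj φ (c * B) * M * (c * B) := by rw [hadj_mul]
      _ = hadj φ (A * c) * M * (A * c) := by rw [h]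
      _ = (hadj φ c * hadj φ A) * M * (A * c) := by rw [hadj_mul]
      _ = hadj φ c * (hadj φ A * M * A) * c := by simp only [Matrix.mul_assoc]
      _ = hadj φ c * M * c := by rw [h3]

theorem card_formsInv_of_semiconj (φ : K →+* K) (hφφ : ∀ x, φ (φ x) = x) {A B c : Matrix ι ι K}
    (hc : IsUnit c.det) (h : c * B = A * c) :
    Nat.card (FormsInv φ A) = Nat.card (FormsInv φ B) := by
  have hcinv : c * c⁻¹ = 1 := Matrix.mul_nonsing_inv c hc
  have hcinv' : c⁻¹ * c = 1 := Matrix.nonsing_inv_mul c hc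
  have hc' : IsUnit (c⁻¹).det := by
    rw [Matrix.det_nonsing_inv]
    exact hc.ringInverse
  have h' : c⁻¹ * A = B * c⁻¹ := by
    calc c⁻¹ * A = c⁻¹ * (A * c) * c⁻¹ := by
          rw [Matrix.mul_assoc, Matrix.mul_assoc, hcinv, Matrix.mul_one]
      _ = c⁻¹ * (c * B) * c⁻¹ := by rw [h]
      _ = B * c⁻¹ := by rw [← Matrix.mul_assoc c⁻¹ c B, hcinv', Matrix.one_mul]
  have hh1 : hadj φ c * hadj φ c⁻¹ = 1 := by
    rw [← hadj_mul, hcinv', hadj_one]
  have hh2 : hadj φ c⁻¹ * hadj φ c = 1 := by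
    rw [← hadj_mul, hcinv, hadj_one]
  refine Nat.card_congr
    { toFun := fun M => ⟨hadj φ c * M.1 * c, mem_formsInv_conj φ hφφ hc h M.2⟩
      invFun := fun M => ⟨hadj φ c⁻¹ * M.1 * c⁻¹, mem_formsInv_conj φ hφφ hc' h' M.2⟩
      left_inv := ?_
      right_inv := ?_ }
  · intro M
    apply Subtype.ext
    show hadj φ c⁻¹ * (hadj φ c * M.1 * c) * c⁻¹ = M.1
    calc hadj φ c⁻¹ * (hadj φ c * M.1 * c) * c⁻¹
        = (hadj φ c⁻¹ * hadj φ c) * M.1 * (c * c⁻¹) := by simp only [Matrix.mul_assoc]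
      _ = M.1 := by rw [hh2, hcinv, Matrix.one_mul, Matrix.mul_one]
  · intro M
    apply Subtype.ext
    show hadj φ c * (hadj φ c⁻¹ * M.1 * c⁻¹) * c = M.1
    calc hadj φ c * (hadj φ c⁻¹ * M.1 * c⁻¹) * c
        = (hadj φ c * hadj φ c⁻¹) * M.1 * (c⁻¹ * c) := by simp only [Matrix.mul_assoc]
      _ = M.1 := by rw [hh1, hcinv', Matrix.one_mul, Matrix.mul_one]

variable {κ : Type*} [Fintype κ] [DecidableEq κ]

theorem hadj_reindex (φ : K →+* K) (e : ι ≃ κ) (M : Matrix ι ι K) :
    hadj φ (Matrix.reindex e e M) = Matrix.reindex e e (hadj φ M) := by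
  unfold hadj
  ext i j
  simp [Matrix.reindex_apply, Matrix.submatrix_apply, Matrix.transpose_apply, Matrix.map_apply]

theorem mem_formsInv_reindex (φ : K →+* K) (e : ι ≃ κ) {B M : Matrix ι ι K}
    (hM : M ∈ FormsInv φ B) : Matrix.reindex e e M ∈ FormsInv φ (Matrix.reindex e e B) := by
  obtain ⟨h1, h2, h3⟩ := hM
  refine ⟨?_, ?_, ?_⟩
  · rw [hadj_reindex, h1]
  · rw [Matrix.det_reindex_self]
    exact h2
  · rw [hadj_reindex]
    simp only [Matrix.reindex_apply, Matrix.submatrix_mul_equiv]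
    rw [h3]

theorem card_formsInv_reindex (φ : K →+* K) (e : ι ≃ κ) (B : Matrix ι ι K) :
    Nat.card (FormsInv φ (Matrix.reindex e e B)) = Nat.card (FormsInv φ B) := by
  symm
  refine Nat.card_congr
    { toFun := fun M => ⟨Matrix.reindex e e M.1, mem_formsInv_reindex φ e M.2⟩
      invFun := fun M => ⟨Matrix.reindex e.symm e.symm M.1, by
        have := mem_formsInv_reindex φ e.symm M.2
        simpa [Matrix.reindex_apply] using this⟩
      left_inv := ?_
      right_inv := ?_ }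
  · intro M
    apply Subtype.ext
    simp [Matrix.reindex_apply]
  · intro M
    apply Subtype.ext
    simp [Matrix.reindex_apply]

end general

theorem card_formsInv_of_isConj {n t : ℕ} (φ : K →+* K) (hφφ : ∀ x, φ (φ x) = x)
    (d : Fin t → ℕ) (e : ((k : Fin t) × Fin (d k)) ≃ Fin n) (A : Matrix (Fin n) (Fin n) K)
    (hA : IsConj (Matrix.reindex e e (Cfsg.jordanTypeMatrix d K)) A) :
    Nat.card (FormsInv φ A) = Nat.card (FormsInv φ (Cfsg.jordanTypeMatrix d K)) := by
  obtain ⟨c, hc⟩ := hA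
  have hcu : IsUnit ((c : Matrix (Fin n) (Fin n) K)).det :=
    (Matrix.isUnit_iff_isUnit_det _).mp c.isUnit
  have h : (c : Matrix (Fin n) (Fin n) K) * Matrix.reindex e e (Cfsg.jordanTypeMatrix d K) =
      A * (c : Matrix (Fin n) (Fin n) K) := hc
  rw [card_formsInv_of_semiconj φ hφφ hcu h, card_formsInv_reindex]

end Cfsg.Agent.Lib.Helper32.UC
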