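import Mathlib

/-!
# Cyclic modules for a unipotent operator on an elementary abelian `p`-group (helper32)

For an automorphism `φ` of an elementary abelian `p`-group `V` we write `D w = φ w * w⁻¹`
(additively `φ - 1`).  We record, in multiplicative language:
* the norm `∏_{i<p} φ^i` equals `D^[p-1]`;
* if `φ ^ p = 1` then `D^[p] = 1`, and every `v₀` with `D^[p-1] v₀ ≠ 1` generates a `φ`-invariant
  subgroup of order `p ^ p` in which the fixed points of `φ` are the powers of `D^[p-1] v₀`.
-/

set_option autoImplicit false

namespace Cfsg.Agent.Lib.Helper32.Wreath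

section Poly

variable (p : ℕ) [hp : Fact p.Prime]

/-- `(X - 1) ^ (p - 1) = ∑_{i<p} X ^ i` over `ZMod p` -/
theorem poly_geom :
    ((Polynomial.X : Polynomial (ZMod p)) - 1) ^ (p - 1) =
      ∑ i ∈ Finset.range p, (Polynomial.X : Polynomial (ZMod p)) ^ i := by
  have hpp : p.Prime := hp.out
  have h1 : ((Polynomial.X : Polynomial (ZMod p)) - 1) * (Polynomial.X - 1) ^ (p - 1) =
      (Polynomial.X - 1) * ∑ i ∈ Finset.range p, (Polynomial.X : Polynomial (ZMod p)) ^ i := by
    rw [mul_geom_sum, ← pow_succ', Nat.sub_add_cancel hpp.one_le, sub_pow_char, one_pow]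
  have hne : ((Polynomial.X : Polynomial (ZMod p)) - 1) ≠ 0 := by
    have := Polynomial.X_sub_C_ne_zero (1 : ZMod p)
    simpa using this
  exact mul_left_cancel₀ hne h1

/-- `(X - 1) ^ p = X ^ p - 1` over `ZMod p` -/
theorem poly_pow :
    ((Polynomial.X : Polynomial (ZMod p)) - 1) ^ p = Polynomial.X ^ p - 1 := by
  rw [sub_pow_char, one_pow]

end Poly

section Hom

variable {V : Type*} [CommGroup V]

/-- the iterates of `w ↦ φ w * w⁻¹` are homomorphisms -/
theorem iter_hom (φ : MulAut V) (k : ℕ) :
    ∃ g : V →* V, ∀ s : V, g s = (fun w => φ w * w⁻¹)^[k] s := by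
  induction k with
  | zero => exact ⟨MonoidHom.id V, fun s => rfl⟩
  | succ k ih =>
    obtain ⟨g, hg⟩ := ih
    refine ⟨{ toFun := fun s => φ (g s) * (g s)⁻¹
              map_one' := by simp
              map_mul' := fun a b => by
                rw [map_mul, map_mul, mul_inv]
                exact mul_mul_mul_comm _ _ _ _ }, ?_⟩
    intro s
    rw [Function.iterate_succ', Function.comp_apply, ← hg]
    rfl

theorem iter_inv (φ : MulAut V) (k : ℕ) (s : V) :
    (fun w => φ w * w⁻¹)^[k] s⁻¹ = ((fun w => φ w * w⁻¹)^[k] s)⁻¹ := by
  obtain ⟨g, hg⟩ := iter_hom φ k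
  rw [← hg, ← hg, map_inv]

theorem iter_pow (φ : MulAut V) (k : ℕ) (s : V) (n : ℕ) :
    (fun w => φ w * w⁻¹)^[k] (s ^ n) = ((fun w => φ w * w⁻¹)^[k] s) ^ n := by
  obtain ⟨g, hg⟩ := iter_hom φ k
  rw [← hg, ← hg, map_pow]

theorem iter_zpow (φ : MulAut V) (k : ℕ) (s : V) (n : ℤ) :
    (fun w => φ w * w⁻¹)^[k] (s ^ n) = ((fun w => φ w * w⁻¹)^[k] s) ^ n := by
  obtain ⟨g, hg⟩ := iter_hom φ k
  rw [← hg, ← hg, map_zpow]

end Hom

section Package

variable {V : Type*} [CommGroup V] [Finite V] {p : ℕ} [hp : Fact p.Prime]

/-- the linear-algebra package for a unipotent automorphism of an elementary abelian `p`-group -/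
theorem elemab_package (hV : ∀ v : V, v ^ p = 1) (φ : MulAut V) :
    (∀ s : V, ∏ i ∈ Finset.range p, (φ ^ i) s = (fun w => φ w * w⁻¹)^[p - 1] s) ∧
    ((∀ v : V, (φ ^ p) v = v) →
      (∀ v : V, (fun w => φ w * w⁻¹)^[p] v = 1) ∧
      ∀ v₀ : V, (fun w => φ w * w⁻¹)^[p - 1] v₀ ≠ 1 →
        ∃ B : Subgroup V, (∀ b ∈ B, φ b ∈ B) ∧ Nat.card B = p ^ p ∧
          (fun w => φ w * w⁻¹)^[p - 1] v₀ ∈ B ∧
          ∀ b ∈ B, φ b = b → b ∈ Subgroup.zpowers ((fun w => φ w * w⁻¹)^[p - 1] v₀)) := by
  classical
  have hpp : p.Prime := hp.out
  have : NeZero p := ⟨hpp.ne_zero⟩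
  have hx : ∀ x : Additive V, p • x = 0 := fun x =>
    congrArg Additive.ofMul (hV (Additive.toMul x))
  letI : Module (ZMod p) (Additive V) := AddCommGroup.zmodModule (n := p) hx
  set f : Additive V →ₗ[ZMod p] Additive V :=
    (MonoidHom.toAdditive φ.toMonoidHom).toZModLinearMap p with hf
  have hfapp : ∀ w : Additive V, f w = Additive.ofMul (φ (Additive.toMul w)) := fun w => rfl
  have hd : ∀ (k : ℕ) (w : Additive V), ((f - 1) ^ k) w =
      Additive.ofMul ((fun w => φ w * w⁻¹)^[k] (Additive.toMul w)) := by
    intro k
    induction k with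
    | zero => intro w; simp
    | succ k ih =>
      intro w
      rw [pow_succ', Module.End.mul_apply, ih, Function.iterate_succ', Function.comp_apply]
      rw [LinearMap.sub_apply, hfapp, Module.End.one_apply, toMul_ofMul, ← ofMul_div,
        div_eq_mul_inv]
  have hpow : ∀ (i : ℕ) (w : Additive V),
      (f ^ i) w = Additive.ofMul ((φ ^ i) (Additive.toMul w)) := by
    intro i
    induction i with
    | zero => intro w; simp
    | succ i ih =>
      intro w
      rw [pow_succ', Module.End.mul_apply, ih, hfapp, pow_succ', MulAut.mul_apply]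
      rfl
  have hgeom : (f - 1) ^ (p - 1) = ∑ i ∈ Finset.range p, f ^ i := by
    have h := congrArg (Polynomial.aeval f) (poly_geom p)
    simpa only [map_pow, map_sub, Polynomial.aeval_X, map_one, map_sum] using h
  refine ⟨?_, ?_⟩
  · intro s
    have h2 := congrArg (fun F : Module.End (ZMod p) (Additive V) => F (Additive.ofMul s)) hgeom
    simp only [LinearMap.sum_apply, hpow, hd, toMul_ofMul] at h2
    rw [← ofMul_prod] at h2
    exact (Additive.ofMul.injective h2).symm
  · intro hφp
    have hfp : f ^ p = 1 := by
      ext w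
      rw [hpow, hφp]
      rfl
    have hNp : (f - 1) ^ p = 0 := by
      have h := congrArg (Polynomial.aeval f) (poly_pow p)
      simp only [map_pow, map_sub, Polynomial.aeval_X, map_one] at h
      rw [h, hfp, sub_self]
    have hNge : ∀ k, p ≤ k → (f - 1) ^ k = 0 := fun k hk => pow_eq_zero_of_le hk hNp
    refine ⟨?_, ?_⟩
    · intro v
      have h2 := hd p (Additive.ofMul v)
      rw [hNp, toMul_ofMul] at h2
      exact (Additive.ofMul.injective h2).symm
    · intro v₀ hv₀
      set N : Module.End (ZMod p) (Additive V) := f - 1 with hN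
      set m₀ : Additive V := Additive.ofMul v₀ with hm₀
      set u : V := (fun w => φ w * w⁻¹)^[p - 1] v₀ with hu
      have hNu : (N ^ (p - 1)) m₀ = Additive.ofMul u := by rw [hd]; rfl
      have hNm₀ : (N ^ (p - 1)) m₀ ≠ 0 := by
        rw [hNu]
        intro h
        exact hv₀ (Additive.ofMul.injective h)
      -- independence
      have key : ∀ (k : ℕ) (c : Fin p → ZMod p),
          ∑ i, c i • (N ^ ((i : ℕ) + k)) m₀ = 0 → ∀ i : Fin p, (i : ℕ) + k < p → c i = 0 := by
        intro k c hc
        have : ∀ n (i : Fin p), (i : ℕ) = n → (i : ℕ) + k < p → c i = 0 := by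
          intro n
          induction n using Nat.strong_induction_on with
          | _ n ih =>
            intro i hi hik
            have h1 := congrArg (N ^ (p - 1 - k - n)) hc
            rw [map_sum, map_zero] at h1
            rw [Finset.sum_eq_single i] at h1
            · rw [map_smul, ← Module.End.mul_apply, ← pow_add, hi,
                (by omega : p - 1 - k - n + (n + k) = p - 1)] at h1
              rcases smul_eq_zero.mp h1 with h | h
              · exact h
              · exact absurd h hNm₀
            · intro j _ hji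
              rw [map_smul]
              have hjne : (j : ℕ) ≠ n := fun h => hji (Fin.ext (h.trans hi.symm))
              rcases lt_or_gt_of_ne hjne with hlt | hgt
              · rw [ih j hlt j rfl (by omega), zero_smul]
              · rw [← Module.End.mul_apply, ← pow_add, hNge _ (by omega), LinearMap.zero_apply,
                  smul_zero]
            · intro h
              exact absurd (Finset.mem_univ i) h
        intro i hik
        exact this i i rfl hik
      set w : Fin p → Additive V := fun i => (N ^ (i : ℕ)) m₀ with hw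
      have hli : LinearIndependent (ZMod p) w := by
        rw [Fintype.linearIndependent_iff]
        intro c hc i
        exact key 0 c (by simpa [hw] using hc) i (by simpa using i.2)
      set S : Submodule (ZMod p) (Additive V) := Submodule.span (ZMod p) (Set.range w) with hS
      have hfr : Module.finrank (ZMod p) S = p := by
        rw [hS, finrank_span_eq_card hli, Fintype.card_fin]
      have hcardS : Nat.card S = p ^ p := by
        rw [Module.natCard_eq_pow_finrank (K := ZMod p), Nat.card_zmod, hfr]
      have hwS : ∀ i : Fin p, w i ∈ S := fun i => Submodule.subset_span ⟨i, rfl⟩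
      have hNS : ∀ m ∈ S, N m ∈ S := by
        have : S.map N ≤ S := by
          rw [hS, Submodule.map_span_le]
          rintro _ ⟨i, rfl⟩
          by_cases hi : (i : ℕ) + 1 < p
          · have : N (w i) = w ⟨(i : ℕ) + 1, hi⟩ := by
              simp only [hw]
              rw [← Module.End.mul_apply, ← pow_succ']
            rw [this]
            exact hwS _
          · have : N (w i) = 0 := by
              simp only [hw]
              rw [← Module.End.mul_apply, ← pow_succ', hN, hNge _ (by omega)]
              rfl
            rw [this]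
            exact S.zero_mem
        intro m hm
        exact this (Submodule.mem_map_of_mem hm)
      let B : Subgroup V :=
        { carrier := {b | Additive.ofMul b ∈ S}
          one_mem' := S.zero_mem
          mul_mem' := fun {a b} ha hb => S.add_mem ha hb
          inv_mem' := fun {a} ha => S.neg_mem ha }
      have hBmem : ∀ b : V, b ∈ B ↔ Additive.ofMul b ∈ S := fun b => Iff.rfl
      have hfN : ∀ m : Additive V, f m = N m + m := by
        intro m
        rw [hN, LinearMap.sub_apply, Module.End.one_apply, sub_add_cancel]
      have hp1 : p - 1 < p := Nat.sub_lt hpp.pos Nat.one_pos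
      refine ⟨B, ?_, ?_, ?_, ?_⟩
      · intro b hb
        rw [hBmem] at hb ⊢
        have : Additive.ofMul (φ b) = f (Additive.ofMul b) := rfl
        rw [this, hfN]
        exact S.add_mem (hNS _ hb) hb
      · rw [← hcardS]
        exact Nat.card_congr (Equiv.subtypeEquiv Additive.ofMul (fun b => Iff.rfl))
      · rw [hBmem, ← hNu]
        exact hwS ⟨p - 1, hp1⟩
      · intro b hb hφb
        rw [hBmem] at hb
        have hNb : N (Additive.ofMul b) = 0 := by
          have h1 : f (Additive.ofMul b) = Additive.ofMul b := by
            rw [hfapp, toMul_ofMul, hφb]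
          rw [hfN] at h1
          exact add_eq_right.mp h1
        rw [hS, Submodule.mem_span_range_iff_exists_fun] at hb
        obtain ⟨c, hc⟩ := hb
        have h2 : ∑ i, c i • (N ^ ((i : ℕ) + 1)) m₀ = 0 := by
          rw [← hNb, ← hc, map_sum]
          apply Finset.sum_congr rfl
          intro i _
          rw [map_smul, pow_succ', Module.End.mul_apply]
        have hc0 := key 1 c h2
        have h3 : Additive.ofMul b = c ⟨p - 1, hp1⟩ • (N ^ (p - 1)) m₀ := by
          rw [← hc]
          rw [Finset.sum_eq_single (⟨p - 1, hp1⟩ : Fin p)]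
          · intro j _ hj
            have : (j : ℕ) + 1 < p := by
              have h1 := j.2
              have h2 : (j : ℕ) ≠ p - 1 := fun h => hj (Fin.ext h)
              omega
            rw [hc0 j this, zero_smul]
          · intro h
            exact absurd (Finset.mem_univ _) h
        rw [hNu] at h3
        have h4 : c ⟨p - 1, hp1⟩ • Additive.ofMul u =
            (c ⟨p - 1, hp1⟩).val • Additive.ofMul u := by
          conv_lhs => rw [← ZMod.natCast_zmod_val (c ⟨p - 1, hp1⟩)]
          rw [Nat.cast_smul_eq_nsmul]
        rw [h4, ← ofMul_pow] at h3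
        have h5 : b = u ^ (c ⟨p - 1, hp1⟩).val := Additive.ofMul.injective h3
        rw [h5]
        exact Subgroup.pow_mem _ (Subgroup.mem_zpowers u) _

end Package

end Cfsg.Agent.Lib.Helper32.Wreath
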