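import Mathlib
import Cfsg.Prelude.Def_LocalEven
import Cfsg.Agent.Lib.Helper90.Involves
import Cfsg.Agent.Lib.Helper32.WreathLinear

/-!
# Producing a section `C_p ≀ C_p` (helper32)

`WrProp p W` is the description of `C_p ≀ C_p` used in statement S3787.  The main result
`wreath_false` says: if a finite group `G` has a normal elementary abelian `p`-subgroup `A` and an
element `x` with `x ^ p ∈ A` such that `(x - 1)^(p-1)` does not kill `A`, then some `W : Type` with
`WrProp p W` is involved in `G`.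
-/

set_option autoImplicit false

namespace Cfsg.Agent.Lib.Helper32.Wreath

open Cfsg

/-- the description of the wreath product `C_p ≀ C_p` used in S3787 -/
def WrProp (p : ℕ) (W : Type*) [Group W] : Prop :=
  ∃ (B : Subgroup W) (t : W), B.Normal ∧ IsMulCommutative B ∧ (∀ b ∈ B, b ^ p = 1) ∧
    Nat.card B = p ^ p ∧ orderOf t = p ∧ t ∉ B ∧ Nat.card W = p ^ (p + 1) ∧
    Nat.card ↥(B ⊓ Subgroup.centralizer ({t} : Set W)) = p

theorem WrProp.of_mulEquiv {p : ℕ} {W W' : Type*} [Group W] [Group W'] (e : W ≃* W')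
    (h : WrProp p W) : WrProp p W' := by
  obtain ⟨B, t, hBn, hBc, hBp, hBcard, hot, htB, hW, hfix⟩ := h
  refine ⟨B.map e.toMonoidHom, e t, ?_, ?_, ?_, ?_, ?_, ?_, ?_, ?_⟩
  · exact Subgroup.Normal.map hBn _ e.surjective
  · infer_instance
  · rintro _ ⟨b, hb, rfl⟩
    rw [← map_pow, hBp b hb, map_one]
  · rw [← hBcard]
    exact Nat.card_congr (e.subgroupMap B).symm.toEquiv
  · rw [← hot]
    exact e.orderOf_eq t
  · rintro ⟨b, hb, hbt⟩
    have : b = t := e.injective hbt
    exact htB (this ▸ hb)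
  · rw [← hW]
    exact Nat.card_congr e.symm.toEquiv
  · rw [← hfix]
    have : B.map e.toMonoidHom ⊓ Subgroup.centralizer ({e t} : Set W') =
        (B ⊓ Subgroup.centralizer ({t} : Set W)).map e.toMonoidHom := by
      ext y
      constructor
      · rintro ⟨⟨b, hb, rfl⟩, hy⟩
        refine ⟨b, ⟨hb, ?_⟩, rfl⟩
        have hy' := Subgroup.mem_centralizer_singleton_iff.mp hy
        apply Subgroup.mem_centralizer_singleton_iff.mpr
        apply e.injective
        rw [map_mul, map_mul]
        exact hy'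
      · rintro ⟨b, ⟨hb, hbt⟩, rfl⟩
        refine ⟨⟨b, hb, rfl⟩, ?_⟩
        have hbt' := Subgroup.mem_centralizer_singleton_iff.mp hbt
        apply Subgroup.mem_centralizer_singleton_iff.mpr
        show e b * e t = e t * e b
        rw [← map_mul, ← map_mul, hbt']
    rw [this]
    exact Nat.card_congr (e.subgroupMap _).symm.toEquiv

/-- a normal subgroup which together with an element of `p`-th power in it generates the group has
index `p` -/
theorem index_eq_prime_of_sup_zpowers {Q : Type*} [Group Q] {p : ℕ} [hp : Fact p.Prime]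
    (B : Subgroup Q) [B.Normal] (t : Q) (hsup : B ⊔ Subgroup.zpowers t = ⊤) (htp : t ^ p ∈ B)
    (ht : t ∉ B) : B.index = p := by
  have h1 : Subgroup.zpowers (QuotientGroup.mk t : Q ⧸ B) = ⊤ := by
    have := congrArg (Subgroup.map (QuotientGroup.mk' B)) hsup
    rw [Subgroup.map_sup, MonoidHom.map_zpowers,
      Subgroup.map_top_of_surjective _ (QuotientGroup.mk'_surjective B),
      QuotientGroup.map_mk'_self B, bot_sup_eq] at this
    exact this
  have h2 : orderOf (QuotientGroup.mk t : Q ⧸ B) = p := by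
    apply orderOf_eq_prime
    · rw [← QuotientGroup.mk_pow]
      exact (QuotientGroup.eq_one_iff _).mpr htp
    · intro h
      exact ht ((QuotientGroup.eq_one_iff _).mp h)
  rw [Subgroup.index, ← h2, ← Nat.card_zpowers, h1, Subgroup.card_top]

/-- the quotient construction -/
theorem wrProp_quotient {L : Type*} [Group L] {p : ℕ} [hp : Fact p.Prime]
    (B : Subgroup L) [hBn : B.Normal] (hBc : ∀ a ∈ B, ∀ b ∈ B, a * b = b * a)
    (hBp : ∀ b ∈ B, b ^ p = 1) (hBcard : Nat.card B = p ^ p) (t : L)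
    (hsup : B ⊔ Subgroup.zpowers t = ⊤) (N : Subgroup L) [hNn : N.Normal] (htN : t ^ p ∈ N)
    (hNB : N ⊓ B = ⊥) (htBN : t ∉ B ⊔ N) (u : L) (huB : u ∈ B) (hu1 : u ≠ 1)
    (hut : t * u = u * t) (hfix : ∀ b ∈ B, t * b = b * t → b ∈ Subgroup.zpowers u) :
    WrProp p (L ⧸ N) := by
  set π : L →* L ⧸ N := QuotientGroup.mk' N with hπ
  have hπs : Function.Surjective π := QuotientGroup.mk'_surjective N
  have hker : ∀ y : L, π y = 1 ↔ y ∈ N := fun y => QuotientGroup.eq_one_iff y
  have hinj : ∀ a ∈ B, ∀ b ∈ B, π a = π b → a = b := by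
    intro a ha b hb hab
    have h1 : a⁻¹ * b ∈ N := by
      rw [← hker, map_mul, map_inv, hab, inv_mul_cancel]
    have h2 : a⁻¹ * b ∈ N ⊓ B := ⟨h1, B.mul_mem (B.inv_mem ha) hb⟩
    rw [hNB, Subgroup.mem_bot] at h2
    exact inv_mul_eq_one.mp h2
  have hBcomm : IsMulCommutative B := ⟨⟨fun a b => Subtype.ext (hBc a a.2 b b.2)⟩⟩
  have hBmn : (B.map π).Normal := Subgroup.Normal.map hBn π hπs
  have hcardBmap : Nat.card (B.map π) = p ^ p := by
    rw [← hBcard]
    symm
    apply Nat.card_congr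
    exact Equiv.ofBijective
      (fun b : B => (⟨π b, Subgroup.mem_map_of_mem π b.2⟩ : B.map π))
      ⟨fun a b hab => Subtype.ext (hinj a a.2 b b.2 (congrArg Subtype.val hab)),
        fun ⟨y, b, hb, hby⟩ => ⟨⟨b, hb⟩, Subtype.ext hby⟩⟩
  have htnot : π t ∉ B.map π := by
    rintro ⟨b, hb, hbt⟩
    apply htBN
    have h1 : b⁻¹ * t ∈ N := by rw [← hker, map_mul, map_inv, hbt, inv_mul_cancel]
    have : t = b * (b⁻¹ * t) := by group
    rw [this]
    exact Subgroup.mul_mem_sup hb h1
  have htp1 : π t ^ p = 1 := by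
    rw [← map_pow]
    exact (hker _).mpr htN
  refine ⟨B.map π, π t, hBmn, inferInstance, ?_, hcardBmap, ?_, htnot, ?_, ?_⟩
  · rintro _ ⟨b, hb, rfl⟩
    rw [← map_pow, hBp b hb, map_one]
  · apply orderOf_eq_prime htp1
    intro h
    exact htBN (Subgroup.mem_sup_right ((hker t).mp h))
  · have hidx : (B.map π).index = p := by
      apply index_eq_prime_of_sup_zpowers (B.map π) (π t)
      · rw [← MonoidHom.map_zpowers, ← Subgroup.map_sup, hsup,
          Subgroup.map_top_of_surjective π hπs]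
      · rw [htp1]
        exact Subgroup.one_mem _
      · exact htnot
    rw [← Subgroup.card_mul_index (B.map π), hidx, hcardBmap, pow_succ]
  · have heq : B.map π ⊓ Subgroup.centralizer ({π t} : Set (L ⧸ N)) =
        Subgroup.zpowers (π u) := by
      ext y
      constructor
      · rintro ⟨⟨b, hb, rfl⟩, hy⟩
        have hy' : π b * π t = π t * π b := Subgroup.mem_centralizer_singleton_iff.mp hy
        have h1 : (b * t)⁻¹ * (t * b) ∈ N := by
          rw [← hker, map_mul, map_inv, map_mul, map_mul, hy', inv_mul_cancel]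
        have h2 : (b * t)⁻¹ * (t * b) ∈ B := by
          have : (b * t)⁻¹ * (t * b) = (t⁻¹ * b⁻¹ * t⁻¹⁻¹) * b := by group
          rw [this]
          exact B.mul_mem (hBn.conj_mem _ (B.inv_mem hb) _) hb
        have h3 : (b * t)⁻¹ * (t * b) = 1 := by
          have : (b * t)⁻¹ * (t * b) ∈ N ⊓ B := ⟨h1, h2⟩
          rwa [hNB, Subgroup.mem_bot] at this
        have h4 : t * b = b * t := (inv_mul_eq_one.mp h3).symm
        obtain ⟨k, hk⟩ := Subgroup.mem_zpowers_iff.mp (hfix b hb h4)
        rw [Subgroup.mem_zpowers_iff]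
        exact ⟨k, by rw [← map_zpow, hk]⟩
      · intro hy
        obtain ⟨k, rfl⟩ := Subgroup.mem_zpowers_iff.mp hy
        refine ⟨⟨u ^ k, B.zpow_mem huB k, map_zpow π u k⟩, ?_⟩
        apply Subgroup.mem_centralizer_singleton_iff.mpr
        rw [← map_zpow, ← map_mul, ← map_mul]
        congr 1
        have hc : Commute t u := hut
        exact (hc.zpow_right k).eq.symm
    rw [heq, Nat.card_zpowers]
    apply orderOf_eq_prime
    · rw [← map_pow, hBp u huB, map_one]
    · intro h
      exact hu1 (hinj u huB 1 B.one_mem (by rw [h, map_one]))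

/-- telescoping: `(s x) ^ k = (∏_{i<k} x^i s x^{-i}) x^k` -/
theorem mul_pow_eq_prod {G V : Type*} [Group G] [CommGroup V] (ι : V →* G) (x : G)
    (φ : MulAut V) (hcompat : ∀ v : V, ι (φ v) = x * ι v * x⁻¹) (s : V) (k : ℕ) :
    (ι s * x) ^ k = ι (∏ i ∈ Finset.range k, (φ ^ i) s) * x ^ k := by
  have hpow : ∀ (i : ℕ) (v : V), ι ((φ ^ i) v) = x ^ i * ι v * (x ^ i)⁻¹ := by
    intro i
    induction i with
    | zero => intro v; simp
    | succ i ih =>
      intro v
      rw [pow_succ', MulAut.mul_apply, hcompat, ih, pow_succ']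
      group
  induction k with
  | zero => simp
  | succ k ih =>
    rw [pow_succ, ih, Finset.prod_range_succ, map_mul, hpow, pow_succ x k]
    group

/-- **The wreath section.** A finite group with a normal elementary abelian `p`-subgroup `A` and an
element `x` with `x ^ p ∈ A` for which `(x - 1) ^ (p - 1)` does not kill `A` involves a group `W`
with `WrProp p W`. (Contrapositive form.) -/
theorem wreath_false {G : Type*} [Group G] [Finite G] {p : ℕ} [hp : Fact p.Prime]
    (hwr : ∀ (W : Type) [Group W] [Finite W], WrProp p W → ¬ Involves W G)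
    (A : Subgroup G) [hAn : A.Normal] (hAc : ∀ a ∈ A, ∀ b ∈ A, a * b = b * a)
    (hAp : ∀ a ∈ A, a ^ p = 1) (x : G) (hxp : x ^ p ∈ A) (v : ↥A)
    (hv : (fun w : ↥A => MulAut.conjNormal x w * w⁻¹)^[p - 1] v ≠ 1) : False := by
  classical
  have hpp : p.Prime := hp.out
  letI : CommGroup ↥A :=
    { (inferInstance : Group ↥A) with mul_comm := fun a b => Subtype.ext (hAc a a.2 b b.2) }
  have hV : ∀ a : ↥A, a ^ p = 1 := fun a => Subtype.ext (hAp a a.2)
  -- conjugation by elements of `A` is trivial on `A`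
  have hconjA : ∀ a : G, a ∈ A → (MulAut.conjNormal a : MulAut ↥A) = 1 := by
    intro a ha
    ext b
    rw [MulAut.conjNormal_apply, MulAut.one_apply, hAc a ha b b.2, mul_inv_cancel_right]
  have hφp : ∀ (y : G), y ^ p ∈ A → ∀ a : ↥A,
      ((MulAut.conjNormal y : MulAut ↥A) ^ p) a = a := by
    intro y hy a
    rw [← map_pow, hconjA _ hy, MulAut.one_apply]
  -- choice of `t`
  obtain ⟨t, htφ, htA, htcase⟩ : ∃ t : G,
      (MulAut.conjNormal t : MulAut ↥A) = MulAut.conjNormal x ∧ t ^ p ∈ A ∧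
      (t ^ p = 1 ∨ ∀ s : ↥A,
        (((fun w : ↥A => MulAut.conjNormal x w * w⁻¹)^[p - 1] s : ↥A) : G) ≠ t ^ p) := by
    by_cases hz : ∃ s : ↥A,
        (((fun w : ↥A => MulAut.conjNormal x w * w⁻¹)^[p - 1] s : ↥A) : G) = x ^ p
    · obtain ⟨s, hs⟩ := hz
      have htp : (((s⁻¹ : ↥A) : G) * x) ^ p = 1 := by
        have h1 := mul_pow_eq_prod A.subtype x (MulAut.conjNormal x)
          (fun v => by simp [MulAut.conjNormal_apply]) s⁻¹ p
        rw [(elemab_package hV (MulAut.conjNormal x)).1 s⁻¹, iter_inv] at h1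
        simp only [Subgroup.subtype_apply] at h1
        rw [h1, Subgroup.coe_inv, hs, inv_mul_cancel]
      refine ⟨((s⁻¹ : ↥A) : G) * x, ?_, ?_, Or.inl htp⟩
      · rw [map_mul, hconjA _ (s⁻¹).2, one_mul]
      · rw [htp]
        exact A.one_mem
    · exact ⟨x, rfl, hxp, Or.inr (fun s hs => hz ⟨s, hs⟩)⟩
  rw [← htφ] at hv htcase
  set φ : MulAut ↥A := MulAut.conjNormal t with hφ
  have hφapp : ∀ a : ↥A, ((φ a : ↥A) : G) = t * a * t⁻¹ := fun a => MulAut.conjNormal_apply t a
  obtain ⟨hnorm, hrest⟩ := elemab_package hV φ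
  obtain ⟨hDp, hcyc⟩ := hrest (hφp t htA)
  obtain ⟨B', hB'inv, hB'card, huB', hB'fix⟩ := hcyc v hv
  set u : ↥A := (fun w : ↥A => φ w * w⁻¹)^[p - 1] v with hu
  have hp1 : p - 1 = (p - 2) + 1 := by have := hpp.two_le; omega
  have hp2 : p = (p - 1) + 1 := by have := hpp.two_le; omega
  -- `t ∉ A`
  have htnA : t ∉ A := by
    intro h
    apply hv
    have h1 : φ = 1 := hconjA t h
    rw [hu, hp1, Function.iterate_succ', Function.comp_apply]
    show φ _ * _⁻¹ = 1
    rw [h1, MulAut.one_apply, mul_inv_cancel]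
  -- `u` is fixed
  have hφu : φ u = u := by
    have h1 := hDp v
    rw [hp2, Function.iterate_succ', Function.comp_apply] at h1
    have h2 : φ u * u⁻¹ = 1 := h1
    exact mul_inv_eq_one.mp h2
  -- the subgroup `B₀`
  set B₀ : Subgroup G := B'.map A.subtype with hB₀
  have hB₀A : B₀ ≤ A := by
    rintro _ ⟨b, _, rfl⟩
    exact b.2
  have hB₀card : Nat.card B₀ = p ^ p := by
    rw [← hB'card]
    exact Subgroup.card_map_of_injective A.subtype_injective
  have hmemB₀ : ∀ b : ↥A, (b : G) ∈ B₀ ↔ b ∈ B' := by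
    intro b
    constructor
    · rintro ⟨b', hb', hbb'⟩
      have : b' = b := Subtype.ext hbb'
      rwa [← this]
    · intro hb
      exact ⟨b, hb, rfl⟩
  have hconj_mem : ∀ b ∈ (B₀ : Set G), t * b * t⁻¹ ∈ (B₀ : Set G) := by
    rintro _ ⟨b, hb, rfl⟩
    have := hB'inv b hb
    rw [← hmemB₀, hφapp] at this
    exact this
  have htnorm : t ∈ Subgroup.normalizer (B₀ : Set G) := Subgroup.mem_normalizer_fintype hconj_mem
  -- no power of `t ^ p` lies in `B₀`
  have hNB₀ : ∀ k : ℤ, (t ^ p) ^ k ∈ B₀ → (t ^ p) ^ k = 1 := by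
    rcases htcase with h1 | h2
    · intro k _
      rw [h1, one_zpow]
    · intro k hk
      by_contra hne
      set z : ↥A := ⟨t ^ p, htA⟩ with hz
      have hzfix : φ z = z := by
        apply Subtype.ext
        rw [hφapp]
        show t * t ^ p * t⁻¹ = t ^ p
        rw [← pow_succ', pow_succ, mul_inv_cancel_right]
      have hzk : z ^ k ∈ B' := by
        rw [← hmemB₀, Subgroup.coe_zpow]
        exact hk
      have hzkne : z ^ k ≠ 1 := by
        intro h
        apply hne
        have := congrArg (Subtype.val) h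
        rwa [Subgroup.coe_zpow] at this
      obtain ⟨j, hj⟩ := Subgroup.mem_zpowers_iff.mp
        (hB'fix (z ^ k) hzk (by rw [map_zpow, hzfix]))
      have hnp : ¬ (p : ℤ) ∣ k := by
        rintro ⟨m, rfl⟩
        apply hzkne
        rw [zpow_mul, zpow_natCast, hV, one_zpow]
      have hcop : IsCoprime k (p : ℤ) := by
        rw [isCoprime_comm]
        exact (Nat.prime_iff_prime_int.mp hpp).coprime_iff_not_dvd.mpr hnp
      obtain ⟨a, b, hab⟩ := hcop
      have hzeq : z = (z ^ k) ^ a := by
        have : z = z ^ (a * k + b * (p : ℤ)) := by rw [hab, zpow_one]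
        rw [zpow_add, zpow_mul' z a k, zpow_mul' z b p, zpow_natCast, hV, one_zpow,
          mul_one] at this
        exact this
      have h3 : (fun w : ↥A => φ w * w⁻¹)^[p - 1] (v ^ (j * a)) = z := by
        rw [iter_zpow, ← hu, zpow_mul, hj, ← hzeq]
      exact h2 (v ^ (j * a)) (by rw [h3])
  -- the subgroup `K = B₀ ⟨t⟩`
  set K : Subgroup G := B₀ ⊔ Subgroup.zpowers t with hK
  have hB₀K : B₀ ≤ K := le_sup_left
  have htK : t ∈ K := (le_sup_right : Subgroup.zpowers t ≤ K) (Subgroup.mem_zpowers t)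
  have hKnorm : K ≤ Subgroup.normalizer (B₀ : Set G) :=
    sup_le Subgroup.le_normalizer (Subgroup.zpowers_le.mpr htnorm)
  have hKcent : K ≤ Subgroup.centralizer ({t ^ p} : Set G) := by
    apply sup_le
    · intro b hb
      apply Subgroup.mem_centralizer_singleton_iff.mpr
      exact hAc b (hB₀A hb) _ htA
    · rw [Subgroup.zpowers_le]
      apply Subgroup.mem_centralizer_singleton_iff.mpr
      rw [← pow_succ', ← pow_succ]
  set B : Subgroup ↥K := B₀.subgroupOf K with hB
  set t' : ↥K := ⟨t, htK⟩ with ht'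
  set N : Subgroup ↥K := Subgroup.zpowers (t' ^ p) with hN
  have hBn : B.Normal := (Subgroup.normal_subgroupOf_iff_le_normalizer hB₀K).mpr hKnorm
  have hNn : N.Normal := by
    constructor
    intro n hn g
    obtain ⟨k, rfl⟩ := Subgroup.mem_zpowers_iff.mp hn
    have hcomm : Commute g (t' ^ p) := by
      apply Subtype.ext
      have := Subgroup.mem_centralizer_singleton_iff.mp (hKcent g.2)
      simpa using this
    have : g * (t' ^ p) ^ k * g⁻¹ = (t' ^ p) ^ k := by
      rw [(hcomm.zpow_right k).eq, mul_inv_cancel_right]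
    rw [this]
    exact hn
  have hBmem : ∀ y : ↥K, y ∈ B ↔ (y : G) ∈ B₀ := fun y => Subgroup.mem_subgroupOf
  have huB₀ : (u : G) ∈ B₀ := (hmemB₀ u).mpr huB'
  have hW : WrProp p (↥K ⧸ N) := by
    refine wrProp_quotient B ?_ ?_ ?_ t' ?_ N ?_ ?_ ?_ ⟨(u : G), hB₀K huB₀⟩ ?_ ?_ ?_ ?_
    · intro a ha b hb
      apply Subtype.ext
      exact hAc a (hB₀A ((hBmem a).mp ha)) b (hB₀A ((hBmem b).mp hb))
    · intro b hb
      apply Subtype.ext
      rw [Subgroup.coe_pow]
      exact hAp b (hB₀A ((hBmem b).mp hb))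
    · rw [← hB₀card]
      exact Nat.card_congr (Subgroup.subgroupOfEquivOfLe hB₀K).toEquiv
    · apply Subgroup.map_injective K.subtype_injective
      rw [Subgroup.map_sup, Subgroup.subgroupOf_map_subtype, MonoidHom.map_zpowers,
        ← MonoidHom.range_eq_map, Subgroup.range_subtype, inf_of_le_left hB₀K]
      rfl
    · exact Subgroup.mem_zpowers _
    · rw [eq_bot_iff]
      rintro y ⟨hyN, hyB⟩
      obtain ⟨k, rfl⟩ := Subgroup.mem_zpowers_iff.mp hyN
      rw [Subgroup.mem_bot]
      apply Subtype.ext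
      have h1 : (t ^ p) ^ k ∈ B₀ := by
        have := (hBmem _).mp hyB
        simpa using this
      have h2 := hNB₀ k h1
      simpa using h2
    · intro h
      have hle : B ⊔ N ≤ A.subgroupOf K := by
        apply sup_le
        · intro y hy
          exact hB₀A ((hBmem y).mp hy)
        · rw [Subgroup.zpowers_le]
          show ((t' ^ p : ↥K) : G) ∈ A
          simpa using htA
      exact htnA (hle h)
    · exact (hBmem _).mpr huB₀
    · intro h
      apply hv
      have := congrArg Subtype.val h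
      exact Subtype.ext this
    · apply Subtype.ext
      show t * (u : G) = (u : G) * t
      have := congrArg Subtype.val hφu
      rw [hφapp] at this
      calc t * (u : G) = (t * (u : G) * t⁻¹) * t := by group
        _ = (u : G) * t := by rw [this]
    · intro b hb hbt
      have hb₀ : (b : G) ∈ B₀ := (hBmem b).mp hb
      obtain ⟨b', hb', hbb'⟩ := hb₀
      have hfix' : φ b' = b' := by
        apply Subtype.ext
        rw [hφapp]
        have h1 : t * (b : G) = (b : G) * t := congrArg Subtype.val hbt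
        have h2 : (b' : G) = (b : G) := hbb'
        rw [h2, h1, mul_inv_cancel_right]
      obtain ⟨j, hj⟩ := Subgroup.mem_zpowers_iff.mp (hB'fix b' hb' hfix')
      rw [Subgroup.mem_zpowers_iff]
      refine ⟨j, ?_⟩
      apply Subtype.ext
      rw [Subgroup.coe_zpow]
      show (u : G) ^ j = (b : G)
      have h2 : (b' : G) = (b : G) := hbb'
      rw [← h2, ← hj, Subgroup.coe_zpow]
  -- transport to a type in universe 0
  have hfin : Finite (Shrink.{0} (↥K ⧸ N)) := Finite.of_equiv _ (equivShrink _)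
  set e : Shrink.{0} (↥K ⧸ N) ≃* (↥K ⧸ N) := Shrink.mulEquiv with he
  have hW' : WrProp p (Shrink.{0} (↥K ⧸ N)) := hW.of_mulEquiv e.symm
  have hInv : Involves (Shrink.{0} (↥K ⧸ N)) G := by
    apply Cfsg.Agent.Lib.Helper90.involves_of_hom K.subtype
      ((e.symm.toMonoidHom).comp (QuotientGroup.mk' N))
      K.subtype_injective
    intro y
    obtain ⟨q, hq⟩ := QuotientGroup.mk'_surjective N (e y)
    refine ⟨q, ?_⟩
    show e.symm (QuotientGroup.mk' N q) = y
    rw [hq, MulEquiv.symm_apply_apply]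
  exact hwr _ hW' hInv

end Cfsg.Agent.Lib.Helper32.Wreath
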