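import Mathlib
import Cfsg.Agent.Lib.Helper32.XSTwo

set_option autoImplicit false

/-!
# Power formula in extraspecial-like groups and good generating pairs
-/

namespace Cfsg.Agent.Lib.Helper32

open Subgroup
open scoped commutatorElement

variable {X : Type*} [Group X]

namespace IsXS

variable {p : ℕ} {E : Subgroup X} {z : X}

/-- `(u v) ^ n = u ^ n v ^ n ⁅v, u⁆ ^ (n choose 2)`. -/
theorem mul_pow_eq (h : IsXS p E z) {u v : X} (hu : u ∈ E) (hv : v ∈ E) (n : ℕ) :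
    (u * v) ^ n = u ^ n * v ^ n * ⁅v, u⁆ ^ (n.choose 2) := by
  induction n with
  | zero => simp
  | succ n ih =>
    have hc : ∀ a ∈ E, a * ⁅v, u⁆ = ⁅v, u⁆ * a := fun a ha => h.central (h.comm_mem v hv u hu) ha
    have hcn : ∀ (k : ℕ), ∀ a ∈ E, a * ⁅v, u⁆ ^ k = ⁅v, u⁆ ^ k * a := by
      intro k a ha
      exact ((show Commute a ⁅v, u⁆ from hc a ha).pow_right k).eq
    have h1 : v ^ n * u = ⁅v, u⁆ ^ n * u * v ^ n := by
      rw [mul_eq_comm_mul (v ^ n) u, h.comm_pow_left hv hu]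
    have hch : (n + 1).choose 2 = n + n.choose 2 := by
      rw [Nat.choose_succ_succ' n 1, Nat.choose_one_right]
    have hcc : ⁅v, u⁆ ^ (n + 1).choose 2 = ⁅v, u⁆ ^ n * ⁅v, u⁆ ^ n.choose 2 := by
      rw [hch, pow_add]
    rw [pow_succ (u * v), ih, hcc]
    calc u ^ n * v ^ n * ⁅v, u⁆ ^ n.choose 2 * (u * v)
        = u ^ n * v ^ n * (⁅v, u⁆ ^ n.choose 2 * (u * v)) := by simp only [mul_assoc]
      _ = u ^ n * v ^ n * ((u * v) * ⁅v, u⁆ ^ n.choose 2) := by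
          rw [hcn _ (u * v) (E.mul_mem hu hv)]
      _ = u ^ n * (v ^ n * u) * v * ⁅v, u⁆ ^ n.choose 2 := by simp only [mul_assoc]
      _ = u ^ n * (⁅v, u⁆ ^ n * u * v ^ n) * v * ⁅v, u⁆ ^ n.choose 2 := by rw [h1]
      _ = (u ^ n * ⁅v, u⁆ ^ n) * u * (v ^ n * v) * ⁅v, u⁆ ^ n.choose 2 := by
          simp only [mul_assoc]
      _ = (⁅v, u⁆ ^ n * u ^ n) * u * (v ^ n * v) * ⁅v, u⁆ ^ n.choose 2 := by
          rw [hcn n _ (E.pow_mem hu n)]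
      _ = ⁅v, u⁆ ^ n * ((u ^ n * u) * (v ^ n * v)) * ⁅v, u⁆ ^ n.choose 2 := by
          simp only [mul_assoc]
      _ = ((u ^ n * u) * (v ^ n * v)) * ⁅v, u⁆ ^ n * ⁅v, u⁆ ^ n.choose 2 := by
          rw [← hcn n _ (E.mul_mem (E.mul_mem (E.pow_mem hu n) hu) (E.mul_mem (E.pow_mem hv n) hv))]
      _ = u ^ (n + 1) * v ^ (n + 1) * (⁅v, u⁆ ^ n * ⁅v, u⁆ ^ n.choose 2) := by
          rw [pow_succ u, pow_succ v]; simp only [mul_assoc]

theorem pow_p_of_mem_zpowers (h : IsXS p E z) {c : X} (hc : c ∈ zpowers z) : c ^ p = 1 := by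
  obtain ⟨k, rfl⟩ := Subgroup.mem_zpowers_iff.mp hc
  rw [← zpow_natCast, ← zpow_mul, mul_comm, zpow_mul, zpow_natCast, h.z_pow, one_zpow]

/-- for odd `p` the `p`-th power map is multiplicative. -/
theorem mul_pow_p (h : IsXS p E z) [Fact p.Prime] (hp2 : p ≠ 2) {u v : X} (hu : u ∈ E)
    (hv : v ∈ E) : (u * v) ^ p = u ^ p * v ^ p := by
  have hp : p.Prime := Fact.out
  have h2 : 2 < p := lt_of_le_of_ne hp.two_le (Ne.symm hp2)
  obtain ⟨k, hk⟩ := hp.dvd_choose_self (k := 2) (by norm_num) h2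
  rw [h.mul_pow_eq hu hv, hk, pow_mul, h.pow_p_of_mem_zpowers (h.comm_mem v hv u hu), one_pow,
    mul_one]

/-- a pair with commutator `z` whose first member has order `p`, or the quaternion case. -/
theorem exists_pair_pow [Finite X] (h : IsXS p E z) [Fact p.Prime]
    (hab : ¬ ∀ a ∈ E, ∀ b ∈ E, a * b = b * a) :
    (∃ x ∈ E, ∃ y ∈ E, ⁅y, x⁆ = z ∧ x ^ p = 1) ∨
    (p = 2 ∧ Nat.card E = 8 ∧ ∃ x ∈ E, ∃ y ∈ E, ⁅y, x⁆ = z) := by
  by_cases hp2 : p = 2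
  · subst hp2
    rcases h.two_cases with h1 | ⟨x, hx, y, hy, hxx, -, hyx⟩ | ⟨hc, -, x, hx, y, hy, -, -, hyx⟩
    · exfalso
      apply hab
      intro a ha b hb
      rw [h1] at ha hb
      obtain ⟨i, rfl⟩ := Subgroup.mem_zpowers_iff.mp ha
      obtain ⟨j, rfl⟩ := Subgroup.mem_zpowers_iff.mp hb
      exact (Commute.refl z |>.zpow_zpow i j).eq
    · left
      exact ⟨x, hx, y, hy, hyx, by rw [pow_two]; exact hxx⟩
    · right
      exact ⟨rfl, hc, x, hx, y, hy, hyx⟩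
  · left
    obtain ⟨x₀, hx₀, y₀, hy₀, hyx⟩ := h.exists_pair hab
    by_cases hx1 : x₀ ^ p = 1
    · exact ⟨x₀, hx₀, y₀, hy₀, hyx, hx1⟩
    by_cases hy1 : y₀ ^ p = 1
    · refine ⟨y₀, hy₀, x₀⁻¹, E.inv_mem hx₀, ?_, hy1⟩
      rw [h.comm_inv_left hx₀ hy₀, h.comm_xy hyx, inv_inv]
    -- both nontrivial
    have hyz : y₀ ^ p ∈ zpowers z := h.pow_mem y₀ hy₀
    have hzy : z ∈ zpowers (y₀ ^ p) := h.mem_zpowers_of_ne_one hyz hy1
    have hle : zpowers z ≤ zpowers (y₀ ^ p) := Subgroup.zpowers_le.mpr hzy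
    have hxm : (x₀ ^ p)⁻¹ ∈ zpowers (y₀ ^ p) := hle (inv_mem (h.pow_mem x₀ hx₀))
    have hfin : IsOfFinOrder (y₀ ^ p) := isOfFinOrder_of_finite _
    rw [← hfin.mem_powers_iff_mem_zpowers, Submonoid.mem_powers_iff] at hxm
    obtain ⟨c, hc⟩ := hxm
    refine ⟨x₀ * y₀ ^ c, E.mul_mem hx₀ (E.pow_mem hy₀ c), y₀, hy₀, ?_, ?_⟩
    · rw [h.comm_mul_right hy₀ hx₀ (E.pow_mem hy₀ c), h.comm_pow_right hy₀ hy₀,
        commutatorElement_self, one_pow, mul_one, hyx]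
    · rw [h.mul_pow_p hp2 hx₀ (E.pow_mem hy₀ c), ← pow_mul, mul_comm c p, pow_mul, hc,
        mul_inv_cancel]

end IsXS

end Cfsg.Agent.Lib.Helper32
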