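import Mathlib
import Cfsg.Agent.Lib.Helper32.XSPow
import Cfsg.Agent.Lib.Helper32.EndPMod

set_option autoImplicit false

/-!
# Faithful modules of extraspecial groups in coprime characteristic are large
-/

namespace Cfsg.Agent.Lib.Helper32

open Subgroup
open scoped commutatorElement

universe u v

variable {X : Type v} [Group X] [Finite X]

theorem pow_eq_one_of_hom {Γ : Type*} [Group Γ] {R : Type*} [Monoid R] (ρ : Γ →* R) {g : Γ}
    {k : ℕ} (hg : g ^ k = 1) : ρ g ^ k = 1 := by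
  rw [← map_pow, hg, map_one]

/-- **Key bound.** `E` extraspecial-like of order `p ^ (2 w + 1)` acting on an elementary abelian
`r`-group `M` with the centre acting fixed-point-freely: `|M| ≥ r ^ (n p ^ w)`. -/
theorem IsXS.module_bound {p r : ℕ} [Fact p.Prime] [Fact r.Prime] (hpr : p ≠ r) (n : ℕ)
    (hmin : ∀ k : ℕ, 1 ≤ k → p ∣ r ^ k - 1 → n ≤ k) (w : ℕ) :
    ∀ (E : Subgroup X) (z : X) (h : IsXS p E z), Nat.card E = p ^ (2 * w + 1) →
    ∀ (M : Type u) [AddCommGroup M] [Finite M] (ρ : ↥E →* AddMonoid.End M),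
      (∀ m : M, r • m = 0) → Nontrivial M → (∀ m : M, ρ ⟨z, h.z_mem⟩ m = m → m = 0) →
      r ^ (n * p ^ w) ≤ Nat.card M := by
  have hrp : r.Prime := Fact.out
  induction w with
  | zero =>
    intro E z h hcard M _ _ ρ hr hnt hfix
    have hZ : (ρ ⟨z, h.z_mem⟩) ^ p = 1 :=
      pow_eq_one_of_hom ρ (Subtype.ext (by simpa using h.z_pow))
    have hmod := card_modEq_one_of_fpf hZ hfix
    obtain ⟨k, hk⟩ := exists_card_eq_pow hr
    have hlt : 1 < Nat.card M := Finite.one_lt_card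
    have hk1 : 1 ≤ k := by
      rcases Nat.eq_zero_or_pos k with h0 | h0
      · subst h0
        rw [pow_zero] at hk
        omega
      · exact h0
    have hdvd : p ∣ r ^ k - 1 := by
      rw [hk] at hmod
      exact (Nat.modEq_iff_dvd' (Nat.one_le_pow _ _ hrp.pos)).mp hmod.symm
    have := hmin k hk1 hdvd
    rw [pow_zero, mul_one, hk]
    exact Nat.pow_le_pow_right hrp.pos this
  | succ w ih =>
    intro E z h hcard M _ _ ρ hr hnt hfix
    have hp : p.Prime := Fact.out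
    have hlt : 1 < Nat.card M := Finite.one_lt_card
    have hab : ¬ ∀ a ∈ E, ∀ b ∈ E, a * b = b * a := by
      intro hab
      have hE := h.eq_zpowers_of_comm hab
      have hc : Nat.card E = p := by rw [hE]; exact h.card_zpowers
      rw [hc] at hcard
      have : p ^ 1 < p ^ (2 * (w + 1) + 1) := Nat.pow_lt_pow_right hp.one_lt (by omega)
      rw [pow_one] at this
      omega
    have htor : ∀ m : M, p • m = 0 → m = 0 := eq_zero_of_smul_eq_zero hpr hr
    have hZp : (ρ ⟨z, h.z_mem⟩) ^ p = 1 :=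
      pow_eq_one_of_hom ρ (Subtype.ext (by simpa using h.z_pow))
    obtain ⟨k, hk⟩ := exists_card_eq_pow hr
    have hrelgen : ∀ (x y : X) (hx : x ∈ E) (hy : y ∈ E), ⁅y, x⁆ = z →
        ρ ⟨y, hy⟩ * ρ ⟨x, hx⟩ = ρ ⟨z, h.z_mem⟩ * ρ ⟨x, hx⟩ * ρ ⟨y, hy⟩ := by
      intro x y hx hy hyx
      rw [← map_mul, ← map_mul, ← map_mul]
      congr 1
      apply Subtype.ext
      show y * x = z * x * y
      rw [← hyx]
      exact mul_eq_comm_mul y x
    rcases h.exists_pair_pow hab with ⟨x, hx, y, hy, hyx, hxp⟩ | ⟨hp2, hc8, x, hx, y, hy, hyx⟩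
    · -- the generic case
      have hXZ : ρ ⟨x, hx⟩ * ρ ⟨z, h.z_mem⟩ = ρ ⟨z, h.z_mem⟩ * ρ ⟨x, hx⟩ := by
        rw [← map_mul, ← map_mul]
        congr 1
        exact Subtype.ext (h.z_comm x hx)
      have hYZ : ρ ⟨y, hy⟩ * ρ ⟨z, h.z_mem⟩ = ρ ⟨z, h.z_mem⟩ * ρ ⟨y, hy⟩ := by
        rw [← map_mul, ← map_mul]
        congr 1
        exact Subtype.ext (h.z_comm y hy)
      have hX : ρ ⟨x, hx⟩ ^ p = 1 := pow_eq_one_of_hom ρ (Subtype.ext (by simpa using hxp))
      have hYX := hrelgen x y hx hy hyx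
      have hY : ρ (⟨y, hy⟩ : ↥E)⁻¹ * ρ ⟨y, hy⟩ = 1 := by
        rw [← map_mul, inv_mul_cancel, map_one]
      have hcardM := card_eq_card_fixSub_pow hXZ hX hZp hYZ hYX hY hfix htor
      have h2 := h.isXS_cent2 hx hy hyx
      have hcard2 : Nat.card (cent2 E x y) = p ^ (2 * w + 1) := by
        have := h.card_eq hx hy hyx
        rw [hcard] at this
        have e : p ^ (2 * (w + 1) + 1) = p * p * p ^ (2 * w + 1) := by ring
        rw [e] at this
        exact (Nat.eq_of_mul_eq_mul_left (Nat.mul_pos hp.pos hp.pos) this).symm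
      let ι : ↥(cent2 E x y) →* ↥E := Subgroup.inclusion (cent2_le E x y)
      have hinv : ∀ g : ↥(cent2 E x y), ∀ m ∈ fixSub (ρ ⟨x, hx⟩),
          (ρ.comp ι) g m ∈ fixSub (ρ ⟨x, hx⟩) := by
        intro g m hm
        show ρ ⟨x, hx⟩ (ρ (ι g) m) = ρ (ι g) m
        have hcomm : ρ ⟨x, hx⟩ * ρ (ι g) = ρ (ι g) * ρ ⟨x, hx⟩ := by
          rw [← map_mul, ← map_mul]
          congr 1
          apply Subtype.ext
          exact (mem_cent2.mp g.2).2.1
        rw [← end_mul_apply, hcomm, end_mul_apply, mem_fixSub.mp hm]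
      have hnt2 : Nontrivial (fixSub (ρ ⟨x, hx⟩)) := by
        by_contra hcon
        rw [not_nontrivial_iff_subsingleton] at hcon
        have : Nat.card (fixSub (ρ ⟨x, hx⟩)) = 1 := Nat.card_of_subsingleton 0
        rw [this, one_pow] at hcardM
        omega
      have hfix2 : ∀ m : fixSub (ρ ⟨x, hx⟩),
          (restrictEnd (ρ.comp ι) (fixSub (ρ ⟨x, hx⟩)) hinv) ⟨z, h2.z_mem⟩ m = m → m = 0 := by
        intro m hm
        apply Subtype.ext
        apply hfix
        exact congrArg Subtype.val hm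
      have hr2 : ∀ m : fixSub (ρ ⟨x, hx⟩), r • m = 0 := by
        intro m
        apply Subtype.ext
        have := hr (m : M)
        simpa using this
      have hind := ih (cent2 E x y) z h2 hcard2 (fixSub (ρ ⟨x, hx⟩))
        (restrictEnd (ρ.comp ι) (fixSub (ρ ⟨x, hx⟩)) hinv) hr2 hnt2 hfix2
      rw [hcardM]
      calc r ^ (n * p ^ (w + 1)) = (r ^ (n * p ^ w)) ^ p := by
            rw [← pow_mul, pow_succ, mul_assoc]
        _ ≤ _ := Nat.pow_le_pow_left hind p
    · -- the quaternion case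
      subst hp2
      have hw : w = 0 := by
        rw [hc8] at hcard
        have h3 : (2 : ℕ) ^ 3 = 2 ^ (2 * (w + 1) + 1) := by
          rw [← hcard]; norm_num
        have := Nat.pow_right_injective (le_refl 2) h3
        omega
      subst hw
      have hn1 : n ≤ 1 := by
        apply hmin 1 le_rfl
        rw [pow_one]
        rcases hrp.eq_two_or_odd' with h2 | hodd
        · exact absurd h2.symm hpr
        · obtain ⟨m, hm⟩ := hodd
          exact ⟨m, by omega⟩
      have hk2 : 2 ≤ k := by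
        by_contra hlt2
        have hk01 : k = 0 ∨ k = 1 := by omega
        rcases hk01 with rfl | rfl
        · rw [pow_zero] at hk
          omega
        · rw [pow_one] at hk
          have hcomm := end_comm_of_card_prime hk (ρ ⟨y, hy⟩) (ρ ⟨x, hx⟩)
          have hYX := hrelgen x y hx hy hyx
          have hZg : ρ ⟨z, h.z_mem⟩ * (ρ ⟨x, hx⟩ * ρ ⟨y, hy⟩) = ρ ⟨x, hx⟩ * ρ ⟨y, hy⟩ := by
            rw [← mul_assoc, ← hYX, hcomm]
          have hinvg : (ρ ⟨x, hx⟩ * ρ ⟨y, hy⟩) * ρ ((⟨x, hx⟩ * ⟨y, hy⟩ : ↥E)⁻¹) = 1 := by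
            rw [← map_mul, ← map_mul, mul_inv_cancel, map_one]
          have hZ1 : ρ ⟨z, h.z_mem⟩ = 1 := by
            calc ρ ⟨z, h.z_mem⟩ = ρ ⟨z, h.z_mem⟩ * ((ρ ⟨x, hx⟩ * ρ ⟨y, hy⟩) *
                  ρ ((⟨x, hx⟩ * ⟨y, hy⟩ : ↥E)⁻¹)) := by rw [hinvg, mul_one]
              _ = (ρ ⟨z, h.z_mem⟩ * (ρ ⟨x, hx⟩ * ρ ⟨y, hy⟩)) *
                  ρ ((⟨x, hx⟩ * ⟨y, hy⟩ : ↥E)⁻¹) := by simp only [mul_assoc]
              _ = 1 := by rw [hZg, hinvg]
          obtain ⟨a, b, hab'⟩ := exists_pair_ne M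
          apply hab'
          have ha : a = 0 := hfix a (by rw [hZ1]; rfl)
          have hb : b = 0 := hfix b (by rw [hZ1]; rfl)
          rw [ha, hb]
      rw [hk]
      apply Nat.pow_le_pow_right hrp.pos
      calc n * 2 ^ (0 + 1) = n * 2 := by norm_num
        _ ≤ 1 * 2 := Nat.mul_le_mul_right 2 hn1
        _ ≤ k := by omega

end Cfsg.Agent.Lib.Helper32
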