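import Mathlib
import Cfsg.Agent.Lib.Helper32.XSModule

set_option autoImplicit false

/-!
# Faithful coprime modules of an extraspecial group: order bound
-/

namespace Cfsg.Agent.Lib.Helper32

open Subgroup
open scoped commutatorElement

universe u v

theorem nrm_mul {R : Type*} [Ring R] {p : ℕ} [Fact p.Prime] {U : R} (hU : U ^ p = 1) :
    nrm p U * U = nrm p U := by
  have hc : Commute U (nrm p U) := by
    unfold nrm
    exact Commute.sum_right _ _ _ (fun k _ => (Commute.refl U).pow_right _)
  rw [← hc.eq, mul_nrm hU]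

/-- additive version: `P` extraspecial of order `p ^ (2 w + 1)` acting faithfully on a finite
additive group of exponent `r ≠ p`. -/
theorem extraspecial_faithful_bound {P : Type v} [Group P] [Finite P] {p r : ℕ} [Fact p.Prime]
    [Fact r.Prime] (hpr : p ≠ r) (hP : Cfsg.IsExtraspecial p P) (w : ℕ)
    (hcard : Nat.card P = p ^ (2 * w + 1)) (n : ℕ)
    (hmin : ∀ k : ℕ, 1 ≤ k → p ∣ r ^ k - 1 → n ≤ k)
    (M : Type u) [AddCommGroup M] [Finite M] (ρ : P →* AddMonoid.End M)
    (hr : ∀ m : M, r • m = 0) (hfaith : ∀ g : P, ρ g = 1 → g = 1) :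
    r ^ (n * p ^ w) ≤ Nat.card M := by
  obtain ⟨z, hz⟩ := exists_isXS_top hP
  have hZp : ρ z ^ p = 1 := pow_eq_one_of_hom ρ hz.z_pow
  have hZ1 : ρ z ≠ 1 := fun h => hz.z_ne (hfaith z h)
  let Zh : M →+ M := ρ z
  let D : M →+ M := Zh - AddMonoidHom.id M
  have hD : ∀ m, D m = ρ z m - m := fun m => rfl
  have hcomm : ∀ g : P, ρ g * ρ z = ρ z * ρ g := by
    intro g
    rw [← map_mul, ← map_mul]
    congr 1
    exact hz.z_comm g (mem_top g)
  have hinv : ∀ g : ↥(⊤ : Subgroup P), ∀ m ∈ D.range,
      (ρ.comp (⊤ : Subgroup P).subtype) g m ∈ D.range := by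
    rintro g _ ⟨m, rfl⟩
    refine ⟨ρ g m, ?_⟩
    show ρ z (ρ (g : P) m) - ρ (g : P) m = ρ (g : P) (ρ z m - m)
    rw [map_sub, ← end_mul_apply, ← end_mul_apply, hcomm]
  have hnt : Nontrivial D.range := by
    have : ∃ m, ρ z m ≠ m := by
      by_contra hcon
      push Not at hcon
      apply hZ1
      apply AddMonoidHom.ext
      intro m
      exact hcon m
    obtain ⟨m, hm⟩ := this
    refine ⟨⟨⟨D m, m, rfl⟩, 0, ?_⟩⟩
    intro h
    have h' : D m = 0 := congrArg Subtype.val h
    rw [hD] at h'
    exact hm (sub_eq_zero.mp h')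
  have htor := eq_zero_of_smul_eq_zero (M := M) hpr hr
  have hfix : ∀ m : D.range,
      (restrictEnd (ρ.comp (⊤ : Subgroup P).subtype) D.range hinv) ⟨z, hz.z_mem⟩ m = m →
        m = 0 := by
    rintro ⟨_, m, rfl⟩ hm
    apply Subtype.ext
    have hm' : ρ z (D m) = D m := congrArg Subtype.val hm
    apply htor
    show p • D m = 0
    rw [← nrm_apply_of_fixed (p := p) hm', hD, map_sub, ← end_mul_apply, nrm_mul hZp, sub_self]
  have hr2 : ∀ m : D.range, r • m = 0 := by
    intro m
    apply Subtype.ext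
    have := hr (m : M)
    simpa using this
  have hc : Nat.card (⊤ : Subgroup P) = p ^ (2 * w + 1) := by
    rw [Subgroup.card_top, hcard]
  have hb := IsXS.module_bound hpr n hmin w (⊤ : Subgroup P) z hz hc D.range
    (restrictEnd (ρ.comp (⊤ : Subgroup P).subtype) D.range hinv) hr2 hnt hfix
  exact hb.trans (Nat.card_le_card_of_injective Subtype.val Subtype.val_injective)

/-- multiplicative version. -/
theorem extraspecial_faithful_bound_mul {P : Type v} [Group P] [Finite P] {p r : ℕ}
    [Fact p.Prime] [Fact r.Prime] (hpr : p ≠ r) (hP : Cfsg.IsExtraspecial p P) (w : ℕ)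
    (hcard : Nat.card P = p ^ (2 * w + 1)) (n : ℕ)
    (hmin : ∀ k : ℕ, 1 ≤ k → p ∣ r ^ k - 1 → n ≤ k)
    (A : Type u) [CommGroup A] [Finite A] (φ : P →* Monoid.End A)
    (hr : ∀ a : A, a ^ r = 1) (hfaith : ∀ g : P, (∀ a : A, φ g a = a) → g = 1) :
    r ^ (n * p ^ w) ≤ Nat.card A := by
  let ρ : P →* AddMonoid.End (Additive A) :=
    { toFun := fun g => MonoidHom.toAdditive (φ g : A →* A)
      map_one' := by
        apply AddMonoidHom.ext
        intro a
        show Additive.ofMul (φ 1 (Additive.toMul a)) = a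
        rw [map_one]
        rfl
      map_mul' := by
        intro g k
        apply AddMonoidHom.ext
        intro a
        show Additive.ofMul (φ (g * k) (Additive.toMul a)) =
          Additive.ofMul (φ g (φ k (Additive.toMul a)))
        rw [map_mul]
        rfl }
  have hr' : ∀ m : Additive A, r • m = 0 := by
    intro m
    show Additive.ofMul ((Additive.toMul m) ^ r) = 0
    rw [hr]
    rfl
  have hf' : ∀ g : P, ρ g = 1 → g = 1 := by
    intro g hg
    apply hfaith
    intro a
    have := DFunLike.congr_fun hg (Additive.ofMul a)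
    exact this
  have := extraspecial_faithful_bound hpr hP w hcard n hmin (Additive A) ρ hr' hf'
  exact this

end Cfsg.Agent.Lib.Helper32
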